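import Mathlib
import Cfsg.Agent.H24.Defs
import Cfsg.Agent.H2.Cores

/-!
# Elementary abelian subgroups, `Ω₁`, `p`-rank and rank (vocabulary of `H24.Defs`)

Use with `open H24 H25 Cfsg`; dot notation works (`h.mono` for `h : PnElem ..`).
-/

set_option autoImplicit false

namespace H25
end H25

open H24 Cfsg H25

namespace H25

universe u v

variable {G : Type u} [Group G] {G' : Type v} [Group G']

/-! ## small general helpers -/

theorem abl_iff {A : Subgroup G} : Abl A ↔ ∀ a ∈ A, ∀ b ∈ A, a * b = b * a := by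
  constructor
  · intro h a ha b hb
    exact setLike_mul_comm ha hb
  · intro h
    exact IsMulCommutative.of_setLike_mul_comm h

theorem abl_iff_le_cent {A : Subgroup G} : Abl A ↔ A ≤ C[A] :=
  Subgroup.le_centralizer_iff_isMulCommutative.symm

theorem abl_mono {A B : Subgroup G} (h : Abl A) (hBA : B ≤ A) : Abl B :=
  abl_iff.2 fun a ha b hb => abl_iff.1 h a (hBA ha) b (hBA hb)

theorem mem_cent_iff {A : Subgroup G} {x : G} : x ∈ C[A] ↔ ∀ a ∈ A, a * x = x * a :=
  Subgroup.mem_centralizer_iff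

theorem mem_sup_of_le_norm {A B : Subgroup G} (h : A ≤ N[B]) {x : G} :
    x ∈ A ⊔ B ↔ ∃ a ∈ A, ∃ b ∈ B, x = a * b := by
  rw [← SetLike.mem_coe, Subgroup.coe_mul_of_left_le_normalizer_right A B h]
  constructor
  · rintro ⟨a, ha, b, hb, rfl⟩
    exact ⟨a, ha, b, hb, rfl⟩
  · rintro ⟨a, ha, b, hb, rfl⟩
    exact ⟨a, ha, b, hb, rfl⟩

theorem le_norm_of_le_cent {A B : Subgroup G} (h : A ≤ C[B]) : A ≤ N[B] :=
  h.trans (Subgroup.centralizer_le_normalizer _)

theorem card_pos' [Finite G] (H : Subgroup G) : 0 < ♯H := Nat.card_pos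

theorem isPi_single_iff [Finite G] {p : ℕ} (hp : p.Prime) {H : Subgroup G} :
    IsPi {p} H ↔ IsPGroup p H := by
  have := Fact.mk hp
  rw [IsPGroup.iff_card]
  constructor
  · intro h
    exact ⟨_, Nat.eq_prime_pow_of_unique_prime_dvd (card_pos' H).ne' fun {q} hq hd => h q hq hd⟩
  · rintro ⟨n, hn⟩ q hq hd
    rw [hn] at hd
    exact (Nat.prime_dvd_prime_iff_eq hq hp).1 (hq.dvd_of_dvd_pow hd)

theorem isPi_single_card [Finite G] {p : ℕ} (hp : p.Prime) {H : Subgroup G} (h : IsPi {p} H) :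
    ∃ n, ♯H = p ^ n := by
  have := Fact.mk hp
  exact IsPGroup.iff_card.1 ((isPi_single_iff hp).1 h)

theorem isPi_of_card_pow [Finite G] {p n : ℕ} (hp : p.Prime) {H : Subgroup G} (h : ♯H = p ^ n) :
    IsPi {p} H := (isPi_single_iff hp).2 (IsPGroup.of_card h)

/-- in a `p`-subgroup of order at least `p ^ n` there is a subgroup of order `p ^ n`. -/
theorem exists_le_card_pow [Finite G] {p n : ℕ} (hp : p.Prime) {H : Subgroup G}
    (hn : p ^ n ∣ ♯H) : ∃ K : Subgroup G, K ≤ H ∧ ♯K = p ^ n := by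
  have := Fact.mk hp
  obtain ⟨K, hK⟩ := Sylow.exists_subgroup_card_pow_prime p hn
  exact ⟨K.map H.subtype, Subgroup.map_subtype_le _, by rw [H2.card_map_subtype, hK]⟩

/-- between a subgroup of order `p ^ m` and an overgroup whose order is divisible by `p ^ n`. -/
theorem exists_between_card_pow [Finite G] {p m n : ℕ} (hp : p.Prime) {H X : Subgroup G}
    (hXH : X ≤ H) (hX : ♯X = p ^ m) (hmn : m ≤ n) (hn : p ^ n ∣ ♯H) :
    ∃ K : Subgroup G, X ≤ K ∧ K ≤ H ∧ ♯K = p ^ n := by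
  have := Fact.mk hp
  obtain ⟨K, hK, hXK⟩ := Sylow.exists_subgroup_card_pow_prime_le p hn (X.subgroupOf H)
    (by rw [H2.card_subgroupOf_of_le hXH, hX]) hmn
  refine ⟨K.map H.subtype, ?_, Subgroup.map_subtype_le _, by rw [H2.card_map_subtype, hK]⟩
  intro x hx
  exact ⟨⟨x, hXH hx⟩, hXK (by simpa [Subgroup.mem_subgroupOf] using hx), rfl⟩

theorem eq_bot_or_eq_of_card_prime [Finite G] {p : ℕ} (hp : p.Prime) {X Y : Subgroup G}
    (hX : ♯X = p) (hYX : Y ≤ X) : Y = ⊥ ∨ Y = X := by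
  have h := Subgroup.card_dvd_of_le hYX
  rw [hX] at h
  rcases (Nat.dvd_prime hp).1 h with h | h
  · exact Or.inl (Subgroup.card_eq_one.1 h)
  · exact Or.inr (Subgroup.eq_of_le_of_card_ge hYX (by rw [hX, h]))

theorem le_or_inf_eq_bot_of_card_prime [Finite G] {p : ℕ} (hp : p.Prime) {X : Subgroup G}
    (hX : ♯X = p) (H : Subgroup G) : X ≤ H ∨ X ⊓ H = ⊥ := by
  rcases eq_bot_or_eq_of_card_prime hp hX (inf_le_left : X ⊓ H ≤ X) with h | h
  · exact Or.inr h
  · exact Or.inl (inf_eq_left.1 h)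

theorem inf_eq_bot_of_card_prime [Finite G] {p : ℕ} (hp : p.Prime) {X H : Subgroup G}
    (hX : ♯X = p) (h : ¬ X ≤ H) : X ⊓ H = ⊥ :=
  (le_or_inf_eq_bot_of_card_prime hp hX H).resolve_left h

theorem le_of_card_prime_of_inf_ne_bot [Finite G] {p : ℕ} (hp : p.Prime) {X H : Subgroup G}
    (hX : ♯X = p) (h : X ⊓ H ≠ ⊥) : X ≤ H :=
  (le_or_inf_eq_bot_of_card_prime hp hX H).resolve_right h

theorem ne_bot_of_card_prime {p : ℕ} (hp : p.Prime) {X : Subgroup G} (hX : ♯X = p) : X ≠ ⊥ := by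
  rintro rfl
  rw [Subgroup.card_bot] at hX
  exact hp.one_lt.ne hX

theorem eq_zpowers_of_card_prime [Finite G] {p : ℕ} (hp : p.Prime) {X : Subgroup G} (hX : ♯X = p)
    {x : G} (hx : x ∈ X) (hx1 : x ≠ 1) : Subgroup.zpowers x = X := by
  rcases eq_bot_or_eq_of_card_prime hp hX ((Subgroup.zpowers_le).2 hx) with h | h
  · exact absurd (Subgroup.zpowers_eq_bot.1 h) hx1
  · exact h

theorem orderOf_eq_of_mem_card_prime [Finite G] {p : ℕ} (hp : p.Prime) {X : Subgroup G}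
    (hX : ♯X = p) {x : G} (hx : x ∈ X) (hx1 : x ≠ 1) : orderOf x = p := by
  rw [← Nat.card_zpowers, eq_zpowers_of_card_prime hp hX hx hx1, hX]

theorem cyc_of_card_prime {p : ℕ} (hp : p.Prime) {X : Subgroup G} (hX : ♯X = p) : Cyc X := by
  have := Fact.mk hp
  exact isCyclic_of_prime_card hX

theorem exists_ne_one_of_ne_bot {X : Subgroup G} (h : X ≠ ⊥) : ∃ x ∈ X, x ≠ 1 := by
  rcases X.bot_or_exists_ne_one with h' | h'
  · exact absurd h' h
  · exact h'

/-- Cauchy's theorem inside a subgroup. -/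
theorem exists_orderOf_eq_prime [Finite G] {p : ℕ} (hp : p.Prime) {H : Subgroup G}
    (h : p ∣ ♯H) : ∃ x ∈ H, orderOf x = p := by
  have := Fact.mk hp
  obtain ⟨x, hx⟩ := exists_prime_orderOf_dvd_card' (G := H) p h
  exact ⟨x, x.2, by rw [← hx]; exact (Subgroup.orderOf_coe x)⟩

theorem exists_prime_dvd_card [Finite G] {H : Subgroup G} (h : H ≠ ⊥) :
    ∃ p : ℕ, p.Prime ∧ p ∣ ♯H :=
  Nat.exists_prime_and_dvd fun h1 => h (Subgroup.card_eq_one.1 h1)

theorem cyc_abl {H : Subgroup G} (h : Cyc H) : Abl H := IsCyclic.isMulCommutative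

theorem cyc_mono {H K : Subgroup G} (h : Cyc K) (hHK : H ≤ K) : Cyc H :=
  Subgroup.isCyclic_of_le hHK

/-! ## elementary abelian subgroups -/

theorem elem_bot (p : ℕ) : IsElementaryAbelian p (⊥ : Subgroup G) :=
  ⟨abl_iff.2 (by simp), by simp⟩

theorem Cfsg.IsElementaryAbelian.abl {p : ℕ} {A : Subgroup G} (h : IsElementaryAbelian p A) :
    Abl A := h.1

theorem Cfsg.IsElementaryAbelian.pow {p : ℕ} {A : Subgroup G} (h : IsElementaryAbelian p A)
    {a : G} (ha : a ∈ A) : a ^ p = 1 := h.2 a ha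

theorem Cfsg.IsElementaryAbelian.le_cent {p : ℕ} {A : Subgroup G} (h : IsElementaryAbelian p A) :
    A ≤ C[A] := abl_iff_le_cent.1 h.1

theorem Cfsg.IsElementaryAbelian.mono {p : ℕ} {A B : Subgroup G} (h : IsElementaryAbelian p A)
    (hBA : B ≤ A) : IsElementaryAbelian p B :=
  ⟨abl_mono h.1 hBA, fun a ha => h.2 a (hBA ha)⟩

theorem Cfsg.IsElementaryAbelian.isPGroup {p : ℕ} {A : Subgroup G} (h : IsElementaryAbelian p A) :
    IsPGroup p A := fun g => ⟨1, Subtype.ext (by simpa using h.2 g g.2)⟩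

theorem Cfsg.IsElementaryAbelian.isPi [Finite G] {p : ℕ} {A : Subgroup G}
    (h : IsElementaryAbelian p A) (hp : p.Prime) : IsPi {p} A :=
  (isPi_single_iff hp).2 h.isPGroup

theorem Cfsg.IsElementaryAbelian.exists_card [Finite G] {p : ℕ} {A : Subgroup G}
    (h : IsElementaryAbelian p A) (hp : p.Prime) : ∃ n, ♯A = p ^ n :=
  isPi_single_card hp (h.isPi hp)

theorem Cfsg.IsElementaryAbelian.orderOf_eq {p : ℕ} {A : Subgroup G}
    (h : IsElementaryAbelian p A) (hp : p.Prime) {a : G} (ha : a ∈ A) (ha1 : a ≠ 1) :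
    orderOf a = p := by
  have := Fact.mk hp
  exact orderOf_eq_prime (h.2 a ha) ha1

theorem elem_sup {p : ℕ} {A B : Subgroup G} (hA : IsElementaryAbelian p A)
    (hB : IsElementaryAbelian p B) (hc : A ≤ C[B]) : IsElementaryAbelian p (A ⊔ B) := by
  have hn : A ≤ N[B] := le_norm_of_le_cent hc
  have hc' : ∀ a ∈ A, ∀ b ∈ B, a * b = b * a := fun a ha b hb => (mem_cent_iff.1 (hc ha) b hb).symm
  refine ⟨abl_iff.2 ?_, ?_⟩
  · intro x hx y hy
    obtain ⟨a, ha, b, hb, rfl⟩ := (mem_sup_of_le_norm hn).1 hx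
    obtain ⟨a', ha', b', hb', rfl⟩ := (mem_sup_of_le_norm hn).1 hy
    have h1 : Commute a a' := abl_iff.1 hA.1 a ha a' ha'
    have h2 : Commute a b' := hc' a ha b' hb'
    have h3 : Commute b a' := (hc' a' ha' b hb).symm
    have h4 : Commute b b' := abl_iff.1 hB.1 b hb b' hb'
    exact (h1.mul_right h2).mul_left (h3.mul_right h4)
  · intro x hx
    obtain ⟨a, ha, b, hb, rfl⟩ := (mem_sup_of_le_norm hn).1 hx
    rw [Commute.mul_pow (hc' a ha b hb), hA.2 a ha, hB.2 b hb, one_mul]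

theorem elem_zpowers {p : ℕ} {x : G} (hx : x ^ p = 1) :
    IsElementaryAbelian p (Subgroup.zpowers x) := by
  refine ⟨inferInstance, ?_⟩
  rintro _ ⟨k, rfl⟩
  simp only
  rw [← zpow_natCast, ← zpow_mul, mul_comm, zpow_mul, zpow_natCast, hx, one_zpow]

theorem elem_of_card_prime [Finite G] {p : ℕ} (hp : p.Prime) {X : Subgroup G} (hX : ♯X = p) :
    IsElementaryAbelian p X := by
  refine ⟨cyc_abl (cyc_of_card_prime hp hX), fun a ha => ?_⟩
  have := pow_card_eq_one' (G := X) (x := ⟨a, ha⟩)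
  rw [hX] at this
  simpa using congrArg Subtype.val this

theorem Cfsg.IsElementaryAbelian.map {p : ℕ} {A : Subgroup G} (h : IsElementaryAbelian p A)
    (f : G →* G') : IsElementaryAbelian p (A.map f) := by
  have := h.1
  refine ⟨inferInstance, ?_⟩
  rintro _ ⟨a, ha, rfl⟩
  rw [← map_pow, h.2 a ha, map_one]

theorem elem_of_map_injective {p : ℕ} {A : Subgroup G} {f : G →* G'} (hf : Function.Injective f)
    (h : IsElementaryAbelian p (A.map f)) : IsElementaryAbelian p A := by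
  refine ⟨abl_iff.2 fun a ha b hb => hf ?_, fun a ha => hf ?_⟩
  · rw [map_mul, map_mul]
    exact abl_iff.1 h.1 _ ⟨a, ha, rfl⟩ _ ⟨b, hb, rfl⟩
  · rw [map_pow, map_one]
    exact h.2 _ ⟨a, ha, rfl⟩

theorem elem_map_iff {p : ℕ} {A : Subgroup G} {f : G →* G'} (hf : Function.Injective f) :
    IsElementaryAbelian p (A.map f) ↔ IsElementaryAbelian p A :=
  ⟨elem_of_map_injective hf, fun h => h.map f⟩

theorem Cfsg.IsElementaryAbelian.subgroupOf {p : ℕ} {A : Subgroup G} (h : IsElementaryAbelian p A)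
    (D : Subgroup G) : IsElementaryAbelian p (A.subgroupOf D) := by
  apply elem_of_map_injective D.subtype_injective
  rw [Subgroup.subgroupOf_map_subtype]
  exact h.mono inf_le_left

theorem Cfsg.IsElementaryAbelian.img {p : ℕ} {A D : Subgroup G} (h : IsElementaryAbelian p A)
    (f : D →* G') : IsElementaryAbelian p (H24.img f A) := (h.subgroupOf D).map f

theorem Cfsg.IsElementaryAbelian.cj {p : ℕ} {A : Subgroup G} (h : IsElementaryAbelian p A)
    (g : G) : IsElementaryAbelian p (H24.cj g A) := h.map _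

theorem elem_cj_iff {p : ℕ} {A : Subgroup G} (g : G) :
    IsElementaryAbelian p (cj g A) ↔ IsElementaryAbelian p A :=
  elem_map_iff (MulAut.conj g).injective

/-- a cyclic elementary abelian group has order at most `p`. -/
theorem Cfsg.IsElementaryAbelian.card_dvd_of_cyc {p : ℕ} {A : Subgroup G}
    (h : IsElementaryAbelian p A) (hc : Cyc A) : ♯A ∣ p := by
  rw [← IsCyclic.exponent_eq_card]
  exact Monoid.exponent_dvd_of_forall_pow_eq_one fun g => Subtype.ext (by simpa using h.2 g g.2)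

/-! ## `PElem`, `PnElem` -/

theorem H24.PnElem.pelem {p n : ℕ} {H A : Subgroup G} (h : PnElem p n H A) : PElem p H A :=
  ⟨h.le, h.elem⟩

theorem H24.PnElem.mono {p n : ℕ} {H K A : Subgroup G} (h : PnElem p n H A) (hk : H ≤ K) :
    PnElem p n K A := ⟨h.le.trans hk, h.elem, h.card⟩

/-- change of the ambient subgroup. -/
theorem H24.PnElem.of_le {p n : ℕ} {H K A : Subgroup G} (h : PnElem p n H A) (hk : A ≤ K) :
    PnElem p n K A := ⟨hk, h.elem, h.card⟩

theorem H24.PnElem.top {p n : ℕ} {H A : Subgroup G} (h : PnElem p n H A) : PnElem p n ⊤ A :=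
  h.of_le le_top

theorem H24.PnElem.self {p n : ℕ} {H A : Subgroup G} (h : PnElem p n H A) : PnElem p n A A :=
  h.of_le le_rfl

theorem H24.PnElem.abl {p n : ℕ} {H A : Subgroup G} (h : PnElem p n H A) : Abl A := h.elem.1

theorem H24.PnElem.le_cent {p n : ℕ} {H A : Subgroup G} (h : PnElem p n H A) : A ≤ C[A] :=
  h.elem.le_cent

theorem H24.PnElem.isPi [Finite G] {p n : ℕ} {H A : Subgroup G} (h : PnElem p n H A)
    (hp : p.Prime) : IsPi {p} A := h.elem.isPi hp

theorem H24.PnElem.ne_bot {p n : ℕ} {H A : Subgroup G} (h : PnElem p n H A) (hp : p.Prime)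
    (hn : 0 < n) : A ≠ ⊥ := by
  rintro rfl
  have := h.card
  rw [Subgroup.card_bot] at this
  exact (Nat.one_lt_pow hn.ne' hp.one_lt).ne this

theorem H24.PnElem.dvd_card {p n : ℕ} {H A : Subgroup G} (h : PnElem p n H A) : p ^ n ∣ ♯H :=
  h.card ▸ Subgroup.card_dvd_of_le h.le

theorem H24.PnElem.prime_dvd_card {p n : ℕ} {H A : Subgroup G} (h : PnElem p n H A)
    (hn : 0 < n) : p ∣ ♯H := (dvd_pow_self p hn.ne').trans h.dvd_card

theorem H24.PnElem.prime_dvd_self {p n : ℕ} {H A : Subgroup G} (h : PnElem p n H A)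
    (hn : 0 < n) : p ∣ ♯A := h.self.prime_dvd_card hn

theorem pnElem_zero (p : ℕ) (H : Subgroup G) : PnElem p 0 H ⊥ :=
  ⟨bot_le, elem_bot p, by simp⟩

theorem pnElem_one_iff [Finite G] {p : ℕ} (hp : p.Prime) {H X : Subgroup G} :
    PnElem p 1 H X ↔ X ≤ H ∧ ♯X = p :=
  ⟨fun h => ⟨h.le, by rw [h.card, pow_one]⟩,
    fun h => ⟨h.1, elem_of_card_prime hp h.2, by rw [h.2, pow_one]⟩⟩

theorem pnElem_one_of_card [Finite G] {p : ℕ} (hp : p.Prime) {H X : Subgroup G} (hXH : X ≤ H)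
    (hX : ♯X = p) : PnElem p 1 H X := (pnElem_one_iff hp).2 ⟨hXH, hX⟩

theorem H24.PnElem.card_one {p : ℕ} {H X : Subgroup G} (h : PnElem p 1 H X) : ♯X = p := by
  rw [h.card, pow_one]

theorem H24.PnElem.cyc {p : ℕ} {H X : Subgroup G} (h : PnElem p 1 H X) (hp : p.Prime) : Cyc X :=
  cyc_of_card_prime hp h.card_one

theorem pnElem_zpowers {p : ℕ} {H : Subgroup G} {x : G} (hx : x ∈ H) (ho : orderOf x = p) :
    PnElem p 1 H (Subgroup.zpowers x) :=
  ⟨Subgroup.zpowers_le.2 hx, elem_zpowers (ho ▸ pow_orderOf_eq_one x),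
    by rw [Nat.card_zpowers, ho, pow_one]⟩

theorem pnElem_zpowers_of_elem {p : ℕ} (hp : p.Prime) {A : Subgroup G}
    (hA : IsElementaryAbelian p A) {x : G} (hx : x ∈ A) (hx1 : x ≠ 1) :
    PnElem p 1 A (Subgroup.zpowers x) := pnElem_zpowers hx (hA.orderOf_eq hp hx hx1)

theorem exists_pnElem_one [Finite G] {p : ℕ} (hp : p.Prime) {H : Subgroup G} (h : p ∣ ♯H) :
    ∃ X, PnElem p 1 H X := by
  obtain ⟨x, hx, ho⟩ := exists_orderOf_eq_prime hp h
  exact ⟨_, pnElem_zpowers hx ho⟩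

theorem H24.PnElem.exists_generator [Finite G] {p : ℕ} {H X : Subgroup G} (h : PnElem p 1 H X)
    (hp : p.Prime) : ∃ x ∈ X, x ≠ 1 ∧ orderOf x = p ∧ Subgroup.zpowers x = X := by
  obtain ⟨x, hx, hx1⟩ := exists_ne_one_of_ne_bot (h.ne_bot hp one_pos)
  exact ⟨x, hx, hx1, h.elem.orderOf_eq hp hx hx1, eq_zpowers_of_card_prime hp h.card_one hx hx1⟩

theorem H24.PnElem.eq_zpowers [Finite G] {p : ℕ} {H X : Subgroup G} (h : PnElem p 1 H X)
    (hp : p.Prime) {x : G} (hx : x ∈ X) (hx1 : x ≠ 1) : Subgroup.zpowers x = X :=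
  eq_zpowers_of_card_prime hp h.card_one hx hx1

theorem H24.PnElem.le_or_inf_eq_bot [Finite G] {p : ℕ} {H X : Subgroup G} (h : PnElem p 1 H X)
    (hp : p.Prime) (K : Subgroup G) : X ≤ K ∨ X ⊓ K = ⊥ :=
  le_or_inf_eq_bot_of_card_prime hp h.card_one K

theorem H24.PnElem.inf_eq_bot [Finite G] {p : ℕ} {H X K : Subgroup G} (h : PnElem p 1 H X)
    (hp : p.Prime) (hK : ¬ X ≤ K) : X ⊓ K = ⊥ := (h.le_or_inf_eq_bot hp K).resolve_left hK

theorem H24.PnElem.le_of_inf_ne_bot [Finite G] {p : ℕ} {H X K : Subgroup G} (h : PnElem p 1 H X)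
    (hp : p.Prime) (hK : X ⊓ K ≠ ⊥) : X ≤ K := (h.le_or_inf_eq_bot hp K).resolve_right hK

theorem H24.PnElem.eq_of_le [Finite G] {p n : ℕ} {H K A B : Subgroup G} (hA : PnElem p n H A)
    (hB : PnElem p n K B) (hAB : A ≤ B) : A = B :=
  Subgroup.eq_of_le_of_card_ge hAB (by rw [hA.card, hB.card])

theorem H24.PnElem.inf_eq_bot_of_ne [Finite G] {p : ℕ} {H K X Y : Subgroup G}
    (hX : PnElem p 1 H X) (hY : PnElem p 1 K Y) (hp : p.Prime) (hne : X ≠ Y) : X ⊓ Y = ⊥ :=
  hX.inf_eq_bot hp fun h => hne (hX.eq_of_le hY h)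

/-- a nontrivial subgroup of a group of order `p` is the whole group. -/
theorem H24.PnElem.eq_of_le_of_ne_bot [Finite G] {p : ℕ} {H X Y : Subgroup G}
    (hX : PnElem p 1 H X) (hp : p.Prime) (hYX : Y ≤ X) (hY : Y ≠ ⊥) : Y = X :=
  (eq_bot_or_eq_of_card_prime hp hX.card_one hYX).resolve_left hY

theorem pnElem_of_elem [Finite G] {p : ℕ} (hp : p.Prime) {H A : Subgroup G} (hAH : A ≤ H)
    (hA : IsElementaryAbelian p A) : ∃ n, PnElem p n H A := by
  obtain ⟨n, hn⟩ := hA.exists_card hp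
  exact ⟨n, hAH, hA, hn⟩

/-- subgroups of every smaller rank. -/
theorem H24.PnElem.exists_le [Finite G] {p n m : ℕ} {H A : Subgroup G} (h : PnElem p n H A)
    (hp : p.Prime) (hm : m ≤ n) : ∃ B, PnElem p m A B := by
  obtain ⟨B, hB, hc⟩ := exists_le_card_pow hp (H := A) (n := m) (h.card ▸ pow_dvd_pow p hm)
  exact ⟨B, hB, h.elem.mono hB, hc⟩

/-- extension of an elementary abelian subgroup inside a bigger one. -/
theorem H24.PnElem.exists_between [Finite G] {p n m k : ℕ} {H K A X : Subgroup G}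
    (h : PnElem p n H A) (hp : p.Prime) (hX : PnElem p k K X) (hXA : X ≤ A) (hkm : k ≤ m)
    (hm : m ≤ n) : ∃ B, PnElem p m A B ∧ X ≤ B := by
  obtain ⟨B, hXB, hB, hc⟩ :=
    exists_between_card_pow hp hXA hX.card hkm (h.card ▸ pow_dvd_pow p hm)
  exact ⟨B, ⟨hB, h.elem.mono hB, hc⟩, hXB⟩

theorem H24.PnElem.rank_le [Finite G] {p n m : ℕ} {H K A B : Subgroup G} (hA : PnElem p n H A)
    (hB : PnElem p m K B) (hp : p.Prime) (hAB : A ≤ B) : n ≤ m := by
  have := Subgroup.card_dvd_of_le hAB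
  rw [hA.card, hB.card] at this
  exact (Nat.pow_dvd_pow_iff_le_right hp.one_lt).1 this

theorem H24.PnElem.rank_lt [Finite G] {p n m : ℕ} {H K A B : Subgroup G} (hA : PnElem p n H A)
    (hB : PnElem p m K B) (hp : p.Prime) (hAB : A < B) : n < m := by
  have := H2.card_lt_of_lt hAB
  rw [hA.card, hB.card] at this
  exact (Nat.pow_lt_pow_iff_right hp.one_lt).1 this

theorem H24.PnElem.sup [Finite G] {p n m : ℕ} {H A B : Subgroup G} (hA : PnElem p n H A)
    (hB : PnElem p m H B) (hc : A ≤ C[B]) (hi : A ⊓ B = ⊥) : PnElem p (n + m) H (A ⊔ B) := by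
  refine ⟨sup_le hA.le hB.le, elem_sup hA.elem hB.elem hc, ?_⟩
  have := H2.card_sup_mul_card_inf (le_norm_of_le_cent hc)
  rw [hi, Subgroup.card_bot, mul_one, hA.card, hB.card] at this
  rw [this, pow_add]

/-- adjoining a commuting subgroup of order `p` not contained in `A`. -/
theorem H24.PnElem.sup_one [Finite G] {p n : ℕ} {H A X : Subgroup G} (hA : PnElem p n H A)
    (hX : PnElem p 1 H X) (hp : p.Prime) (hc : X ≤ C[A]) (hXA : ¬ X ≤ A) :
    PnElem p (n + 1) H (A ⊔ X) :=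
  hA.sup hX (Subgroup.le_centralizer_iff.1 hc) (by rw [inf_comm]; exact hX.inf_eq_bot hp hXA)

/-- MathComp `p2Elem_dprodP`: two distinct subgroups of order `p` span `A ∈ E_p^2`. -/
theorem H24.PnElem.sup_eq_of_ne [Finite G] {p : ℕ} {H K L A X Y : Subgroup G}
    (hA : PnElem p 2 H A) (hp : p.Prime) (hX : PnElem p 1 K X) (hY : PnElem p 1 L Y)
    (hXA : X ≤ A) (hYA : Y ≤ A) (hne : X ≠ Y) : X ⊔ Y = A := by
  have hc : X ≤ C[Y] := fun x hx => mem_cent_iff.2 fun y hy => abl_iff.1 hA.abl y (hYA hy) x (hXA hx)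
  exact ((hX.of_le hXA).sup (hY.of_le hYA) hc (hX.inf_eq_bot_of_ne hY hp hne)).eq_of_le hA
    (sup_le hXA hYA)

theorem H24.PnElem.dp_of_ne [Finite G] {p : ℕ} {H K L A X Y : Subgroup G}
    (hA : PnElem p 2 H A) (hp : p.Prime) (hX : PnElem p 1 K X) (hY : PnElem p 1 L Y)
    (hXA : X ≤ A) (hYA : Y ≤ A) (hne : X ≠ Y) : DP X Y A :=
  ⟨fun y hy => mem_cent_iff.2 fun x hx => abl_iff.1 hA.abl x (hXA hx) y (hYA hy),
    hX.inf_eq_bot_of_ne hY hp hne, hA.sup_eq_of_ne hp hX hY hXA hYA hne⟩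

/-- a proper nontrivial subgroup of `A ∈ E_p^2` has order `p`. -/
theorem H24.PnElem.one_of_lt [Finite G] {p : ℕ} {H A X : Subgroup G} (hA : PnElem p 2 H A)
    (hp : p.Prime) (hXA : X ≤ A) (hne : X ≠ A) (hX : X ≠ ⊥) : PnElem p 1 A X := by
  obtain ⟨n, hn⟩ := pnElem_of_elem hp hXA (hA.elem.mono hXA)
  have h1 : n < 2 := hn.rank_lt hA hp (lt_of_le_of_ne hXA hne)
  have h0 : n ≠ 0 := by
    rintro rfl
    exact hX (Subgroup.card_eq_one.1 (by simpa using hn.card))
  obtain rfl : n = 1 := by omega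
  exact hn

theorem H24.PnElem.not_cyc {p n : ℕ} {H A : Subgroup G} (hA : PnElem p n H A) (hp : p.Prime)
    (hn : 2 ≤ n) : ¬ Cyc A := by
  intro hc
  have := hA.elem.card_dvd_of_cyc hc
  rw [hA.card] at this
  have h2 := (Nat.pow_dvd_pow_iff_le_right hp.one_lt).1 (this.trans (pow_one p).symm.dvd)
  omega

theorem H24.PnElem.map {p n : ℕ} {H A : Subgroup G} (h : PnElem p n H A) {f : G →* G'}
    (hf : Function.Injective f) : PnElem p n (H.map f) (A.map f) :=
  ⟨Subgroup.map_mono h.le, h.elem.map f, by rw [Subgroup.card_map_of_injective hf, h.card]⟩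

theorem pnElem_map_iff {p n : ℕ} {H A : Subgroup G} {f : G →* G'} (hf : Function.Injective f) :
    PnElem p n (H.map f) (A.map f) ↔ PnElem p n H A :=
  ⟨fun h => ⟨(Subgroup.map_le_map_iff_of_injective hf).1 h.le, elem_of_map_injective hf h.elem,
    by rw [← h.card, Subgroup.card_map_of_injective hf]⟩, fun h => h.map hf⟩

theorem H24.PnElem.cj {p n : ℕ} {H A : Subgroup G} (h : PnElem p n H A) (g : G) :
    PnElem p n (H24.cj g H) (H24.cj g A) := h.map (MulAut.conj g).injective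

theorem pnElem_cj_iff {p n : ℕ} {H A : Subgroup G} (g : G) :
    PnElem p n (cj g H) (cj g A) ↔ PnElem p n H A := pnElem_map_iff (MulAut.conj g).injective

/-- in `A ∈ E_p^2` every subgroup `X` of order `p` has a different companion. -/
theorem H24.PnElem.exists_ne [Finite G] {p : ℕ} {H A : Subgroup G} (hA : PnElem p 2 H A)
    (hp : p.Prime) {K X : Subgroup G} (hX : PnElem p 1 K X) :
    ∃ Y, PnElem p 1 A Y ∧ Y ≠ X := by
  have : ¬ A ≤ X := fun h => by have := hA.rank_le hX hp h; omega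
  obtain ⟨y, hy, hyX⟩ := SetLike.not_le_iff_exists.1 this
  have hy1 : y ≠ 1 := by rintro rfl; exact hyX X.one_mem
  refine ⟨_, pnElem_zpowers_of_elem hp hA.elem hy hy1, ?_⟩
  rintro rfl
  exact hyX (Subgroup.mem_zpowers y)

/-! ## the `p`-rank -/

theorem prank_bdd [Finite G] {p : ℕ} (hp : p.Prime) (H : Subgroup G) :
    BddAbove {n | ∃ A, PnElem p n H A} := by
  refine ⟨♯H, ?_⟩
  rintro n ⟨A, hA⟩
  exact (Nat.lt_pow_self hp.one_lt).le.trans (Nat.le_of_dvd (card_pos' H) hA.dvd_card)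

theorem prank_witness [Finite G] {p : ℕ} (hp : p.Prime) (H : Subgroup G) :
    ∃ A, PnElem p (prank p H) H A :=
  Nat.sSup_mem (s := {n | ∃ A, PnElem p n H A}) ⟨0, ⊥, pnElem_zero p H⟩ (prank_bdd hp H)

theorem H24.PnElem.le_prank [Finite G] {p n : ℕ} {H A : Subgroup G} (h : PnElem p n H A)
    (hp : p.Prime) : n ≤ prank p H := le_csSup (prank_bdd hp H) ⟨A, h⟩

/-- MathComp `p_rank_geP`. -/
theorem prank_geP [Finite G] {p n : ℕ} (hp : p.Prime) {H : Subgroup G} :
    n ≤ prank p H ↔ ∃ A, PnElem p n H A := by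
  constructor
  · intro h
    obtain ⟨A, hA⟩ := prank_witness hp H
    obtain ⟨B, hB⟩ := hA.exists_le hp h
    exact ⟨B, hB.mono hA.le⟩
  · rintro ⟨A, hA⟩
    exact hA.le_prank hp

theorem prank_mono [Finite G] {p : ℕ} (hp : p.Prime) {H K : Subgroup G} (h : H ≤ K) :
    prank p H ≤ prank p K := by
  obtain ⟨A, hA⟩ := prank_witness hp H
  exact (hA.mono h).le_prank hp

theorem H24.PnElem.prank_eq [Finite G] {p n : ℕ} {H A : Subgroup G} (h : PnElem p n H A)
    (hp : p.Prime) : prank p A = n := by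
  refine le_antisymm ?_ (h.self.le_prank hp)
  obtain ⟨B, hB⟩ := prank_witness hp A
  exact hB.rank_le h hp hB.le

theorem Cfsg.IsElementaryAbelian.pnElem_prank [Finite G] {p : ℕ} {A : Subgroup G}
    (h : IsElementaryAbelian p A) (hp : p.Prime) : PnElem p (prank p A) A A := by
  obtain ⟨n, hn⟩ := pnElem_of_elem hp le_rfl h
  rwa [hn.prank_eq hp]

theorem Cfsg.IsElementaryAbelian.card_eq [Finite G] {p : ℕ} {A : Subgroup G}
    (h : IsElementaryAbelian p A) (hp : p.Prime) : ♯A = p ^ prank p A := (h.pnElem_prank hp).card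

theorem pnElem_of_prank [Finite G] {p n : ℕ} (hp : p.Prime) {H A : Subgroup G} (hAH : A ≤ H)
    (h : IsElementaryAbelian p A) (hn : prank p A = n) : PnElem p n H A :=
  hn ▸ (h.pnElem_prank hp).of_le hAH

theorem pow_prank_dvd_card [Finite G] {p : ℕ} (hp : p.Prime) (H : Subgroup G) :
    p ^ prank p H ∣ ♯H := by
  obtain ⟨A, hA⟩ := prank_witness hp H
  exact hA.dvd_card

theorem prank_le_of_card [Finite G] {p n : ℕ} (hp : p.Prime) {H : Subgroup G} (h : ♯H = p ^ n) :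
    prank p H ≤ n :=
  (Nat.pow_dvd_pow_iff_le_right hp.one_lt).1 (h ▸ pow_prank_dvd_card hp H)

theorem prank_pos_iff [Finite G] {p : ℕ} (hp : p.Prime) {H : Subgroup G} :
    0 < prank p H ↔ p ∣ ♯H := by
  rw [Nat.lt_iff_add_one_le, zero_add, prank_geP hp]
  exact ⟨fun ⟨_, hA⟩ => hA.prime_dvd_card one_pos, exists_pnElem_one hp⟩

theorem prank_eq_zero_iff [Finite G] {p : ℕ} (hp : p.Prime) {H : Subgroup G} :
    prank p H = 0 ↔ ¬ p ∣ ♯H := by
  rw [← prank_pos_iff hp]; omega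

theorem prank_bot [Finite G] {p : ℕ} (hp : p.Prime) : prank p (⊥ : Subgroup G) = 0 :=
  (pnElem_zero p (⊥ : Subgroup G)).prank_eq hp

theorem prank_le_iff [Finite G] {p k : ℕ} (hp : p.Prime) {H : Subgroup G} :
    prank p H ≤ k ↔ PRankLE p k H := by
  constructor
  · intro h A hA hA'
    have hE : IsElementaryAbelian p A := ⟨hA, hA'⟩
    obtain ⟨n, hn⟩ := pnElem_of_elem hp (Subgroup.map_subtype_le A) (hE.map H.subtype)
    rw [← H2.card_map_subtype, hn.card]
    exact Nat.pow_le_pow_right hp.pos ((hn.le_prank hp).trans h)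
  · intro h
    obtain ⟨A, hA⟩ := prank_witness hp H
    have := h (A.subgroupOf H) (hA.elem.subgroupOf H).1 (hA.elem.subgroupOf H).2
    rw [H2.card_subgroupOf_of_le hA.le, hA.card] at this
    exact (Nat.pow_le_pow_iff_right hp.one_lt).1 this

theorem lt_prank_iff [Finite G] {p k : ℕ} (hp : p.Prime) {H : Subgroup G} :
    k < prank p H ↔ ¬ PRankLE p k H := by
  rw [← prank_le_iff hp]; omega

theorem prank_map [Finite G] [Finite G'] {p : ℕ} (hp : p.Prime) (H : Subgroup G) {f : G →* G'}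
    (hf : Function.Injective f) : prank p (H.map f) = prank p H := by
  apply le_antisymm
  · obtain ⟨A, hA⟩ := prank_witness hp (H.map f)
    have hAe : A = (A.comap f).map f :=
      (Subgroup.map_comap_eq_self (hA.le.trans (Subgroup.map_le_range f H))).symm
    rw [hAe] at hA
    exact ((pnElem_map_iff hf).1 hA).le_prank hp
  · obtain ⟨A, hA⟩ := prank_witness hp H
    exact (hA.map hf).le_prank hp

theorem prank_cj [Finite G] {p : ℕ} (hp : p.Prime) (g : G) (H : Subgroup G) :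
    prank p (cj g H) = prank p H := prank_map hp H (MulAut.conj g).injective

theorem prank_subgroupOf [Finite G] {p : ℕ} (hp : p.Prime) {H K : Subgroup G} (h : H ≤ K) :
    prank p (H.subgroupOf K) = prank p H := by
  rw [← prank_map hp _ K.subtype_injective, Subgroup.subgroupOf_map_subtype, inf_eq_left.2 h]

theorem prank_top_subtype [Finite G] {p : ℕ} (hp : p.Prime) (H : Subgroup G) :
    prank p (⊤ : Subgroup H) = prank p H := by
  rw [← prank_subgroupOf hp (le_refl H), Subgroup.subgroupOf_self]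

theorem prank_top_le_iff [Finite G] {p k : ℕ} (hp : p.Prime) :
    prank p (⊤ : Subgroup G) ≤ k ↔ PRankLE p k G := by
  constructor
  · intro h A hA hA'
    obtain ⟨n, hn⟩ := pnElem_of_elem hp (le_top : A ≤ ⊤) ⟨hA, hA'⟩
    rw [hn.card]
    exact Nat.pow_le_pow_right hp.pos ((hn.le_prank hp).trans h)
  · intro h
    obtain ⟨A, hA⟩ := prank_witness hp (⊤ : Subgroup G)
    have := h A hA.elem.1 hA.elem.2
    rw [hA.card] at this
    exact (Nat.pow_le_pow_iff_right hp.one_lt).1 this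

theorem cyc_prank_le_one [Finite G] {p : ℕ} (hp : p.Prime) {H : Subgroup G} (h : Cyc H) :
    prank p H ≤ 1 := by
  by_contra hlt
  obtain ⟨A, hA⟩ := (prank_geP hp).1 (show 2 ≤ prank p H by omega)
  exact hA.not_cyc hp le_rfl (cyc_mono h hA.le)

/-! ## the rank -/

theorem rank_bdd [Finite G] (H : Subgroup G) :
    BddAbove {n | ∃ p : ℕ, p.Prime ∧ ∃ A, PnElem p n H A} := by
  refine ⟨♯H, ?_⟩
  rintro n ⟨p, hp, A, hA⟩
  exact (Nat.lt_pow_self hp.one_lt).le.trans (Nat.le_of_dvd (card_pos' H) hA.dvd_card)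

theorem H24.PnElem.le_rank [Finite G] {p n : ℕ} {H A : Subgroup G} (h : PnElem p n H A)
    (hp : p.Prime) : n ≤ rank H := le_csSup (rank_bdd H) ⟨p, hp, A, h⟩

theorem prank_le_rank [Finite G] {p : ℕ} (hp : p.Prime) (H : Subgroup G) : prank p H ≤ rank H := by
  obtain ⟨A, hA⟩ := prank_witness hp H
  exact hA.le_rank hp

/-- MathComp `rank_witness`. -/
theorem rank_witness [Finite G] (H : Subgroup G) : ∃ p : ℕ, p.Prime ∧ rank H = prank p H := by
  obtain ⟨p, hp, A, hA⟩ := Nat.sSup_mem (s := {n | ∃ p : ℕ, p.Prime ∧ ∃ A, PnElem p n H A})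
    ⟨0, 2, Nat.prime_two, ⊥, pnElem_zero 2 H⟩ (rank_bdd H)
  exact ⟨p, hp, le_antisymm (hA.le_prank hp) (prank_le_rank hp H)⟩

/-- MathComp `rank_geP`. -/
theorem rank_geP [Finite G] {n : ℕ} {H : Subgroup G} :
    n ≤ rank H ↔ ∃ p : ℕ, p.Prime ∧ ∃ A, PnElem p n H A := by
  constructor
  · intro h
    obtain ⟨p, hp, e⟩ := rank_witness H
    exact ⟨p, hp, (prank_geP hp).1 (e ▸ h)⟩
  · rintro ⟨p, hp, A, hA⟩
    exact hA.le_rank hp

theorem le_rank_iff [Finite G] {n : ℕ} {H : Subgroup G} :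
    n ≤ rank H ↔ ∃ p : ℕ, p.Prime ∧ n ≤ prank p H := by
  rw [rank_geP]
  exact exists_congr fun p => and_congr_right fun hp => (prank_geP hp).symm

theorem rank_le_iff_prank [Finite G] {k : ℕ} {H : Subgroup G} :
    rank H ≤ k ↔ ∀ p : ℕ, p.Prime → prank p H ≤ k := by
  constructor
  · exact fun h p hp => (prank_le_rank hp H).trans h
  · intro h
    obtain ⟨p, hp, e⟩ := rank_witness H
    exact e ▸ h p hp

theorem rank_le_iff [Finite G] {k : ℕ} {H : Subgroup G} : rank H ≤ k ↔ RankLE k H := by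
  rw [rank_le_iff_prank]
  exact forall_congr' fun p => forall_congr' fun hp => prank_le_iff hp

theorem lt_rank_iff [Finite G] {k : ℕ} {H : Subgroup G} : k < rank H ↔ ¬ RankLE k H := by
  rw [← rank_le_iff]; omega

theorem rank_top_le_iff [Finite G] {k : ℕ} : rank (⊤ : Subgroup G) ≤ k ↔ RankLE k G := by
  rw [rank_le_iff_prank]
  exact forall_congr' fun p => forall_congr' fun hp => prank_top_le_iff hp

theorem rank_mono [Finite G] {H K : Subgroup G} (h : H ≤ K) : rank H ≤ rank K :=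
  rank_le_iff_prank.2 fun _ hp => (prank_mono hp h).trans (prank_le_rank hp K)

/-- MathComp `rank_pgroup`. -/
theorem rank_pgroup [Finite G] {p : ℕ} (hp : p.Prime) {H : Subgroup G} (h : IsPi {p} H) :
    rank H = prank p H := by
  refine le_antisymm (rank_le_iff_prank.2 fun q hq => ?_) (prank_le_rank hp H)
  by_cases hqp : q = p
  · rw [hqp]
  · rw [(prank_eq_zero_iff hq).2 fun hd => hqp (h q hq hd)]
    exact Nat.zero_le _

theorem H24.PnElem.rank_eq [Finite G] {p n : ℕ} {H A : Subgroup G} (h : PnElem p n H A)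
    (hp : p.Prime) : rank A = n := by rw [rank_pgroup hp (h.isPi hp), h.prank_eq hp]

theorem rank_map [Finite G] [Finite G'] (H : Subgroup G) {f : G →* G'}
    (hf : Function.Injective f) : rank (H.map f) = rank H := by
  apply le_antisymm
  · exact rank_le_iff_prank.2 fun p hp => (prank_map hp H hf).le.trans (prank_le_rank hp H)
  · exact rank_le_iff_prank.2 fun p hp => (prank_map hp H hf).ge.trans (prank_le_rank hp _)

theorem rank_cj [Finite G] (g : G) (H : Subgroup G) : rank (cj g H) = rank H :=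
  rank_map H (MulAut.conj g).injective

theorem rank_subgroupOf [Finite G] {H K : Subgroup G} (h : H ≤ K) :
    rank (H.subgroupOf K) = rank H := by
  rw [← rank_map _ K.subtype_injective, Subgroup.subgroupOf_map_subtype, inf_eq_left.2 h]

theorem rank_top_subtype [Finite G] (H : Subgroup G) : rank (⊤ : Subgroup H) = rank H := by
  rw [← rank_subgroupOf (le_refl H), Subgroup.subgroupOf_self]

theorem rank_bot [Finite G] : rank (⊥ : Subgroup G) = 0 :=
  (pnElem_zero 2 (⊥ : Subgroup G)).rank_eq Nat.prime_two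

theorem rank_pos_iff [Finite G] {H : Subgroup G} : 0 < rank H ↔ H ≠ ⊥ := by
  constructor
  · rintro h rfl
    rw [rank_bot] at h
    exact lt_irrefl _ h
  · intro h
    obtain ⟨p, hp, hd⟩ := exists_prime_dvd_card h
    exact ((prank_pos_iff hp).2 hd).trans_le (prank_le_rank hp H)

theorem cyc_rank_le_one [Finite G] {H : Subgroup G} (h : Cyc H) : rank H ≤ 1 :=
  rank_le_iff_prank.2 fun _ hp => cyc_prank_le_one hp h

theorem not_cyc_of_rank [Finite G] {H : Subgroup G} (h : 2 ≤ rank H) : ¬ Cyc H := fun hc => by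
  have := cyc_rank_le_one hc; omega

theorem not_cyc_of_prank [Finite G] {p : ℕ} (hp : p.Prime) {H : Subgroup G} (h : 2 ≤ prank p H) :
    ¬ Cyc H := fun hc => by have := cyc_prank_le_one hp hc; omega

/-! ## maximal elementary abelian subgroups -/

theorem H24.PmaxElem.pelem {p : ℕ} {H A : Subgroup G} (h : PmaxElem p H A) : PElem p H A :=
  ⟨h.le, h.elem⟩

/-- MathComp `pmaxElemS`. -/
theorem H24.PmaxElem.restrict {p : ℕ} {H K A : Subgroup G} (h : PmaxElem p H A) (hAK : A ≤ K)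
    (hKH : K ≤ H) : PmaxElem p K A :=
  ⟨hAK, h.elem, fun B hB => h.max B (hB.trans hKH)⟩

/-- MathComp `pmaxElem_exists`. -/
theorem pmaxElem_exists [Finite G] {p : ℕ} {H A : Subgroup G} (hAH : A ≤ H)
    (hA : IsElementaryAbelian p A) : ∃ E, PmaxElem p H E ∧ A ≤ E := by
  obtain ⟨E, ⟨⟨h1, h2⟩, h3⟩, hmax⟩ := Set.Finite.exists_maximal
    (Set.toFinite {B : Subgroup G | (B ≤ H ∧ IsElementaryAbelian p B) ∧ A ≤ B})
    ⟨A, ⟨hAH, hA⟩, le_rfl⟩
  exact ⟨E, ⟨h1, h2, fun B hB hBe hEB => le_antisymm (hmax ⟨⟨hB, hBe⟩, h3.trans hEB⟩ hEB) hEB⟩, h3⟩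

theorem H24.PmaxElem.mem_of_cent {p : ℕ} {H A : Subgroup G} (h : PmaxElem p H A) {x : G}
    (hxH : x ∈ H) (hxc : x ∈ C[A]) (hx : x ^ p = 1) : x ∈ A := by
  have hc : A ≤ C[Subgroup.zpowers x] :=
    Subgroup.le_centralizer_iff.1 (Subgroup.zpowers_le.2 hxc)
  have := h.max (A ⊔ Subgroup.zpowers x) (sup_le h.le (Subgroup.zpowers_le.2 hxH))
    (elem_sup h.elem (elem_zpowers hx) hc) le_sup_left
  rw [← this]
  exact Subgroup.mem_sup_right (Subgroup.mem_zpowers x)

/-- an elementary abelian subgroup of `H` centralising a maximal one lies in it. -/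
theorem H24.PmaxElem.le_of_cent {p : ℕ} {H A B : Subgroup G} (h : PmaxElem p H A) (hBH : B ≤ H)
    (hB : IsElementaryAbelian p B) (hc : B ≤ C[A]) : B ≤ A :=
  fun _ hx => h.mem_of_cent (hBH hx) (hc hx) (hB.2 _ hx)

/-- MathComp `pmaxElem_LdivP`. -/
theorem pmaxElem_iff {p : ℕ} {H A : Subgroup G} :
    PmaxElem p H A ↔ A ≤ H ∧ IsElementaryAbelian p A ∧
      ∀ x ∈ H, x ∈ C[A] → x ^ p = 1 → x ∈ A := by
  refine ⟨fun h => ⟨h.le, h.elem, fun x h1 h2 h3 => h.mem_of_cent h1 h2 h3⟩, ?_⟩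
  rintro ⟨h1, h2, h3⟩
  refine ⟨h1, h2, fun B hB hBe hAB => le_antisymm (fun x hx => h3 x (hB hx) ?_ (hBe.2 x hx)) hAB⟩
  exact mem_cent_iff.2 fun a ha => abl_iff.1 hBe.1 a (hAB ha) x hx

/-- MathComp `p_rankElem_max`. -/
theorem H24.PnElem.pmaxElem_of_prank [Finite G] {p n : ℕ} {H A : Subgroup G}
    (h : PnElem p n H A) (hp : p.Prime) (hn : prank p H ≤ n) : PmaxElem p H A := by
  refine ⟨h.le, h.elem, fun B hB hBe hAB => ?_⟩
  obtain ⟨m, hm⟩ := pnElem_of_elem hp hB hBe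
  have h1 := hm.le_prank hp
  have h2 := h.rank_le hm hp hAB
  obtain rfl : m = n := by omega
  exact (h.eq_of_le hm hAB).symm

/-- a non-maximal member of `E_p^n(H)` lies in a member of `E_p^(n+1)(H)`. -/
theorem H24.PnElem.exists_succ_of_not_pmax [Finite G] {p n : ℕ} {H A : Subgroup G}
    (h : PnElem p n H A) (hp : p.Prime) (hn : ¬ PmaxElem p H A) :
    ∃ B, PnElem p (n + 1) H B ∧ A ≤ B := by
  obtain ⟨E, hE, hAE⟩ := pmaxElem_exists h.le h.elem
  obtain ⟨m, hm⟩ := pnElem_of_elem hp hE.le hE.elem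
  have hlt : A < E := lt_of_le_of_ne hAE (by rintro rfl; exact hn hE)
  obtain ⟨B, hB, hAB⟩ := hm.exists_between hp h hAE (Nat.le_succ n) (h.rank_lt hm hp hlt)
  exact ⟨B, hB.mono hE.le, hAB⟩

/-- if `A ∈ E_p(H)` is maximal then `r_p(C_H(A)) = r_p(A)`. -/
theorem H24.PmaxElem.prank_cent [Finite G] {p : ℕ} {H A : Subgroup G} (h : PmaxElem p H A)
    (hp : p.Prime) : prank p (H ⊓ C[A]) = prank p A := by
  refine le_antisymm ?_ (prank_mono hp (le_inf h.le h.elem.le_cent))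
  obtain ⟨B, hB⟩ := prank_witness hp (H ⊓ C[A])
  exact (hB.of_le (h.le_of_cent (hB.le.trans inf_le_left) hB.elem
    (hB.le.trans inf_le_right))).le_prank hp

/-- converse of `PmaxElem.prank_cent`. -/
theorem H24.PnElem.pmaxElem_of_prank_cent [Finite G] {p n : ℕ} {H A : Subgroup G}
    (h : PnElem p n H A) (hp : p.Prime) (hn : prank p (H ⊓ C[A]) ≤ n) : PmaxElem p H A := by
  have h1 := (h.of_le (le_inf h.le h.le_cent)).pmaxElem_of_prank hp hn
  exact pmaxElem_iff.2 ⟨h.le, h.elem, fun x hx hc hxp => h1.mem_of_cent ⟨hx, hc⟩ hc hxp⟩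

theorem H24.PmaxElem.map {p : ℕ} {H A : Subgroup G} (h : PmaxElem p H A) {f : G →* G'}
    (hf : Function.Injective f) : PmaxElem p (H.map f) (A.map f) := by
  refine pmaxElem_iff.2 ⟨Subgroup.map_mono h.le, h.elem.map f, ?_⟩
  rintro _ ⟨x, hx, rfl⟩ hc hxp
  refine ⟨x, h.mem_of_cent hx (mem_cent_iff.2 fun a ha => hf ?_) (hf ?_), rfl⟩
  · rw [map_mul, map_mul]
    exact mem_cent_iff.1 hc _ ⟨a, ha, rfl⟩
  · rw [map_pow, hxp, map_one]

theorem pmaxElem_map_iff {p : ℕ} {H A : Subgroup G} {f : G →* G'} (hf : Function.Injective f) :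
    PmaxElem p (H.map f) (A.map f) ↔ PmaxElem p H A := by
  refine ⟨fun h => ⟨(Subgroup.map_le_map_iff_of_injective hf).1 h.le,
    elem_of_map_injective hf h.elem, fun B hB hBe hAB => ?_⟩, fun h => h.map hf⟩
  exact Subgroup.map_injective hf
    (h.max _ (Subgroup.map_mono hB) (hBe.map f) (Subgroup.map_mono hAB))

theorem H24.PmaxElem.cj {p : ℕ} {H A : Subgroup G} (h : PmaxElem p H A) (g : G) :
    PmaxElem p (H24.cj g H) (H24.cj g A) := h.map (MulAut.conj g).injective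

theorem H24.PmaxElem.ne_bot [Finite G] {p : ℕ} {H A : Subgroup G} (h : PmaxElem p H A)
    (hp : p.Prime) (hd : p ∣ ♯H) : A ≠ ⊥ := by
  rintro rfl
  obtain ⟨X, hX⟩ := exists_pnElem_one hp hd
  exact hX.ne_bot hp one_pos (h.max X hX.le hX.elem bot_le)

end H25
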