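import Mathlib
import Cfsg.Agent.H24.Base1
import Cfsg.Agent.H2.Frattini
import Cfsg.Agent.H25.Rank

/-!
# `Ω₁`, cyclic subgroups, groups of rank one, rank of Hall subgroups, `SCN`
-/

set_option autoImplicit false

open H24 Cfsg H25

namespace H25

universe u v

variable {G : Type u} [Group G] {G' : Type v} [Group G']

/-! ## `Ω₁` -/

theorem omegaOne_le (p : ℕ) (H : Subgroup G) : omegaOne p H ≤ H :=
  (Subgroup.closure_le _).2 fun _ hx => hx.1

theorem mem_omegaOne {p : ℕ} {H : Subgroup G} {x : G} (hx : x ∈ H) (hp : x ^ p = 1) :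
    x ∈ omegaOne p H := Subgroup.subset_closure ⟨hx, hp⟩

theorem omegaOne_le_iff {p : ℕ} {H K : Subgroup G} :
    omegaOne p H ≤ K ↔ ∀ x ∈ H, x ^ p = 1 → x ∈ K := by
  unfold omegaOne
  rw [Subgroup.closure_le]
  exact ⟨fun h x h1 h2 => h ⟨h1, h2⟩, fun h x hx => h x hx.1 hx.2⟩

theorem omegaOne_mono (p : ℕ) {H K : Subgroup G} (h : H ≤ K) : omegaOne p H ≤ omegaOne p K :=
  omegaOne_le_iff.2 fun _ hx hp => mem_omegaOne (h hx) hp

theorem Cfsg.IsElementaryAbelian.le_omegaOne {p : ℕ} {A H : Subgroup G}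
    (h : IsElementaryAbelian p A) (hA : A ≤ H) : A ≤ omegaOne p H :=
  fun _ hx => mem_omegaOne (hA hx) (h.pow hx)

theorem H24.PnElem.le_omegaOne {p n : ℕ} {A H : Subgroup G} (h : PnElem p n H A) :
    A ≤ omegaOne p H := h.elem.le_omegaOne h.le

theorem Cfsg.IsElementaryAbelian.omegaOne_eq {p : ℕ} {A : Subgroup G}
    (h : IsElementaryAbelian p A) : omegaOne p A = A :=
  le_antisymm (omegaOne_le p A) (h.le_omegaOne le_rfl)

theorem omegaOne_omegaOne (p : ℕ) (H : Subgroup G) :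
    omegaOne p (omegaOne p H) = omegaOne p H :=
  le_antisymm (omegaOne_le _ _)
    (omegaOne_le_iff.2 fun _ hx hp => mem_omegaOne (mem_omegaOne hx hp) hp)

theorem norm_omegaOne (p : ℕ) {X H : Subgroup G} (h : X ≤ N[H]) : X ≤ N[omegaOne p H] :=
  norm_closure fun a ha s hs => mem_omegaOne (conj_mem (h ha) hs.1) (by
    rw [conj_pow, hs.2, mul_one, mul_inv_cancel])

theorem N_le_N_omegaOne (p : ℕ) (H : Subgroup G) : N[H] ≤ N[omegaOne p H] := norm_omegaOne p le_rfl

theorem H24.Nml.omegaOne {K H : Subgroup G} (h : K ⊴ H) (p : ℕ) : Cfsg.omegaOne p K ⊴ H :=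
  ⟨(omegaOne_le p K).trans h.le, norm_omegaOne p h.norm⟩

theorem omegaOne_nml (p : ℕ) (H : Subgroup G) : omegaOne p H ⊴ H := (Nml.refl H).omegaOne p

theorem mem_omegaOne_of_abl {p : ℕ} {H : Subgroup G} (h : Abl H) {x : G} :
    x ∈ omegaOne p H ↔ x ∈ H ∧ x ^ p = 1 := by
  refine ⟨fun hx => ?_, fun hx => mem_omegaOne hx.1 hx.2⟩
  have : omegaOne p H ≤ H2.powKer H p := omegaOne_le_iff.2 fun y h1 h2 => H2.mem_powKer.2 ⟨h1, h2⟩
  exact H2.mem_powKer.1 (this hx)

/-- MathComp `Ohm1_abelem`. -/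
theorem omegaOne_elem {p : ℕ} {H : Subgroup G} (h : Abl H) :
    IsElementaryAbelian p (omegaOne p H) :=
  ⟨abl_mono h (omegaOne_le p H), fun _ hx => ((mem_omegaOne_of_abl h).1 hx).2⟩

/-- if `Ω₁(H)` is abelian then it is elementary abelian. -/
theorem omegaOne_elem' {p : ℕ} {H : Subgroup G} (h : Abl (omegaOne p H)) :
    IsElementaryAbelian p (omegaOne p H) := by
  rw [← omegaOne_omegaOne]; exact omegaOne_elem h

theorem omegaOne_ne_bot [Finite G] {p : ℕ} (hp : p.Prime) {H : Subgroup G} (h : p ∣ ♯H) :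
    omegaOne p H ≠ ⊥ := by
  obtain ⟨X, hX⟩ := exists_pnElem_one hp h
  exact ne_bot_of_le (hX.ne_bot hp one_pos) hX.le_omegaOne

theorem isPi_single_dvd [Finite G] {p : ℕ} {H : Subgroup G} (h : IsPi {p} H) (h1 : H ≠ ⊥) :
    p ∣ ♯H := by
  obtain ⟨q, hq, hd⟩ := exists_prime_dvd_card h1
  exact (h q hq hd : q = p) ▸ hd

theorem isPi_single_prime [Finite G] {p : ℕ} {H : Subgroup G} (h : IsPi {p} H) (h1 : H ≠ ⊥) :
    p.Prime := by
  obtain ⟨q, hq, hd⟩ := exists_prime_dvd_card h1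
  exact (h q hq hd : q = p) ▸ hq

theorem omegaOne_ne_bot_of_pgroup [Finite G] {p : ℕ} {H : Subgroup G} (h : IsPi {p} H)
    (h1 : H ≠ ⊥) : omegaOne p H ≠ ⊥ :=
  omegaOne_ne_bot (isPi_single_prime h h1) (isPi_single_dvd h h1)

theorem map_omegaOne_le (p : ℕ) (H : Subgroup G) (f : G →* G') :
    (omegaOne p H).map f ≤ omegaOne p (H.map f) := by
  rw [Subgroup.map_le_iff_le_comap]
  exact omegaOne_le_iff.2 fun x hx hp => mem_omegaOne ⟨x, hx, rfl⟩ (by rw [← map_pow, hp, map_one])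

theorem map_omegaOne (p : ℕ) (H : Subgroup G) {f : G →* G'} (hf : Function.Injective f) :
    (omegaOne p H).map f = omegaOne p (H.map f) := by
  refine le_antisymm (map_omegaOne_le p H f) (omegaOne_le_iff.2 ?_)
  rintro _ ⟨x, hx, rfl⟩ hp
  exact ⟨x, mem_omegaOne hx (hf (by rw [map_pow, hp, map_one])), rfl⟩

theorem cj_omegaOne (p : ℕ) (g : G) (H : Subgroup G) :
    cj g (omegaOne p H) = omegaOne p (cj g H) := map_omegaOne p H (MulAut.conj g).injective

theorem prank_omegaOne [Finite G] {p : ℕ} (hp : p.Prime) (H : Subgroup G) :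
    prank p (omegaOne p H) = prank p H := by
  refine le_antisymm (prank_mono hp (omegaOne_le p H)) ?_
  obtain ⟨A, hA⟩ := prank_witness hp H
  exact (hA.of_le hA.le_omegaOne).le_prank hp

theorem omegaOne_pnElem [Finite G] {p : ℕ} (hp : p.Prime) {H : Subgroup G} (h : Abl H) :
    PnElem p (prank p H) H (omegaOne p H) :=
  pnElem_of_prank hp (omegaOne_le p H) (omegaOne_elem h) (prank_omegaOne hp H)

theorem card_omegaOne_of_abl [Finite G] {p : ℕ} (hp : p.Prime) {H : Subgroup G} (h : Abl H) :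
    ♯(omegaOne p H) = p ^ prank p H := (omegaOne_pnElem hp h).card

/-- MathComp `Ohm1_cent_max`. -/
theorem H24.PmaxElem.omegaOne_cent {p : ℕ} {H A : Subgroup G} (h : PmaxElem p H A) :
    omegaOne p (H ⊓ C[A]) = A :=
  le_antisymm (omegaOne_le_iff.2 fun _ hx hp => h.mem_of_cent hx.1 hx.2 hp)
    (h.elem.le_omegaOne (le_inf h.le h.elem.le_cent))

theorem H24.PmaxElem.omegaOne_eq_of_le_cent {p : ℕ} {H A : Subgroup G} (h : PmaxElem p H A)
    (hc : H ≤ C[A]) : omegaOne p H = A := by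
  have := h.omegaOne_cent
  rwa [inf_eq_left.2 hc] at this

theorem H24.PmaxElem.omegaOne_eq_of_abl {p : ℕ} {H A : Subgroup G} (h : PmaxElem p H A)
    (hH : Abl H) : omegaOne p H = A := h.omegaOne_eq_of_le_cent (hH.cents le_rfl h.le)

theorem H24.PmaxElem.omegaOne_center_le {p : ℕ} {H A : Subgroup G} (h : PmaxElem p H A) :
    omegaOne p Z[H] ≤ A :=
  omegaOne_le_iff.2 fun _ hx hp => h.mem_of_cent hx.1 (C_anti h.le hx.2) hp

theorem H24.PnElem.omegaOne_eq_of_abl [Finite G] {p n : ℕ} {H A : Subgroup G}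
    (h : PnElem p n H A) (hp : p.Prime) (hH : Abl H) (hn : prank p H ≤ n) : omegaOne p H = A :=
  (h.pmaxElem_of_prank hp hn).omegaOne_eq_of_abl hH

theorem omegaOne_pmaxElem {p : ℕ} {H : Subgroup G} (h : Abl (omegaOne p H)) :
    PmaxElem p H (omegaOne p H) :=
  ⟨omegaOne_le p H, omegaOne_elem' h, fun _ hB hBe hle => le_antisymm (hBe.le_omegaOne hB) hle⟩

theorem CP.omegaOne_sup_le {p : ℕ} {A B M : Subgroup G} (h : CP A B M) :
    omegaOne p A ⊔ omegaOne p B ≤ omegaOne p M :=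
  sup_le (omegaOne_mono p h.left_le) (omegaOne_mono p h.right_le)

/-- `Ω₁` of a direct product. -/
theorem H24.DP.omegaOne_eq {p : ℕ} {A B M : Subgroup G} (h : DP A B M) :
    omegaOne p M = omegaOne p A ⊔ omegaOne p B := by
  refine le_antisymm (omegaOne_le_iff.2 fun x hx hp => ?_) (CP.omegaOne_sup_le h.cp)
  obtain ⟨a, ha, b, hb, rfl⟩ := h.isProd.mul x hx
  have hc : Commute a b := (comm_of_cent h.cent hb ha).symm
  rw [hc.mul_pow] at hp
  have := mul_eq_mul_of_inf h.inf (A.pow_mem ha p) A.one_mem (B.pow_mem hb p) B.one_mem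
    (by rw [hp, one_mul])
  exact Subgroup.mul_mem_sup (mem_omegaOne ha this.1) (mem_omegaOne hb this.2)

theorem H24.DP.omegaOne {p : ℕ} {A B M : Subgroup G} (h : DP A B M) :
    DP (Cfsg.omegaOne p A) (Cfsg.omegaOne p B) (Cfsg.omegaOne p M) :=
  ⟨(omegaOne_le p B).trans (cents_of_le h.cent (omegaOne_le p A)),
    eq_bot_of_le h.inf (inf_le_inf (omegaOne_le p A) (omegaOne_le p B)), h.omegaOne_eq.symm⟩

/-- the `p`-rank of an abelian direct product. -/
theorem H24.DP.prank_of_abl [Finite G] {p : ℕ} (hp : p.Prime) {A B M : Subgroup G} (h : DP A B M)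
    (hM : Abl M) : prank p M = prank p A + prank p B := by
  have h1 := (h.omegaOne (p := p)).card
  rw [card_omegaOne_of_abl hp hM, card_omegaOne_of_abl hp (hM.of_le h.left_le),
    card_omegaOne_of_abl hp (hM.of_le h.right_le), ← pow_add] at h1
  exact Nat.pow_right_injective hp.two_le h1

theorem H24.DP.prank_add_le [Finite G] {p : ℕ} (hp : p.Prime) {A B M : Subgroup G}
    (h : DP A B M) : prank p A + prank p B ≤ prank p M := by
  obtain ⟨X, hX⟩ := prank_witness hp A
  obtain ⟨Y, hY⟩ := prank_witness hp B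
  exact ((hX.mono h.left_le).sup (hY.mono h.right_le)
    (hX.le.trans (cents_of_le (cents_symm h.cent) hY.le))
    (eq_bot_of_le h.inf (inf_le_inf hX.le hY.le))).le_prank hp

/-- `r_p(M) ≤ r_p(K) + log_p |M : K|`. -/
theorem prank_le_add_of_relIndex [Finite G] {p n : ℕ} (hp : p.Prime) {K M : Subgroup G}
    (hK : K ⊴ M) (h : ¬ p ^ (n + 1) ∣ K.relIndex M) : prank p M ≤ prank p K + n := by
  obtain ⟨A, hA⟩ := prank_witness hp M
  obtain ⟨m, hm⟩ := pnElem_of_elem hp (inf_le_left : K ⊓ A ≤ K) (hA.elem.mono inf_le_right)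
  have h1 := card_inf_mul_relIndex K A
  rw [hm.card, hA.card] at h1
  have h2 := hm.le_prank hp
  by_contra hlt
  apply h
  refine dvd_trans ?_ (relIndex_dvd_of_nml hK hA.le)
  have h3 : p ^ m * p ^ (n + 1) ∣ p ^ m * K.relIndex A := by
    rw [h1, ← pow_add]; exact pow_dvd_pow p (by omega)
  exact Nat.dvd_of_mul_dvd_mul_left (pow_pos hp.pos m) h3

/-! ## cyclic subgroups -/

theorem cyc_exists_zpowers {H : Subgroup G} (h : Cyc H) : ∃ x, Subgroup.zpowers x = H :=
  (Subgroup.isCyclic_iff_exists_zpowers_eq_top H).1 h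

theorem cyc_zpowers (x : G) : Cyc (Subgroup.zpowers x) := inferInstance

theorem cyc_bot : Cyc (⊥ : Subgroup G) := inferInstance

theorem cyc_map {H : Subgroup G} (h : Cyc H) (f : G →* G') : Cyc (H.map f) := by
  obtain ⟨x, rfl⟩ := cyc_exists_zpowers h
  rw [MonoidHom.map_zpowers]; exact cyc_zpowers _

theorem cyc_cj {H : Subgroup G} (h : Cyc H) (g : G) : Cyc (cj g H) := cyc_map h _

theorem cyc_cj_iff {H : Subgroup G} (g : G) : Cyc (cj g H) ↔ Cyc H :=
  ⟨fun h => by simpa using cyc_cj h g⁻¹, fun h => cyc_cj h g⟩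

/-- in a cyclic group, an element whose order divides `|K|` lies in `K`. -/
theorem cyc_mem_of_pow_card [Finite G] {H K : Subgroup G} (h : Cyc H) (hK : K ≤ H) {x : G}
    (hx : x ∈ H) (hxp : x ^ ♯K = 1) : x ∈ K := by
  classical
  have := Fintype.ofFinite H
  have h1 := IsCyclic.card_pow_eq_one_le (α := H) (card_pos K)
  have h2 : Finset.univ.filter (fun a : H => (a : G) ∈ K) =
      Finset.univ.filter (fun a : H => a ^ ♯K = 1) := by
    apply Finset.eq_of_subset_of_card_le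
    · intro a ha
      simp only [Finset.mem_filter, Finset.mem_univ, true_and] at ha ⊢
      exact Subtype.ext (orderOf_dvd_iff_pow_eq_one.1 (orderOf_dvd_card' ha))
    · refine h1.trans (le_of_eq ?_)
      rw [← card_subgroupOf_of_le hK, Nat.card_eq_fintype_card, Fintype.card_subtype]
      rfl
  have h3 : (⟨x, hx⟩ : H) ∈ Finset.univ.filter (fun a : H => a ^ ♯K = 1) := by
    simp only [Finset.mem_filter, Finset.mem_univ, true_and]
    exact Subtype.ext (by simpa using hxp)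
  rw [← h2] at h3
  simpa using h3

/-- MathComp `cardSg_cyclic`. -/
theorem cyc_le_of_card_dvd [Finite G] {H K L : Subgroup G} (h : Cyc H) (hK : K ≤ H) (hL : L ≤ H)
    (hd : ♯K ∣ ♯L) : K ≤ L := fun _ hx =>
  cyc_mem_of_pow_card h hL (hK hx) (orderOf_dvd_iff_pow_eq_one.1 ((orderOf_dvd_card' hx).trans hd))

theorem cyc_eq_of_card_eq [Finite G] {H K L : Subgroup G} (h : Cyc H) (hK : K ≤ H) (hL : L ≤ H)
    (hd : ♯K = ♯L) : K = L :=
  le_antisymm (cyc_le_of_card_dvd h hK hL hd.dvd) (cyc_le_of_card_dvd h hL hK hd.symm.dvd)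

/-- every subgroup of a cyclic subgroup is invariant (MathComp `sub_cyclic_char`). -/
theorem cyc_N_le [Finite G] {H K : Subgroup G} (h : Cyc H) (hK : K ≤ H) : N[H] ≤ N[K] :=
  fun g hg => mem_N_iff_cj.2 (cyc_eq_of_card_eq h (cj_le_of_mem_N hK hg) hK (card_cj g K))

theorem cyc_norm [Finite G] {X H K : Subgroup G} (h : Cyc H) (hK : K ≤ H) (hX : X ≤ N[H]) :
    X ≤ N[K] := hX.trans (cyc_N_le h hK)

theorem H24.Nml.of_cyc [Finite G] {H K M : Subgroup G} (hH : H ⊴ M) (h : Cyc H) (hK : K ≤ H) :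
    K ⊴ M := ⟨hK.trans hH.le, cyc_norm h hK hH.norm⟩

theorem cyc_omegaOne_pnElem [Finite G] {p : ℕ} (hp : p.Prime) {H : Subgroup G} (h : Cyc H)
    (hd : p ∣ ♯H) : PnElem p 1 H (omegaOne p H) := by
  have h1 := omegaOne_pnElem hp (cyc_abl h)
  have h2 := cyc_prank_le_one hp h
  have h3 := (prank_pos_iff hp).2 hd
  rwa [show prank p H = 1 by omega] at h1

theorem H24.PnElem.eq_omegaOne_of_cyc [Finite G] {p : ℕ} {H X : Subgroup G} (hX : PnElem p 1 H X)
    (hp : p.Prime) (h : Cyc H) : omegaOne p H = X :=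
  hX.omegaOne_eq_of_abl hp (cyc_abl h) (cyc_prank_le_one hp h)

/-- two nontrivial subgroups of a cyclic `p`-group meet nontrivially; both contain `Ω₁`. -/
theorem cyc_omegaOne_le [Finite G] {p : ℕ} {H K : Subgroup G} (h : Cyc H) (hK : K ≤ H)
    (hp : p.Prime) (hd : p ∣ ♯K) : omegaOne p H ≤ K := by
  obtain ⟨X, hX⟩ := exists_pnElem_one hp hd
  rw [(hX.mono hK).eq_omegaOne_of_cyc hp h]
  exact hX.le

/-- subgroups of a cyclic `p`-group are linearly ordered. -/
theorem cyc_pgroup_le_total [Finite G] {p : ℕ} (hp : p.Prime) {H K L : Subgroup G} (h : Cyc H)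
    (hK : K ≤ H) (hL : L ≤ H) (hKp : IsPi {p} K) (hLp : IsPi {p} L) : K ≤ L ∨ L ≤ K := by
  obtain ⟨m, hm⟩ := isPi_single_card hp hKp
  obtain ⟨n, hn⟩ := isPi_single_card hp hLp
  rcases le_total m n with hmn | hmn
  · exact Or.inl (cyc_le_of_card_dvd h hK hL (by rw [hm, hn]; exact pow_dvd_pow p hmn))
  · exact Or.inr (cyc_le_of_card_dvd h hL hK (by rw [hm, hn]; exact pow_dvd_pow p hmn))

/-- the automorphism group of a cyclic group is abelian: `[N(H), N(H)] ≤ C(H)`. -/
theorem cyc_der1_norm_le_cent {H X : Subgroup G} (h : Cyc H) (hX : X ≤ N[H]) : ⁅X, X⁆ ≤ C[H] := by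
  obtain ⟨x, rfl⟩ := cyc_exists_zpowers h
  rw [C_zpowers, Subgroup.commutator_le]
  intro a ha b hb
  obtain ⟨m, hm⟩ := conj_mem' (hX ha) (Subgroup.mem_zpowers x)
  obtain ⟨n, hn⟩ := conj_mem' (hX hb) (Subgroup.mem_zpowers x)
  simp only at hm hn
  have key : ∀ {c d : G} {k l : ℤ}, x ^ k = c⁻¹ * x * c → x ^ l = d⁻¹ * x * d →
      (c * d)⁻¹ * x * (c * d) = x ^ (k * l) := by
    intro c d k l hk hl
    have : (c * d)⁻¹ * x * (c * d) = d⁻¹ * (c⁻¹ * x * c) * d := by group
    rw [this, ← hk, mul_comm k l, zpow_mul, hl]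
    have := conj_zpow (a := d⁻¹) (b := x) (i := k)
    rw [inv_inv] at this
    exact this.symm
  have h1 := key hm hn
  have h2 := key hn hm
  rw [mul_comm n m, ← h1] at h2
  rw [mem_C1_iff_conj, commutatorElement_def]
  have : a * b * a⁻¹ * b⁻¹ * x * (a * b * a⁻¹ * b⁻¹)⁻¹ =
      (a * b) * ((b * a)⁻¹ * x * (b * a)) * (a * b)⁻¹ := by group
  rw [this, h2]
  group

/-! ## groups of rank one -/

theorem mul_pow_of_comm_central {P : Type*} [Group P] {x y c : P} (h : y * x = c * x * y)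
    (hx : Commute c x) (hy : Commute c y) (n : ℕ) :
    y ^ n * x = c ^ n * x * y ^ n ∧ (x * y) ^ n = x ^ n * y ^ n * c ^ n.choose 2 := by
  induction n with
  | zero => simp
  | succ n ih =>
    obtain ⟨h1, h2⟩ := ih
    have e1 : y ^ (n + 1) * x = c ^ (n + 1) * x * y ^ (n + 1) := by
      calc y ^ (n + 1) * x = y * (y ^ n * x) := by rw [pow_succ', mul_assoc]
        _ = (y * c ^ n) * x * y ^ n := by rw [h1]; simp only [mul_assoc]
        _ = c ^ n * (y * x) * y ^ n := by
          rw [← (hy.pow_left n).eq]; simp only [mul_assoc]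
        _ = c ^ (n + 1) * x * y ^ (n + 1) := by
          rw [h, pow_succ c, pow_succ' y]; simp only [mul_assoc]
    refine ⟨e1, ?_⟩
    have hc : ∀ k : ℕ, Commute (c ^ k) (x * y) := fun k => (hx.mul_right hy).pow_left k
    calc (x * y) ^ (n + 1) = x ^ n * y ^ n * (c ^ n.choose 2 * (x * y)) := by
          rw [pow_succ, h2]; simp only [mul_assoc]
      _ = x ^ n * (y ^ n * x) * y * c ^ n.choose 2 := by
          rw [(hc _).eq]; simp only [mul_assoc]
      _ = x ^ n * (c ^ n * (x * (y ^ n * y))) * c ^ n.choose 2 := by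
          rw [h1]; simp only [mul_assoc]
      _ = x ^ n * ((x * (y ^ n * y)) * c ^ n) * c ^ n.choose 2 := by
          rw [((hx.mul_right ((hy.pow_right n).mul_right hy)).pow_left n).eq]
      _ = x ^ (n + 1) * y ^ (n + 1) * c ^ (n + 1).choose 2 := by
          rw [Nat.choose_succ_succ' n 1, Nat.choose_one_right, pow_add c, pow_succ x, pow_succ y]
          simp only [mul_assoc]

/-- a finite `p`-group, `p` odd, of rank at most one is cyclic (type form). -/
theorem isCyclic_of_pRankLE_one {p : ℕ} (hp : p.Prime) (hp2 : p ≠ 2) (n : ℕ) :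
    ∀ (P : Type u) [Group P] [Finite P], Nat.card P = n → IsPGroup p P → PRankLE p 1 P →
      IsCyclic P := by
  have := Fact.mk hp
  induction n using Nat.strong_induction_on with
  | _ n ih =>
  intro P _ _ hn hP hr
  by_contra hc
  have hsub : ∀ M : Subgroup P, M ≠ ⊤ → IsCyclic M := fun M hM =>
    ih _ (hn ▸ H2.card_lt_of_ne_top hM) M rfl (hP.to_subgroup M)
      ((prank_le_iff hp).1 ((prank_mono hp le_top).trans ((prank_top_le_iff hp).2 hr)))
  have hZ : ∀ z ∈ frattini P, ∀ x : P, Commute z x := by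
    intro z hz x
    have hx : Subgroup.zpowers x ≠ ⊤ := fun h => hc (isCyclic_iff_exists_zpowers_eq_top.2 ⟨x, h⟩)
    obtain ⟨M, hM, hxM⟩ := exists_coatom hx
    exact (cyc_abl (hsub M hM.1)).comm (H2.mem_frattini_iff.1 hz M hM)
      (hxM (Subgroup.mem_zpowers x))
  have hmul : ∀ x y : P, (x * y) ^ p = x ^ p * y ^ p := by
    intro x y
    have hcF : y * x * y⁻¹ * x⁻¹ ∈ frattini P :=
      H2.IsPGroup.commutator_le_frattini hP
        (Subgroup.commutator_mem_commutator (Subgroup.mem_top y) (Subgroup.mem_top x))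
    obtain ⟨h1, h2⟩ := mul_pow_of_comm_central (x := x) (y := y) (c := y * x * y⁻¹ * x⁻¹)
      (by group) (hZ _ hcF x) (hZ _ hcF y) p
    rw [(hZ _ (H2.IsPGroup.pow_mem_frattini hP y) x).eq, mul_left_inj] at h1
    have h3 : (y * x * y⁻¹ * x⁻¹) ^ p = 1 := by simpa using h1.symm
    obtain ⟨k, hk⟩ : p ∣ p.choose 2 :=
      hp.dvd_choose_self two_ne_zero (lt_of_le_of_ne hp.two_le (Ne.symm hp2))
    rw [h2, hk, pow_mul, h3, one_pow, mul_one]
  let f : P →* P := MonoidHom.mk' (fun x => x ^ p) hmul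
  have hnt : Nontrivial P := Nontrivial.of_not_isCyclic hc
  have hker : Nat.card f.ker ≤ p := by
    have hE : IsElementaryAbelian p f.ker := by
      refine ⟨?_, fun a ha => ha⟩
      by_cases ht : f.ker = ⊤
      · -- then the Frattini subgroup is generated by commutators; use a central element
        obtain ⟨z, hz, hz1⟩ := exists_ne_one (hP.bot_lt_center).ne'
        have hzp : z ^ p = 1 := by have : z ∈ f.ker := ht ▸ Subgroup.mem_top z; exact this
        have hX := pnElem_zpowers (Subgroup.mem_top z) (orderOf_eq_prime hzp hz1)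
        have hmax := hX.pmaxElem_of_prank hp ((prank_top_le_iff hp).2 hr)
        have : f.ker ≤ Subgroup.zpowers z := fun a ha => hmax.mem_of_cent (Subgroup.mem_top a)
          (by rw [C_zpowers, mem_C1]; exact (Subgroup.mem_center_iff.1 hz a)) ha
        exact abl_mono (abl_zpowers z) this
      · exact cyc_abl (hsub _ ht)
    simpa using hr _ hE.1 hE.2
  have hran : f.range ≤ frattini P := by
    rintro _ ⟨x, rfl⟩
    exact H2.IsPGroup.pow_mem_frattini hP x
  have h1 : Nat.card P = Nat.card f.ker * Nat.card f.range := by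
    rw [← Subgroup.card_mul_index f.ker, Subgroup.index_ker]
  have h2 := (frattini P).card_mul_index
  have h3 := Nat.le_of_dvd (Nat.pos_of_ne_zero Subgroup.index_ne_zero_of_finite)
    (H2.IsPGroup.sq_dvd_index_frattini hP hc)
  have h4 := card_le hran
  have h5 := card_pos (frattini P)
  have h6 : Nat.card P ≤ p * Nat.card (frattini P) := h1 ▸ Nat.mul_le_mul hker h4
  have h7 : Nat.card (frattini P) * p ^ 2 ≤ Nat.card P := h2 ▸ Nat.mul_le_mul_left _ h3
  have h8 : p * p ≤ p * 1 := by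
    have : Nat.card (frattini P) * (p * p) ≤ Nat.card (frattini P) * (p * 1) := by
      calc _ = Nat.card (frattini P) * p ^ 2 := by rw [sq]
        _ ≤ _ := h7
        _ ≤ _ := h6
        _ = _ := by ring
    exact Nat.le_of_mul_le_mul_left this h5
  have := Nat.le_of_mul_le_mul_left h8 hp.pos
  exact absurd hp.one_lt (by omega)

theorem ne_two_of_odd_dvd {p n : ℕ} (hn : Odd n) (h : p ∣ n) : p ≠ 2 := by
  rintro rfl
  exact (Nat.not_even_iff_odd.2 hn) (even_iff_two_dvd.2 h)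

/-- MathComp `odd_pgroup_rank1_cyclic`. -/
theorem odd_pgroup_rank1_cyclic [Finite G] {p : ℕ} (hp : p.Prime) {P : Subgroup G}
    (hP : IsPi {p} P) (hodd : Odd ♯P) : Cyc P ↔ prank p P ≤ 1 := by
  refine ⟨cyc_prank_le_one hp, fun h => ?_⟩
  by_cases h1 : P = ⊥
  · rw [h1]; exact cyc_bot
  · exact isCyclic_of_pRankLE_one hp (ne_two_of_odd_dvd hodd (isPi_single_dvd hP h1)) _ P rfl
      ((isPi_single_iff hp).1 hP) ((prank_le_iff hp).1 h)

theorem odd_pgroup_cyc [Finite G] {p : ℕ} (hp : p.Prime) {P : Subgroup G}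
    (hP : IsPi {p} P) (hodd : Odd ♯P) (h : prank p P ≤ 1) : Cyc P :=
  (odd_pgroup_rank1_cyclic hp hP hodd).2 h

theorem odd_pgroup_two_le_prank [Finite G] {p : ℕ} (hp : p.Prime) {P : Subgroup G}
    (hP : IsPi {p} P) (hodd : Odd ♯P) (h : ¬ Cyc P) : 2 ≤ prank p P := by
  by_contra hlt
  exact h (odd_pgroup_cyc hp hP hodd (by omega))

/-- MathComp `odd_rank1_Zgroup`. -/
theorem odd_rank1_Zgroup [Finite G] {H : Subgroup G} (hodd : Odd ♯H) :
    IsZGroup H ↔ rank H ≤ 1 := by
  constructor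
  · intro h
    by_contra hlt
    obtain ⟨p, hp, A, hA⟩ := rank_geP.1 (show 2 ≤ rank H by omega)
    have := Fact.mk hp
    have hc : IsCyclic (A.subgroupOf H) :=
      IsPGroup.isCyclic_of_isZGroup (hA.elem.subgroupOf H).isPGroup
    have := cyc_map hc H.subtype
    rw [Subgroup.subgroupOf_map_subtype, inf_eq_left.2 hA.le] at this
    exact hA.not_cyc hp le_rfl this
  · intro h
    refine ⟨fun p hp P => ?_⟩
    refine odd_pgroup_cyc hp ((isPi_single_iff hp).2 P.isPGroup')
      (hodd.of_dvd_nat (Subgroup.card_subgroup_dvd_card _)) ?_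
    exact (prank_mono hp le_top).trans ((prank_top_subtype hp H).le.trans
      ((prank_le_rank hp H).trans h))

/-- MathComp `nil_Zgroup_cyclic`. -/
theorem nil_Zgroup_cyclic [Finite G] {H : Subgroup G} (hZ : IsZGroup H) (hn : Nil H) : Cyc H :=
  inferInstance

/-- a nilpotent group of odd order and rank at most one is cyclic. -/
theorem odd_nil_rank1_cyclic [Finite G] {H : Subgroup G} (hn : Nil H) (hodd : Odd ♯H)
    (h : rank H ≤ 1) : Cyc H := nil_Zgroup_cyclic ((odd_rank1_Zgroup hodd).2 h) hn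

theorem odd_nil_two_le_rank [Finite G] {H : Subgroup G} (hn : Nil H) (hodd : Odd ♯H)
    (h : ¬ Cyc H) : 2 ≤ rank H := by
  by_contra hlt
  exact h (odd_nil_rank1_cyclic hn hodd (by omega))

/-- MathComp `abelian_rank1_cyclic`. -/
theorem abelian_rank1_cyclic [Finite G] {H : Subgroup G} (hH : Abl H) : Cyc H ↔ rank H ≤ 1 := by
  classical
  refine ⟨cyc_rank_le_one, fun h => ?_⟩
  have hZ : IsZGroup H := by
    refine ⟨fun p hp P => ?_⟩
    have := Fact.mk hp
    have hr : prank p (⊤ : Subgroup H) ≤ 1 :=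
      (prank_top_subtype hp H).le.trans ((prank_le_rank hp H).trans h)
    -- an abelian `p`-group of rank one is cyclic: Frattini quotient argument
    by_contra hc
    let Q := (P : Subgroup H)
    have hQ : IsPGroup p Q := P.isPGroup'
    have hmul : ∀ x y : Q, (x * y) ^ p = x ^ p * y ^ p := fun x y =>
      Commute.mul_pow (mul_comm' x y) p
    let f : Q →* Q := MonoidHom.mk' (fun x => x ^ p) hmul
    have hker : Nat.card f.ker ≤ p := by
      have hE : IsElementaryAbelian p f.ker := ⟨inferInstance, fun a ha => ha⟩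
      have h1 : prank p (⊤ : Subgroup Q) ≤ 1 :=
        (prank_top_subtype hp Q).le.trans ((prank_mono hp le_top).trans hr)
      simpa using (prank_top_le_iff hp).1 h1 _ hE.1 hE.2
    have hran : f.range ≤ frattini Q := by
      rintro _ ⟨x, rfl⟩
      exact H2.IsPGroup.pow_mem_frattini hQ x
    have h1 : Nat.card Q = Nat.card f.ker * Nat.card f.range := by
      rw [← Subgroup.card_mul_index f.ker, Subgroup.index_ker]
    have h2 := (frattini Q).card_mul_index
    have h3 := Nat.le_of_dvd (Nat.pos_of_ne_zero Subgroup.index_ne_zero_of_finite)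
      (H2.IsPGroup.sq_dvd_index_frattini hQ hc)
    have h4 := card_le hran
    have h5 := card_pos (frattini Q)
    have h6 : Nat.card Q ≤ p * Nat.card (frattini Q) := h1 ▸ Nat.mul_le_mul hker h4
    have h7 : Nat.card (frattini Q) * p ^ 2 ≤ Nat.card Q := h2 ▸ Nat.mul_le_mul_left _ h3
    have h8 : p * p ≤ p * 1 := by
      have : Nat.card (frattini Q) * (p * p) ≤ Nat.card (frattini Q) * (p * 1) := by
        calc _ = Nat.card (frattini Q) * p ^ 2 := by rw [sq]
          _ ≤ _ := h7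
          _ ≤ _ := h6
          _ = _ := by ring
      exact Nat.le_of_mul_le_mul_left this h5
    have := Nat.le_of_mul_le_mul_left h8 hp.pos
    exact absurd hp.one_lt (by omega)
  exact nil_Zgroup_cyclic hZ (H2.isNilpotent_of_isMulCommutative H)

theorem abl_pgroup_cyc [Finite G] {p : ℕ} (hp : p.Prime) {H : Subgroup G} (hH : Abl H)
    (hP : IsPi {p} H) (h : prank p H ≤ 1) : Cyc H :=
  (abelian_rank1_cyclic hH).2 ((rank_pgroup hp hP).le.trans h)

/-- a noncyclic abelian group contains a member of `E_p^2` for some `p`. -/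
theorem abl_exists_pnElem_two [Finite G] {H : Subgroup G} (hH : Abl H) (h : ¬ Cyc H) :
    ∃ p : ℕ, p.Prime ∧ ∃ A, PnElem p 2 H A := by
  rw [abelian_rank1_cyclic hH] at h
  exact rank_geP.1 (by omega)

/-- a noncyclic elementary abelian group has rank at least two. -/
theorem Cfsg.IsElementaryAbelian.two_le_prank [Finite G] {p : ℕ} {A : Subgroup G}
    (h : IsElementaryAbelian p A) (hp : p.Prime) (hc : ¬ Cyc A) : 2 ≤ prank p A := by
  by_contra hlt
  exact hc (abl_pgroup_cyc hp h.abl (h.isPi hp) (by omega))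

/-! ## rank of Hall subgroups -/

/-- a `p`-subgroup of `M` is conjugate into any subgroup of `p'`-index. -/
theorem exists_cj_le_of_not_dvd_relIndex [Finite G] {p : ℕ} (hp : p.Prime) {M H A : Subgroup G}
    (hi : ¬ p ∣ H.relIndex M) (hA : A ≤ M) (hAp : IsPi {p} A) :
    ∃ m ∈ M, cj m A ≤ H := by
  have := Fact.mk hp
  obtain ⟨S, hS⟩ := (((isPi_single_iff hp).1 hAp).comap_subtype (K := M)).exists_le_sylow
  obtain ⟨T⟩ : Nonempty (Sylow p (H.subgroupOf M)) := inferInstance
  have hT : ¬ p ∣ ((T : Subgroup (H.subgroupOf M)).map (H.subgroupOf M).subtype).index := by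
    rw [Subgroup.index_map_subtype]
    exact hp.not_dvd_mul T.not_dvd_index hi
  let T' : Sylow p M := (T.isPGroup'.map (H.subgroupOf M).subtype).toSylow hT
  obtain ⟨m, hm⟩ := MulAction.exists_smul_eq M S T'
  refine ⟨m, m.2, ?_⟩
  intro x hx
  obtain ⟨a, ha, rfl⟩ := mem_cj'.1 hx
  have h1 : (⟨a, hA ha⟩ : M) ∈ (S : Subgroup M) := hS ha
  have h2 : m * ⟨a, hA ha⟩ * m⁻¹ ∈ ((m • S : Sylow p M) : Subgroup M) := by
    rw [Sylow.coe_subgroup_smul]
    exact Subgroup.smul_mem_pointwise_smul _ (MulAut.conj m) _ h1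
  rw [hm] at h2
  exact Subgroup.map_subtype_le (T : Subgroup (H.subgroupOf M)) h2

theorem prank_eq_of_not_dvd_relIndex [Finite G] {p : ℕ} (hp : p.Prime) {M H : Subgroup G}
    (hH : H ≤ M) (hi : ¬ p ∣ H.relIndex M) : prank p H = prank p M := by
  refine le_antisymm (prank_mono hp hH) ?_
  obtain ⟨A, hA⟩ := prank_witness hp M
  obtain ⟨m, -, hm⟩ := exists_cj_le_of_not_dvd_relIndex hp hi hA.le (hA.isPi hp)
  exact ((hA.cj m).of_le hm).le_prank hp

/-- MathComp `p_rank_Hall`. -/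
theorem prank_Hall [Finite G] {π : Set ℕ} {p : ℕ} (hp : p.Prime) {M H : Subgroup G}
    (h : Hall π M H) (hπ : p ∈ π) : prank p H = prank p M :=
  prank_eq_of_not_dvd_relIndex hp h.1 (h.2.2 p hp hπ)

/-- MathComp `p_rank_Sylow`. -/
theorem prank_Syl [Finite G] {p : ℕ} (hp : p.Prime) {M P : Subgroup G} (h : Syl p M P) :
    prank p P = prank p M := prank_Hall hp h rfl

/-- MathComp `rank_Sylow`. -/
theorem rank_Syl [Finite G] {p : ℕ} (hp : p.Prime) {M P : Subgroup G} (h : Syl p M P) :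
    rank P = prank p M := by rw [rank_pgroup hp h.2.1, prank_Syl hp h]

/-- the rank of a `π`-group is attained at a prime of `π` (when it is positive). -/
theorem rank_le_of_isPi [Finite G] {π : Set ℕ} {k : ℕ} {H : Subgroup G} (hH : IsPi π H)
    (h : ∀ p : ℕ, p.Prime → p ∈ π → prank p H ≤ k) : rank H ≤ k := by
  refine rank_le_iff_prank.2 fun p hp => ?_
  by_cases hd : p ∣ ♯H
  · exact h p hp (hH p hp hd)
  · rw [(prank_eq_zero_iff hp).2 hd]; exact Nat.zero_le _

theorem exists_prank_of_rank [Finite G] {π : Set ℕ} {n : ℕ} {H : Subgroup G} (hH : IsPi π H)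
    (hn : 0 < n) (h : n ≤ rank H) : ∃ p : ℕ, p.Prime ∧ p ∈ π ∧ n ≤ prank p H := by
  obtain ⟨p, hp, h1⟩ := le_rank_iff.1 h
  exact ⟨p, hp, hH p hp ((prank_pos_iff hp).1 (hn.trans_le h1)), h1⟩

/-! ## `SCN` -/

theorem Cfsg.IsSCN.le {P A : Subgroup G} (h : IsSCN P A) : A ≤ P := h.1
theorem Cfsg.IsSCN.norm {P A : Subgroup G} (h : IsSCN P A) : P ≤ N[A] := h.2.1
theorem Cfsg.IsSCN.nml {P A : Subgroup G} (h : IsSCN P A) : A ⊴ P := ⟨h.1, h.2.1⟩
theorem Cfsg.IsSCN.cent {P A : Subgroup G} (h : IsSCN P A) : P ⊓ C[A] = A := h.2.2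
theorem Cfsg.IsSCN.abl {P A : Subgroup G} (h : IsSCN P A) : Abl A :=
  abl_iff_le_cent.2 (h.cent.ge.trans inf_le_right)
theorem Cfsg.IsSCN.center_le {P A : Subgroup G} (h : IsSCN P A) : Z[P] ≤ A :=
  (inf_le_inf_left P (C_anti h.le)).trans h.cent.le

theorem Cfsg.IsSCN.cj {P A : Subgroup G} (h : IsSCN P A) (g : G) :
    IsSCN (H24.cj g P) (H24.cj g A) :=
  ⟨cj_mono g h.le, norm_cj h.norm g, by rw [← cj_C, ← cj_inf, h.cent]⟩

/-- in a nilpotent group every abelian normal subgroup lies in a self-centralising one. -/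
theorem exists_SCN [Finite G] {P B : Subgroup G} (hP : Nil P) (hB : B ⊴ P) (hBa : Abl B) :
    ∃ A, IsSCN P A ∧ B ≤ A := by
  have := hB.normal
  obtain ⟨N, h1, h2, h3, h4⟩ := H2.exists_selfCentralizing_normal_ge (B.subgroupOf P)
  refine ⟨N.map P.subtype, ⟨Subgroup.map_subtype_le _, (nml_map_subtype N).norm, ?_⟩, ?_⟩
  · have := map_inf_C P.subtype_injective ⊤ N
    rw [top_inf_eq, h4, ← MonoidHom.range_eq_map, Subgroup.range_subtype] at this
    exact this.symm
  · intro x hx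
    exact ⟨⟨x, hB.le hx⟩, h1 hx, rfl⟩

end H25
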