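import Mathlib
import Cfsg.Agent.H23.Ext
import Cfsg.Agent.H2.Quaternion

/-!
# Standard subgroups: elementary facts
-/

set_option autoImplicit false
set_option linter.unusedSectionVars false

namespace H25.LB

open Cfsg Subgroup H23
open scoped commutatorElement

variable {G : Type*} [Group G] [Finite G]

theorem exists_invol_of_not_odd {H : Subgroup G} (h : ¬ Odd (Nat.card H)) :
    ∃ y ∈ H, orderOf y = 2 := by
  haveI : Fact (Nat.Prime 2) := ⟨Nat.prime_two⟩
  obtain ⟨y, hy⟩ := exists_prime_orderOf_dvd_card' (G := H) 2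
    (even_iff_two_dvd.mp (Nat.not_odd_iff_even.mp h))
  exact ⟨y, y.2, by rw [← hy, orderOf_coe]⟩

theorem even_card_of_invol {H : Subgroup G} {y : G} (hy : y ∈ H) (ho : orderOf y = 2) :
    Even (Nat.card H) := even_iff_two_dvd.mpr (ho ▸ orderOf_dvd_natCard H hy)

theorem orderOf_conj_inv (y g : G) : orderOf (g⁻¹ * y * g) = orderOf y := by
  have := orderOf_injective (MulAut.conj g⁻¹).toMonoidHom (MulAut.conj g⁻¹).injective y
  simpa using this

theorem orderOf_conj' (y g : G) : orderOf (g * y * g⁻¹) = orderOf y := by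
  simpa using orderOf_conj_inv y g⁻¹

theorem standard_of_nonembedded {x : G} (hx : orderOf x = 2) {L : Subgroup G}
    (hL : IsCompOf L (centralizer {x}))
    (hne : ∀ y : G, orderOf y = 2 → y ∈ centralizer (L : Set G) → IsCompOf L (centralizer {y}))
    (hnc : ∀ g : G, L.map (MulAut.conj g).toMonoidHom ≠ L →
      ⁅L, L.map (MulAut.conj g).toMonoidHom⁆ ≠ ⊥) : IsStandardSubgroup L := by
  have hxC : x ∈ centralizer (L : Set G) := fun l hl => mem_centralizer_singleton_iff.mp (hL.1 hl)
  have key : ∀ g y : G, orderOf y = 2 → y ∈ centralizer (L : Set G) →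
      y ∈ (centralizer (L : Set G)).map (MulAut.conj g).toMonoidHom →
      g ∈ normalizer (L : Set G) := by
    intro g y hy h1 h2
    rw [mem_map_conj] at h2
    have h3 := (hne _ (by rw [orderOf_conj_inv, hy]) h2).conj g
    rw [map_conj_centralizer_singleton, show g * (g⁻¹ * y * g) * g⁻¹ = y by group] at h3
    rw [mem_normalizer_iff_map_conj]
    by_contra h4
    rcases (hne y hy h1).eq_or_comm h3 with h | h
    · exact h4 h.symm
    · exact hnc g h4 h
  refine ⟨hL.quasisimple, ⟨even_card_of_invol hxC hx, fun g hg => ?_⟩, hnc,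
    le_antisymm (normalizer_le_normalizer_centralizer L) fun g hg => ?_⟩
  · by_contra h
    obtain ⟨y, hy, ho⟩ := exists_invol_of_not_odd h
    exact hg (normalizer_le_normalizer_centralizer L (key g y ho hy.1 hy.2))
  · refine key g x hx hxC ?_
    rw [mem_normalizer_iff_map_conj.mp hg]; exact hxC

theorem not_isCyclic_sylow_of_perfect {X : Type*} [Group X] [Finite X] (hX : commutator X = ⊤)
    (he : 2 ∣ Nat.card X) (S : Sylow 2 X) : ¬ IsCyclic S := by
  haveI : Fact (Nat.Prime 2) := ⟨Nat.prime_two⟩
  intro hS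
  have hp : (Nat.card X).minFac = 2 := (Nat.minFac_eq_two_iff _).mpr he
  have h1 := IsCyclic.isComplement' hp hS
  have h2 : commutator X ≤ (MonoidHom.transferSylow S (hS.normalizer_le_centralizer hp)).ker := by
    rw [commutator_def, commutator_le]
    intro a _ b _
    rw [MonoidHom.mem_ker, map_commutatorElement, commutatorElement_eq_one_iff_mul_comm]
    exact hS.isMulCommutative.is_comm.comm _ _
  rw [hX, top_le_iff] at h2
  have h3 := h1.index_eq_card
  rw [h2, card_top] at h3
  exact S.not_dvd_index (h3 ▸ he)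

theorem sylow_quaternion_of_perfect {X : Type*} [Group X] [Finite X] (hX : commutator X = ⊤)
    (he : 2 ∣ Nat.card X) (S : Sylow 2 X) (hu : H2.UniqueOrderP 2 S) :
    ∃ n : ℕ, Nonempty (S ≃* QuaternionGroup (2 ^ (n + 1))) := by
  haveI : Fact (Nat.Prime 2) := ⟨Nat.prime_two⟩
  exact ((hu.isCyclic_or_quaternion S.2).resolve_left (not_isCyclic_sylow_of_perfect hX he S)).2

theorem commutator_eq_top_of_perfect {L : Subgroup G} (h : ⁅L, L⁆ = L) : commutator L = ⊤ := by
  apply map_injective L.subtype_injective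
  rw [commutator_def, map_commutator, map_subtype_top, h]

theorem isSimpleGroup_of_quasisimple {D : Subgroup G} (hD : IsQuasisimple D)
    (hZ : D ⊓ centralizer (D : Set G) = ⊥) : IsSimpleGroup D ∧ ¬ IsMulCommutative D := by
  have hc : center D = ⊥ := by
    apply map_injective D.subtype_injective
    rw [map_subtype_center, hZ, Subgroup.map_bot]
  obtain ⟨-, h2, h3⟩ := isQuasisimple_iff.mp hD
  refine ⟨⟨fun N hN => ?_⟩, fun h => ?_⟩
  · rcases h3 N hN with h | h
    · exact Or.inr h
    · left; rwa [hc, le_bot_iff] at h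
  · exact IsQuasisimple.comm_ne_bot hD
      (comm_bot_iff.mpr (H13.isMulCommutative_iff_forall_mem.mp h))

end H25.LB
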