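import Mathlib
import Cfsg.Agent.H25.Std0

/-!
# Bender's maximal subgroup theorem
-/

set_option autoImplicit false
set_option linter.unusedSectionVars false

namespace H25.Bd

open Cfsg Subgroup H23
open scoped commutatorElement

variable {G : Type*} [Group G] [Finite G]

/-- `F(H)` as a subgroup of the ambient group. -/
abbrev fit (H : Subgroup G) : Subgroup G := (fittingSubgroup H).map H.subtype

/-- `F*(H)` as a subgroup of the ambient group. -/
abbrev fs (H : Subgroup G) : Subgroup G := (generalizedFittingSubgroup H).map H.subtype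

theorem fs_eq (H : Subgroup G) : fs H = lay H ⊔ fit H := Subgroup.map_sup _ _ _

theorem le_normalizer_fs (H : Subgroup G) : H ≤ normalizer ((fs H : Subgroup G) : Set G) :=
  le_normalizer_map_subtype_of_normal _

theorem le_normalizer_lay (H : Subgroup G) : H ≤ normalizer ((lay H : Subgroup G) : Set G) :=
  le_normalizer_map_subtype_of_normal _

theorem le_normalizer_fit (H : Subgroup G) : H ≤ normalizer ((fit H : Subgroup G) : Set G) :=
  le_normalizer_map_subtype_of_normal _

theorem inf_centralizer_fs_le (H : Subgroup G) :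
    H ⊓ centralizer ((fs H : Subgroup G) : Set G) ≤ fs H := by
  intro x hx
  refine ⟨⟨x, hx.1⟩, centralizer_fstar_le (fun y hy => Subtype.ext (hx.2 y ⟨y, hy, rfl⟩)), rfl⟩

theorem op_le_fit (p : ℕ) [Fact p.Prime] (H : Subgroup G) : op p H ≤ fit H :=
  map_mono (H2.pCore_le_fitting p)

theorem le_op_of_le_fit {p : ℕ} [Fact p.Prime] {H X : Subgroup G} (hX : IsPGroup p X)
    (h : X ≤ fit H) : X ≤ op p H := by
  have hXH : X ≤ H := h.trans (map_subtype_le _)
  rw [← map_subgroupOf_eq_of_le hXH]
  refine map_mono (H2.le_pCore_of_le_fitting hX.comap_subtype ?_)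
  rw [← comap_map_subtype (fittingSubgroup H)]
  exact comap_mono h

theorem fit_le_of {H X : Subgroup G} (h : ∀ p : ℕ, p.Prime → op p H ≤ X) : fit H ≤ X := by
  rw [map_le_iff_le_comap, H2.fitting_eq_iSup_pCore]
  exact iSup_le fun p => map_le_iff_le_comap.mp (h p p.2)

theorem le_fit {H X : Subgroup G} (hle : X ≤ H) (hn : H ≤ normalizer (X : Set G))
    (h : Group.IsNilpotent X) : X ≤ fit H := by
  rw [← map_subgroupOf_eq_of_le hle]
  exact map_mono (H2.le_fitting ((normal_subgroupOf_iff_le_normalizer hle).mpr hn)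
    (H2.isNilpotent_subgroupOf h H))

theorem fit_isNilpotent (H : Subgroup G) : Group.IsNilpotent (fit H) :=
  H2.isNilpotent_map (H2.fitting_isNilpotent H) _

theorem op_le_opp {p q : ℕ} [Fact p.Prime] [Fact q.Prime] (h : q ≠ p) (H : Subgroup G) :
    op q H ≤ opp p H := map_mono (H2.pCore_le_pPrimeCore h)

theorem fit_le_op_sup (q : ℕ) [Fact q.Prime] (H : Subgroup G) :
    fit H ≤ op q H ⊔ (fit H ⊓ opp q H) := fit_le_of fun p hp => by
  haveI := Fact.mk hp
  by_cases h : p = q
  · subst h; exact le_sup_left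
  · exact le_sup_of_le_right (le_inf (op_le_fit p H) (op_le_opp h H))

/-- `M` is the normalizer of each of its nontrivial normal subgroups. -/
def Prim (M : Subgroup G) : Prop :=
  ∀ X : Subgroup G, X ≤ M → X ≠ ⊥ → M ≤ normalizer (X : Set G) → normalizer (X : Set G) = M

theorem prim_of_coatom [IsSimpleGroup G] {M : Subgroup G} (hM : IsCoatom M) : Prim M := by
  intro X h1 h2 h3
  refine (hM.le_iff.mp h3).resolve_left fun h => ?_
  rcases (normalizer_eq_top_iff.mp h).eq_bot_or_eq_top with h4 | h4
  · exact h2 h4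
  · exact hM.1 (top_le_iff.mp (h4 ▸ h1))

theorem lay_inf_eq {M N : Subgroup G} (h1 : fs M ≤ N) : lay (M ⊓ N) = lay M := by
  apply le_antisymm
  · refine lay_le_of fun K hK => ?_
    have hY : fs M ≤ M ⊓ N := le_inf (map_subtype_le _) h1
    have hKM : K ≤ M := hK.1.trans inf_le_left
    have hKY : K ≤ fs M := (hK.le_or_comm hY (hKM.trans (le_normalizer_fs M))).elim id fun h =>
      (le_inf hKM (le_centralizer_of_comm_bot h)).trans (inf_centralizer_fs_le M)
    exact ((hK.of_le hKY hY).trans (map_subtype_le _)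
      (isSubnormal_subgroupOf_of_le_normalizer (le_normalizer_fs M))).le_lay
  · refine lay_le_of fun K hK => (hK.of_le (le_inf hK.1 (hK.le_lay.trans ?_)) inf_le_left).le_lay
    exact le_trans (by rw [fs_eq]; exact le_sup_left) h1

section
variable {M N : Subgroup G} (h1 : fit M ≤ N) (h2 : fit N ≤ M)
include h1

theorem op_le_op_inf (p : ℕ) [Fact p.Prime] : op p M ≤ op p (M ⊓ N) :=
  le_op (le_inf (op_le p M) ((op_le_fit p M).trans h1))
    (inf_le_left.trans (le_normalizer_op p le_normalizer)) (op_isPGroup p M)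

include h2

theorem op_comm (q : ℕ) [Fact q.Prime] : ⁅op q M, fit N ⊓ opp q N⁆ = ⊥ :=
  comm_bot_mono (op_comm_opp q (M ⊓ N)) (op_le_op_inf h1 q)
    (le_opp (le_inf (inf_le_left.trans h2) (inf_le_left.trans (map_subtype_le _)))
      (inf_le_right.trans (le_normalizer_inf (le_normalizer_fit N)
        (le_normalizer_opp q le_normalizer))) (cop_of_le (opp_cop q N) inf_le_right))

theorem op_ne_bot (hC : N ⊓ centralizer ((fit N : Subgroup G) : Set G) ≤ fit N) {q : ℕ}
    [Fact q.Prime] (h : op q M ≠ ⊥) : op q N ≠ ⊥ := by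
  intro h3
  have h4 : fit N ≤ fit N ⊓ opp q N := by
    have := fit_le_op_sup q N
    rwa [h3, bot_sup_eq] at this
  have h5 : op q M ≤ fit N := (le_inf ((op_le_fit q M).trans h1) (le_centralizer_of_comm_bot
    (comm_bot_mono (op_comm h1 h2 q) le_rfl h4))).trans hC
  exact h (le_bot_iff.mp (h3 ▸ le_op_of_le_fit (op_isPGroup q M) h5))

theorem op_le_op (hM : Prim M) (hN : Prim N)
    (hC : N ⊓ centralizer ((fit N : Subgroup G) : Set G) ≤ fit N) {p q : ℕ} [hp : Fact p.Prime]
    [Fact q.Prime] (hpq : p ≠ q) (h : op p M ≠ ⊥) : op q M ≤ op q N := by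
  set D := fit N ⊓ opp q N with hD
  have hpD : op p N ≤ D := le_inf (op_le_fit p N) (op_le_opp hpq N)
  have hND : N ≤ normalizer (D : Set G) :=
    le_normalizer_inf (le_normalizer_fit N) (le_normalizer_opp q le_normalizer)
  have hCN : centralizer (D : Set G) ≤ N := (centralizer_le_normalizer _).trans
    (hN D (inf_le_left.trans (map_subtype_le _))
      (fun e => op_ne_bot h1 h2 hC h (le_bot_iff.mp (e ▸ hpD))) hND).le
  set C := centralizer (D : Set G) with hCe
  have hNC : N ≤ normalizer (C : Set G) := le_normalizer_centralizer hND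
  set P := op p M with hP
  have hPN : P ≤ N := (op_le_fit p M).trans h1
  have hPq : P ≤ centralizer ((op q N : Subgroup G) : Set G) := le_centralizer_of_comm_bot
    (comm_bot_mono (op_comm h1 h2 p) le_rfl (le_inf (op_le_fit q N) (op_le_opp hpq.symm N)))
  have hZ : ⁅P, C⁆ ≤ fit N := by
    refine le_trans (le_inf ((commutator_le_right_of (hPN.trans hNC)).trans hCN) ?_) hC
    refine le_trans ?_ (centralizer_le (fit_le_op_sup q N))
    rw [centralizer_sup]
    refine le_inf ((commutator_mono hPq le_rfl).trans (commutator_le_left_of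
      (hCN.trans (le_normalizer_centralizer (le_normalizer_op q le_normalizer))))) ?_
    exact commutator_le_right_of (hPN.trans hNC)
  have hFH : fit N ≤ fit (M ⊓ N) := le_fit (le_inf h2 (map_subtype_le _))
    (inf_le_right.trans (le_normalizer_fit N)) (fit_isNilpotent N)
  have hZp : ⁅P, C⁆ ≤ op p (M ⊓ N) := by
    rw [commutator_le]
    intro x hx c hc
    have h3 : P.map (MulAut.conj c).toMonoidHom ≤ op p (M ⊓ N) := by
      refine le_op_of_le_fit ((op_isPGroup p M).map _) ?_
      rintro _ ⟨y, hy, rfl⟩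
      have : (MulAut.conj c).toMonoidHom y = ⁅y, c⁆⁻¹ * y := by
        simp only [MulEquiv.toMonoidHom_eq_coe, MonoidHom.coe_coe, MulAut.conj_apply,
          commutatorElement_def]; group
      rw [this]
      exact mul_mem (inv_mem (hFH (hZ (commutator_mem_commutator hy hc))))
        (op_le_fit p _ (op_le_op_inf h1 p hy))
    have : ⁅x, c⁆ = x * (c * x⁻¹ * c⁻¹) := by simp only [commutatorElement_def]; group
    rw [this]
    exact mul_mem (op_le_op_inf h1 p hx) (h3 ⟨x⁻¹, inv_mem hx, rfl⟩)
  have hZp' : IsPGroup p ↥⁅P, C⁆ := (op_isPGroup p _).to_le hZp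
  have hZD : ⁅P, C⁆ ≤ D := (le_op_of_le_fit hZp' hZ).trans hpD
  have hQ : pGen q C ≤ M := by
    refine le_trans (pGen_le_iff.mpr fun Q hQ hQq y hy => ?_) ((centralizer_le_normalizer _).trans
      (hM P (op_le p M) h (le_normalizer_op p le_normalizer)).le)
    refine H13.mem_centralizer_of_stabilizes hZp' ?_
      (fun t ht => commutator_mem_commutator ht (hQ hy)) (centralizer_le hZD (hQ hy))
    exact H13.orderOf_coprime_of_mem (H2.IsPGroup.card_coprime_of_ne hQq hpq.symm) hy
  have h3 : op q M ≤ pGen q C := le_pGen (le_centralizer_of_comm_bot (op_comm h1 h2 q))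
    (op_isPGroup q M)
  refine le_op_of_isSubnormal ((op_le_fit q M).trans h1) (isSubnormal_subgroupOf_trans h3
    ((pGen_le q C).trans hCN) (isSubnormal_subgroupOf_of_le_normalizer
      (hQ.trans (le_normalizer_op q le_normalizer)))
    (isSubnormal_subgroupOf_of_le_normalizer (hNC.trans (normalizer_le_normalizer_pGen q C))))
    (op_isPGroup q M)

end

theorem bender {M N : Subgroup G} (hM : Prim M) (hN : Prim N) (hM1 : M ≠ ⊥) (hMN : M ≠ N)
    (h1 : fs M ≤ N) (h2 : fs N ≤ M) :
    ∃ p : ℕ, p.Prime ∧ IsPGroup p (fs M) ∧ IsPGroup p (fs N) := by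
  have hE : lay M = lay N := by rw [← lay_inf_eq h1, inf_comm, lay_inf_eq h2]
  have hEM : lay M = ⊥ := by
    by_contra h
    have h3 := hN _ (map_subtype_le _) (fun e => h (hE.trans e)) (le_normalizer_lay N)
    have h4 := hM _ (map_subtype_le _) h (le_normalizer_lay M)
    change normalizer ((lay N : Subgroup G) : Set G) = N at h3
    change normalizer ((lay M : Subgroup G) : Set G) = M at h4
    rw [hE] at h4
    exact hMN (h4.symm.trans h3)
  have eM : fs M = fit M := by rw [fs_eq, hEM, bot_sup_eq]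
  have eN : fs N = fit N := by rw [fs_eq, ← hE, hEM, bot_sup_eq]
  have hCM := inf_centralizer_fs_le M
  have hCN := inf_centralizer_fs_le N
  rw [eM] at h1 hCM ⊢
  rw [eN] at h2 hCN ⊢
  obtain ⟨q, hq, hq1⟩ : ∃ q : ℕ, q.Prime ∧ op q M ≠ ⊥ := by
    by_contra h
    push Not at h
    have h3 : fit M = ⊥ := le_bot_iff.mp (fit_le_of fun p hp => (h p hp).le)
    rw [h3] at hCM
    exact hM1 (le_bot_iff.mp ((le_inf le_rfl (le_centralizer_of_comm_bot
      (commutator_bot_right M))).trans hCM))
  haveI := Fact.mk hq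
  have key : ∀ p : ℕ, p.Prime → p ≠ q → op p M = ⊥ := by
    intro p hp hpq
    haveI := Fact.mk hp
    by_contra h
    have h3 : op q M = op q N := le_antisymm (op_le_op h1 h2 hM hN hCN hpq h)
      (op_le_op h2 h1 hN hM hCM hpq (op_ne_bot h1 h2 hCN h))
    exact hMN ((hM _ (op_le q M) hq1 (le_normalizer_op q le_normalizer)).symm.trans
      (h3 ▸ hN _ (op_le q N) (h3 ▸ hq1) (le_normalizer_op q le_normalizer)))
  refine ⟨q, hq, (op_isPGroup q M).to_le (fit_le_of fun p hp => ?_),
    (op_isPGroup q N).to_le (fit_le_of fun p hp => ?_)⟩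
  · by_cases h : p = q
    · rw [h]
    · rw [key p hp h]; exact bot_le
  · by_cases h : p = q
    · rw [h]
    · haveI := Fact.mk hp
      by_contra h3
      exact op_ne_bot h2 h1 hCM (fun e => h3 (e ▸ bot_le)) (key p hp h)

end H25.Bd
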