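import Mathlib
import Cfsg.Agent.H24.Base5
import Cfsg.Agent.H25.Bender
import Cfsg.Agent.H6.SmallSylow
import Cfsg.Prelude.Def_ClassificationK

/-!
# Large subgroups of symplectic type and exponent four
-/

set_option autoImplicit false
set_option linter.unusedSectionVars false

open Cfsg H24 Subgroup
open scoped commutatorElement

namespace H25.Sym

section pure

variable {T : Type*} [Group T] [Finite T]

theorem ord2 {a : T} (h : a * a = 1) (h1 : a ≠ 1) : orderOf a = 2 :=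
  orderOf_eq_prime (by rw [pow_two, h]) h1

theorem sq2 {a : T} (h : orderOf a = 2) : a * a = 1 := by
  rw [← pow_two, ← h, pow_orderOf_eq_one]

theorem cyc_two {A : Subgroup T} (hA : IsCyclic A) {z x : T} (hz : orderOf z = 2) (hzA : z ∈ A)
    (hx : x ∈ A) (h : x * x = 1) : x = 1 ∨ x = z := by
  by_cases h1 : x = 1
  · exact Or.inl h1
  · exact Or.inr (H6.eq_of_isCyclic_of_orderOf_two hA hx hzA (ord2 h h1) hz)

theorem central_uniq (hT : IsOfSymplecticType T) {z : T} (hz : orderOf z = 2)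
    (hc : z ∈ center T) {x : T} (hx : x ∈ center T) (h : x * x = 1) : x = 1 ∨ x = z :=
  cyc_two (hT.2 (center T) inferInstance inferInstance) hz hc hx h

/-- the elements whose commutators lie in `{1, z}`. -/
def Z2 (z : T) (hzz : z * z = 1) (hc : z ∈ center T) : Subgroup T where
  carrier := {x | ∀ y, x * y * x⁻¹ = y ∨ x * y * x⁻¹ = z * y}
  one_mem' := fun y => Or.inl (by group)
  mul_mem' := by
    intro a b ha hb y
    have hz := mem_center_iff.1 hc
    have e : a * b * y * (a * b)⁻¹ = a * (b * y * b⁻¹) * a⁻¹ := by group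
    have e2 : a * (z * y) * a⁻¹ = z * (a * y * a⁻¹) := by
      rw [← mul_assoc a, hz a]; group
    rw [e]
    rcases hb y with h | h <;> rw [h]
    · exact ha y
    · rw [e2]
      rcases ha y with h' | h' <;> rw [h']
      · exact Or.inr rfl
      · left; rw [← mul_assoc, hzz, one_mul]
  inv_mem' := by
    intro a ha y
    have hz := mem_center_iff.1 hc
    rcases ha (a⁻¹ * y * a⁻¹⁻¹) with h | h
    · left; rw [← h]; group
    · right
      have e : a * (a⁻¹ * y * a⁻¹⁻¹) * a⁻¹ = y := by group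
      rw [e] at h
      conv_rhs => rw [h]
      rw [← mul_assoc, hzz, one_mul]

theorem sq_cases (hT : IsOfSymplecticType T) (h4 : ∀ x : T, x ^ 4 = 1) {z : T}
    (hz : orderOf z = 2) (hc : z ∈ center T) (x : T) : x * x = 1 ∨ x * x = z := by
  have hzz := sq2 hz
  have hzc := mem_center_iff.1 hc
  have hsq : ∀ y : T, (y * y) * (y * y) = 1 := fun y => by rw [← h4 y]; simp [pow_succ, mul_assoc]
  have hφ : ∀ φ : T ≃* T, φ z = z := by
    intro φ
    have h1 : φ z ∈ center T := by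
      rw [mem_center_iff]; intro y
      obtain ⟨y, rfl⟩ := φ.surjective y
      rw [← map_mul, ← map_mul, hzc]
    rcases central_uniq hT hz hc h1 (by rw [← map_mul, hzz, map_one]) with h | h
    · rw [map_eq_one_iff φ φ.injective] at h
      rw [h] at hz; simp at hz
    · exact h
  set Z := Z2 z hzz hc with hZ
  have memZ : ∀ {a : T}, a ∈ Z ↔ ∀ y, a * y * a⁻¹ = y ∨ a * y * a⁻¹ = z * y := Iff.rfl
  have hZc : Z.Characteristic := by
    rw [characteristic_iff_le_comap]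
    intro φ a ha
    rw [mem_comap, memZ]
    intro y
    obtain ⟨y, rfl⟩ := φ.surjective y
    change φ a * φ y * (φ a)⁻¹ = φ y ∨ φ a * φ y * (φ a)⁻¹ = z * φ y
    rw [← map_inv, ← map_mul, ← map_mul]
    rcases memZ.1 ha y with h | h <;> rw [h]
    · exact Or.inl rfl
    · right; rw [map_mul, hφ]
  set A := centralizer (Z : Set T) with hA
  have hAc : A.Characteristic := inferInstance
  have hAn : A.Normal := inferInstance
  have hA0 : IsCyclic (A ⊓ Z : Subgroup T) := by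
    refine hT.2 _ inferInstance ⟨⟨fun a b => Subtype.ext ?_⟩⟩
    exact (a.2.1 b b.2.2).symm
  have hzA : z ∈ A ⊓ Z := by
    refine ⟨fun y _ => hzc y, fun y => Or.inl ?_⟩
    rw [← hzc y]; group
  have hsqA : ∀ y : T, y * y ∈ A := by
    intro y a ha
    have e : a * (y * y) = (a * y * a⁻¹) * (a * y * a⁻¹) * a := by group
    rw [e]
    rcases memZ.1 ha y with h | h <;> rw [h]
    have e2 : z * y * (z * y) = z * (y * z) * y := by group
    rw [e2, hzc y, ← mul_assoc, hzz, one_mul]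
  -- elements of `B` with central square lie in `Z`
  have key : ∀ u ∈ A, (∀ y, ⁅u, y⁆ ∈ A ⊓ Z) → u * u ∈ center T → u ∈ Z := by
    intro u hu h hcen y
    have hy := h y
    have hcomm : ⁅u, y⁆ * u = u * ⁅u, y⁆ := hu _ hy.2
    have e1 : u * y * u⁻¹ = ⁅u, y⁆ * y := by simp [commutatorElement_def]
    have e2 : ⁅u, y⁆ * ⁅u, y⁆ = 1 := by
      have e3 : (u * u) * y * (u * u)⁻¹ = y := by
        rw [← mem_center_iff.1 hcen y]; group
      have e4 : (u * u) * y * (u * u)⁻¹ = u * (u * y * u⁻¹) * u⁻¹ := by group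
      have e5 : u * (⁅u, y⁆ * y) * u⁻¹ = (u * ⁅u, y⁆) * u⁻¹ * (u * y * u⁻¹) := by group
      rw [e4, e1, e5, ← hcomm, e1] at e3
      have e6 : ⁅u, y⁆ * u * u⁻¹ * (⁅u, y⁆ * y) = (⁅u, y⁆ * ⁅u, y⁆) * y := by group
      rw [e6] at e3
      exact mul_eq_right.1 e3
    rw [e1]
    rcases cyc_two hA0 hz hzA hy e2 with h' | h' <;> rw [h']
    · left; rw [one_mul]
    · right; rfl
  have key2 : ∀ u ∈ A, (∀ y, ⁅u, y⁆ ∈ A ⊓ Z) → u ∈ Z := by
    intro u hu h
    have h2 : u * u ∈ Z := by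
      refine key _ (hsqA u) (fun y => ?_) (by rw [hsq]; exact one_mem _)
      have e : ⁅u * u, y⁆ = ⁅u, ⁅u, y⁆⁆ * ⁅u, y⁆ * ⁅u, y⁆ := by
        simp only [commutatorElement_def]; group
      rw [e]
      exact mul_mem (mul_mem (h _) (h _)) (h _)
    refine key u hu h ?_
    rcases cyc_two hA0 hz hzA ⟨hsqA u, h2⟩ (hsq u) with h' | h' <;> rw [h']
    · exact one_mem _
    · exact hc
  have hnil : Group.IsNilpotent T := by
    have : Fact (Nat.Prime 2) := ⟨Nat.prime_two⟩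
    exact hT.1.isNilpotent
  obtain ⟨n, hn⟩ := Group.IsNilpotent.nilpotent T
  have hind : ∀ n, ∀ u ∈ A, u ∈ Subgroup.upperCentralSeries T n → u ∈ Z := by
    intro n
    induction n with
    | zero =>
      intro u _ hu
      rw [Subgroup.upperCentralSeries_zero, mem_bot] at hu
      rw [hu]; exact one_mem _
    | succ n ih =>
      intro u hu hun
      rw [Subgroup.mem_upperCentralSeries_succ_iff] at hun
      refine key2 u hu fun y => ?_
      have h1 : ⁅u, y⁆ ∈ A := by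
        have e : ⁅u, y⁆ = u * (y * u⁻¹ * y⁻¹) := by simp [commutatorElement_def, mul_assoc]
        rw [e]
        exact mul_mem hu (hAn.conj_mem _ (inv_mem hu) y)
      exact ⟨h1, ih _ h1 (hun y)⟩
  exact cyc_two hA0 hz hzA ⟨hsqA x, hind n _ (hsqA x) (hn ▸ mem_top _)⟩ (hsq x)

/-- an element of order dividing four acting on an elementary abelian `2`-group. -/
theorem unip {V : Subgroup T} (hV : ∀ v ∈ V, v * v = 1) {a : T} (ha : a ∈ N[V])
    (h4 : a ^ 4 = 1) (h : ∀ v ∈ V, a * a * v * (a * a)⁻¹ = v → a * v * a⁻¹ = v) :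
    ∀ v ∈ V, a * v * a⁻¹ = v := by
  have hinv : ∀ v ∈ V, v⁻¹ = v := fun v hv => inv_eq_of_mul_eq_one_right (hV v hv)
  have hcomm : ∀ v ∈ V, ∀ w ∈ V, v * w = w * v := by
    intro v hv w hw
    rw [← hinv _ (mul_mem hv hw), mul_inv_rev, hinv v hv, hinv w hw]
  intro v hv
  have h1 : a * v * a⁻¹ ∈ V := conj_mem ha hv
  have h2 : a * (a * v * a⁻¹) * a⁻¹ ∈ V := conj_mem ha h1
  have h3 : a * (a * (a * v * a⁻¹) * a⁻¹) * a⁻¹ ∈ V := conj_mem ha h2
  set v1 := a * v * a⁻¹ with e1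
  set v2 := a * v1 * a⁻¹ with e2
  set v3 := a * v2 * a⁻¹ with e3
  have e4 : a * v3 * a⁻¹ = v := by
    have : a * v3 * a⁻¹ = a ^ 4 * v * (a ^ 4)⁻¹ := by
      rw [e3, e2, e1]; simp only [pow_succ, pow_zero, one_mul]; group
    rw [this, h4]; group
  have cj2 : ∀ x y : T, a * a * (x * y) * (a * a)⁻¹ =
      (a * (a * x * a⁻¹) * a⁻¹) * (a * (a * y * a⁻¹) * a⁻¹) := fun x y => by group
  have cj1 : ∀ x y : T, a * (x * y) * a⁻¹ = (a * x * a⁻¹) * (a * y * a⁻¹) := fun x y => by group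
  have s1 : v3 * v1 = v2 * v := by
    have := h (v2 * v) (mul_mem h2 hv) (by rw [cj2, ← e3, e4, ← e1, ← e2, hcomm _ hv _ h2])
    rwa [cj1, ← e3, ← e1] at this
  have s2 : v3 * v2 = v1 * v := by
    have : v3 = v2 * v * v1 := by rw [← s1, mul_assoc, hV _ h1, mul_one]
    rw [this, mul_assoc v2, hcomm _ h2 _ (mul_mem hv h1), mul_assoc, hV _ h2, mul_one,
      hcomm _ hv _ h1]
  have s3 : v2 * v1 = v1 * v := by
    have := h (v1 * v) (mul_mem h1 hv) (by rw [cj2, ← e1, ← e2, ← e3, s2])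
    rwa [cj1, ← e2, ← e1] at this
  have s4 : v2 = v := by
    rw [hcomm _ h2 _ h1] at s3
    exact mul_left_cancel s3
  apply h v hv
  conv_rhs => rw [← s4, e2, e1]
  group

end pure

variable {G : Type*} [Group G] [Finite G]

theorem mem_zp {z x : G} (hz : z * z = 1) : x ∈ zpowers z ↔ x = 1 ∨ x = z := by
  constructor
  · rintro ⟨n, rfl⟩
    have h2 : z ^ (2 : ℤ) = 1 := by rw [zpow_two, hz]
    rcases Int.even_or_odd' n with ⟨k, rfl | rfl⟩
    · left; simp only [zpow_mul, h2, one_zpow]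
    · right; simp only [zpow_add, zpow_mul, h2, one_zpow, one_mul, zpow_one]
  · rintro (rfl | rfl)
    · exact one_mem _
    · exact mem_zpowers _

/-- `Q = O₂(C(z))` is self-centralizing in `C(z)`, its squares lie in `⟨z⟩` and `z` is its only
central involution. -/
structure Sy (z : G) (Q : Subgroup G) : Prop where
  ord : orderOf z = 2
  nml : Q ⊴ C{z}
  pi : IsPi {2} Q
  cent : C{z} ⊓ C[Q] ≤ Q
  max : ∀ X, X ⊴ C{z} → IsPi {2} X → X ≤ Q
  sq : ∀ x ∈ Q, x * x = 1 ∨ x * x = z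
  uniq : ∀ x ∈ Q, x ∈ C[Q] → x * x = 1 → x = 1 ∨ x = z

namespace Sy

variable {z t x y : G} {Q P : Subgroup G} (h : Sy z Q)
include h

theorem zz : z * z = 1 := sq2 h.ord

theorem ne_one : z ≠ 1 := fun e => by have := h.ord; rw [e] at this; simp at this

theorem comm (hx : x ∈ Q) : x * z = z * x := mem_C1.1 (h.nml.le hx)

theorem mem : z ∈ Q := h.cent ⟨self_mem_C1 z, mem_C_iff_le_C1.2 h.nml.le⟩

theorem eq (h' : Sy z P) : Q = P :=
  le_antisymm (h'.max _ h.nml h.pi) (h.max _ h'.nml h'.pi)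

theorem conj (g : G) : Sy (g * z * g⁻¹) (cj g Q) where
  ord := by rw [orderOf_conj, h.ord]
  nml := by rw [← cj_C1]; exact h.nml.cj g
  pi := h.pi.cj g
  cent := by rw [← cj_C1, ← cj_C, ← cj_inf]; exact cj_mono g h.cent
  max := by
    intro X hX h2
    rw [le_cj_iff]
    refine h.max _ ?_ (h2.cj _)
    have := hX.cj g⁻¹
    rwa [← cj_C1, cj_inv_cj] at this
  sq := by
    intro x hx
    obtain ⟨y, hy, rfl⟩ := mem_cj'.1 hx
    have e : g * y * g⁻¹ * (g * y * g⁻¹) = g * (y * y) * g⁻¹ := by group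
    rw [e]
    rcases h.sq y hy with h' | h' <;> rw [h']
    · left; group
    · right; rfl
  uniq := by
    intro x hx hc h1
    obtain ⟨y, hy, rfl⟩ := mem_cj'.1 hx
    rw [← cj_C, conj_mem_cj_iff] at hc
    have e : g * y * g⁻¹ * (g * y * g⁻¹) = g * (y * y) * g⁻¹ := by group
    rw [e, conj_eq_one_iff'] at h1
    rcases h.uniq y hy hc h1 with h' | h' <;> rw [h']
    · left; group
    · right; rfl

theorem sq_mem (hx : x ∈ Q) : x * x ∈ zpowers z := (mem_zp h.zz).2 (h.sq x hx)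

theorem pow4 (hx : x ∈ Q) : x ^ 4 = 1 := by
  have e : x ^ 4 = (x * x) * (x * x) := by simp [pow_succ, mul_assoc]
  rw [e]
  rcases h.sq x hx with h' | h' <;> rw [h']
  · rw [one_mul]
  · exact h.zz

theorem cj_cases (hx : x ∈ Q) (hy : y ∈ Q) : x * y * x⁻¹ = y ∨ x * y * x⁻¹ = z * y := by
  have e : x * y * x⁻¹ = ((x * x) * ((x⁻¹ * y) * (x⁻¹ * y)) * (y⁻¹ * y⁻¹)) * y := by group
  have h1 : (x * x) * ((x⁻¹ * y) * (x⁻¹ * y)) * (y⁻¹ * y⁻¹) ∈ zpowers z :=
    mul_mem (mul_mem (h.sq_mem hx) (h.sq_mem (mul_mem (inv_mem hx) hy))) (h.sq_mem (inv_mem hy))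
  rw [e]
  rcases (mem_zp h.zz).1 h1 with h' | h' <;> rw [h']
  · left; rw [one_mul]
  · right; rfl

theorem cz (hx : x ∈ Q) : x * z * x⁻¹ = z := by rw [h.comm hx]; group

/-- a non-central involution is conjugate to its product with `z`. -/
theorem exists_swap (ht : t ∈ Q) (h2 : t * t = 1) (h1 : t ≠ 1) (hz : t ≠ z) :
    ∃ y ∈ Q, y * t * y⁻¹ = z * t := by
  by_contra hn
  push Not at hn
  have : t ∈ C[Q] := by
    rw [mem_C]
    intro y hy
    rcases h.cj_cases hy ht with h' | h'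
    · rw [← mul_inv_eq_iff_eq_mul, h']
    · exact absurd h' (hn y hy)
  rcases h.uniq t ht this h2 with h' | h'
  · exact h1 h'
  · exact hz h'

theorem mul_cent (hx : x ∈ Q) (h1 : x * t * x⁻¹ = z * t)
    (h2 : y * t * y⁻¹ = z * t) : x * y ∈ C{t} := by
  rw [mem_C1_iff_conj]
  have e : x * y * t * (x * y)⁻¹ = x * (y * t * y⁻¹) * x⁻¹ := by group
  have e2 : x * (z * t) * x⁻¹ = (x * z * x⁻¹) * (x * t * x⁻¹) := by group
  rw [e, h2, e2, h.cz hx, h1, ← mul_assoc, h.zz, one_mul]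

/-- the involutions of `Q` centralizing `C_Q(t)`. -/
theorem cent_cent (ht : t ∈ Q) (h2 : t * t = 1) (hy : y ∈ Q) (hyt : y * t * y⁻¹ = z * t)
    (hx : x ∈ Q) (hxx : x * x = 1) (hc : x ∈ C[Q ⊓ C{t}]) :
    x = 1 ∨ x = z ∨ x = t ∨ x = z * t := by
  have key : ∀ u ∈ Q, u ∈ C[Q ⊓ C{t}] → y * u * y⁻¹ = u → u ∈ C[Q] := by
    intro u _ hu hyu
    rw [mem_C]
    intro q hq
    rcases h.cj_cases hq ht with h' | h'
    · exact mem_C.1 hu q ⟨hq, mem_C1_iff_conj.2 h'⟩
    · have h3 := mem_C.1 hu (q * y) ⟨mul_mem hq hy, h.mul_cent hq h' hyt⟩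
      have h4 : y * u = u * y := by rw [← mul_inv_eq_iff_eq_mul, hyu]
      rw [mul_assoc, h4, ← mul_assoc, ← mul_assoc] at h3
      exact mul_right_cancel h3
  have htc : t ∈ C[Q ⊓ C{t}] := mem_C.2 fun q hq => mem_C1.1 hq.2
  have hxt : t * x = x * t := mem_C.1 hc t ⟨ht, self_mem_C1 t⟩
  rcases h.cj_cases hy hx with h' | h'
  · rcases h.uniq x hx (key x hx hc h') hxx with e | e
    · exact Or.inl e
    · exact Or.inr (Or.inl e)
  · have h3 : y * (x * t) * y⁻¹ = x * t := by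
      have e : y * (x * t) * y⁻¹ = (y * x * y⁻¹) * (y * t * y⁻¹) := by group
      have e2 : z * x * (z * t) = z * (x * z) * t := by group
      rw [e, h', hyt, e2, h.comm hx, ← mul_assoc, h.zz, one_mul]
    have h4 : x * t * (x * t) = 1 := by
      have e : x * t * (x * t) = x * (t * x) * t := by group
      rw [e, hxt, ← mul_assoc, hxx, one_mul, h2]
    have e0 : x = x * t * t := by rw [mul_assoc, h2, mul_one]
    rcases h.uniq _ (mul_mem hx ht) (key _ (mul_mem hx ht) (mul_mem hc htc) h3) h4 with e | e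
    · right; right; left; rw [e0, e, one_mul]
    · right; right; right; rw [e0, e]

/-- if `C_Q(t)` has exponent two then `C(z)` is a `2`-group. -/
theorem dihedral (ht : t ∈ Q) (h2 : t * t = 1) (h1 : t ≠ 1) (hz : t ≠ z)
    (he : ∀ d ∈ Q ⊓ C{t}, d * d = 1) : C{z} ≤ Q := by
  obtain ⟨y, hy, hyt⟩ := h.exists_swap ht h2 h1 hz
  have hzz := h.zz
  have htz := h.comm ht
  have hinv : ∀ v ∈ Q ⊓ C{t}, v⁻¹ = v := fun v hv => inv_eq_of_mul_eq_one_right (he v hv)
  have hR : ∀ d ∈ Q ⊓ C{t}, d = 1 ∨ d = z ∨ d = t ∨ d = z * t := by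
    intro d hd
    refine h.cent_cent ht h2 hy hyt hd.1 (he d hd) (mem_C.2 fun w hw => ?_)
    rw [← hinv _ (mul_mem hw hd), mul_inv_rev, hinv _ hw, hinv _ hd]
  -- an element of order four
  obtain ⟨w, hw, hwt, hww⟩ : ∃ w ∈ Q, w * t * w⁻¹ = z * t ∧ w * w = z := by
    rcases h.sq y hy with h' | h'
    · refine ⟨y * t, mul_mem hy ht, ?_, ?_⟩
      · rw [← hyt]; group
      · have e : y * t * (y * t) = (y * t * y⁻¹) * (y * y) * t := by group
        rw [e, hyt, h', mul_one, mul_assoc, h2, mul_one]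
    · exact ⟨y, hy, hyt, h'⟩
  have hwz := h.comm hw
  have htwt : t * w * t = z * w := by
    have e : t * w * t = t * (w * t * w⁻¹) * w := by group
    rw [e, hwt, ← mul_assoc t, htz, mul_assoc z, h2, mul_one]
  have hQ : ∀ q ∈ Q, q ∈ Q ⊓ C{t} ∨ q = w ∨ q = z * w ∨ q = t * w ∨ q = z * t * w := by
    intro q hq
    rcases h.cj_cases hq ht with h' | h'
    · exact Or.inl ⟨hq, mem_C1_iff_conj.2 h'⟩
    · have hw' : w⁻¹ * t * w⁻¹⁻¹ = z * t := by
        rcases h.cj_cases (inv_mem hw) ht with h3 | h3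
        · exfalso
          have : w * t * w⁻¹ = t := by
            conv_lhs => rw [← h3]
            group
          rw [hwt, mul_eq_right] at this
          exact h.ne_one this
        · exact h3
      have e0 : q = q * w⁻¹ * w := by group
      right
      rcases hR (q * w⁻¹) ⟨Q.mul_mem hq (Q.inv_mem hw), h.mul_cent hq h' hw'⟩ with e | e | e | e
      · left; rw [e0, e, one_mul]
      · right; left; rw [e0, e]
      · right; right; left; rw [e0, e]
      · right; right; right; rw [e0, e]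
  have hsq1 : t * w * (t * w) = 1 := by rw [← mul_assoc, htwt, mul_assoc, hww, hzz]
  have hsq2 : z * t * w * (z * t * w) = 1 := by
    have e : z * t * w * (z * t * w) = z * ((t * w) * z) * (t * w) := by group
    rw [e, h.comm (mul_mem ht hw), ← mul_assoc z, hzz, one_mul, hsq1]
  have hsq3 : z * w * (z * w) = z := by
    have e : z * w * (z * w) = z * (w * z) * w := by group
    rw [e, hwz, ← mul_assoc z, hzz, one_mul, hww]
  refine h.max _ (Nml.refl _) (isPi_iff_piElt.2 fun c hc => ?_)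
  have hcz : c * z * c⁻¹ = z := mem_C1_iff_conj.1 hc
  have cm : ∀ g a b : G, g * (a * b) * g⁻¹ = (g * a * g⁻¹) * (g * b * g⁻¹) := fun g a b => by group
  have hcw : c * w * c⁻¹ = w ∨ c * w * c⁻¹ = z * w := by
    have h3 : (c * w * c⁻¹) * (c * w * c⁻¹) = z := by rw [← cm, hww, hcz]
    rcases hQ _ (h.nml.conj_mem hc hw) with e | e | e | e | e
    · rw [he _ e] at h3; exact absurd h3.symm h.ne_one
    · exact Or.inl e
    · exact Or.inr e
    · rw [e, hsq1] at h3; exact absurd h3.symm h.ne_one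
    · rw [e, hsq2] at h3; exact absurd h3.symm h.ne_one
  set e := c * c with he'
  have hec : e ∈ C{z} := mul_mem hc hc
  have hez : z ∈ C{e} := mem_C1_comm.1 hec
  have hew : w ∈ C{e} := by
    rw [mem_C1_comm, mem_C1_iff_conj]
    have e1 : e * w * e⁻¹ = c * (c * w * c⁻¹) * c⁻¹ := by rw [he']; group
    rw [e1]
    rcases hcw with h' | h'
    · rw [h', h']
    · rw [h', cm, hcz, h', ← mul_assoc, hzz, one_mul]
  have het : e * t * e⁻¹ * t ∈ C{e} := by
    have h3 : (e * t * e⁻¹) * (e * t * e⁻¹) = 1 := by rw [← cm, h2]; group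
    rcases hQ _ (h.nml.conj_mem hec ht) with e1 | e1 | e1 | e1 | e1
    · rcases hR _ e1 with e2 | e2 | e2 | e2
      · rw [conj_eq_one_iff'] at e2; exact absurd e2 h1
      · exfalso; apply hz
        have : t = e⁻¹ * (e * t * e⁻¹) * e⁻¹⁻¹ := by group
        rw [this, e2]
        exact mem_C1_iff_conj.1 (inv_mem hec)
      · rw [e2, h2]; exact one_mem _
      · rw [e2, mul_assoc, h2, mul_one]; exact hez
    · rw [e1, hww] at h3; exact absurd h3 h.ne_one
    · rw [e1, hsq3] at h3; exact absurd h3 h.ne_one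
    · rw [e1, htwt]; exact mul_mem hez hew
    · rw [e1, mul_assoc z, mul_assoc z, htwt]; exact mul_mem hez (mul_mem hez hew)
  set k := e * t * e⁻¹ * t with hk
  have hk4 : k ^ 4 = 1 := h.pow4 (mul_mem (h.nml.conj_mem hec ht) ht)
  have hkt : e * t * e⁻¹ = k * t := by rw [hk, mul_assoc _ t t, h2, mul_one]
  have hek : e * k * e⁻¹ = k := mem_C1_iff_conj.1 (mem_C1_comm.1 het)
  have he4 : t ∈ C{e ^ 4} := by
    rw [mem_C1_comm, mem_C1_iff_conj]
    have e1 : e ^ 4 * t * (e ^ 4)⁻¹ = e * (e * (e * (e * t * e⁻¹) * e⁻¹) * e⁻¹) * e⁻¹ := by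
      simp only [pow_succ, pow_zero, one_mul]; group
    rw [e1, hkt, cm e k, hek, hkt, cm e k, cm e k, hek, hkt, cm e k, cm e k, cm e k, hek, hkt]
    have e2 : k * (k * (k * (k * t))) = k ^ 4 * t := by simp [pow_succ, mul_assoc]
    rw [e2, hk4, one_mul]
  have hle : C{e} ≤ C{e ^ 4} := C1_le_C1_of_mem_zpowers (pow_mem (mem_zpowers e) 4)
  have hQe : Q ≤ C{e ^ 4} := by
    intro q hq
    have a1 := hle hez
    have a2 := hle hew
    rcases hQ q hq with e1 | e1 | e1 | e1 | e1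
    · rcases hR _ e1 with e2 | e2 | e2 | e2 <;> rw [e2]
      exacts [one_mem _, a1, he4, mul_mem a1 he4]
    all_goals rw [e1]
    exacts [a2, mul_mem a1 a2, mul_mem he4 a2, mul_mem (mul_mem a1 he4) a2]
  have h5 : e ^ 4 ∈ Q := h.cent ⟨pow_mem hec 4, mem_C_iff_le_C1.2 hQe⟩
  refine piElt_of_pow_eq_one (piNat_self_pow Nat.prime_two 5) ?_
  have := h.pow4 h5
  rw [he', ← pow_two, ← pow_mul, ← pow_mul] at this
  exact this

theorem mem_conj {g : G} (hne : g * z * g⁻¹ ≠ z) (hin : g * z * g⁻¹ ∈ Q) : z ∈ cj g Q := by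
  have hP := h.conj g
  have hC : C{z} ≤ Q → C{g * z * g⁻¹} ≤ cj g Q := fun h' => by
    rw [← cj_C1]; exact cj_mono g h'
  generalize g * z * g⁻¹ = t at *
  generalize cj g Q = P at *
  by_contra hzP
  have htt := hP.zz
  have hzz := h.zz
  have htz := h.comm hin
  have hzt : z ∈ C{t} := mem_C1.2 htz.symm
  obtain ⟨y, hy, hyt⟩ := h.exists_swap hin htt hP.ne_one hne
  have cm : ∀ g a b : G, g * (a * b) * g⁻¹ = (g * a * g⁻¹) * (g * b * g⁻¹) := fun g a b => by group
  have s1 : ∀ x ∈ P, x * z * x⁻¹ ≠ t * z := by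
    intro x hx e
    have a1 : x * y * x * z * (x * y * x)⁻¹ = t := by
      have e1 : x * y * x * z * (x * y * x)⁻¹ = x * (y * (x * z * x⁻¹) * y⁻¹) * x⁻¹ := by group
      have e2 : z * t * z = t := by rw [mul_assoc, htz, ← mul_assoc, hzz, one_mul]
      rw [e1, e, cm y, hyt, h.cz hy, e2, hP.cz hx]
    have a2 : x * y * x * t * (x * y * x)⁻¹ = z := by
      have e1 : x * y * x * t * (x * y * x)⁻¹ = x * (y * (x * t * x⁻¹) * y⁻¹) * x⁻¹ := by group
      rw [e1, hP.cz hx, hyt, cm, e, hP.cz hx, htz, mul_assoc, htt, mul_one]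
    have a3 := h.conj (x * y * x)
    rw [a1] at a3
    apply hzP
    rw [← a3.eq hP, ← a2]
    exact conj_mem_cj _ hin
  have hRP : Q ⊓ C{t} ≤ N[P] := inf_le_right.trans hP.nml.norm
  have s2 : ∀ x ∈ Q, x ∈ P → x ∈ zpowers t := by
    intro x hx hxP
    have a1 : x * x = 1 := by
      rcases h.sq x hx with e | e
      · exact e
      · exact absurd (e ▸ mul_mem hxP hxP) hzP
    have a2 : x ∈ C[Q ⊓ C{t}] := by
      rw [mem_C]
      intro d hd
      rcases h.cj_cases hd.1 hx with e | e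
      · rw [← mul_inv_eq_iff_eq_mul, e]
      · exfalso; apply hzP
        have := mul_mem (conj_mem (hRP hd) hxP) (inv_mem hxP)
        rwa [e, mul_inv_cancel_right] at this
    rw [mem_zp htt]
    rcases h.cent_cent hin htt hy hyt hx a1 a2 with e | e | e | e
    · exact Or.inl e
    · exact absurd (e ▸ hxP) hzP
    · exact Or.inr e
    · exfalso; apply hzP
      have := mul_mem hxP (inv_mem hP.mem)
      rwa [e, mul_inv_cancel_right] at this
  by_cases he : ∀ d ∈ Q ⊓ C{t}, d * d = 1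
  · exact hzP (hC (h.dihedral hin htt hP.ne_one hne he) hzt)
  push Not at he
  obtain ⟨d, hd, hdd⟩ := he
  replace hdd : d * d = z := (h.sq d hd.1).resolve_left hdd
  have hN : C{t} ≤ N[zpowers t] := norm_zpowers_of_cent le_rfl
  have hPN : P ≤ N[zpowers t] := hP.nml.le.trans hN
  have s3 : ∀ x ∈ P, z * x * z⁻¹ * x⁻¹ ∈ zpowers t → x ∈ C{z} := by
    intro x hx e
    have e1 : x * z * x⁻¹ = (z * x * z⁻¹ * x⁻¹)⁻¹ * z := by
      have : z = z⁻¹ := eq_inv_of_mul_eq_one_left hzz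
      have e2 : (z * x * z⁻¹ * x⁻¹)⁻¹ * z = x * z * x⁻¹ := by group
      rw [e2]
    rcases (mem_zp htt).1 (inv_mem e) with e2 | e2
    · rw [e2, one_mul] at e1; exact mem_C1_iff_conj.2 e1
    · rw [e2] at e1; exact absurd e1 (s1 x hx)
  have ccs : ∀ a ∈ C{t}, ∀ x ∈ P, (cs (zpowers t) a * cs (zpowers t) x * (cs (zpowers t) a)⁻¹ =
      cs (zpowers t) x ↔ a * x * a⁻¹ * x⁻¹ ∈ zpowers t) := by
    intro a ha x hx
    have b1 := hN ha
    have b2 := hPN hx
    rw [← cs_eq_one (mul_mem (mul_mem (mul_mem b1 b2) (inv_mem b1)) (inv_mem b2)), cs, cs, cs,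
      ap_mul _ (mul_mem (mul_mem b1 b2) (inv_mem b1)) (inv_mem b2), ap_conj _ b1 b2, ap_inv _ b2,
      mul_inv_eq_one]
  have hdN := hN hd.2
  have s4 := unip (V := quo P (zpowers t)) (a := cs (zpowers t) d) ?_
    (ap_mem_N _ (hRP hd) hdN) ?_ ?_
  · apply hzP
    refine hP.cent ⟨hzt, mem_C_iff_le_C1.2 fun x hx => s3 x hx ?_⟩
    rw [← ccs z hzt x hx, ← hdd, cs, ap_mul _ hdN hdN]
    have := s4 _ (cs_mem_quo hx (hPN hx))
    have e : ∀ a b : QN (zpowers t), a * a * b * (a * a)⁻¹ = a * (a * b * a⁻¹) * a⁻¹ :=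
      fun a b => by group
    rw [e, this, this]
  · intro v hv
    obtain ⟨x, hx, hxN, rfl⟩ := mem_quo.1 hv
    rw [cs, ← ap_mul _ hxN hxN]
    exact cs_of_mem (hP.sq_mem hx)
  · rw [cs, ← ap_pow _ hdN, h.pow4 hd.1, ap_one]
  · intro v hv e
    obtain ⟨x, hx, hxN, rfl⟩ := mem_quo.1 hv
    rw [cs, ← ap_mul _ hdN hdN, hdd] at e
    have a1 := s3 x hx ((ccs z hzt x hx).1 e)
    rw [ccs d hd.2 x hx]
    refine s2 _ ?_ (mul_mem (conj_mem (hRP hd) hx) (inv_mem hx))
    have e1 : d * x * d⁻¹ * x⁻¹ = d * (x * d⁻¹ * x⁻¹) := by group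
    rw [e1]
    exact mul_mem hd.1 (h.nml.conj_mem a1 (inv_mem hd.1))

theorem main {g : G} (hne : g * z * g⁻¹ ≠ z) (hin : g * z * g⁻¹ ∈ Q) :
    z ∈ cj g Q ∧ ∀ u ∈ closure ({z, g * z * g⁻¹} : Set G),
      ∀ v ∈ closure ({z, g * z * g⁻¹} : Set G), u ≠ 1 → v ≠ 1 → u ≠ v →
        ∃ x ∈ Q ⊔ cj g Q, x * z * x⁻¹ = u ∧ x * (g * z * g⁻¹) * x⁻¹ = v := by
  have hzP := h.mem_conj hne hin
  refine ⟨hzP, ?_⟩
  have hP := h.conj g
  generalize g * z * g⁻¹ = t at *
  generalize cj g Q = P at *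
  have htt := hP.zz
  have hzz := h.zz
  have htz := h.comm hin
  obtain ⟨y, hy, hyt⟩ := h.exists_swap hin htt hP.ne_one hne
  obtain ⟨x, hx, hxz⟩ := hP.exists_swap hzP hzz h.ne_one hne.symm
  rw [htz] at hxz
  have hyz := h.cz hy
  have hxt := hP.cz hx
  have cm : ∀ g a b : G, g * (a * b) * g⁻¹ = (g * a * g⁻¹) * (g * b * g⁻¹) := fun g a b => by group
  have cc : ∀ a b c : G, a * b * c * (a * b)⁻¹ = a * (b * c * b⁻¹) * a⁻¹ := fun a b c => by group
  have hyzt : y * (z * t) * y⁻¹ = t := by rw [cm, hyz, hyt, ← mul_assoc, hzz, one_mul]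
  have hxzt : x * (z * t) * x⁻¹ = z := by rw [cm, hxz, hxt, mul_assoc, htt, mul_one]
  have hcl : ∀ u ∈ closure ({z, t} : Set G), u = 1 ∨ u = z ∨ u = t ∨ u = z * t := by
    intro u hu
    have : closure ({z, t} : Set G) = zpowers z ⊔ zpowers t := by
      rw [zpowers_eq_closure, zpowers_eq_closure, ← Subgroup.closure_union]; rfl
    rw [this, mem_sup_of_norm (norm_zpowers_of_cent
      (zpowers_le.2 (mem_C1.2 htz)))] at hu
    obtain ⟨a, ha, b, hb, rfl⟩ := hu
    rcases (mem_zp hzz).1 ha with rfl | rfl <;> rcases (mem_zp htt).1 hb with rfl | rfl <;> simp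
  have my : y ∈ Q ⊔ P := mem_sup_left hy
  have mx : x ∈ Q ⊔ P := mem_sup_right hx
  intro u hu v hv hu1 hv1 huv
  rcases hcl u hu with e | e | e | e <;> rcases hcl v hv with e' | e' | e' | e' <;>
    first
    | exact absurd e hu1
    | exact absurd e' hv1
    | exact absurd (e.trans e'.symm) huv
    | rw [e, e']
  · exact ⟨1, one_mem _, by group, by group⟩
  · exact ⟨y, my, hyz, hyt⟩
  · exact ⟨x * y * x, mul_mem (mul_mem mx my) mx, by rw [cc, hxz, cc, hyzt, hxt],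
      by rw [cc, hxt, cc, hyt, hxzt]⟩
  · exact ⟨y * x, mul_mem my mx, by rw [cc, hxz, hyzt], by rw [cc, hxt, hyt]⟩
  · exact ⟨x * y, mul_mem mx my, by rw [cc, hyz, hxz], by rw [cc, hyt, hxzt]⟩
  · exact ⟨x, mx, hxz, hxt⟩

end Sy

theorem sy_of {z : G} (hz : orderOf z = 2)
    (hQ : IsOfSymplecticType (generalizedFittingSubgroup C{z}))
    (h4 : ∀ q ∈ Bd.fs C{z}, q ^ 4 = 1) : Sy z (Bd.fs C{z}) := by
  have e : generalizedFittingSubgroup C{z} ≃* Bd.fs C{z} :=
    Subgroup.equivMapOfInjective _ _ (subtype_injective _)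
  have hQ' : IsOfSymplecticType (Bd.fs C{z}) := by
    refine ⟨hQ.1.of_equiv e, fun A hA hA' => ?_⟩
    have h1 : (A.map e.symm.toMonoidHom).Characteristic := by
      rw [characteristic_iff_le_comap]
      rintro φ _ ⟨a, ha, rfl⟩
      refine ⟨e (φ (e.symm a)), ?_, by simp⟩
      exact characteristic_iff_le_comap.1 hA ((e.symm.trans φ).trans e) ha
    exact (cyc_map_iff e.symm.injective).1 (hQ.2 _ h1 (Abl.map hA' _))
  have hnml : Bd.fs C{z} ⊴ C{z} := ⟨map_subtype_le _, Bd.le_normalizer_fs _⟩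
  have hcent : C{z} ⊓ C[Bd.fs C{z}] ≤ Bd.fs C{z} := Bd.inf_centralizer_fs_le _
  have hmem : z ∈ Bd.fs C{z} := hcent ⟨self_mem_C1 z, mem_C_iff_le_C1.2 hnml.le⟩
  have hz' : orderOf (⟨z, hmem⟩ : Bd.fs C{z}) = 2 := by rw [← hz, Subgroup.orderOf_mk]
  have hc : (⟨z, hmem⟩ : Bd.fs C{z}) ∈ center (Bd.fs C{z}) :=
    mem_center_iff.2 fun y => Subtype.ext (mem_C1.1 (hnml.le y.2))
  refine ⟨hz, hnml, isPi_of_isPGroup Nat.prime_two hQ'.1, hcent, fun X hX h2 => ?_,
    fun x hx => ?_, fun x hx hxc hxx => ?_⟩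
  · rw [Bd.fs_eq]
    exact (Bd.le_fit hX.le hX.norm (h2.nil Nat.prime_two)).trans le_sup_right
  · rcases sq_cases hQ' (fun x => Subtype.ext (h4 x x.2)) hz' hc ⟨x, hx⟩ with e | e
    · exact Or.inl (congrArg Subtype.val e)
    · exact Or.inr (congrArg Subtype.val e)
  · rcases central_uniq hQ' hz' hc (x := ⟨x, hx⟩)
      (mem_center_iff.2 fun y => Subtype.ext (mem_C.1 hxc y y.2)) (Subtype.ext hxx) with e | e
    · exact Or.inl (congrArg Subtype.val e)
    · exact Or.inr (congrArg Subtype.val e)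

end H25.Sym
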