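import Mathlib
import Cfsg.Agent.H24.Base2
import Cfsg.Agent.H2.MinNormal

/-!
# The minimal simple group of odd order: standing hypothesis and the preamble of B & G, §7
-/

set_option autoImplicit false

open H24 Cfsg

namespace H25

universe u

/-- the standing hypothesis: `G` is a minimal simple group of odd order. -/
class FT (G : Type u) [Group G] : Prop where
  out : IsMinSimpleOddOrder G

variable {G : Type u} [Group G] [hG : FT G]
include hG

theorem mFT_odd_card : Odd (Nat.card G) := hG.out.1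

theorem mFT_odd (H : Subgroup G) : Odd ♯H :=
  (mFT_odd_card (G := G)).of_dvd_nat (Subgroup.card_subgroup_dvd_card H)

theorem mFT_odd_orderOf (x : G) : Odd (orderOf x) :=
  (mFT_odd_card (G := G)).of_dvd_nat (orderOf_dvd_natCard x)

theorem mFT_odd_relIndex (A B : Subgroup G) : Odd (A.relIndex B) :=
  (mFT_odd B).of_dvd_nat (Subgroup.relIndex_dvd_card A B)

theorem mFT_ne_two {p : ℕ} {H : Subgroup G} (h : p ∣ ♯H) : p ≠ 2 := by
  rintro rfl
  exact (Nat.not_even_iff_odd.2 (mFT_odd H)) (even_iff_two_dvd.2 h)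

theorem mFT_odd_prime {p : ℕ} {H : Subgroup G} (h : p ∣ ♯H) : Odd p := (mFT_odd H).of_dvd_nat h

theorem mFT_three_le {p : ℕ} (hp : p.Prime) {H : Subgroup G} (h : p ∣ ♯H) : 3 ≤ p := by
  have := hp.two_le
  have := mFT_ne_two h
  omega

theorem mFT_simple : IsSimpleGroup G := hG.out.2.1

theorem mFT_nonAbelian : ¬ Abl (⊤ : Subgroup G) := fun h =>
  hG.out.2.2.1 (IsMulCommutative.of_comm fun a b => h.comm (Subgroup.mem_top a) (Subgroup.mem_top b))

theorem mFT_sol {H : Subgroup G} (h : H ≠ ⊤) : Sol H := hG.out.2.2.2 H h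

theorem mFT_normal {H : Subgroup G} (h : ⊤ ≤ N[H]) : H = ⊥ ∨ H = ⊤ :=
  (mFT_simple (G := G)).eq_bot_or_eq_top_of_normal H (nml_top_iff.1 ⟨le_top, h⟩)

theorem mFT_top_ne_bot : (⊤ : Subgroup G) ≠ ⊥ := by
  have := (mFT_simple (G := G)).toNontrivial
  exact top_ne_bot

theorem mFT_der1 : ⁅(⊤ : Subgroup G), (⊤ : Subgroup G)⁆ = ⊤ := by
  rcases mFT_normal (der1_nml (⊤ : Subgroup G)).norm with h | h
  · exact absurd (der1_eq_bot.1 h) mFT_nonAbelian
  · exact h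

theorem mFT_nonSolvable : ¬ Sol (⊤ : Subgroup G) := fun h =>
  (H2.commutator_lt_of_isSolvable h mFT_top_ne_bot).ne mFT_der1

theorem mFT_sol_proper {H : Subgroup G} (h : Sol H) : H ≠ ⊤ := by
  rintro rfl
  exact mFT_nonSolvable h

theorem mFT_nil_proper {H : Subgroup G} (h : Nil H) : H ≠ ⊤ := mFT_sol_proper inferInstance

theorem mFT_abl_proper {H : Subgroup G} (h : Abl H) : H ≠ ⊤ := by
  rintro rfl
  exact mFT_nonAbelian h

theorem mFT_pgroup_proper [Finite G] {p : ℕ} {P : Subgroup G} (h : IsPi {p} P) : P ≠ ⊤ := by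
  by_cases h1 : P = ⊥
  · rw [h1]; exact mFT_top_ne_bot.symm
  · have := Fact.mk (h.prime h1)
    exact mFT_nil_proper (h.isPGroup (h.prime h1)).isNilpotent

theorem mFT_norm_proper {H : Subgroup G} (h1 : H ≠ ⊥) (h2 : H ≠ ⊤) : N[H] ≠ ⊤ := fun h => by
  rcases mFT_normal h.ge with h' | h'
  · exact h1 h'
  · exact h2 h'

theorem cent_mFT_trivial : C[(⊤ : Subgroup G)] = ⊥ := by
  rcases mFT_normal (norm_C (norm_self (⊤ : Subgroup G))) with h | h
  · exact h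
  · exact absurd (H24.abl_iff.2 h.ge) mFT_nonAbelian

theorem mFT_cent_proper {H : Subgroup G} (h1 : H ≠ ⊥) : C[H] ≠ ⊤ := fun h =>
  h1 (eq_bot_of_le cent_mFT_trivial (cents_symm h.ge))

theorem mFT_cent1_proper {x : G} (h1 : x ≠ 1) : C{x} ≠ ⊤ := by
  rw [← C_zpowers]
  exact mFT_cent_proper (by rwa [Ne, Subgroup.zpowers_eq_bot])

omit hG in
theorem ne_top_of_le {H K : Subgroup G} (h : H ≤ K) (hK : K ≠ ⊤) : H ≠ ⊤ :=
  fun e => hK (top_le_iff.1 (e ▸ h))

/-- a subgroup normalising a nontrivial proper subgroup is proper. -/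
theorem mFT_proper_of_norm {X H : Subgroup G} (h : X ≤ N[H]) (h1 : H ≠ ⊥) (h2 : H ≠ ⊤) : X ≠ ⊤ :=
  ne_top_of_le h (mFT_norm_proper h1 h2)

theorem mFT_sol_norm {H : Subgroup G} (h1 : H ≠ ⊥) (h2 : H ≠ ⊤) : Sol N[H] :=
  mFT_sol (mFT_norm_proper h1 h2)

theorem mFT_sol_cent {H : Subgroup G} (h1 : H ≠ ⊥) : Sol C[H] := mFT_sol (mFT_cent_proper h1)

theorem mFT_sol_cent1 {x : G} (h1 : x ≠ 1) : Sol C{x} := mFT_sol (mFT_cent1_proper h1)

/-! ### maximal subgroups -/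

theorem mmax_sol {M : Subgroup G} (hM : IsCoatom M) : Sol M := mFT_sol hM.1

theorem mmax_sub_sol {M H : Subgroup G} (hM : IsCoatom M) (h : H ≤ M) : Sol H :=
  mFT_sol (ne_top_of_le h hM.1)

omit hG in
theorem sub_mmax_proper {M H : Subgroup G} (hM : IsCoatom M) (h : H ≤ M) : H ≠ ⊤ :=
  ne_top_of_le h hM.1

omit hG in
theorem mmax_max {M H : Subgroup G} (hM : IsCoatom M) (hH : H ≠ ⊤) (h : M ≤ H) : H = M :=
  ((hM.le_iff).1 h).resolve_left hH

omit hG in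
theorem eq_mmax {M L : Subgroup G} (hM : IsCoatom M) (hL : IsCoatom L) (h : M ≤ L) : M = L :=
  (mmax_max hM hL.1 h).symm

theorem mmax_neq1 [Finite G] {M : Subgroup G} (hM : IsCoatom M) : M ≠ ⊥ := by
  rintro rfl
  obtain ⟨x, -, hx⟩ := exists_ne_one (mFT_top_ne_bot (G := G))
  have := mmax_max hM (mFT_abl_proper (abl_zpowers x)) bot_le
  exact hx (Subgroup.zpowers_eq_bot.1 this)

theorem norm_mmax [Finite G] {M : Subgroup G} (hM : IsCoatom M) : N[M] = M :=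
  mmax_max hM (mFT_norm_proper (mmax_neq1 hM) hM.1) (norm_self M)

theorem mmax_normal {M H : Subgroup G} (hM : IsCoatom M) (h : H ⊴ M) (h1 : H ≠ ⊥) : N[H] = M :=
  mmax_max hM (mFT_norm_proper h1 (sub_mmax_proper hM h.le)) h.norm

theorem mmax_norm {M H : Subgroup G} (hM : IsCoatom M) (h1 : H ≠ ⊥) (h2 : H ≠ ⊤) (h : M ≤ N[H]) :
    N[H] = M := mmax_max hM (mFT_norm_proper h1 h2) h

theorem mem_of_cj_mmax [Finite G] {M : Subgroup G} (hM : IsCoatom M) {g : G} (h : cj g M = M) :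
    g ∈ M := norm_mmax hM ▸ mem_N_iff_cj.2 h

theorem cj_mmax_ne [Finite G] {M : Subgroup G} (hM : IsCoatom M) {g : G} (h : g ∉ M) :
    cj g M ≠ M := fun e => h (mem_of_cj_mmax hM e)

theorem exists_mmax_norm [Finite G] {H : Subgroup G} (h1 : H ≠ ⊥) (h2 : H ≠ ⊤) :
    ∃ M, IsCoatom M ∧ N[H] ≤ M := exists_coatom (mFT_norm_proper h1 h2)

theorem exists_mmax_cent [Finite G] {H : Subgroup G} (h1 : H ≠ ⊥) :
    ∃ M, IsCoatom M ∧ C[H] ≤ M := exists_coatom (mFT_cent_proper h1)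

theorem exists_mmax_cent1 [Finite G] {x : G} (h1 : x ≠ 1) : ∃ M, IsCoatom M ∧ C{x} ≤ M :=
  exists_coatom (mFT_cent1_proper h1)

theorem mmax_der1_lt [Finite G] {M : Subgroup G} (hM : IsCoatom M) : ⁅M, M⁆ < M :=
  H2.commutator_lt_of_isSolvable (mmax_sol hM) (mmax_neq1 hM)

/-- MathComp `uniq_mmax_norm_sub`. -/
theorem uniqMax_norm_le [Finite G] {X M : Subgroup G} (h : UniqMax X M) : N[X] ≤ M := fun g hg => by
  have h1 := h.cj g
  rw [cj_of_mem_N hg] at h1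
  exact mem_of_cj_mmax h.coatom (h.eq h1)

theorem uniq_norm_le [Finite G] {X M : Subgroup G} (h : Uniq X) (hM : IsCoatom M) (hX : X ≤ M) :
    N[X] ≤ M := uniqMax_norm_le (h.uniqMax hM hX)

theorem uniq_cent_le [Finite G] {X M : Subgroup G} (h : Uniq X) (hM : IsCoatom M) (hX : X ≤ M) :
    C[X] ≤ M := (C_le_N X).trans (uniq_norm_le h hM hX)

/-- MathComp `uniq_mmax_neq1`. -/
theorem uniq_ne_bot [Finite G] {X : Subgroup G} (h : Uniq X) : X ≠ ⊥ := by
  rintro rfl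
  obtain ⟨M, hM⟩ := uniq_iff.1 h
  have := uniqMax_norm_le hM
  rw [N_bot] at this
  exact hM.coatom.1 (top_le_iff.1 this)

omit hG in
/-- a member of `𝓤` contained in a maximal subgroup `M` and in a proper subgroup `H`: `H ≤ M`. -/
theorem uniq_le_mmax [Finite G] {X M H : Subgroup G} (h : Uniq X) (hM : IsCoatom M) (hX : X ≤ M)
    (hXH : X ≤ H) (hH : H ≠ ⊤) : H ≤ M := (h.uniqMax hM hX).le_of_ne_top hXH hH

omit hG in
theorem not_uniq_of_two {X M L : Subgroup G} (hM : IsCoatom M) (hL : IsCoatom L) (hne : L ≠ M)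
    (h1 : X ≤ M) (h2 : X ≤ L) : ¬ Uniq X := fun h => hne (h.eq hM h1 hL h2)

omit hG in
theorem exists_ne_of_not_uniqMax {X M : Subgroup G} (hM : IsCoatom M) (hX : X ≤ M)
    (h : ¬ UniqMax X M) : ∃ L, IsCoatom L ∧ X ≤ L ∧ L ≠ M := by
  by_contra hc
  push Not at hc
  exact h ⟨hM, hX, hc⟩

omit hG in
/-- if `X` is proper and `𝓜(X) ≠ {M}` then some maximal `L ≠ M` contains `X`. -/
theorem exists_ne_of_not_uniqMax' [Finite G] {X M : Subgroup G} (hX : X ≠ ⊤)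
    (h : ¬ UniqMax X M) : ∃ L, IsCoatom L ∧ X ≤ L ∧ L ≠ M := by
  by_contra hc
  push Not at hc
  obtain ⟨L, hL, hXL⟩ := exists_coatom hX
  obtain rfl := hc L hL hXL
  exact h ⟨hL, hXL, hc⟩

omit hG in
theorem uniqMax_of_forall [Finite G] {X M : Subgroup G} (hX : X ≠ ⊤)
    (h : ∀ L, IsCoatom L → X ≤ L → L = M) : UniqMax X M := by
  obtain ⟨L, hL, hXL⟩ := exists_coatom hX
  obtain rfl := h L hL hXL
  exact ⟨hL, hXL, h⟩

end H25
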