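import Mathlib
import Cfsg.Agent.H24.Base5
import Cfsg.Agent.H25.Rank2

/-!
# Rank of quotients, and small arithmetic helpers
-/

set_option autoImplicit false

open Subgroup H24 Cfsg H25

namespace H25

universe u v

variable {G : Type u} [Group G] {G' : Type v} [Group G'] [Finite G]
variable {A B E H K P : Subgroup G} {p n : ℕ}

theorem prank_equiv [Finite G'] (hp : p.Prime) {B : Subgroup G'} (e : A ≃* B) :
    prank p A = prank p B := by
  rw [← prank_top_subtype hp A, ← prank_top_subtype hp B,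
    ← prank_map hp (⊤ : Subgroup A) (f := e.toMonoidHom) e.injective]
  congr 1
  rw [← MonoidHom.range_eq_map, MonoidHom.range_eq_top]
  exact e.surjective

theorem rank_equiv [Finite G'] {B : Subgroup G'} (e : A ≃* B) : rank A = rank B := by
  apply le_antisymm
  · exact rank_le_iff_prank.2 fun p hp => (prank_equiv hp e).le.trans (prank_le_rank hp B)
  · exact rank_le_iff_prank.2 fun p hp => (prank_equiv hp e).ge.trans (prank_le_rank hp A)

theorem prank_quo_of_inf (hp : p.Prime) (hA : A ≤ N[K]) (hi : K ⊓ A = ⊥) :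
    prank p (quo A K) = prank p A := (prank_equiv hp (quoEquiv hA hi)).symm

theorem rank_quo_of_inf (hA : A ≤ N[K]) (hi : K ⊓ A = ⊥) : rank (quo A K) = rank A :=
  (rank_equiv (quoEquiv hA hi)).symm

theorem prank_quo_of_p' (hp : p.Prime) (hA : A ≤ N[K]) (hK : IsPi {p}ᶜ K) :
    prank p (quo A K) = prank p A := by
  obtain ⟨P, hP⟩ := Sylow_exists hp A
  rw [← prank_Syl hp hP, ← prank_Syl hp (hP.quo hA)]
  exact prank_quo_of_inf hp (hP.le.trans hA) (hK.inf_eq_bot' hP.pi)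

omit [Finite G] in
theorem H24.PnElem.quo_of_inf (h : PnElem p n A E) (hE : E ≤ N[K]) (hi : K ⊓ E = ⊥) :
    PnElem p n (quo A K) (quo E K) :=
  ⟨quo_mono K h.le, h.elem.img _, by rw [card_quo_of_inf hE hi, h.card]⟩

theorem prank_eq_zero_of_isPi {π : Set ℕ} (hp : p.Prime) (h : IsPi π H) (hπ : p ∉ π) :
    prank p H = 0 := (prank_eq_zero_iff hp).2 (h.not_dvd hp hπ)

theorem exists_max_prime (h : H ≠ ⊥) :
    ∃ p, p.Prime ∧ p ∣ ♯H ∧ ∀ q, q.Prime → q ∣ ♯H → q ≤ p := by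
  obtain ⟨r, hr, hd⟩ := H24.exists_prime_dvd_card h
  have hne : (♯H).primeFactors.Nonempty :=
    ⟨r, Nat.mem_primeFactors.2 ⟨hr, hd, card_ne_zero H⟩⟩
  have hm := Nat.mem_primeFactors.1 (Finset.max'_mem _ hne)
  exact ⟨_, hm.1, hm.2.1, fun q hq hqd =>
    Finset.le_max' _ q (Nat.mem_primeFactors.2 ⟨hq, hqd, card_ne_zero H⟩)⟩

theorem exists_max_prime_nat {n : ℕ} (h0 : n ≠ 0) (h : n ≠ 1) :
    ∃ p, p.Prime ∧ p ∣ n ∧ ∀ q, q.Prime → q ∣ n → q ≤ p := by
  obtain ⟨r, hr, hd⟩ := Nat.exists_prime_and_dvd h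
  have hne : n.primeFactors.Nonempty := ⟨r, Nat.mem_primeFactors.2 ⟨hr, hd, h0⟩⟩
  have hm := Nat.mem_primeFactors.1 (Finset.max'_mem _ hne)
  exact ⟨_, hm.1, hm.2.1, fun q hq hqd =>
    Finset.le_max' _ q (Nat.mem_primeFactors.2 ⟨hq, hqd, h0⟩)⟩

/-- A subgroup of order `p` in a `p`-group of rank at least two lies in a subgroup of type
`(p, p)`. -/
theorem H24.PnElem.exists_two_of_prank {X : Subgroup G} (hX : PnElem p 1 P X) (hp : p.Prime)
    (hP : IsPi {p} P) (hr : 2 ≤ prank p P) : ∃ A, PnElem p 2 P A ∧ X ≤ A := by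
  refine hX.exists_succ_of_not_pmax hp fun hm => ?_
  have hP1 : P ≠ ⊥ := ne_bot_of_le (hX.ne_bot hp one_pos) hX.le
  have hZ : omegaOne p Z[P] = X := hX.eq_of_le_of_ne_bot hp hm.omegaOne_center_le
    (omegaOne_ne_bot_of_pgroup (hP.inf_left _) ((hP.nil hp).center_ne_bot hP1))
  obtain ⟨E, hE⟩ := (prank_geP hp).1 hr
  have hc : E ≤ C[X] := by
    rw [← hZ]
    exact cents_symm ((omegaOne_le p _).trans (inf_le_right.trans (C_anti hE.le)))
  have := hE.rank_le hX hp (hm.le_of_cent hE.le hE.elem hc)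
  omega

end H25
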