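import Mathlib
import Cfsg.Agent.H24.Base5
import Cfsg.Agent.H25.Rank3

/-!
# Small general lemmas (p-groups, cores, products) used in Bender–Glauberman §10–§15
-/

set_option autoImplicit false
set_option linter.unusedSectionVars false

open Subgroup H24 Cfsg H25
open scoped commutatorElement

namespace H25

universe u

variable {G : Type u} [Group G] [Finite G]
variable {π : Set ℕ} {A B E H K L M N P Q S U X Y Z : Subgroup G} {p q n : ℕ}

theorem abl_of_cyc_quo_center (hK : K ≤ Z[H]) (h : Cyc (quo H K)) : Abl H := by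
  have hn : H ≤ N[K] := (nml_of_le_center hK).norm
  obtain ⟨z, hz, e⟩ := h.exists_gen
  obtain ⟨x, hx, hxN, rfl⟩ := mem_quo.1 hz
  have : zpowers x ⊔ K = H := by
    rw [← coq_quo (zpowers_le.2 hxN), quo_zpowers hxN, e, (nml_of_le_center hK).coq_quo]
  rw [← this]
  refine (abl_zpowers x).sup ((abl_center H).of_le hK) ?_
  exact (zpowers_le.2 hx).trans (cents_symm (hK.trans inf_le_right))

theorem abl_of_card_dvd_sq (hp : p.Prime) (h : ♯H ∣ p ^ 2) : Abl H := by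
  obtain ⟨k, hk, e⟩ := (Nat.dvd_prime_pow hp).1 h
  have := Fact.mk hp
  interval_cases k
  · rw [card_eq_one'.1 (e.trans (pow_zero p))]; exact abl_bot
  · exact abl_of_prime (by rw [e, pow_one]; exact hp)
  · exact IsPGroup.isMulCommutative_of_card_eq_prime_sq e

theorem cyc_of_card_dvd_prime (hp : p.Prime) (h : ♯H ∣ p) : Cyc H := by
  rcases (Nat.dvd_prime hp).1 h with e | e
  · rw [card_eq_one'.1 e]; exact H24.cyc_bot
  · exact cyc_of_prime (e ▸ hp)

/-- the index of the centre of a nonabelian `p`-group is divisible by `p ^ 2`. -/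
theorem sq_dvd_relIndex_center (hp : p.Prime) (hP : IsPi {p} P) (hna : ¬ Abl P) (hK : K ≤ Z[P]) :
    p ^ 2 ∣ K.relIndex P := by
  have hn : P ≤ N[K] := (nml_of_le_center hK).norm
  obtain ⟨k, hk⟩ := (hP.quo K).card_eq_pow hp
  rw [← card_quo hn, hk]
  refine pow_dvd_pow p (le_of_not_gt fun h => hna (abl_of_cyc_quo_center hK ?_))
  exact cyc_of_card_dvd_prime hp (hk ▸ (pow_dvd_pow p (by omega)).trans (pow_one p).dvd)

theorem p3_card_center (hp : p.Prime) (hS : ♯S = p ^ 3) (hna : ¬ Abl S) : ♯Z[S] = p := by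
  have hP := isPi_of_card hp hS
  have h1 : S ≠ ⊥ := fun h => hna (h ▸ abl_bot)
  obtain ⟨k, hk⟩ := (hP.inf_left C[S]).card_eq_pow hp
  have h2 := sq_dvd_relIndex_center hp hP hna le_rfl
  have h3 := card_mul_relIndex (inf_le_left : Z[S] ≤ S)
  have h4 : p ^ (k + 2) ∣ p ^ 3 := by rw [← hS, ← h3, hk, pow_add]; exact mul_dvd_mul_left _ h2
  have h5 := (Nat.pow_dvd_pow_iff_le_right hp.one_lt).1 h4
  have h6 : k ≠ 0 := by
    rintro rfl
    exact (hP.nil hp).center_ne_bot h1 (card_eq_one'.1 (by simpa using hk))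
  obtain rfl : k = 1 := by omega
  simpa using hk

theorem p3_der1_eq_center (hp : p.Prime) (hS : ♯S = p ^ 3) (hna : ¬ Abl S) : ⁅S, S⁆ = Z[S] := by
  have hZ := p3_card_center hp hS hna
  refine prime_eq_of_le (hZ ▸ hp) ?_ (fun h => hna (der1_eq_bot.1 h))
  refine (abl_quo (center_nml S).norm).1 (abl_of_card_dvd_sq hp ?_)
  have := (center_nml S).card_quo
  rw [hZ, hS, pow_succ'] at this
  exact (Nat.eq_of_mul_eq_mul_left hp.pos this).dvd

/-- a `p`-group normalising a subgroup of order `p` centralises it. -/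
theorem pgroup_cent_of_card_prime (hp : p.Prime) (hP : IsPi {p} P) (hX : ♯X = p) (hn : P ≤ N[X]) :
    P ≤ C[X] :=
  cents_symm (prime_le_of_inf_ne (hX ▸ hp)
    (hP.inf_C_ne_bot hp (isPi_of_card_prime hp hX) hn (ne_bot_of_prime (hX ▸ hp))))

theorem pgroup_comm_le_of_relIndex (hp : p.Prime) (hP : IsPi {p} P) (hA : P ≤ N[A]) (hZ : P ≤ N[Z])
    (hZA : A ≤ N[Z]) (h : Z.relIndex A = p) : ⁅A, P⁆ ≤ Z :=
  (quo_cents hZA hZ).1 (cents_symm (pgroup_cent_of_card_prime hp (hP.quo Z)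
    (by rw [card_quo hZA, h]) (quo_norm Z hA)))

theorem le_pcore_of_forall (hH : H ≤ K) (h : ∀ p, p.Prime → p ∉ π → H ≤ O[{p}ᶜ, K]) :
    H ≤ O[π, K] := by
  obtain ⟨L, hL, hmax⟩ : ∃ L : Subgroup G, (L ⊴ K ∧ H ≤ L) ∧ ∀ L', L' ⊴ K ∧ H ≤ L' → L' ≤ L → L' = L := by
    obtain ⟨L, -, h1, h2⟩ := exists_min (P := fun L : Subgroup G => L ⊴ K ∧ H ≤ L) ⟨Nml.refl K, hH⟩
    exact ⟨L, h1, h2⟩
  refine hL.2.trans (pcore_max (isPi_def.2 fun r hr hd => ?_) hL.1)
  by_contra hπ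
  have := hmax _ ⟨hL.1.inf (pcore_nml {r}ᶜ K), le_inf hL.2 (h r hr hπ)⟩ inf_le_left
  exact ((pcore_pi _ K).of_le (inf_eq_left.1 this)).not_dvd' hr rfl hd

theorem hall_pcore_of_forall (hs : Sol K) (h : ∀ p, p.Prime → p ∉ π → p ∣ ♯K → NCompl {p} K) :
    Hall π K O[π, K] := by
  obtain ⟨H, hH⟩ := H26.Hall_exists π hs
  refine hH.of_ge (pcore_le _ _) (pcore_pi _ _) (le_pcore_of_forall hH.le fun p hp hπ => ?_)
  by_cases hd : p ∣ ♯K
  · exact (h p hp hπ hd).le_pcore (hH.pi.compl_of_not_mem hπ) hH.le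
  · rw [((isPi_compl_iff hp).2 hd).pcore_eq]; exact hH.le

theorem nil_of_forall_ncompl (h : ∀ p, p.Prime → p ∣ ♯H → NCompl {p} H) : Nil H := by
  refine nil_of_syl_nml fun p P hp hP => ?_
  have : P ≤ O[{p}, H] := le_pcore_of_forall hP.le fun q hq hqp => by
    by_cases hd : q ∣ ♯H
    · exact (h q hq hd).le_pcore (hP.pi.compl_of_not_mem hqp) hP.le
    · rw [((isPi_compl_iff hq).2 hd).pcore_eq]; exact hP.le
  rw [← hP.eq_of_le (pcore_pi _ _) this (pcore_le _ _)]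
  exact (pcore_nml _ _).norm

omit [Finite G] in
theorem norm_sup_of_quo (hM : M ≤ N[K]) (hX : X ≤ N[K]) (h : quo M K ≤ N[quo X K]) :
    M ≤ N[K ⊔ X] := by
  rw [← coq_quo' hX]; exact norm_coq hM h

omit [Finite G] in
theorem H24.IsProd.of_sup_left (h : IsProd (K ⊔ X) U M) (hX : X ≤ U) (hn : X ≤ N[K]) :
    IsProd K U M := by
  refine ⟨le_sup_left.trans h.left_le, h.right_le, fun m hm => ?_⟩
  obtain ⟨a, ha, u, hu, rfl⟩ := h.mul m hm
  obtain ⟨k, hk, x, hx, rfl⟩ := (mem_sup_of_norm hn).1 ha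
  exact ⟨k, hk, x * u, mul_mem (hX hx) hu, mul_assoc _ _ _⟩

/-- Frattini argument for a normal subgroup `K X` with `X` a `p`-group and `K` a `p'`-group. -/
theorem Frattini_sup (hp : p.Prime) (hK : K ⊴ M) (hKp : IsPi {p}ᶜ K) (hX : IsPi {p} X)
    (hXM : X ≤ M) (hn : M ≤ N[K ⊔ X]) : IsProd K (M ⊓ N[X]) M := by
  have hXK := hXM.trans hK.norm
  refine H24.IsProd.of_sup_left (Frattini_arg hp ⟨sup_le hK.le hXM, hn⟩ ?_)
    (le_inf hXM (norm_self X)) hXK
  exact (isProd_sup hXK).hall_right hKp hX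

/-- Frattini argument for a normal solvable subgroup `K X` with `X` coprime to `K`. -/
theorem Hall_Frattini_sup (hs : Sol M) (hK : K ⊴ M) (hKp : IsPi πᶜ K) (hX : IsPi π X)
    (hXM : X ≤ M) (hn : M ≤ N[K ⊔ X]) : IsProd K (M ⊓ N[X]) M := by
  have hXK := hXM.trans hK.norm
  refine H24.IsProd.of_sup_left (H26.Hall_Frattini_arg (hs.of_le (sup_le hK.le hXM))
    ⟨sup_le hK.le hXM, hn⟩ ((isProd_sup hXK).hall_right hKp hX))
    (le_inf hXM (norm_self X)) hXK

/-- If `L / K` is nilpotent and `X` is a Hall subgroup of `L`, then `K X` is normalised by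
everything normalising `K` and `L`. -/
theorem norm_sup_of_nil_quo (hM : M ≤ N[K]) (hML : M ≤ N[L]) (hL : L ≤ N[K])
    (hn : Nil (quo L K)) (hX : Hall π L X) : M ≤ N[K ⊔ X] :=
  norm_sup_of_quo hM (hX.le.trans hL) (hn.norm_hall (hX.quo hL) (quo_norm K hML))

omit [Finite G] in
theorem cent_sup_eq (hZ : Z ≤ C[S]) : S ⊓ C[A ⊔ Z] = S ⊓ C[A] := by
  rw [C_sup]
  exact le_antisymm (inf_le_inf_left _ inf_le_left)
    (le_inf inf_le_left (le_inf inf_le_right (inf_le_left.trans (cents_symm hZ))))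

/-- a subgroup acting regularly on both factors of a coprime product acts regularly on it. -/
theorem cent_sup_eq_bot (hn : Y ≤ N[X]) (hAX : A ≤ N[X]) (hAY : A ≤ N[Y]) (hi : X ⊓ Y = ⊥)
    (h1 : X ⊓ C[A] = ⊥) (h2 : Y ⊓ C[A] = ⊥) : (X ⊔ Y) ⊓ C[A] = ⊥ := by
  have := H26.coprime_cent_mulG (isProd_sup hn) hAX hAY (by rw [hi]; simp)
    (Or.inl (hi ▸ sol_bot))
  rw [← this.sup_eq, h1, h2, bot_sup_eq]

theorem cent_sup_eq_sup (hn : Y ≤ N[X]) (hAX : A ≤ N[X]) (hAY : A ≤ N[Y]) (hi : X ⊓ Y = ⊥) :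
    (X ⊔ Y) ⊓ C[A] = (X ⊓ C[A]) ⊔ (Y ⊓ C[A]) :=
  (H26.coprime_cent_mulG (isProd_sup hn) hAX hAY (by rw [hi]; simp)
    (Or.inl (hi ▸ sol_bot))).sup_eq.symm

/-- a subgroup strictly between subgroups of index `p ^ 2`. -/
theorem eq_of_card_between (hp : p.Prime) (hAB : A ≤ B) (hBH : B < H) (h : ♯H = p * ♯A) :
    B = A := by
  have h1 := card_mul_relIndex (hAB.trans hBH.le)
  have h2 : A.relIndex H = p := by
    rw [h, mul_comm] at h1
    exact Nat.eq_of_mul_eq_mul_right (card_pos A) h1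
  exact (covBy_eq_or (covBy_of_relIndex_prime (hAB.trans hBH.le) (h2 ▸ hp)) hAB hBH.le).resolve_right
    hBH.ne

end H25
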