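import Mathlib
import Cfsg.Agent.H4.Real
import Cfsg.Agent.H4.Induce
import Cfsg.Agent.H5.Kernel

/-!
A permutation group with a regular abelian subgroup satisfying a trivial intersection condition is
doubly transitive or has no element interchanging two points (Bender 1971).
-/

set_option autoImplicit false
set_option linter.unusedSectionVars false

open Cfsg H4 H5 MulAction
open scoped ComplexConjugate

namespace H25.BDich

variable {Γ Ω : Type*} [Group Γ] [Fintype Γ] [MulAction Γ Ω]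

/-- the permutation character -/
noncomputable def perm (Γ Ω : Type*) [Group Γ] [MulAction Γ Ω] : Γ → ℂ :=
  fun g => (Nat.card (fixedBy Ω g) : ℂ)

/-- restriction -/
def res (K : Subgroup Γ) (χ : Γ → ℂ) : K → ℂ := fun k => χ k

/-- the twist of a function on `K` by an element normalising `K` -/
noncomputable def tw (K : Subgroup Γ) (lam : K → ℂ) (x : Γ) : K → ℂ :=
  fun k => extendByZero K lam (x * k * x⁻¹)

/-- the situation -/
structure Sit (Ω : Type*) [MulAction Γ Ω] (E K : Subgroup Γ) (s : Ω) : Prop where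
  le : K ≤ E
  nrm : ∀ x ∈ E, ∀ k ∈ K, x * k * x⁻¹ ∈ K
  ne : ∃ d ∈ E, d ∉ K
  comm : ∀ a ∈ K, ∀ b ∈ K, a * b = b * a
  odd : Odd (Nat.card E)
  tr : ∀ z : Ω, ∃ k ∈ K, z = k • s
  free : ∀ k ∈ K, k • s = s → k = 1
  ti : ∀ g : Γ, ∀ k ∈ K, k ≠ 1 → g * k * g⁻¹ ∈ E → g ∈ E
  ker : ∀ M : Subgroup Γ, M.Normal →
    (∀ k ∈ K, (∀ d ∈ E, d ∉ K → ∃ l ∈ K, k = l * d * l⁻¹ * d⁻¹) → k ∈ M) → K ≤ M

variable {E K : Subgroup Γ} {s : Ω}

/-- conjugation on `K` -/
def cjK (h : Sit Ω E K s) {x : Γ} (hx : x ∈ E) : K →* K where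
  toFun k := ⟨x * k * x⁻¹, h.nrm x hx k k.2⟩
  map_one' := by ext; simp
  map_mul' a b := by ext; simp [mul_assoc]

theorem cjK_surj (h : Sit Ω E K s) {x : Γ} (hx : x ∈ E) : Function.Surjective (cjK h hx) :=
  fun k => ⟨⟨x⁻¹ * k * x⁻¹⁻¹, h.nrm _ (E.inv_mem hx) k k.2⟩, by ext; simp [cjK, mul_assoc]⟩

theorem tw_eq (h : Sit Ω E K s) {x : Γ} (hx : x ∈ E) (lam : K → ℂ) :
    tw K lam x = fun k => lam (cjK h hx k) := by
  ext k
  exact extendByZero_of_mem K lam (h.nrm x hx k k.2)

theorem tw_apply (h : Sit Ω E K s) {x : Γ} (hx : x ∈ E) (lam : K → ℂ) (k : K) :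
    tw K lam x k = lam ⟨x * k * x⁻¹, h.nrm x hx k k.2⟩ :=
  extendByZero_of_mem K lam (h.nrm x hx k k.2)

theorem tw_irr (h : Sit Ω E K s) {x : Γ} (hx : x ∈ E) {lam : K → ℂ}
    (hl : IsIrrCharacter K lam) : IsIrrCharacter K (tw K lam x) := by
  rw [tw_eq h hx]; exact hl.comp_surjective _ (cjK_surj h hx)

theorem tw_of_mem (h : Sit Ω E K s) {x : Γ} (hx : x ∈ K) (lam : K → ℂ) : tw K lam x = lam := by
  ext k
  rw [tw_apply h (h.le hx)]
  congr 1
  ext
  simp [h.comm x hx k k.2]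

theorem inner_tw [Fintype K] (h : Sit Ω E K s) {x : Γ} (hx : x ∈ E) {χ : Γ → ℂ}
    (hχ : IsClassFunction Γ χ) (lam : K → ℂ) :
    classInner (res K χ) (tw K lam x) = classInner (res K χ) lam := by
  rw [tw_eq h hx, ← classInner_comp_surjective (cjK h hx) (cjK_surj h hx) (res K χ) lam]
  congr 1
  ext k
  exact (hχ k x).symm

theorem finite_Ω (h : Sit Ω E K s) : Finite Ω :=
  Finite.of_surjective (fun g : Γ => g • s) fun z => by
    obtain ⟨k, -, rfl⟩ := h.tr z; exact ⟨k, rfl⟩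

theorem card_Ω (h : Sit Ω E K s) : Nat.card Ω = Nat.card K := by
  refine (Nat.card_congr (Equiv.ofBijective (fun k : K => (k : Γ) • s) ⟨?_, ?_⟩)).symm
  · intro a b hab
    have : ((b : Γ)⁻¹ * a) • s = s := by
      rw [mul_smul, inv_smul_eq_iff]; exact hab
    have := h.free _ (K.mul_mem (K.inv_mem b.2) a.2) this
    ext; rw [inv_mul_eq_one] at this; exact this.symm
  · intro z
    obtain ⟨k, hk, rfl⟩ := h.tr z
    exact ⟨⟨k, hk⟩, rfl⟩

theorem perm_char (h : Sit Ω E K s) : IsCharacter Γ (perm Γ Ω) := by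
  have := finite_Ω h
  exact isCharacter_fixedBy Ω

theorem perm_one (h : Sit Ω E K s) : perm Γ Ω 1 = Nat.card K := by
  rw [perm, ← card_Ω h, fixedBy_one_eq_univ, Nat.card_univ]

theorem perm_of_ne (h : Sit Ω E K s) {k : Γ} (hk : k ∈ K) (h1 : k ≠ 1) : perm Γ Ω k = 0 := by
  have : IsEmpty (fixedBy Ω k) := ⟨fun ⟨z, hz⟩ => by
    obtain ⟨l, hl, rfl⟩ := h.tr z
    rw [mem_fixedBy, ← mul_smul, h.comm k hk l hl, mul_smul, smul_left_cancel_iff] at hz
    exact h1 (h.free k hk hz)⟩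
  rw [perm, Nat.card_of_isEmpty, Nat.cast_zero]

theorem irr_one (h : Sit Ω E K s) {lam : K → ℂ} (hl : IsIrrCharacter K lam) : lam 1 = 1 :=
  hl.apply_one_of_comm fun a b => Subtype.ext (h.comm a a.2 b b.2)

theorem inner_perm [Fintype K] (h : Sit Ω E K s) {lam : K → ℂ} (hl : IsIrrCharacter K lam) :
    classInner (res K (perm Γ Ω)) lam = 1 := by
  rw [classInner_def, Finset.sum_eq_single (1 : K)]
  · simp only [res, OneMemClass.coe_one]
    rw [perm_one h, irr_one h hl, map_one, mul_one, inv_mul_cancel₀ (card_ne_zero K)]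
  · intro k _ hk
    simp only [res]
    rw [perm_of_ne h k.2 (fun e => hk (Subtype.ext e)), zero_mul]
  · simp

theorem sum_mul [Fintype K] (h : Sit Ω E K s) {lam : K → ℂ} (hl : IsIrrCharacter K lam) :
    ∑ χ : IrrCharacter Γ, classInner (perm Γ Ω) χ * classInner (res K χ) lam = 1 := by
  rw [← inner_perm h hl]
  have e := (perm_char h).classFun.eq_sum
  have : res K (perm Γ Ω) = ∑ χ : IrrCharacter Γ, classInner (perm Γ Ω) χ • res K χ := by
    ext k
    simp only [res, Finset.sum_apply, Pi.smul_apply, smul_eq_mul]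
    exact (perm_char h).classFun.apply_eq_sum k
  rw [this, classInner_sum_left]
  simp only [classInner_smul_left]

theorem nat_sum_one {ι : Type*} [Fintype ι] {f : ι → ℕ} (h : ∑ i, f i = 1) {i j : ι}
    (hi : f i ≠ 0) (hj : f j ≠ 0) : i = j ∧ f i = 1 := by
  classical
  have hle : f i ≤ 1 := h ▸ Finset.single_le_sum (fun _ _ => Nat.zero_le _) (Finset.mem_univ i)
  refine ⟨?_, by omega⟩
  by_contra hij
  have := Finset.sum_le_sum_of_subset (f := f) (Finset.subset_univ {i, j})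
  rw [Finset.sum_pair hij] at this
  omega

theorem uniq [Fintype K] (h : Sit Ω E K s) {lam : K → ℂ} (hl : IsIrrCharacter K lam)
    {χ ψ : Γ → ℂ} (hχ : IsIrrCharacter Γ χ) (hψ : IsIrrCharacter Γ ψ)
    (mχ : classInner (perm Γ Ω) χ ≠ 0) (mψ : classInner (perm Γ Ω) ψ ≠ 0)
    (aχ : classInner (res K χ) lam ≠ 0) (aψ : classInner (res K ψ) lam ≠ 0) :
    χ = ψ ∧ classInner (perm Γ Ω) χ = 1 ∧ classInner (res K χ) lam = 1 := by
  choose m hm using fun χ : IrrCharacter Γ => (perm_char h).inner_nat χ.2.isCharacter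
  choose a ha using fun χ : IrrCharacter Γ =>
    (χ.2.isCharacter.restrict K).inner_nat hl.isCharacter
  have hs := sum_mul h hl
  have ha' : ∀ χ : IrrCharacter Γ, classInner (res K χ) lam = a χ := ha
  simp only [hm, ha'] at hs
  have hs' : ∑ χ : IrrCharacter Γ, m χ * a χ = 1 := by exact_mod_cast hs
  have h1 : m ⟨χ, hχ⟩ * a ⟨χ, hχ⟩ ≠ 0 := by
    refine mul_ne_zero (fun e => mχ ?_) (fun e => aχ ?_)
    · rw [hm ⟨χ, hχ⟩, e, Nat.cast_zero]
    · rw [ha' ⟨χ, hχ⟩, e, Nat.cast_zero]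
  have h2 : m ⟨ψ, hψ⟩ * a ⟨ψ, hψ⟩ ≠ 0 := by
    refine mul_ne_zero (fun e => mψ ?_) (fun e => aψ ?_)
    · rw [hm ⟨ψ, hψ⟩, e, Nat.cast_zero]
    · rw [ha' ⟨ψ, hψ⟩, e, Nat.cast_zero]
  obtain ⟨e, e1⟩ := nat_sum_one (f := fun χ => m χ * a χ) hs' h1 h2
  refine ⟨congrArg Subtype.val e, ?_, ?_⟩
  · rw [hm ⟨χ, hχ⟩, Nat.eq_one_of_mul_eq_one_right e1, Nat.cast_one]
  · rw [ha' ⟨χ, hχ⟩, Nat.eq_one_of_mul_eq_one_left e1, Nat.cast_one]

theorem perm_inner_one (h : Sit Ω E K s) : classInner (perm Γ Ω) (fun _ => 1) = 1 := by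
  have := finite_Ω h
  have ht : IsPretransitive Γ Ω := ⟨fun u v => by
    obtain ⟨k, -, rfl⟩ := h.tr u
    obtain ⟨l, -, rfl⟩ := h.tr v
    exact ⟨l * k⁻¹, by rw [mul_smul, inv_smul_smul]⟩⟩
  have : Nonempty Ω := ⟨s⟩
  have e := classInner_fixedBy_one (G := Γ) Ω
  rw [(pretransitive_iff_unique_quotient_of_nonempty Γ Ω).1 ht |>.elim fun u => Nat.card_unique]
    at e
  rw [Nat.cast_one] at e
  exact e

/-- a character of `K` with inertia group `K` in `E` -/
def Gen (E K : Subgroup Γ) (lam : K → ℂ) : Prop := ∀ x ∈ E, tw K lam x = lam → x ∈ K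

theorem exists_gen [Fintype K] (h : Sit Ω E K s) {θ : Γ → ℂ} (hθ : IsIrrCharacter Γ θ)
    (mθ : classInner (perm Γ Ω) θ ≠ 0) (h1 : θ ≠ fun _ => 1) :
    ∃ lam, IsIrrCharacter K lam ∧ Gen E K lam ∧ classInner (res K θ) lam ≠ 0 := by
  by_contra hc
  push Not at hc
  have hKM : K ≤ charKer θ := by
    refine h.ker _ (charKer_normal hθ.classFun) fun k hk hz => ?_
    rw [mem_charKer_iff hθ.isCharacter]
    have hr := (hθ.isCharacter.restrict K).classFun
    have e1 := hr.apply_eq_sum ⟨k, hk⟩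
    have e2 := hr.apply_eq_sum 1
    simp only [OneMemClass.coe_one] at e1 e2
    rw [e1, e2]
    refine Finset.sum_congr rfl fun lam _ => ?_
    by_cases hg : Gen E K lam
    · have : classInner (fun h : K => θ h) lam = 0 := hc lam lam.2 hg
      rw [this, zero_mul, zero_mul]
    · congr 1
      simp only [Gen] at hg
      push Not at hg
      obtain ⟨d, hd, htw, hdK⟩ := hg
      obtain ⟨l, hl, rfl⟩ := hz d hd hdK
      have hm := lam.2.isCharacter.map_mul_of_apply_one (irr_one h lam.2)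
      have e : (⟨l * d * l⁻¹ * d⁻¹, hk⟩ : K) =
          ⟨l, hl⟩ * ⟨d * l⁻¹ * d⁻¹, h.nrm d hd _ (K.inv_mem hl)⟩ := by
        ext; simp [mul_assoc]
      have e' := congrFun htw ⟨l, hl⟩⁻¹
      rw [tw_apply h hd] at e'
      rw [e, hm]
      erw [e']
      rw [← hm, mul_inv_cancel]
  have hres : res K θ = θ 1 • fun _ => 1 := by
    ext k
    simp only [res, Pi.smul_apply, smul_eq_mul, mul_one]
    exact apply_of_mem_charKer (hKM k.2)
  refine h1 (uniq h isIrrCharacter_one hθ isIrrCharacter_one mθ ?_ ?_ ?_).1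
  · rw [perm_inner_one h]; exact one_ne_zero
  · rw [hres, classInner_smul_left, classInner_one_one, mul_one]; exact hθ.apply_one_ne_zero
  · have : res K (fun _ : Γ => (1 : ℂ)) = fun _ => 1 := rfl
    rw [this, classInner_one_one]; exact one_ne_zero

open Classical in
theorem res_ind (h : Sit Ω E K s) {α : K → ℂ} (h1 : α 1 = 0) :
    res K (indFun K α) =
      (Nat.card K : ℂ)⁻¹ • ∑ x ∈ Finset.univ.filter (fun x : Γ => x ∈ E), tw K α x := by
  ext k
  simp only [res, Pi.smul_apply, smul_eq_mul, Finset.sum_apply]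
  rw [H4.indFun_apply']
  congr 1
  rw [Finset.sum_filter]
  refine Finset.sum_congr rfl fun x _ => ?_
  split_ifs with hx
  · rfl
  · by_cases hk : (k : Γ) = 1
    · rw [hk, mul_one, mul_inv_cancel, extendByZero_of_mem K α K.one_mem]; exact h1
    · exact extendByZero_of_not_mem K α fun hm => hx (h.ti x k k.2 hk (h.le hm))

theorem tw_sub (α β : K → ℂ) (x : Γ) : tw K (α - β) x = tw K α x - tw K β x := by
  ext k
  by_cases hx : x * k * x⁻¹ ∈ K <;> simp [tw, extendByZero_eq_dite, hx]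

open Classical in
theorem sum_gen [Fintype K] (h : Sit Ω E K s) {lam : K → ℂ} (hl : IsIrrCharacter K lam)
    (hg : Gen E K lam) :
    ∑ x ∈ Finset.univ.filter (fun x : Γ => x ∈ E), classInner (tw K lam x) lam = Nat.card K := by
  have : ∀ x ∈ Finset.univ.filter (fun x : Γ => x ∈ E),
      classInner (tw K lam x) lam = if x ∈ K then 1 else 0 := by
    intro x hx
    have hx := (Finset.mem_filter.1 hx).2
    split_ifs with hxK
    · rw [tw_of_mem h hxK, hl.inner_self]
    · exact (tw_irr h hx hl).inner_of_ne hl fun e => hxK (hg x hx e)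
  rw [Finset.sum_congr rfl this, Finset.sum_boole, Finset.filter_filter, Nat.card_eq_fintype_card,
    Fintype.card_subtype]
  congr 2
  ext x
  simp only [Finset.mem_filter, Finset.mem_univ, true_and]
  exact ⟨fun hx => hx.2, fun hx => ⟨h.le hx, hx⟩⟩

theorem nonreal [Fintype K] (h : Sit Ω E K s) {θ θ' : Γ → ℂ} (hθ : IsIrrCharacter Γ θ)
    (hθ' : IsIrrCharacter Γ θ') (mθ : classInner (perm Γ Ω) θ ≠ 0)
    (mθ' : classInner (perm Γ Ω) θ' ≠ 0) (h1 : θ ≠ fun _ => 1) (h1' : θ' ≠ fun _ => 1)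
    (hne : θ ≠ θ') : ¬ ∀ g, (θ g).im = 0 := by
  classical
  intro hreal
  obtain ⟨lam, hl, hg, ha⟩ := exists_gen h hθ mθ h1
  obtain ⟨lam', hl', hg', ha'⟩ := exists_gen h hθ' mθ' h1'
  have ha1 := (uniq h hl hθ hθ mθ mθ ha ha).2.2
  have ha1' := (uniq h hl' hθ' hθ' mθ' mθ' ha' ha').2.2
  have dis : ∀ μ, IsIrrCharacter K μ → classInner (res K θ) μ ≠ 0 →
      classInner (res K θ') μ = 0 := fun μ hμ h0 => by
    by_contra h0'
    exact hne (uniq h hμ hθ hθ' mθ mθ' h0 h0').1
  have dis' : ∀ μ, IsIrrCharacter K μ → classInner (res K θ') μ ≠ 0 →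
      classInner (res K θ) μ = 0 := fun μ hμ h0 => by
    by_contra h0'
    exact h0 (dis μ hμ h0')
  -- twisted characters of different families are orthogonal
  have o1 : ∀ μ, IsIrrCharacter K μ → classInner (res K θ) μ ≠ 0 → ∀ x ∈ E,
      classInner (tw K lam' x) μ = 0 := fun μ hμ h0 x hx =>
    (tw_irr h hx hl').inner_of_ne hμ fun e => ha' (by
      rw [← inner_tw h hx hθ'.classFun, e]; exact dis μ hμ h0)
  have o2 : ∀ μ, IsIrrCharacter K μ → classInner (res K θ') μ ≠ 0 → ∀ x ∈ E,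
      classInner (tw K lam x) μ = 0 := fun μ hμ h0 x hx =>
    (tw_irr h hx hl).inner_of_ne hμ fun e => ha (by
      rw [← inner_tw h hx hθ.classFun, e]; exact dis' μ hμ h0)
  set α : K → ℂ := lam - lam' with hα
  have hα1 : α 1 = 0 := by simp [hα, irr_one h hl, irr_one h hl']
  have key : ∀ μ, classInner (res K (indFun K α)) μ = (Nat.card K : ℂ)⁻¹ *
      (∑ x ∈ Finset.univ.filter (fun x : Γ => x ∈ E), classInner (tw K lam x) μ -
        ∑ x ∈ Finset.univ.filter (fun x : Γ => x ∈ E), classInner (tw K lam' x) μ) := fun μ => by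
    rw [res_ind h hα1, classInner_smul_left, classInner_sum_left, ← Finset.sum_sub_distrib]
    simp only [hα, tw_sub, classInner_sub_left]
  have hK0 := card_ne_zero K
  have k1 : classInner (res K (indFun K α)) lam = 1 := by
    rw [key, sum_gen h hl hg, Finset.sum_eq_zero fun x hx =>
      o1 lam hl ha x (Finset.mem_filter.1 hx).2, sub_zero, inv_mul_cancel₀ hK0]
  have k2 : classInner (res K (indFun K α)) lam' = -1 := by
    rw [key, sum_gen h hl' hg', Finset.sum_eq_zero fun x hx =>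
      o2 lam' hl' ha' x (Finset.mem_filter.1 hx).2, zero_sub, mul_neg, inv_mul_cancel₀ hK0]
  have n1 : classInner (indFun K α) (indFun K α) = 2 := by
    rw [H4.classInner_indFun_right K α (indFun_classFun K α)]
    change classInner (res K (indFun K α)) (lam - lam') = 2
    rw [classInner_sub_right, k1, k2]; norm_num
  have n2 : classInner θ (indFun K α) = 1 := by
    rw [H4.classInner_indFun_right K α hθ.classFun]
    change classInner (res K θ) (lam - lam') = 1
    rw [classInner_sub_right, ha1, dis' lam' hl' ha', sub_zero]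
  have n3 : classInner θ' (indFun K α) = -1 := by
    rw [H4.classInner_indFun_right K α hθ'.classFun]
    change classInner (res K θ') (lam - lam') = -1
    rw [classInner_sub_right, ha1', dis lam hl ha, zero_sub]
  have n2' : classInner (indFun K α) θ = 1 := by rw [← conj_classInner, n2, map_one]
  have n3' : classInner (indFun K α) θ' = -1 := by rw [← conj_classInner, n3, map_neg, map_one]
  have heq : indFun K α - (θ - θ') = 0 := by
    rw [← classInner_self_eq_zero]
    simp only [classInner_sub_left, classInner_sub_right, n1, n2, n3, n2', n3', hθ.inner_self,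
      hθ'.inner_self, hθ.inner_of_ne hθ' hne, hθ'.inner_of_ne hθ hne.symm]
    norm_num
  rw [sub_eq_zero] at heq
  -- the conjugate character
  have hlb := hl.conj
  have hab : classInner (res K θ) (fun k => conj (lam k)) = 1 := by
    have e : res K θ = fun k => conj (res K θ k) := by
      ext k; exact (congrFun (isReal_iff_conj_eq.1 hreal) k).symm
    rw [e, classInner_conj_conj, ← conj_classInner, ha1, map_one]
  have hab0 : classInner (res K θ) (fun k => conj (lam k)) ≠ 0 := by rw [hab]; exact one_ne_zero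
  have k3 := key (fun k => conj (lam k))
  have e3 : res K (θ - θ') = res K θ - res K θ' := rfl
  rw [heq, e3, classInner_sub_left, hab, dis _ hlb hab0, Finset.sum_eq_zero
    (s := Finset.univ.filter (fun x : Γ => x ∈ E))
    (f := fun x => classInner (tw K lam' x) fun k => conj (lam k)) fun x hx =>
      o1 _ hlb hab0 x (Finset.mem_filter.1 hx).2] at k3
  obtain ⟨x, hx, hx0⟩ := Finset.exists_ne_zero_of_sum_ne_zero
    (s := Finset.univ.filter (fun x : Γ => x ∈ E))
    (f := fun x => classInner (tw K lam x) fun k => conj (lam k)) (fun e => by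
      rw [e] at k3; simp at k3)
  have hx := (Finset.mem_filter.1 hx).2
  have etw := (tw_irr h hx hl).eq_of_inner_ne_zero hlb hx0
  have hxx : x * x ∈ K := by
    refine hg _ (E.mul_mem hx hx) ?_
    ext k
    have e1 := congrFun etw ⟨x * k * x⁻¹, h.nrm x hx k k.2⟩
    have e2 := congrFun etw k
    rw [tw_apply h hx] at e1 e2
    rw [tw_apply h (E.mul_mem hx hx)]
    rw [e2, Complex.conj_conj] at e1
    rw [← e1]
    congr 2
    simp [mul_assoc]
  have hxK : x ∈ K := by
    obtain ⟨n, hn⟩ := h.odd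
    have e : x ^ Nat.card E = 1 := by
      have := pow_card_eq_one' (x := (⟨x, hx⟩ : E))
      exact congrArg Subtype.val this
    have e' : x = ((x * x) ^ n)⁻¹ := by
      rw [eq_inv_iff_mul_eq_one, ← pow_two, ← pow_mul, ← pow_succ', ← hn, e]
    rw [e']; exact K.inv_mem (K.pow_mem hxx n)
  rw [tw_of_mem h hxK] at etw
  have hodd : Odd (Nat.card K) := h.odd.of_dvd_nat (Subgroup.card_dvd_of_le h.le)
  have hone := hl.eq_one_of_real_of_odd hodd (isReal_iff_conj_eq.2 etw.symm)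
  obtain ⟨d, hd, hdK⟩ := h.ne
  refine hdK (hg d hd ?_)
  rw [tw_eq h hd, hone]

theorem perm_inner_self (h : Sit Ω E K s) :
    classInner (perm Γ Ω) (perm Γ Ω) = Nat.card (orbitRel.Quotient Γ (Ω × Ω)) := by
  have := finite_Ω h
  rw [← classInner_fixedBy_one (G := Γ) (Ω × Ω), classInner_def, classInner_def]
  congr 1
  refine Finset.sum_congr rfl fun g _ => ?_
  rw [perm, map_natCast, map_one, mul_one, ← Nat.cast_mul, ← Nat.card_prod]
  congr 1
  refine Nat.card_congr ⟨fun p => ⟨(p.1.1, p.2.1), Prod.ext p.1.2 p.2.2⟩,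
    fun p => (⟨p.1.1, congrArg Prod.fst p.2⟩, ⟨p.1.2, congrArg Prod.snd p.2⟩), ?_, ?_⟩
  · intro p; rfl
  · intro p; rfl

theorem fs_perm {c : IrrCharacter Γ → ℂ} :
    fsInd (∑ χ : IrrCharacter Γ, c χ • (χ : Γ → ℂ)) = ∑ χ : IrrCharacter Γ, c χ * fsInd (χ : Γ → ℂ) := by
  simp only [fsInd, Finset.sum_apply, Pi.smul_apply, smul_eq_mul]
  rw [Finset.sum_comm, Finset.mul_sum]
  refine Finset.sum_congr rfl fun χ _ => ?_
  rw [← Finset.mul_sum]; ring

theorem dich (h : Sit Ω E K s) :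
    (∀ u v u' v' : Ω, u ≠ v → u' ≠ v' → ∃ g : Γ, g • u = u' ∧ g • v = v') ∨
      (∀ (g : Γ) (u v : Ω), g • u = v → g • v = u → u = v) := by
  classical
  have := finite_Ω h
  have := Fintype.ofFinite K
  by_cases h2 : ∀ u v u' v' : Ω, u ≠ v → u' ≠ v' → ∃ g : Γ, g • u = u' ∧ g • v = v'
  · exact Or.inl h2
  right
  push Not at h2
  obtain ⟨u, v, u', v', huv, huv', hno⟩ := h2
  -- at least three orbits on pairs
  have h3 : 2 < Nat.card (orbitRel.Quotient Γ (Ω × Ω)) := by
    have := Fintype.ofFinite (orbitRel.Quotient Γ (Ω × Ω))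
    rw [Nat.card_eq_fintype_card, Fintype.two_lt_card_iff]
    refine ⟨Quotient.mk _ (s, s), Quotient.mk _ (u, v), Quotient.mk _ (u', v'), ?_, ?_, ?_⟩
    · intro e
      obtain ⟨g, hg⟩ := Quotient.exact e.symm
      exact huv ((congrArg Prod.fst hg).symm.trans (congrArg Prod.snd hg))
    · intro e
      obtain ⟨g, hg⟩ := Quotient.exact e.symm
      exact huv' ((congrArg Prod.fst hg).symm.trans (congrArg Prod.snd hg))
    · intro e
      obtain ⟨g, hg⟩ := Quotient.exact e.symm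
      exact hno g (congrArg Prod.fst hg) (congrArg Prod.snd hg)
  have hm : ∀ χ : IrrCharacter Γ, classInner (perm Γ Ω) χ ≠ 0 → classInner (perm Γ Ω) χ = 1 := by
    intro χ hχ
    obtain ⟨lam, hl, ha⟩ := χ.2.exists_irr_below K
    exact (uniq h hl χ.2 χ.2 hχ hχ ha ha).2.1
  set S := Finset.univ.filter (fun χ : IrrCharacter Γ => classInner (perm Γ Ω) χ ≠ 0) with hS
  have hcard : (S.card : ℂ) = Nat.card (orbitRel.Quotient Γ (Ω × Ω)) := by
    rw [← perm_inner_self h, (perm_char h).classFun.inner_eq_sum, hS, ← Finset.sum_boole]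
    refine Finset.sum_congr rfl fun χ _ => ?_
    split_ifs with hχ
    · rw [hm χ hχ]; simp
    · push Not at hχ; rw [hχ, zero_mul]
  have hcard' : 2 < S.card := by
    have : S.card = Nat.card (orbitRel.Quotient Γ (Ω × Ω)) := by exact_mod_cast hcard
    omega
  have hlt : 1 < (S.erase (irrOne Γ)).card := by
    have := Finset.pred_card_le_card_erase (s := S) (a := irrOne Γ)
    omega
  obtain ⟨θ, hθ, θ', hθ', hne⟩ := Finset.one_lt_card.1 hlt
  rw [Finset.mem_erase, hS, Finset.mem_filter] at hθ hθ'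
  have hfs : ∀ χ : IrrCharacter Γ, χ ≠ irrOne Γ →
      classInner (perm Γ Ω) χ * fsInd (χ : Γ → ℂ) = 0 := by
    intro χ h1
    by_cases hχ : classInner (perm Γ Ω) χ = 0
    · rw [hχ, zero_mul]
    have h1' : ∀ ψ : IrrCharacter Γ, ψ ≠ irrOne Γ → (ψ : Γ → ℂ) ≠ fun _ => 1 :=
      fun ψ hψ e => hψ (Subtype.ext e)
    have hnr : ¬ ∀ g, ((χ : Γ → ℂ) g).im = 0 := by
      by_cases e : χ = θ
      · exact nonreal h χ.2 θ'.2 hχ hθ'.2.2 (h1' _ h1) (h1' _ hθ'.1)
          fun e' => hne (e ▸ Subtype.ext e')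
      · exact nonreal h χ.2 θ.2 hχ hθ.2.2 (h1' _ h1) (h1' _ hθ.1) fun e' => e (Subtype.ext e')
    rw [χ.2.fsInd_spec.2 hnr, mul_zero]
  have hfs1 : fsInd (perm Γ Ω) = 1 := by
    rw [(perm_char h).classFun.eq_sum, fs_perm, Finset.sum_eq_single (irrOne Γ)
      (fun χ _ h1 => hfs χ h1) (by simp), irrOne_coe, perm_inner_one h, fsInd_eq_classInner,
      classInner_one_one, mul_one]
  have hsum : ∑ g : Γ, Nat.card (fixedBy Ω (g * g)) = ∑ g : Γ, Nat.card (fixedBy Ω g) := by
    have e1 := (perm_inner_one h).trans hfs1.symm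
    rw [fsInd, classInner_def] at e1
    have e2 := mul_left_cancel₀ (inv_ne_zero (card_ne_zero Γ)) e1
    simp only [map_one, mul_one, perm] at e2
    exact_mod_cast e2.symm
  have hsub : ∀ g : Γ, fixedBy Ω g ⊆ fixedBy Ω (g * g) := fun g z hz => by
    rw [mem_fixedBy] at hz ⊢
    rw [mul_smul, hz, hz]
  have hle : ∀ g : Γ, Nat.card (fixedBy Ω g) ≤ Nat.card (fixedBy Ω (g * g)) := fun g =>
    Set.ncard_le_ncard (hsub g)
  have heq := (Finset.sum_eq_sum_iff_of_le (s := Finset.univ) fun g _ => hle g).1 hsum.symm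
  intro g a b hab hba
  have e := Set.eq_of_subset_of_ncard_le (hsub g) (heq g (Finset.mem_univ g)).ge
  have : a ∈ fixedBy Ω (g * g) := by rw [mem_fixedBy, mul_smul, hab, hba]
  rw [← e, mem_fixedBy] at this
  rw [← hab, this]

end H25.BDich
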