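import Mathlib
import Cfsg.Agent.H25.Std0
import Cfsg.Agent.H6.RankThree
import Cfsg.Agent.H3.PGroup

/-!
# Commuting graphs on elementary abelian `p`-subgroups
-/

set_option autoImplicit false
set_option linter.unusedSectionVars false

namespace H25.Cn

open Cfsg Subgroup H23
open scoped commutatorElement

variable {G : Type*} [Group G] [Finite G] {p : ℕ} [hp : Fact p.Prime]

theorem exists_of_not_pRankLE {k : ℕ} {K : Subgroup G} (h : ¬ PRankLE p k K) :
    ∃ V : Subgroup G, V ≤ K ∧ IsElementaryAbelian p V ∧ p ^ k < Nat.card V := by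
  unfold PRankLE at h
  push Not at h
  obtain ⟨V, h1, h2, h3⟩ := h
  exact ⟨V.map K.subtype, map_subtype_le _, IsElementaryAbelian.map ⟨h1, h2⟩ _,
    by rwa [card_map_of_injective K.subtype_injective]⟩

theorem card_le_of_pRankLE {k : ℕ} {K V : Subgroup G} (h : PRankLE p k K) (hV : V ≤ K)
    (he : IsElementaryAbelian p V) : Nat.card V ≤ p ^ k := by
  by_contra h1
  have h2 := IsElementaryAbelian.subgroupOf he K
  exact h1 (H2.card_subgroupOf_of_le hV ▸ h _ h2.1 h2.2)

theorem elem_sup {A B : Subgroup G} (hA : IsElementaryAbelian p A)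
    (hB : IsElementaryAbelian p B) (h : ⁅A, B⁆ = ⊥) : IsElementaryAbelian p (A ⊔ B) := by
  have hc := comm_bot_iff.mp h
  have hn := le_normalizer_of_comm_bot h
  have h1 : ⁅A ⊔ B, A ⊔ B⁆ = ⊥ :=
    comm_sup_bot
      (comm_bot_symm (comm_sup_bot
        (comm_bot_of_le_centralizer (IsElementaryAbelian.le_centralizer hA)) (comm_bot_symm h)))
      (comm_bot_symm (comm_sup_bot h
        (comm_bot_of_le_centralizer (IsElementaryAbelian.le_centralizer hB))))
  refine isElementaryAbelian_iff.mpr ⟨comm_bot_iff.mp h1, fun x hx => ?_⟩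
  obtain ⟨a, ha, b, hb, rfl⟩ := mem_sup_of_le_normalizer_right hn hx
  rw [Commute.mul_pow (hc a ha b hb), hA.2 a ha, hB.2 b hb, one_mul]

theorem pow_succ_le_card_of_lt {k : ℕ} {V : Subgroup G} (hV : IsPGroup p V)
    (h : p ^ k < Nat.card V) : p ^ (k + 1) ≤ Nat.card V := by
  obtain ⟨n, hn⟩ := hV.exists_card_eq
  rw [hn] at h ⊢
  exact Nat.pow_le_pow_right hp.out.pos ((Nat.pow_lt_pow_iff_right hp.out.one_lt).mp h)

/-- adjacency in the rank `k` commuting graph. -/
abbrev Adj (p k : ℕ) (A B : Subgroup G) : Prop :=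
  IsElementaryAbelian p A ∧ p ^ k ≤ Nat.card A ∧ IsElementaryAbelian p B ∧
    p ^ k ≤ Nat.card B ∧ ∀ a ∈ A, ∀ b ∈ B, a * b = b * a

/-- connectedness in the rank `k` commuting graph. -/
abbrev Conn (p k : ℕ) (A B : Subgroup G) : Prop := Relation.ReflTransGen (Adj p k) A B

theorem Adj.symm {k : ℕ} {A B : Subgroup G} (h : Adj p k A B) : Adj p k B A :=
  ⟨h.2.2.1, h.2.2.2.1, h.1, h.2.1, fun b hb a ha => (h.2.2.2.2 a ha b hb).symm⟩

theorem Conn.symm {k : ℕ} {A B : Subgroup G} (h : Conn p k A B) : Conn p k B A := by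
  induction h with
  | refl => exact Relation.ReflTransGen.refl
  | tail _ h2 ih => exact Relation.ReflTransGen.head (Adj.symm h2) ih

theorem Conn.conj {k : ℕ} {A B : Subgroup G} (h : Conn p k A B) (g : G) :
    Conn p k (A.map (MulAut.conj g).toMonoidHom) (B.map (MulAut.conj g).toMonoidHom) := by
  induction h with
  | refl => exact Relation.ReflTransGen.refl
  | tail _ h2 ih =>
    refine Relation.ReflTransGen.tail ih ⟨IsElementaryAbelian.map h2.1 _,
      by rw [card_map_conj]; exact h2.2.1, IsElementaryAbelian.map h2.2.2.1 _,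
      by rw [card_map_conj]; exact h2.2.2.2.1, ?_⟩
    exact comm_bot_iff.mp (map_comm_bot (comm_bot_iff.mpr h2.2.2.2.2) _)

/-! ### rank one -/

theorem ne_bot_of_card {A : Subgroup G} (h : p ^ 1 ≤ Nat.card A) : A ≠ ⊥ := by
  rintro rfl
  rw [card_bot, pow_one] at h
  exact absurd hp.out.one_lt (not_lt.mpr h)

theorem card_zpowers_ge {x : G} (hx : orderOf x = p) : p ^ 1 ≤ Nat.card (zpowers x) := by
  rw [Nat.card_zpowers, hx, pow_one]

theorem conn_one_of_le {P A B : Subgroup G} (hP : IsPGroup p P) (hA : A ≤ P) (hB : B ≤ P)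
    (hA1 : IsElementaryAbelian p A) (hA2 : p ^ 1 ≤ Nat.card A) (hB1 : IsElementaryAbelian p B)
    (hB2 : p ^ 1 ≤ Nat.card B) : Conn p 1 A B := by
  obtain ⟨t, -, ht, ho⟩ := exists_central_orderOf_eq hP
    fun h => ne_bot_of_card hA2 (le_bot_iff.mp (h ▸ hA))
  have h1 := isElementaryAbelian_zpowers (pow_eq_one_of_orderOf_eq ho)
  have h2 := card_zpowers_ge ho
  refine Relation.ReflTransGen.head ⟨hA1, hA2, h1, h2, fun a ha b hb => ?_⟩
    (Relation.ReflTransGen.single ⟨h1, h2, hB1, hB2, fun a ha b hb => ?_⟩)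
  · exact (zpowers_le.mpr ht hb) a (hA ha)
  · exact ((zpowers_le.mpr ht ha) b (hB hb)).symm

theorem strongly_embedded_iff : (∃ H : Subgroup G, H ≠ ⊤ ∧ p ∣ Nat.card H ∧
    ∀ g : G, g ∉ H → ¬ p ∣ Nat.card ↥(H ⊓ H.map (MulAut.conj g).toMonoidHom)) ↔
    ¬ IsKConnected p 1 G := by
  have hord : ∀ H : Subgroup G, p ∣ Nat.card H → ∃ x ∈ H, orderOf x = p := fun H h => by
    obtain ⟨x, hx⟩ := exists_prime_orderOf_dvd_card' (G := H) p h
    exact ⟨x, x.2, by rw [← hx, orderOf_coe]⟩
  constructor
  · rintro ⟨H, h1, h2, h3⟩ hc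
    obtain ⟨x, hx, ho⟩ := hord H h2
    obtain ⟨g, hg⟩ : ∃ g, g ∉ H := by
      by_contra h; push Not at h; exact h1 (eq_top_iff.mpr fun g _ => h g)
    have he := isElementaryAbelian_zpowers (pow_eq_one_of_orderOf_eq ho)
    have key : ∀ B, Conn p 1 (zpowers x) B → B ≤ H := by
      intro B hB
      induction hB with
      | refl => exact zpowers_le.mpr hx
      | @tail A B _ h4 ih =>
        intro b hb
        by_contra hb'
        apply h3 b hb'
        have h5 : A ≤ H ⊓ H.map (MulAut.conj b).toMonoidHom := le_inf ih fun a ha => by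
          rw [mem_map_conj, mul_assoc, h4.2.2.2.2 a ha b hb, inv_mul_cancel_left]; exact ih ha
        refine dvd_trans ?_ (card_dvd_of_le h5)
        obtain ⟨n, hn⟩ := (IsElementaryAbelian.isPGroup h4.1).exists_card_eq
        have h6 := h4.2.1
        rw [hn] at h6 ⊢
        exact dvd_pow_self p (by
          have := (Nat.pow_le_pow_iff_right hp.out.one_lt).mp h6; omega)
    have h4 := key _ (hc _ _ he (card_zpowers_ge ho) (IsElementaryAbelian.map he
      (MulAut.conj g).toMonoidHom) (by rw [card_map_conj]; exact card_zpowers_ge ho))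
    apply h3 g hg
    refine dvd_trans ?_ (card_dvd_of_le (le_inf h4 (map_mono (zpowers_le.mpr hx))))
    rw [card_map_conj, Nat.card_zpowers, ho]
  · intro hc
    unfold IsKConnected at hc
    push Not at hc
    obtain ⟨E, E', h1, h2, h3, h4, hne⟩ := hc
    let H : Subgroup G :=
      { carrier := {g | Conn p 1 E (E.map (MulAut.conj g).toMonoidHom)}
        one_mem' := by
          change Conn p 1 E _
          rw [map_conj_one]
        mul_mem' := fun {a b} ha hb => by
          change Conn p 1 E _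
          rw [map_conj_mul]
          exact Relation.ReflTransGen.trans ha (Conn.conj hb a)
        inv_mem' := fun {a} ha => by
          change Conn p 1 E _
          have := Conn.conj ha a⁻¹
          rw [map_conj_conj_inv] at this
          exact this.symm }
    have memH : ∀ g, g ∈ H ↔ Conn p 1 E (E.map (MulAut.conj g).toMonoidHom) := fun g => Iff.rfl
    obtain ⟨P, hP, hEP, -, hPi⟩ := H13.exists_sylow_rel (L := ⊤)
      (IsElementaryAbelian.isPGroup h1) le_top
    have hPH : P ≤ H := fun g hg => conn_one_of_le hP hEP (map_conj_le_of_mem hEP hg) h1 h2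
      (IsElementaryAbelian.map h1 _) (by rw [card_map_conj]; exact h2)
    have key : ∀ L : Subgroup G, P ≤ L → ∀ X : Subgroup G, X ≤ L → IsElementaryAbelian p X →
        p ^ 1 ≤ Nat.card X → ∃ l ∈ L, Conn p 1 (E.map (MulAut.conj l).toMonoidHom) X := by
      intro L hL X hXL hX hX2
      obtain ⟨l, hl, h⟩ := H13.exists_conj_mem_of_not_dvd_relIndex hP (L := L)
        (fun hd => hPi (hd.trans (by
          rw [← relIndex_mul_relIndex P L ⊤ hL le_top]; exact dvd_mul_right _ _)))
        (IsElementaryAbelian.isPGroup hX) hXL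
      refine ⟨l⁻¹, inv_mem hl, ?_⟩
      have h5 := Conn.conj (conn_one_of_le hP hEP (B := X.map (MulAut.conj l).toMonoidHom)
        (by rintro _ ⟨x, hx, rfl⟩; exact h x hx) h1 h2 (IsElementaryAbelian.map hX _)
        (by rw [card_map_conj]; exact hX2)) l⁻¹
      rwa [map_conj_conj_inv] at h5
    refine ⟨H, fun h => ?_, ?_, fun g hg hd => hg ?_⟩
    · obtain ⟨l, -, h5⟩ := key ⊤ le_top E' le_top h3 h4
      exact hne (Relation.ReflTransGen.trans ((memH l).mp (h ▸ mem_top l)) h5)
    · obtain ⟨t, ht, -, ho⟩ := exists_central_orderOf_eq hP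
        fun h => ne_bot_of_card h2 (le_bot_iff.mp (h ▸ hEP))
      exact ho ▸ orderOf_dvd_natCard H (hPH ht)
    · obtain ⟨x, hx, ho⟩ := hord _ hd
      have he := isElementaryAbelian_zpowers (pow_eq_one_of_orderOf_eq ho)
      obtain ⟨l, hl, h5⟩ := key H hPH _ (zpowers_le.mpr hx.1) he (card_zpowers_ge ho)
      obtain ⟨l', hl', h6⟩ := key H hPH ((zpowers x).map (MulAut.conj g⁻¹).toMonoidHom)
        (by
          have := map_mono (f := (MulAut.conj g⁻¹).toMonoidHom) (zpowers_le.mpr hx.2)
          rwa [map_conj_conj_inv] at this)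
        (IsElementaryAbelian.map he _) (by rw [card_map_conj]; exact card_zpowers_ge ho)
      have h7 := Conn.conj (Relation.ReflTransGen.trans ((memH l').mp hl') h6) g
      rw [← map_conj_mul (zpowers x), mul_inv_cancel, map_conj_one] at h7
      exact Relation.ReflTransGen.trans
        (Relation.ReflTransGen.trans ((memH l).mp hl) h5) h7.symm

/-! ### rank two -/

theorem exists_normal_sq (hP : IsPGroup p G) (hrk : ¬ PRankLE p 2 G) :
    ∃ U : Subgroup G, U.Normal ∧ IsElementaryAbelian p U ∧ Nat.card U = p ^ 2 := by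
  unfold PRankLE at hrk
  push Not at hrk
  obtain ⟨E, h1, h2, h3⟩ := hrk
  by_cases hp2 : p = 2
  · subst hp2
    obtain ⟨z, u, hz, hu, hzc, huz, h⟩ := H6.exists_normal_four hP E
      (pow_succ_le_card_of_lt (hP.to_subgroup E) h3) h2
    have hzc' : zpowers z ≤ center G := zpowers_le.mpr hzc
    haveI : (zpowers z).Normal := ⟨fun x hx g => by
      rw [mem_center_iff.mp (hzc' hx) g, mul_inv_cancel_right]; exact hx⟩
    have hcomm : ⁅zpowers u, zpowers z⁆ = ⊥ :=
      comm_bot_iff.mpr fun a _ b hb => mem_center_iff.mp (hzc' hb) a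
    refine ⟨zpowers u ⊔ zpowers z, H3.normal_zpowers_sup fun g => ?_,
      elem_sup (isElementaryAbelian_zpowers (pow_eq_one_of_orderOf_eq hu))
        (isElementaryAbelian_zpowers (pow_eq_one_of_orderOf_eq hz)) hcomm, ?_⟩
    · rw [← inv_mem_iff, commutatorElement_inv, commutatorElement_def]
      rcases h g with h | h
      · rw [h, mul_inv_cancel]; exact one_mem _
      · rw [h, mem_center_iff.mp hzc u, mul_inv_cancel_right]; exact mem_zpowers z
    · have h4 := H2.card_sup_mul_card_inf (le_normalizer_of_comm_bot hcomm)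
      have h5 : zpowers u ⊓ zpowers z = ⊥ := by
        rw [eq_bot_iff]
        intro x hx
        by_contra hx1
        rw [mem_bot] at hx1
        have c1 : Nat.card (zpowers u) = 2 := by rw [Nat.card_zpowers, hu]
        have c2 : Nat.card (zpowers z) = 2 := by rw [Nat.card_zpowers, hz]
        exact huz ((eq_of_mem_of_card_two c1 (mem_zpowers u) hx.1 (ne_one_of_orderOf_eq hu)
          hx1).trans (eq_of_mem_of_card_two c2 hx.2 (mem_zpowers z) hx1 (ne_one_of_orderOf_eq hz)))
      rw [h5, card_bot, mul_one, Nat.card_zpowers, Nat.card_zpowers, hu, hz] at h4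
      exact h4
  · refine H3.exists_normal_elementary_sq hp2 hP fun hc => ?_
    haveI : IsCyclic E := inferInstance
    have h4 : Monoid.exponent E ∣ p := Monoid.exponent_dvd_iff_forall_pow_eq_one.mpr
      fun a => Subtype.ext (h2 a a.2)
    rw [IsCyclic.exponent_eq_card] at h4
    have h5 := Nat.le_of_dvd hp.out.pos h4
    have h6 := hp.out.one_lt
    nlinarith

theorem card_inf_centralizer_ge (hP : IsPGroup p G) {U A : Subgroup G} [U.Normal]
    (hU : Nat.card U = p ^ 2) (hA : p ^ 2 < Nat.card A) :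
    p ^ 2 ≤ Nat.card ↥(A ⊓ centralizer (U : Set G)) := by
  have h1 := H3.index_centralizer_le_of_card_le_sq hP U hU.le
  have h2 := pow_succ_le_card_of_lt (hP.to_subgroup A) hA
  have h3 := H2.card_inf_mul_relIndex (centralizer (U : Set G)) A
  have h4 : (centralizer (U : Set G)).relIndex A ≤ p := by
    refine le_trans ?_ h1
    rw [← relIndex_top_right]
    exact relIndex_le_of_le_right le_top (by rw [relIndex_top_right]; exact index_ne_zero_of_finite)
  rw [inf_comm] at h3
  by_contra h5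
  push Not at h5
  have : Nat.card A < p ^ 2 * p := by
    rw [← h3]
    exact Nat.mul_lt_mul_of_lt_of_le h5 h4 hp.out.pos
  rw [pow_succ] at h2
  omega

theorem conn_two_iff (hP : IsPGroup p G) (hrk : ¬ PRankLE p 2 G) {U : Subgroup G} [U.Normal]
    (hU : IsElementaryAbelian p U) (hU2 : Nat.card U = p ^ 2) {X : Subgroup G}
    (hX : IsElementaryAbelian p X) (hX2 : p ^ 2 ≤ Nat.card X) :
    Conn p 2 X U ↔ ¬ PRankLE p 2 (centralizer (X : Set G)) := by
  have grow : ∀ X B : Subgroup G, IsElementaryAbelian p X → p ^ 2 ≤ Nat.card X →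
      IsElementaryAbelian p B → p ^ 2 ≤ Nat.card B → ⁅X, B⁆ = ⊥ →
      PRankLE p 2 (centralizer (X : Set G)) → X = B := by
    intro X B hX hX2 hB hB2 hc h
    have h1 := card_le_of_pRankLE h (sup_le (IsElementaryAbelian.le_centralizer hX)
      (le_centralizer_of_comm_bot (comm_bot_symm hc))) (elem_sup hX hB hc)
    rw [eq_of_le_of_card_ge (le_sup_left : X ≤ X ⊔ B) (h1.trans hX2)]
    exact (eq_of_le_of_card_ge (le_sup_right : B ≤ X ⊔ B) (h1.trans hB2)).symm
  constructor
  · intro h
    induction h using Relation.ReflTransGen.head_induction_on with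
    | refl =>
      intro h
      unfold PRankLE at hrk
      push Not at hrk
      obtain ⟨A, h1, h2, h3⟩ := hrk
      have h4 := grow U (A ⊓ centralizer (U : Set G)) hU hU2.ge
        (IsElementaryAbelian.of_le ⟨h1, h2⟩ inf_le_left) (card_inf_centralizer_ge hP hU2 h3)
        (comm_bot_symm (comm_bot_of_le_centralizer inf_le_right)) h
      have h5 := card_le_of_pRankLE h ((IsElementaryAbelian.le_centralizer ⟨h1, h2⟩).trans
        (centralizer_le (h4.le.trans inf_le_left : U ≤ A))) ⟨h1, h2⟩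
      omega
    | @head A B h1 _ ih =>
      intro h
      have h2 := grow A B h1.1 h1.2.1 h1.2.2.1 h1.2.2.2.1 (comm_bot_iff.mpr h1.2.2.2.2) h
      subst h2
      exact ih hX hX2 h
  · intro h
    obtain ⟨A, h1, h2, h3⟩ := exists_of_not_pRankLE h
    have h4 := IsElementaryAbelian.of_le h2 (inf_le_left : A ⊓ centralizer (U : Set G) ≤ A)
    have h5 := card_inf_centralizer_ge hP hU2 h3
    exact Relation.ReflTransGen.head ⟨hX, hX2, h4, h5, fun a ha b hb => h1 hb.1 a ha⟩
      (Relation.ReflTransGen.single ⟨h4, h5, hU, hU2.ge, fun a ha b hb => (ha.2 b hb).symm⟩)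

theorem card_le_ker_mul_map {A : Type*} [Group A] [Finite A] (φ : A →* A) (H : Subgroup A) :
    Nat.card H ≤ Nat.card φ.ker * Nat.card (H.map φ) := by
  have h1 := card_comap_eq φ (H.map φ)
  rw [map_comap_eq_self (map_le_range φ H)] at h1
  rw [← h1]
  exact card_le_of_le (le_comap_map φ H)

theorem card_le_of_order_three {A : Subgroup G} (hA : IsElementaryAbelian 3 A) {x : G}
    (hx : x ∈ normalizer (A : Set G)) (hx3 : x ^ 3 = 1) :
    Nat.card A ≤ Nat.card ↥(A ⊓ centralizer {x}) ^ 3 := by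
  haveI := hA.1
  letI : CommGroup A := { (inferInstance : Group A) with mul_comm := hA.1.is_comm.comm }
  let σ : A →* A := H1.conjHom A x hx
  let φ : A →* A := σ * (MonoidHom.id A)⁻¹
  have hφ : ∀ a, φ a = σ a * a⁻¹ := fun a => rfl
  have hσ : ∀ a, σ (σ (σ a)) = a := fun a => Subtype.ext (by
    change x * (x * (x * a * x⁻¹) * x⁻¹) * x⁻¹ = a
    calc x * (x * (x * a * x⁻¹) * x⁻¹) * x⁻¹ = x ^ 3 * a * (x ^ 3)⁻¹ := by
          rw [pow_three]; group
      _ = a := by rw [hx3]; group)
  have h3 : ∀ a : A, a ^ 3 = 1 := fun a => Subtype.ext (hA.2 a a.2)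
  have hnil : ∀ a, φ (φ (φ a)) = 1 := fun a => by
    simp only [hφ, map_mul, map_inv, hσ]
    calc _ = (σ a) ^ 3 * ((σ (σ a)) ^ 3)⁻¹ := by
          apply Additive.ofMul.injective
          simp only [ofMul_mul, ofMul_inv, ofMul_pow]
          abel
      _ = 1 := by rw [h3, h3]; simp
  have hk : Nat.card φ.ker = Nat.card ↥(A ⊓ centralizer {x}) := by
    rw [← H2.card_subgroupOf_of_le (inf_le_left : A ⊓ centralizer {x} ≤ A), inf_subgroupOf_left]
    congr 2
    ext a
    rw [MonoidHom.mem_ker, hφ, mul_inv_eq_one, mem_subgroupOf, mem_centralizer_singleton_iff,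
      Subtype.ext_iff]
    change x * a * x⁻¹ = a ↔ _
    rw [mul_inv_eq_iff_eq_mul, eq_comm]
  have h4 : (((⊤ : Subgroup A).map φ).map φ).map φ = ⊥ := by
    rw [eq_bot_iff]
    rintro _ ⟨_, ⟨_, ⟨a, -, rfl⟩, rfl⟩, rfl⟩
    exact hnil a
  have h5 := card_le_ker_mul_map φ ⊤
  have h6 := card_le_ker_mul_map φ ((⊤ : Subgroup A).map φ)
  have h7 := card_le_ker_mul_map φ (((⊤ : Subgroup A).map φ).map φ)
  rw [h4, card_bot, mul_one] at h7
  rw [card_top] at h5
  rw [← hk]
  calc Nat.card A ≤ _ := h5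
    _ ≤ Nat.card φ.ker * (Nat.card φ.ker * Nat.card φ.ker) :=
      Nat.mul_le_mul_left _ (h6.trans (Nat.mul_le_mul_left _ h7))
    _ = _ := by ring

theorem two_connected_of_rank_four (hP : IsPGroup 3 G) (hrk : ¬ PRankLE 3 3 G) :
    IsKConnected 3 2 G := by
  haveI : Fact (Nat.Prime 3) := ⟨Nat.prime_three⟩
  have hrk2 : ¬ PRankLE 3 2 G := fun h => hrk fun A h1 h2 => (h A h1 h2).trans (by norm_num)
  obtain ⟨U, hUn, hU, hU2⟩ := exists_normal_sq hP hrk2
  obtain ⟨A, hAn, hA, hA4⟩ : ∃ A : Subgroup G, A.Normal ∧ IsElementaryAbelian 3 A ∧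
      Nat.card A = 3 ^ 4 := by
    unfold PRankLE at hrk
    push Not at hrk
    obtain ⟨E, h1, h2, h3⟩ := hrk
    have h4 := pow_succ_le_card_of_lt (hP.to_subgroup E) h3
    obtain ⟨n, hn⟩ := (hP.to_subgroup E).exists_card_eq
    obtain ⟨K, hK⟩ := Sylow.exists_subgroup_card_pow_prime (G := E) 3 (n := 4) (by
      rw [hn] at h4 ⊢
      exact pow_dvd_pow 3 ((Nat.pow_le_pow_iff_right (by norm_num)).mp h4))
    exact H3.exists_normal_elementary_four (by norm_num) hP (K.map E.subtype)
      (IsElementaryAbelian.of_le ⟨h1, h2⟩ (map_subtype_le _))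
      (by rw [card_map_of_injective E.subtype_injective, hK])
  have key : ∀ X : Subgroup G, IsElementaryAbelian 3 X → 3 ^ 2 ≤ Nat.card X → Conn 3 2 X U := by
    intro X hX hX2
    rw [conn_two_iff hP hrk2 hU hU2 hX hX2]
    intro h
    have h1 : A ⊓ centralizer (X : Set G) ≤ X := by
      have h2 := card_le_of_pRankLE h (sup_le (IsElementaryAbelian.le_centralizer hX) inf_le_right)
        (elem_sup hX (IsElementaryAbelian.of_le hA (inf_le_left : A ⊓ centralizer (X : Set G) ≤ A))
          (comm_bot_symm (comm_bot_of_le_centralizer inf_le_right)))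
      exact le_sup_right.trans (eq_of_le_of_card_ge le_sup_left (h2.trans hX2)).ge
    have hX9 := card_le_of_pRankLE h (IsElementaryAbelian.le_centralizer hX) hX
    obtain ⟨x, hx, hxA⟩ : ∃ x ∈ X, x ∉ A := by
      by_contra h2
      push Not at h2
      have := card_le_of_pRankLE h ((IsElementaryAbelian.le_centralizer hA).trans
        (centralizer_le (show X ≤ A from h2))) hA
      omega
    have h2 : X ⊓ A < X := lt_of_le_of_ne inf_le_left fun e => hxA (e.ge hx).2
    have h3 := H3.mul_card_le_of_lt (hP.to_subgroup X) h2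
    have h4 : X ⊓ A ≠ ⊥ := by
      have h5 := H13.inf_centralizer_ne_bot (hP.to_subgroup A) (hP.to_subgroup X)
        (le_normalizer_of_normal) (fun e => by rw [e, card_bot] at hA4; omega)
      refine fun e => h5 (le_bot_iff.mp (e ▸ le_inf ?_ inf_le_left))
      exact (inf_le_inf_left A (centralizer_le (le_sup_left : X ≤ X ⊔ A))).trans h1
    have h5 := H3.mul_card_le_of_lt (hP.to_subgroup (X ⊓ A)) (bot_lt_iff_ne_bot.mpr h4)
    rw [card_bot] at h5
    have h6 : X ⊓ A < zpowers x ⊔ X ⊓ A :=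
      lt_of_le_of_ne le_sup_right fun e => hxA (e.ge (mem_sup_left (mem_zpowers x))).2
    have h7 := H3.mul_card_le_of_lt (hP.to_subgroup _) h6
    have h8 : zpowers x ⊔ X ⊓ A = X :=
      eq_of_le_of_card_ge (sup_le (zpowers_le.mpr hx) inf_le_left) (by omega)
    have h9 : A ⊓ centralizer {x} ≤ X ⊓ A := by
      refine le_inf (le_trans (le_inf inf_le_left ?_) h1) inf_le_left
      rw [← h8, H3.centralizer_zpowers_sup]
      exact le_inf inf_le_right (inf_le_left.trans ((IsElementaryAbelian.le_centralizer hA).trans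
        (centralizer_le (inf_le_right : X ⊓ A ≤ A))))
    have h10 := card_le_of_order_three hA (x := x) (le_normalizer_of_normal (mem_top x)) (hX.2 x hx)
    have h11 : Nat.card ↥(A ⊓ centralizer {x}) ≤ 3 := (card_le_of_le h9).trans (by omega)
    have := Nat.pow_le_pow_left h11 3
    omega
  intro E E' h1 h2 h3 h4
  exact Relation.ReflTransGen.trans (key E h1 h2) (key E' h3 h4).symm

theorem sylow_of_normalizer_le {H : Subgroup G} (P : Sylow p H)
    (h : normalizer (((P : Subgroup H).map H.subtype : Subgroup G) : Set G) ≤ H) :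
    ∃ Q : Sylow p G, (Q : Subgroup G) = (P : Subgroup H).map H.subtype := by
  obtain ⟨Q, hQ⟩ := (P.2.map H.subtype).exists_le_sylow
  refine ⟨Q, (H1.eq_of_inf_normalizer_le Q.2.isNilpotent hQ ?_).symm⟩
  exact (H13.eq_of_not_dvd_relIndex (H13.not_dvd_relIndex_map_sylow P)
    (Q.2.to_le inf_le_left) (inf_le_right.trans h) (le_inf hQ le_normalizer)).le

end H25.Cn
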