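import Mathlib
import Cfsg.Agent.H25.Conn
import Cfsg.Agent.H1.CoprimeAbelian
import Cfsg.Agent.S0217

/-!
# Equivariant solvable signalizer functors
-/

set_option autoImplicit false
set_option linter.unusedSectionVars false

open Cfsg Subgroup H23
open scoped commutatorElement

namespace H25.Sg

variable {G : Type*} [Group G] [Finite G] {p : ℕ} [hp : Fact p.Prime]

/-- elements of order `p` whose centralizer has `p`-rank at least three. -/
def Big (p : ℕ) (a : G) : Prop := orderOf a = p ∧ ¬ PRankLE p 2 (centralizer ({a} : Set G))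

/-- an equivariant solvable signalizer functor. -/
structure ESF (p : ℕ) (θ : G → Subgroup G) : Prop where
  cent : ∀ a : G, Big p a → θ a ≤ centralizer {a}
  cop : ∀ a : G, Big p a → ¬ p ∣ Nat.card (θ a)
  sol : ∀ a : G, Big p a → Group.IsSolvable (θ a)
  conj : ∀ a g : G, Big p a → θ (g * a * g⁻¹) = (θ a).map (MulAut.conj g).toMonoidHom
  bal : ∀ a b : G, Big p a → Big p b → a * b = b * a → θ a ⊓ centralizer {b} ≤ θ b

/-- elementary abelian of rank at least three. -/
def E3 (p : ℕ) (A : Subgroup G) : Prop := IsElementaryAbelian p A ∧ p ^ 3 ≤ Nat.card A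

/-- elementary abelian of rank at least two, contained in one of rank at least three. -/
def Vx (p : ℕ) (E : Subgroup G) : Prop := p ^ 2 ≤ Nat.card E ∧ ∃ A, E ≤ A ∧ E3 p A

theorem not_pRankLE_of_le {k : ℕ} {K A : Subgroup G} (hA : IsElementaryAbelian p A)
    (h : p ^ (k + 1) ≤ Nat.card A) (hle : A ≤ K) : ¬ PRankLE p k K := fun h1 => by
  have h2 := Cn.card_le_of_pRankLE h1 hle hA
  have : p ^ k < p ^ (k + 1) := Nat.pow_lt_pow_right hp.out.one_lt (Nat.lt_succ_self k)
  omega

theorem E3.big {A : Subgroup G} (h : E3 p A) {a : G} (ha : a ∈ A) (h1 : a ≠ 1) : Big p a :=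
  ⟨IsElementaryAbelian.orderOf_eq h.1 ha h1,
    not_pRankLE_of_le h.1 h.2 (IsElementaryAbelian.le_centralizer_singleton h.1 ha)⟩

theorem E3.vx {A : Subgroup G} (h : E3 p A) : Vx p A :=
  ⟨(Nat.pow_le_pow_right hp.out.pos (by norm_num)).trans h.2, A, le_rfl, h⟩

theorem E3.conj {A : Subgroup G} (h : E3 p A) (g : G) :
    E3 p (A.map (MulAut.conj g).toMonoidHom) :=
  ⟨IsElementaryAbelian.map h.1 _, by rw [card_map_conj]; exact h.2⟩

theorem Vx.ea {E : Subgroup G} (h : Vx p E) : IsElementaryAbelian p E := by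
  obtain ⟨A, h1, h2⟩ := h.2
  exact IsElementaryAbelian.of_le h2.1 h1

theorem Vx.big {E : Subgroup G} (h : Vx p E) {a : G} (ha : a ∈ E) (h1 : a ≠ 1) : Big p a := by
  obtain ⟨A, h2, h3⟩ := h.2
  exact h3.big (h2 ha) h1

theorem Vx.conj {E : Subgroup G} (h : Vx p E) (g : G) :
    Vx p (E.map (MulAut.conj g).toMonoidHom) := by
  obtain ⟨A, h2, h3⟩ := h.2
  exact ⟨by rw [card_map_conj]; exact h.1, _, map_mono h2, h3.conj g⟩

theorem exists_E3_of_not_pRankLE {K : Subgroup G} (h : ¬ PRankLE p 2 K) :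
    ∃ A, A ≤ K ∧ E3 p A := by
  obtain ⟨V, h1, h2, h3⟩ := Cn.exists_of_not_pRankLE h
  exact ⟨V, h1, h2, Cn.pow_succ_le_card_of_lt (IsElementaryAbelian.isPGroup h2) h3⟩

theorem E3.sup {A B : Subgroup G} (hA : E3 p A) (hB : IsElementaryAbelian p B)
    (h : ⁅A, B⁆ = ⊥) : E3 p (A ⊔ B) :=
  ⟨Cn.elem_sup hA.1 hB h, hA.2.trans (card_le_of_le le_sup_left)⟩

theorem vx_of_vertex {E : Subgroup G} (h : IsRankGraphVertex p 2 E) : Vx p E := by
  obtain ⟨A, h1, h2⟩ := exists_E3_of_not_pRankLE h.2.2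
  exact ⟨h.2.1, A ⊔ E, le_sup_right, h2.sup h.1 (comm_bot_of_le_centralizer h1)⟩

theorem Vx.vertex {E : Subgroup G} (h : Vx p E) : IsRankGraphVertex p 2 E := by
  obtain ⟨A, h1, h2⟩ := h.2
  exact ⟨h.ea, h.1, not_pRankLE_of_le h2.1 h2.2
    ((IsElementaryAbelian.le_centralizer h2.1).trans (centralizer_le h1))⟩

theorem Big.exists_E3 {a : G} (h : Big p a) : ∃ A, a ∈ A ∧ E3 p A := by
  obtain ⟨A, h1, h2⟩ := exists_E3_of_not_pRankLE h.2
  refine ⟨A ⊔ zpowers a, mem_sup_right (mem_zpowers a), h2.sup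
    (isElementaryAbelian_zpowers (pow_eq_one_of_orderOf_eq h.1)) ?_⟩
  apply comm_bot_of_le_centralizer
  rwa [centralizer_zpowers]

theorem not_isCyclic_of_card {E : Subgroup G} (h : IsElementaryAbelian p E)
    (h2 : p ^ 2 ≤ Nat.card E) : ¬ IsCyclic E := by
  intro hc
  have h3 : Monoid.exponent E ∣ p := Monoid.exponent_dvd_of_forall_pow_eq_one fun g =>
    Subtype.ext (h.2 g g.2)
  rw [IsCyclic.exponent_eq_card] at h3
  have := Nat.le_of_dvd hp.out.pos h3
  have h4 := hp.out.one_lt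
  nlinarith

/-- generation by centralizers. -/
theorem le_of_cent {E K L : Subgroup G} (h : IsElementaryAbelian p E) (h2 : p ^ 2 ≤ Nat.card E)
    (hn : E ≤ normalizer (K : Set G)) (hK : (Nat.card K).Coprime p)
    (hL : ∀ a ∈ E, a ≠ 1 → K ⊓ centralizer {a} ≤ L) : K ≤ L := by
  haveI := h.1
  exact H1.le_of_centralizer_le E K L (not_isCyclic_of_card h h2) hn
    (cop_card_of_isPGroup (IsElementaryAbelian.isPGroup h) hK) hL

theorem le_closure {θ : G → Subgroup G} {E : Subgroup G} {a : G} (ha : a ∈ E) (h1 : a ≠ 1) :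
    θ a ≤ signalizerClosure E θ :=
  le_iSup (fun a : {a : G // a ∈ E ∧ a ≠ 1} => θ (a : G)) ⟨a, ha, h1⟩

theorem closure_le {θ : G → Subgroup G} {E L : Subgroup G} (h : ∀ a ∈ E, a ≠ 1 → θ a ≤ L) :
    signalizerClosure E θ ≤ L :=
  iSup_le fun a => h a a.2.1 a.2.2

theorem closure_mono {θ : G → Subgroup G} {E A : Subgroup G} (h : E ≤ A) :
    signalizerClosure E θ ≤ signalizerClosure A θ :=
  closure_le fun _ ha h1 => le_closure (h ha) h1

namespace ESF

variable {θ : G → Subgroup G} (h : ESF p θ)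
include h

theorem complete {A : Subgroup G} (hA : E3 p A) :
    (Nat.card (signalizerClosure A θ)).Coprime p ∧
      ∀ a ∈ A, a ≠ 1 → signalizerClosure A θ ⊓ centralizer {a} = θ a := by
  have := Cfsg.Agent.S0217.result A (fun a ha b hb => IsElementaryAbelian.comm hA.1 ha hb) hA.1.2
    hA.2 θ (fun a ha h1 => h.cent a (hA.big ha h1)) (fun a ha h1 => h.cop a (hA.big ha h1))
    (fun a ha h1 b hb x hx => by
      have e : θ a = (θ a).map (MulAut.conj b).toMonoidHom := by
        rw [← h.conj a b (hA.big ha h1), IsElementaryAbelian.comm hA.1 hb ha, mul_inv_cancel_right]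
      rw [e]
      exact ⟨x, hx, rfl⟩)
    (fun a ha h1 => h.sol a (hA.big ha h1))
    (fun a ha h1 b hb h2 => h.bal a b (hA.big ha h1) (hA.big hb h2)
      (IsElementaryAbelian.comm hA.1 ha hb))
  exact ⟨cop_iff_not_dvd.2 this.1, this.2⟩

theorem closure_conj {E : Subgroup G} (hE : ∀ a ∈ E, a ≠ 1 → Big p a) (g : G) :
    signalizerClosure (E.map (MulAut.conj g).toMonoidHom) θ =
      (signalizerClosure E θ).map (MulAut.conj g).toMonoidHom := by
  apply le_antisymm
  · apply closure_le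
    rintro _ ⟨a, ha, rfl⟩ h1
    have ha1 : a ≠ 1 := fun e => h1 (by rw [e, map_one])
    have : θ ((MulAut.conj g).toMonoidHom a) = (θ a).map (MulAut.conj g).toMonoidHom :=
      h.conj a g (hE a ha ha1)
    rw [this]
    exact map_mono (le_closure ha ha1)
  · rw [map_le_iff_le_comap]
    apply closure_le
    intro a ha h1
    rw [← map_le_iff_le_comap, ← h.conj a g (hE a ha h1)]
    refine le_closure ⟨a, ha, rfl⟩ fun e => h1 ?_
    simpa using e

theorem normalizer_le {E : Subgroup G} (hE : ∀ a ∈ E, a ≠ 1 → Big p a) :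
    normalizer (E : Set G) ≤ normalizer ((signalizerClosure E θ : Subgroup G) : Set G) := by
  intro g hg
  rw [mem_normalizer_iff_map_conj] at hg ⊢
  rw [← h.closure_conj hE, hg]

theorem closure_eq_of_le {E A : Subgroup G} (hA : E3 p A) (hle : E ≤ A)
    (h2 : p ^ 2 ≤ Nat.card E) : signalizerClosure E θ = signalizerClosure A θ := by
  refine le_antisymm (closure_mono hle) ?_
  obtain ⟨h3, h4⟩ := h.complete hA
  refine le_of_cent (IsElementaryAbelian.of_le hA.1 hle) h2 ?_ h3 fun a ha h1 => ?_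
  · exact (hle.trans le_normalizer).trans (h.normalizer_le fun a ha h1 => hA.big ha h1)
  · rw [h4 a (hle ha) h1]
    exact le_closure ha h1

theorem vx_cop {E : Subgroup G} (hE : Vx p E) :
    (Nat.card (signalizerClosure E θ)).Coprime p := by
  obtain ⟨A, h1, h2⟩ := hE.2
  rw [h.closure_eq_of_le h2 h1 hE.1]
  exact (h.complete h2).1

theorem vx_inf {E : Subgroup G} (hE : Vx p E) {a : G} (ha : a ∈ E) (ha1 : a ≠ 1) :
    signalizerClosure E θ ⊓ centralizer {a} = θ a := by
  obtain ⟨A, h1, h2⟩ := hE.2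
  rw [h.closure_eq_of_le h2 h1 hE.1]
  exact (h.complete h2).2 a (h1 ha) ha1

theorem closure_eq_of_comm {E E' : Subgroup G} (hE : Vx p E) (hE' : IsElementaryAbelian p E')
    (h2 : p ^ 2 ≤ Nat.card E') (hc : ⁅E, E'⁆ = ⊥) :
    signalizerClosure E θ = signalizerClosure E' θ := by
  have hs := Cn.elem_sup hE.ea hE' hc
  by_cases h3 : p ^ 2 < Nat.card ↥(E ⊔ E')
  · have h4 : E3 p (E ⊔ E') :=
      ⟨hs, Cn.pow_succ_le_card_of_lt (IsElementaryAbelian.isPGroup hs) h3⟩
    rw [h.closure_eq_of_le h4 le_sup_left hE.1, h.closure_eq_of_le h4 le_sup_right h2]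
  · push Not at h3
    have e1 : E = E ⊔ E' := eq_of_le_of_card_ge le_sup_left (h3.trans hE.1)
    have e2 : E' = E ⊔ E' := eq_of_le_of_card_ge le_sup_right (h3.trans h2)
    rw [e2, ← e1]

theorem eq_bot_of_connected (hO : pPrimeCore p G = ⊥) (hconn : IsRankGraphConnected p 2 G)
    {a : G} (ha : Big p a) : θ a = ⊥ := by
  obtain ⟨A, haA, hA⟩ := ha.exists_E3
  have key : ∀ E E' : Subgroup G, Vx p E → Vx p E' →
      signalizerClosure E θ = signalizerClosure E' θ := by
    intro E E' hE hE'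
    have := hconn E E' hE.vertex hE'.vertex
    clear hE'
    induction this with
    | refl => rfl
    | tail _ h2 ih =>
      rw [ih]
      exact h.closure_eq_of_comm (vx_of_vertex h2.1) h2.2.1.1 h2.2.1.2.1 (comm_bot_iff.2 h2.2.2)
  have hn : (signalizerClosure A θ).Normal := by
    rw [← normalizer_eq_top_iff, eq_top_iff]
    intro g _
    rw [mem_normalizer_iff_map_conj, ← h.closure_conj (fun a ha h1 => hA.big ha h1)]
    exact key _ _ (hA.vx.conj g) hA.vx
  have h1 : signalizerClosure A θ ≤ pPrimeCore p G := H2.le_pPrimeCore hn (h.complete hA).1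
  rw [hO] at h1
  exact eq_bot_iff.2 ((le_closure haA (ne_one_of_orderOf_eq ha.1)).trans h1)

end ESF

/-- balance of the `p'`-cores when the `p`-layer of `C(b)` is trivial. -/
theorem cpp_inf_le_of_pLayer {a b : G} (ha : IsPGroup p (zpowers a)) (hab : a * b = b * a)
    (hL : pLayer p (centralizer ({b} : Set G)) = ⊥) :
    centralizerPPrimeCore p a ⊓ centralizer {b} ≤ centralizerPPrimeCore p b := by
  have haC : a ∈ centralizer ({b} : Set G) := mem_centralizer_singleton_iff.2 hab
  have h1 : IsPGroup p (zpowers (⟨a, haC⟩ : centralizer ({b} : Set G))) := by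
    refine (ha.comap_of_injective (centralizer ({b} : Set G)).subtype
      (subtype_injective _)).to_le ?_
    rintro x ⟨k, rfl⟩
    exact ⟨k, rfl⟩
  have h2 := map_mono (f := (centralizer ({b} : Set G)).subtype) (cpp_le_of_pLayer_eq_bot hL h1)
  rw [cpp_subgroup] at h2
  refine le_trans ?_ h2
  rw [cpp_def]
  refine le_trans (le_inf inf_le_left (le_inf inf_le_right (inf_le_left.trans (opp_le _ _)))) ?_
  exact opp_inf_le inf_le_right

theorem cpp_conj (a g : G) : centralizerPPrimeCore p (g * a * g⁻¹) =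
    (centralizerPPrimeCore p a).map (MulAut.conj g).toMonoidHom := by
  rw [cpp_def, cpp_def, map_conj_opp, ← centralizer_zpowers, ← centralizer_zpowers,
    map_conj_centralizer, MonoidHom.map_zpowers]
  rfl

theorem esf_cpp (hL : ∀ a : G, Big p a → pLayer p (centralizer ({a} : Set G)) = ⊥ ∧
    Group.IsSolvable (centralizerPPrimeCore p a)) : ESF p (centralizerPPrimeCore (G := G) p) where
  cent _ _ := map_subtype_le _
  cop _ _ := cop_iff_not_dvd.1 (opp_cop p _)
  sol a ha := (hL a ha).2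
  conj a g _ := cpp_conj a g
  bal _ b ha hb hab := cpp_inf_le_of_pLayer (isPGroup_zpowers_of_orderOf ha.1) hab (hL b hb).1

theorem fstar_of_connected (hO : pPrimeCore p G = ⊥) (hconn : IsRankGraphConnected p 2 G)
    (hL : ∀ a : G, Big p a → pLayer p (centralizer ({a} : Set G)) = ⊥ ∧
      Group.IsSolvable (centralizerPPrimeCore p a)) {a : G} (ha : Big p a) :
    generalizedFittingSubgroup (centralizer ({a} : Set G)) =
      pCore p (centralizer ({a} : Set G)) := by
  have h1 := (esf_cpp hL).eq_bot_of_connected hO hconn ha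
  rw [cpp_def, opp_eq_bot_iff] at h1
  rw [fstar_eq_pCore_iff', ← pLayer_eq_layer h1]
  exact ⟨(hL a ha).1, h1⟩

end H25.Sg
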