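import Mathlib
import Cfsg.Agent.H25.Sig
import Cfsg.Agent.H3.MaxClass

/-!
# Four-groups and normal four-subgroups of `2`-groups
-/

set_option autoImplicit false
set_option linter.unusedSectionVars false

open Cfsg Subgroup H23
open scoped commutatorElement

namespace H25.Sg

variable {G : Type*} [Group G] [Finite G]

/-- the group generated by two elements (used for commuting involutions). -/
abbrev four (a b : G) : Subgroup G := zpowers a ⊔ zpowers b

theorem mul_self_of_order {a : G} (h : orderOf a = 2) : a * a = 1 := by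
  rw [← pow_two, ← h, pow_orderOf_eq_one]

theorem ne_one_of_order {a : G} (h : orderOf a = 2) : a ≠ 1 := by
  rintro rfl; simp at h

theorem order_of_mul_self {a : G} (h : a * a = 1) (h1 : a ≠ 1) : orderOf a = 2 :=
  orderOf_eq_prime (by rw [pow_two, h]) h1

theorem inv_eq_of_mul_self {a : G} (h : a * a = 1) : a⁻¹ = a := inv_eq_of_mul_eq_one_right h

theorem mem_zpowers_two {z x : G} (hz : z * z = 1) : x ∈ zpowers z ↔ x = 1 ∨ x = z :=
  ⟨fun hx => H3.mem_zpowers_of_sq_eq_one (by rw [pow_two, hz]) hx, fun h => by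
    rcases h with rfl | rfl
    · exact one_mem _
    · exact mem_zpowers _⟩

theorem left_mem_four (a b : G) : a ∈ four a b := mem_sup_left (mem_zpowers a)
theorem right_mem_four (a b : G) : b ∈ four a b := mem_sup_right (mem_zpowers b)

theorem four_le {a b : G} {H : Subgroup G} (ha : a ∈ H) (hb : b ∈ H) : four a b ≤ H :=
  sup_le (zpowers_le.2 ha) (zpowers_le.2 hb)

theorem comm_zpowers {a b : G} (h : a * b = b * a) : ⁅zpowers a, zpowers b⁆ = ⊥ := by
  apply comm_bot_of_le_centralizer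
  rw [centralizer_zpowers, zpowers_le, mem_centralizer_singleton_iff]
  exact h

theorem mem_four {a b x : G} (ha : a * a = 1) (hb : b * b = 1) (h : a * b = b * a) :
    x ∈ four a b ↔ x = 1 ∨ x = a ∨ x = b ∨ x = a * b := by
  constructor
  · intro hx
    obtain ⟨c, hc, d, hd, rfl⟩ :=
      mem_sup_of_le_normalizer_right (le_normalizer_of_comm_bot (comm_zpowers h)) hx
    rcases (mem_zpowers_two ha).1 hc with rfl | rfl <;>
      rcases (mem_zpowers_two hb).1 hd with rfl | rfl <;> simp
  · rintro (rfl | rfl | rfl | rfl)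
    · exact one_mem _
    · exact left_mem_four _ _
    · exact right_mem_four _ _
    · exact mul_mem (left_mem_four _ _) (right_mem_four _ _)

theorem ea_zpowers {a : G} (ha : a * a = 1) : IsElementaryAbelian 2 (zpowers a) :=
  isElementaryAbelian_zpowers (by rw [pow_two, ha])

theorem ea_four {a b : G} (ha : a * a = 1) (hb : b * b = 1) (h : a * b = b * a) :
    IsElementaryAbelian 2 (four a b) :=
  Cn.elem_sup (ea_zpowers ha) (ea_zpowers hb) (comm_zpowers h)

theorem four_le_card {a b : G} (ha : orderOf a = 2) (hb : orderOf b = 2) (h : a * b = b * a)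
    (hne : b ≠ a) : 2 ^ 2 ≤ Nat.card (four a b) := by
  apply Cn.pow_succ_le_card_of_lt
    (IsElementaryAbelian.isPGroup (ea_four (mul_self_of_order ha) (mul_self_of_order hb) h))
  have h1 : zpowers a < four a b := lt_of_le_of_ne le_sup_left fun e => by
    have : b ∈ zpowers a := e ▸ right_mem_four a b
    rcases (mem_zpowers_two (mul_self_of_order ha)).1 this with h2 | h2
    · exact ne_one_of_order hb h2
    · exact hne h2
  have := H2.card_lt_of_lt h1
  rwa [Nat.card_zpowers, ha] at this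

theorem card_four_le {a b : G} (ha : a * a = 1) (hb : b * b = 1) (h : a * b = b * a) :
    Nat.card (four a b) ≤ 4 := by
  have h1 := Nat.le_of_dvd (Nat.mul_pos Nat.card_pos Nat.card_pos)
    (H2.card_sup_dvd_of_le_normalizer (le_normalizer_of_comm_bot (comm_zpowers h)))
  have h2 : ∀ c : G, c * c = 1 → Nat.card (zpowers c) ≤ 2 := fun c hc => by
    rw [Nat.card_zpowers]
    exact orderOf_le_of_pow_eq_one two_pos (by rw [pow_two, hc])
  exact h1.trans (Nat.mul_le_mul (h2 a ha) (h2 b hb))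

theorem map_conj_four (a b g : G) :
    (four a b).map (MulAut.conj g).toMonoidHom = four (g * a * g⁻¹) (g * b * g⁻¹) := by
  rw [Subgroup.map_sup, MonoidHom.map_zpowers, MonoidHom.map_zpowers]
  rfl

theorem centralizer_four (a b : G) :
    centralizer ((four a b : Subgroup G) : Set G) = centralizer {a} ⊓ centralizer {b} := by
  rw [centralizer_sup, centralizer_zpowers, centralizer_zpowers]

/-- adjoining an involution to an elementary abelian group of rank two. -/
theorem E3_of_not_mem {V : Subgroup G} (hV : IsElementaryAbelian 2 V) (h4 : 2 ^ 2 ≤ Nat.card V)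
    {w : G} (hw : w * w = 1) (hc : V ≤ centralizer {w}) (hn : w ∉ V) : E3 2 (V ⊔ zpowers w) := by
  have h1 : IsElementaryAbelian 2 (V ⊔ zpowers w) := Cn.elem_sup hV (ea_zpowers hw)
    (comm_bot_of_le_centralizer (by rwa [centralizer_zpowers]))
  refine ⟨h1, Cn.pow_succ_le_card_of_lt (IsElementaryAbelian.isPGroup h1) ?_⟩
  have h2 : V < V ⊔ zpowers w := lt_of_le_of_ne le_sup_left fun e =>
    hn (e ▸ mem_sup_right (mem_zpowers w))
  exact h4.trans_lt (H2.card_lt_of_lt h2)

/-- `⟨z, u⟩` is a normal four-subgroup of `S` with `z` central. -/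
structure NF (S : Subgroup G) (z u : G) : Prop where
  zS : z ∈ S
  uS : u ∈ S
  oz : orderOf z = 2
  ou : orderOf u = 2
  ne : u ≠ z
  zc : S ≤ centralizer {z}
  cj : ∀ s ∈ S, s * u * s⁻¹ = u ∨ s * u * s⁻¹ = z * u

theorem exists_NF {S : Subgroup G} (hS : IsPGroup 2 S) {A : Subgroup G} (hA : E3 2 A)
    (hAS : A ≤ S) : ∃ z u, NF S z u := by
  obtain ⟨z, u, hz, hu, hzc, hne, h⟩ := H6.exists_normal_four hS (A.subgroupOf S)
    (by rw [H2.card_subgroupOf_of_le hAS]; exact hA.2) fun e he => Subtype.ext (hA.1.2 e he)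
  refine ⟨z, u, z.2, u.2, by rw [orderOf_coe, hz], by rw [orderOf_coe, hu],
    fun e => hne (Subtype.ext e), fun s hs => ?_, fun s hs => ?_⟩
  · exact mem_centralizer_singleton_iff.2 (congrArg Subtype.val (mem_center_iff.1 hzc ⟨s, hs⟩))
  · rcases h ⟨s, hs⟩ with h1 | h1
    · exact Or.inl (congrArg Subtype.val h1)
    · rw [mem_center_iff.1 hzc u] at h1
      exact Or.inr (congrArg Subtype.val h1)

namespace NF

variable {S : Subgroup G} {z u : G} (h : NF S z u)
include h

theorem zz : z * z = 1 := mul_self_of_order h.oz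
theorem uu : u * u = 1 := mul_self_of_order h.ou
theorem comm {s : G} (hs : s ∈ S) : s * z = z * s := mem_centralizer_singleton_iff.1 (h.zc hs)
theorem zu : z * u = u * z := (h.comm h.uS).symm
theorem cz {s : G} (hs : s ∈ S) : s * z * s⁻¹ = z := by rw [h.comm hs, mul_inv_cancel_right]
theorem mem {x : G} : x ∈ four z u ↔ x = 1 ∨ x = z ∨ x = u ∨ x = z * u := mem_four h.zz h.uu h.zu
theorem ea : IsElementaryAbelian 2 (four z u) := ea_four h.zz h.uu h.zu
theorem card : 2 ^ 2 ≤ Nat.card (four z u) := four_le_card h.oz h.ou h.zu h.ne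
theorem le : four z u ≤ S := four_le h.zS h.uS

theorem swap : NF S z (z * u) where
  zS := h.zS
  uS := mul_mem h.zS h.uS
  oz := h.oz
  ou := order_of_mul_self (by rw [mul_assoc, ← mul_assoc u, ← h.zu, mul_assoc, h.uu, mul_one, h.zz])
    fun e => h.ne (by rw [← inv_eq_of_mul_self h.zz]; exact (eq_inv_of_mul_eq_one_right e))
  ne := fun e => ne_one_of_order h.ou (by simpa using e)
  zc := h.zc
  cj := fun s hs => by
    have e : s * (z * u) * s⁻¹ = z * (s * u * s⁻¹) := by
      rw [← mul_assoc, h.comm hs]; group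
    rw [e]
    rcases h.cj s hs with h1 | h1
    · left; rw [h1]
    · right; rw [h1]

theorem four_swap : four z (z * u) = four z u :=
  le_antisymm (four_le (left_mem_four _ _) (mul_mem (left_mem_four _ _) (right_mem_four _ _)))
    (four_le (left_mem_four _ _) ((mul_mem_cancel_left (left_mem_four _ _)).1 (right_mem_four _ _)))

theorem conj (g : G) : NF (S.map (MulAut.conj g).toMonoidHom) (g * z * g⁻¹) (g * u * g⁻¹) where
  zS := ⟨z, h.zS, rfl⟩
  uS := ⟨u, h.uS, rfl⟩
  oz := by rw [H25.LB.orderOf_conj', h.oz]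
  ou := by rw [H25.LB.orderOf_conj', h.ou]
  ne := fun e => h.ne (by simpa using e)
  zc := by
    rintro _ ⟨s, hs, rfl⟩
    rw [mem_centralizer_singleton_iff]
    change g * s * g⁻¹ * (g * z * g⁻¹) = g * z * g⁻¹ * (g * s * g⁻¹)
    have := h.comm hs
    calc g * s * g⁻¹ * (g * z * g⁻¹) = g * (s * z) * g⁻¹ := by group
      _ = _ := by rw [this]; group
  cj := by
    rintro _ ⟨s, hs, rfl⟩
    change g * s * g⁻¹ * (g * u * g⁻¹) * (g * s * g⁻¹)⁻¹ = _ ∨
      g * s * g⁻¹ * (g * u * g⁻¹) * (g * s * g⁻¹)⁻¹ = _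
    have e : g * s * g⁻¹ * (g * u * g⁻¹) * (g * s * g⁻¹)⁻¹ = g * (s * u * s⁻¹) * g⁻¹ := by group
    rw [e]
    rcases h.cj s hs with h1 | h1
    · left; rw [h1]
    · right; rw [h1]; group

theorem le_normalizer : S ≤ normalizer ((four z u : Subgroup G) : Set G) := by
  intro s hs
  rw [mem_normalizer_iff_map_conj, map_conj_four, h.cz hs]
  rcases h.cj s hs with h1 | h1
  · rw [h1]
  · rw [h1, h.four_swap]

theorem cj_of_not {s : G} (hs : s ∈ S) (hn : s ∉ centralizer {u}) : s * u * s⁻¹ = z * u :=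
  (h.cj s hs).resolve_left fun e => hn (mem_centralizer_singleton_iff.2 (by
    rw [← mul_inv_eq_iff_eq_mul]; exact e))

theorem mul_mem_cent {s t : G} (hs : s ∈ S) (ht : t ∈ S) (hsn : s ∉ centralizer {u})
    (htn : t ∉ centralizer {u}) : s * t ∈ centralizer ({u} : Set G) := by
  rw [mem_centralizer_singleton_iff, ← mul_inv_eq_iff_eq_mul]
  have e : s * t * u * (s * t)⁻¹ = s * (t * u * t⁻¹) * s⁻¹ := by group
  rw [e, h.cj_of_not ht htn]
  have e2 : s * (z * u) * s⁻¹ = (s * z * s⁻¹) * (s * u * s⁻¹) := by group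
  rw [e2, h.cz hs, h.cj_of_not hs hsn, ← mul_assoc, h.zz, one_mul]

theorem sq_mem_cent {s : G} (hs : s ∈ S) : s * s ∈ centralizer ({u} : Set G) := by
  by_cases hn : s ∈ centralizer ({u} : Set G)
  · exact mul_mem hn hn
  · exact h.mul_mem_cent hs hs hn hn

theorem relIndex_dvd {A : Subgroup G} (hA : A ≤ S) :
    (centralizer ({u} : Set G)).relIndex A ∣ 2 := by
  rw [relIndex_dvd_two_iff]
  by_cases hc : A ≤ centralizer {u}
  · exact ⟨1, one_mem _, fun b hb => Or.inr (hc hb)⟩
  · obtain ⟨a, ha, hn⟩ := SetLike.not_le_iff_exists.1 hc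
    refine ⟨a, ha, fun b hb => ?_⟩
    by_cases hb' : b ∈ centralizer ({u} : Set G)
    · exact Or.inr hb'
    · exact Or.inl (h.mul_mem_cent (hA hb) (hA ha) hb' hn)

theorem card_le {A : Subgroup G} (hA : A ≤ S) :
    Nat.card A ≤ 2 * Nat.card ↥(A ⊓ centralizer {u}) := by
  have h1 := H2.card_inf_mul_relIndex (centralizer ({u} : Set G)) A
  have h2 := Nat.le_of_dvd two_pos (h.relIndex_dvd hA)
  rw [inf_comm] at h1
  nlinarith

theorem inf_le_cent {A : Subgroup G} (hA : A ≤ S) :
    A ⊓ centralizer {u} ≤ centralizer ((four z u : Subgroup G) : Set G) := by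
  rw [centralizer_four]
  exact le_inf (inf_le_left.trans (hA.trans h.zc)) inf_le_right

theorem card_inf {A : Subgroup G} (hA : E3 2 A) (hAS : A ≤ S) :
    2 ^ 2 ≤ Nat.card ↥(A ⊓ centralizer {u}) := by
  have h1 := h.card_le hAS
  have h2 := hA.2
  omega

theorem exists_E3 {A : Subgroup G} (hA : E3 2 A) (hAS : A ≤ S) :
    ∃ B, B ≤ S ∧ four z u ≤ B ∧ E3 2 B := by
  have hB : IsElementaryAbelian 2 (A ⊓ centralizer {u}) :=
    IsElementaryAbelian.of_le hA.1 inf_le_left
  have hs := Cn.elem_sup hB h.ea (comm_bot_of_le_centralizer (h.inf_le_cent hAS))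
  by_cases h3 : 2 ^ 2 < Nat.card ↥((A ⊓ centralizer {u}) ⊔ four z u)
  · exact ⟨_, sup_le (inf_le_left.trans hAS) h.le, le_sup_right, hs,
      Cn.pow_succ_le_card_of_lt (IsElementaryAbelian.isPGroup hs) h3⟩
  · push Not at h3
    have e1 : A ⊓ centralizer {u} = (A ⊓ centralizer {u}) ⊔ four z u :=
      eq_of_le_of_card_ge le_sup_left (h3.trans (h.card_inf hA hAS))
    exact ⟨A, hAS, le_sup_right.trans (e1.symm.le.trans inf_le_left), hA⟩

theorem vx {A : Subgroup G} (hA : E3 2 A) (hAS : A ≤ S) : Vx 2 (four z u) := by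
  obtain ⟨B, -, h1, h2⟩ := h.exists_E3 hA hAS
  exact ⟨h.card, B, h1, h2⟩

end NF

/-- a `2`-group with a self-centralizing four-subgroup has rank two. -/
theorem not_E3_of_selfCentralizing {S V A : Subgroup G} (hS : IsPGroup 2 S) (hV : V ≤ S)
    (h4 : Nat.card V = 4) (hC : S ⊓ centralizer (V : Set G) = V) (hA : E3 2 A) (hAS : A ≤ S) :
    False := by
  obtain ⟨n, hn⟩ := hS.exists_card_eq
  have h8 : 2 ^ 3 ≤ 2 ^ n := hn ▸ hA.2.trans (card_le_of_le hAS)
  have h3 : 3 ≤ n := (Nat.pow_le_pow_iff_right one_lt_two).1 h8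
  have hc := H3.nilpotencyClass_eq_of_selfCentralizing hn (V.subgroupOf S)
    (by rw [H2.card_subgroupOf_of_le hV, h4]; rfl)
    (by rw [subgroupOf_centralizer hV, ← inf_subgroupOf_left, hC])
  obtain ⟨C, hC1, hC2⟩ := H3.exists_cyclic_index_two_of_maxClass h3 hn hc
  have hA' : IsElementaryAbelian 2 (C ⊓ A.subgroupOf S) :=
    IsElementaryAbelian.of_le (IsElementaryAbelian.subgroupOf hA.1 S) inf_le_right
  apply not_isCyclic_of_card hA'
  · haveI := normal_of_index_eq_two hC2
    have h1 := H2.card_inf_mul_relIndex C (A.subgroupOf S)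
    have h2 := Nat.le_of_dvd (hC2 ▸ two_pos) (relIndex_dvd_index_of_normal C (A.subgroupOf S))
    rw [H2.card_subgroupOf_of_le hAS] at h1
    have h5 := hA.2
    rw [hC2] at h2
    nlinarith
  · exact Subgroup.isCyclic_of_le inf_le_left

end H25.Sg
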