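import Mathlib
import Cfsg.Agent.H23.Ext
import Cfsg.Agent.H13.PSolvable
import Cfsg.Agent.H3.Fusion

/-!
# `O_{p',p}(H)` in the ambient group, and the stabilizer lemma for `p`-constrained groups
-/

set_option autoImplicit false
set_option linter.unusedSectionVars false

open Cfsg Subgroup H23
open scoped commutatorElement

namespace H25.Sg

variable {G : Type*} [Group G] [Finite G] {p : ℕ} [hp : Fact p.Prime]

/-- `O_{p',p}(H)`. -/
abbrev oq (p : ℕ) (H : Subgroup G) : Subgroup G := (pPrimePCore p H).map H.subtype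

theorem oq_le (p : ℕ) (H : Subgroup G) : oq p H ≤ H := map_subtype_le _

theorem le_normalizer_oq (p : ℕ) (H : Subgroup G) :
    H ≤ normalizer ((oq p H : Subgroup G) : Set G) :=
  le_normalizer_map_subtype_of_normal _

theorem opp_le_oq (p : ℕ) (H : Subgroup G) : opp p H ≤ oq p H :=
  map_mono (H13.pPrimeCore_le_pPrimePCore p H)

theorem not_dvd_inf_oq {T H : Subgroup G} (h : ¬ p ∣ T.relIndex H) :
    ¬ p ∣ (T ⊓ oq p H).relIndex (oq p H) := fun h1 => h (by
  rw [inf_relIndex_right] at h1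
  exact h1.trans (H3.relIndex_dvd_relIndex_of_normalizer (oq_le p H) (le_normalizer_oq p H)))

theorem map_eq_pCore_top {Q : Subgroup G} (hQ : Q ≤ pPrimePCore p G)
    (hi : ¬ p ∣ Q.relIndex (pPrimePCore p G)) :
    Q.map (piO p G) = pCore p (G ⧸ pPrimeCore p G) :=
  H13.map_eq_of_not_dvd_relIndex (piO_surj p G) (H2.pCore_isPGroup p _) hQ hi

theorem pPrimePCore_le_sup_top {Q : Subgroup G} (hQ : Q ≤ pPrimePCore p G)
    (hi : ¬ p ∣ Q.relIndex (pPrimePCore p G)) : pPrimePCore p G ≤ pPrimeCore p G ⊔ Q := by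
  rw [sup_comm, ← comap_map_piO, map_eq_pCore_top hQ hi]
  exact le_rfl

theorem le_pPrimeCore_top {Y : Subgroup G} (hY : Y ≤ pPrimePCore p G)
    (hc : (Nat.card Y).Coprime p) : Y ≤ pPrimeCore p G := by
  have h1 : Y.map (piO p G) ≤ pCore p (G ⧸ pPrimeCore p G) := map_le_iff_le_comap.2 hY
  have h2 : Y.map (piO p G) = ⊥ :=
    H2.IsPGroup.eq_bot_of_coprime ((H2.pCore_isPGroup p _).to_le h1) (cop_map hc _)
  rwa [Subgroup.map_eq_bot_iff, ker_piO] at h2

theorem mem_pCore_of_stab (hC : centralizer (pCore p G : Set G) ≤ pCore p G) {Z : Subgroup G}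
    (hZ : Z ≤ center G) (hZp : IsPGroup p Z) {a : G} (h : ∀ q ∈ pCore p G, ⁅q, a⁆ ∈ Z) :
    a ∈ pCore p G := by
  have hZc : ∀ g z : G, z ∈ Z → g * z * g⁻¹ = z := fun g z hz => by
    rw [mem_center_iff.1 (hZ hz) g, mul_inv_cancel_right]
  let K : Subgroup G :=
    { carrier := {x | ∀ q ∈ pCore p G, ⁅q, x⁆ ∈ Z}
      one_mem' := fun q _ => by rw [commutatorElement_one_right]; exact one_mem _
      mul_mem' := fun {x y} hx hy q hq => by
        have : ⁅q, x * y⁆ = ⁅q, x⁆ * (x * ⁅q, y⁆ * x⁻¹) := by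
          simp only [commutatorElement_def]; group
        rw [this, hZc x _ (hy q hq)]
        exact mul_mem (hx q hq) (hy q hq)
      inv_mem' := fun {x} hx q hq => by
        have : ⁅q, x⁻¹⁆ = x⁻¹ * ⁅q, x⁆⁻¹ * x⁻¹⁻¹ := by
          simp only [commutatorElement_def]; group
        rw [this, hZc _ _ (inv_mem (hx q hq))]
        exact inv_mem (hx q hq) }
  have hn : K.Normal := ⟨fun x hx g q hq => by
    have : ⁅q, g * x * g⁻¹⁆ = g * ⁅g⁻¹ * q * g⁻¹⁻¹, x⁆ * g⁻¹ := by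
      simp only [commutatorElement_def]; group
    have h1 := hx _ ((pCore_normal p G).conj_mem q hq g⁻¹)
    rw [this, hZc _ _ h1]
    exact h1⟩
  have hK : IsPGroup p K := by
    refine H13.isPGroup_of_forall_coprime_eq_one hp.out fun g hg ho => ?_
    have h1 : g ∈ centralizer (pCore p G : Set G) :=
      H13.mem_centralizer_of_stabilizes hZp ho hg fun z hz => (mem_center_iff.1 (hZ hz) g).symm
    exact H13.eq_one_of_mem_isPGroup_of_coprime (H2.pCore_isPGroup p G) (hC h1) ho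
  exact H2.le_pCore hn hK h

theorem mem_pPrimePCore_of_stab (hL : pLayer p G = ⊥) {Q : Subgroup G} (hQ : Q ≤ pPrimePCore p G)
    (hi : ¬ p ∣ Q.relIndex (pPrimePCore p G)) {Z : Subgroup G} (hZ : Z ≤ center G)
    (hZp : IsPGroup p Z) {a : G} (h : ∀ q ∈ Q, ⁅q, a⁆ ∈ Z) : a ∈ pPrimePCore p G := by
  have h1 := fstar_eq_pCore_iff.1 (fstar_quot_eq_pCore_iff.2 hL)
  change piO p G a ∈ pCore p (G ⧸ pPrimeCore p G)
  refine mem_pCore_of_stab h1 (Z := Z.map (piO p G)) ?_ (hZp.map _) ?_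
  · rintro _ ⟨z, hz, rfl⟩
    rw [mem_center_iff]
    intro g
    obtain ⟨g, rfl⟩ := piO_surj p G g
    rw [← map_mul, ← map_mul, mem_center_iff.1 (hZ hz) g]
  · intro q hq
    rw [← map_eq_pCore_top hQ hi] at hq
    obtain ⟨q, hq, rfl⟩ := hq
    rw [← map_commutatorElement]
    exact mem_map_of_mem _ (h q hq)

theorem relIndex_subgroupOf_oq (T H : Subgroup G) :
    ((T ⊓ oq p H).subgroupOf H).relIndex (pPrimePCore p H) =
      (T ⊓ oq p H).relIndex (oq p H) := by
  rw [← relIndex_subgroupOf (oq_le p H), comap_map_subtype]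

theorem subgroupOf_inf_oq_le (T H : Subgroup G) :
    (T ⊓ oq p H).subgroupOf H ≤ pPrimePCore p H := by
  intro x hx
  have : x ∈ (oq p H).subgroupOf H := hx.2
  rwa [comap_map_subtype] at this

theorem oq_le_sup {T H : Subgroup G} (h : ¬ p ∣ T.relIndex H) :
    oq p H ≤ opp p H ⊔ (T ⊓ oq p H) := by
  have h1 := pPrimePCore_le_sup_top (subgroupOf_inf_oq_le (p := p) T H)
    (by rw [relIndex_subgroupOf_oq]; exact not_dvd_inf_oq h)
  have h2 := map_mono (f := H.subtype) h1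
  rwa [Subgroup.map_sup, map_subgroupOf_eq_of_le (inf_le_right.trans (oq_le p H))] at h2

theorem le_opp_of_le_oq {Y H : Subgroup G} (hY : Y ≤ oq p H) (hc : (Nat.card Y).Coprime p) :
    Y ≤ opp p H := by
  have h1 : Y.subgroupOf H ≤ pPrimePCore p H := by
    intro x hx
    have : x ∈ (oq p H).subgroupOf H := hY hx
    rwa [comap_map_subtype] at this
  have h2 := map_mono (f := H.subtype) (le_pPrimeCore_top h1 (cop_subgroupOf hc H))
  rwa [map_subgroupOf_eq_of_le (hY.trans (oq_le p H))] at h2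

/-- Frattini argument for `O_{p',p}`. -/
theorem le_of_opp_of_normalizer {T H M : Subgroup G} (hT : IsPGroup p T)
    (h : ¬ p ∣ T.relIndex H) (h1 : opp p H ≤ M)
    (h2 : ∀ n ∈ H, n ∈ normalizer ((T ⊓ oq p H : Subgroup G) : Set G) → n ∈ M) : H ≤ M := by
  intro g hg
  obtain ⟨l, hl, hlg⟩ := H13.frattini_rel (hT.to_le inf_le_left) inf_le_right
    (not_dvd_inf_oq h) (le_normalizer_oq p H hg)
  have h3 : oq p H ≤ M := (oq_le_sup h).trans (sup_le h1 fun x hx =>
    h2 x (oq_le p H hx.2) (le_normalizer hx))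
  have h4 := h2 _ (mul_mem (oq_le p H hl) hg) hlg
  exact (mul_mem_cancel_left (h3 hl)).1 h4

/-- the stabilizer lemma. -/
theorem mem_oq_of_stab {T H : Subgroup G} (hL : pLayer p H = ⊥) (h : ¬ p ∣ T.relIndex H)
    {v a : G} (hv : v ∈ H) (hvc : H ≤ centralizer {v}) (hvp : v ^ p = 1) (ha : a ∈ H)
    (hq : ∀ q ∈ T ⊓ oq p H, ⁅q, a⁆ ∈ zpowers v) : a ∈ oq p H := by
  refine ⟨⟨a, ha⟩, ?_, rfl⟩
  refine mem_pPrimePCore_of_stab hL (subgroupOf_inf_oq_le (p := p) T H)
    (by rw [relIndex_subgroupOf_oq]; exact not_dvd_inf_oq h) (Z := zpowers (⟨v, hv⟩ : H)) ?_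
    (isPGroup_zpowers_of_pow (Subtype.ext hvp)) fun q hq' => ?_
  · rw [zpowers_le, mem_center_iff]
    intro g
    exact Subtype.ext (mem_centralizer_singleton_iff.1 (hvc g.2))
  · obtain ⟨k, hk⟩ := hq q hq'
    exact ⟨k, Subtype.ext hk⟩

end H25.Sg
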