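import Mathlib
import Cfsg.Agent.H25.Four
import Cfsg.Agent.H25.Oq

/-!
# The closure of an equivariant signalizer functor attached to a Sylow `2`-subgroup
-/

set_option autoImplicit false
set_option linter.unusedSectionVars false

open Cfsg Subgroup H23
open scoped commutatorElement

namespace H25.Sg

variable {G : Type*} [Group G] [Finite G]

/-- a Sylow `2`-subgroup of rank at least three with a normal four-subgroup. -/
structure Tr (S : Subgroup G) (z u : G) : Prop extends NF S z u where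
  pg : IsPGroup 2 S
  idx : ¬ 2 ∣ S.index
  e3 : ∃ A, A ≤ S ∧ E3 2 A

theorem not_dvd_relIndex_of_index {S H : Subgroup G} (h : ¬ 2 ∣ S.index) (hle : S ≤ H) :
    ¬ 2 ∣ S.relIndex H := fun h1 => h (h1.trans (relIndex_dvd_index_of_le hle))

theorem le_map_conj_inv {A S : Subgroup G} {l : G} (h : ∀ x ∈ A, l * x * l⁻¹ ∈ S) :
    A ≤ S.map (MulAut.conj l⁻¹).toMonoidHom := fun x hx => by
  rw [mem_map_conj, inv_inv]; exact h x hx

theorem map_conj_le_of {A S : Subgroup G} {l : G} (h : ∀ x ∈ A, l * x * l⁻¹ ∈ S) :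
    A.map (MulAut.conj l).toMonoidHom ≤ S := by
  rintro _ ⟨x, hx, rfl⟩; exact h x hx

theorem index_map_conj (S : Subgroup G) (g : G) :
    (S.map (MulAut.conj g).toMonoidHom).index = S.index :=
  index_map_equiv S (MulAut.conj g)

theorem exists_tr (h : ¬ PRankLE 2 2 G) {P : Subgroup G} (hP : IsPGroup 2 P) :
    ∃ S z u, Tr S z u ∧ P ≤ S := by
  obtain ⟨S, h1, h2, -, h4⟩ := H13.exists_sylow_rel hP (le_top : P ≤ ⊤)
  have h5 : ¬ PRankLE 2 2 (⊤ : Subgroup G) := fun h6 => h fun A hA hA2 =>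
    Cn.card_le_of_pRankLE h6 le_top ⟨hA, hA2⟩
  obtain ⟨A, -, hA⟩ := exists_E3_of_not_pRankLE h5
  obtain ⟨l, -, hl⟩ := H13.exists_conj_mem_of_not_dvd_relIndex h1 h4
    (IsElementaryAbelian.isPGroup hA.1) le_top
  obtain ⟨z, u, hzu⟩ := exists_NF h1 (hA.conj l) (map_conj_le_of hl)
  exact ⟨S, z, u, ⟨hzu, h1, by rwa [relIndex_top_right] at h4, _, map_conj_le_of hl, hA.conj l⟩, h2⟩

theorem map_conj_normalizer (W : Subgroup G) (g : G) :
    normalizer ((W.map (MulAut.conj g).toMonoidHom : Subgroup G) : Set G) =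
      (normalizer (W : Set G)).map (MulAut.conj g).toMonoidHom :=
  H1.normalizer_conj_smul g W

namespace Tr

variable {S : Subgroup G} {z u : G} (h : Tr S z u)
include h

theorem swap : Tr S z (z * u) := ⟨h.toNF.swap, h.pg, h.idx, h.e3⟩

theorem conj (g : G) : Tr (S.map (MulAut.conj g).toMonoidHom) (g * z * g⁻¹) (g * u * g⁻¹) := by
  obtain ⟨A, h1, h2⟩ := h.e3
  exact ⟨h.toNF.conj g, h.pg.map _, by rw [index_map_conj]; exact h.idx, _, map_mono h1, h2.conj g⟩

theorem vx : Vx 2 (four z u) := by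
  obtain ⟨A, h1, h2⟩ := h.e3
  exact h.toNF.vx h2 h1

theorem bigz : Big 2 z := h.vx.big (left_mem_four _ _) (ne_one_of_order h.oz)
theorem bigu : Big 2 u := h.vx.big (right_mem_four _ _) (ne_one_of_order h.ou)

theorem exists_conj {H P : Subgroup G} (hH : S ≤ H) (hP : IsPGroup 2 P) (hPH : P ≤ H) :
    ∃ l ∈ H, ∀ x ∈ P, l * x * l⁻¹ ∈ S :=
  H13.exists_conj_mem_of_not_dvd_relIndex h.pg (not_dvd_relIndex_of_index h.idx hH) hP hPH

theorem card_le {P : Subgroup G} (hP : IsPGroup 2 P) : Nat.card P ≤ Nat.card S := by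
  obtain ⟨l, -, hl⟩ := h.exists_conj le_top hP le_top
  rw [← card_map_conj P l]
  exact card_le_of_le (map_conj_le_of hl)

variable {θ : G → Subgroup G} (hθ : ESF 2 θ)
include hθ

theorem closure_conj (g : G) : signalizerClosure (four (g * z * g⁻¹) (g * u * g⁻¹)) θ =
    (signalizerClosure (four z u) θ).map (MulAut.conj g).toMonoidHom := by
  rw [← map_conj_four, hθ.closure_conj fun a ha h1 => h.vx.big ha h1]

theorem le_N : S ≤ normalizer ((signalizerClosure (four z u) θ : Subgroup G) : Set G) :=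
  h.toNF.le_normalizer.trans (hθ.normalizer_le fun _ ha h1 => h.vx.big ha h1)

theorem closure_E3 {A : Subgroup G} (hA : E3 2 A) (hAS : A ≤ S) :
    signalizerClosure A θ = signalizerClosure (four z u) θ := by
  rw [← hθ.closure_eq_of_le hA inf_le_left (h.toNF.card_inf hA hAS),
    hθ.closure_eq_of_comm h.vx (IsElementaryAbelian.of_le hA.1 inf_le_left)
      (h.toNF.card_inf hA hAS) (comm_bot_symm (comm_bot_of_le_centralizer (h.toNF.inf_le_cent hAS)))]

theorem closure_E3' {A : Subgroup G} (hA : E3 2 A)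
    (hAS : A ≤ normalizer ((signalizerClosure (four z u) θ : Subgroup G) : Set G)) :
    signalizerClosure A θ = signalizerClosure (four z u) θ := by
  obtain ⟨l, hl, h1⟩ := h.exists_conj (h.le_N hθ) (IsElementaryAbelian.isPGroup hA.1) hAS
  have h2 := h.closure_E3 hθ (hA.conj l) (map_conj_le_of h1)
  rw [hθ.closure_conj fun a ha h1 => hA.big ha h1] at h2
  rw [← map_conj_conj_inv (signalizerClosure A θ) l, h2]
  exact mem_normalizer_iff_map_conj.1 (inv_mem hl)

end Tr

/-- the key `2`-group argument: `z` fixes a unique point. -/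
theorem Tr.aux_unique {S T : Subgroup G} {z u y : G} (h : Tr S z u) (hy : orderOf y = 2)
    (hne : y ≠ z) (hzy : z * y = y * z) (hTS : T ≤ S) (hVT : four z y ≤ T)
    (hTC : T ≤ centralizer ((four z y : Subgroup G) : Set G))
    (hi : ¬ 2 ∣ T.relIndex (centralizer ((four z y : Subgroup G) : Set G)))
    (hE : ∀ A, E3 2 A → ¬ A ≤ centralizer ((four z y : Subgroup G) : Set G)) :
    (∃ s ∈ normalizer (T : Set G), s * y * s⁻¹ = z * y) ∧ T ≠ four z y ∧
      ∀ t ∈ T, t * t ∈ four z y → t * t = 1 ∨ t * t = z := by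
  have yy := mul_self_of_order hy
  have hV := ea_four h.zz yy hzy
  have hV4 := four_le_card h.oz hy hzy hne
  have hyS : y ∈ S := hTS (hVT (right_mem_four _ _))
  have hST : S ⊓ centralizer ((four z y : Subgroup G) : Set G) = T :=
    H13.eq_of_not_dvd_relIndex hi (h.pg.to_le inf_le_left) inf_le_right (le_inf hTS hTC)
  have hinv : ∀ w ∈ centralizer ((four z y : Subgroup G) : Set G), w * w = 1 → w ∈ four z y := by
    intro w hw hww
    by_contra hn
    have h1 : four z y ≤ centralizer {w} := fun v hv =>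
      mem_centralizer_singleton_iff.2 (hw v hv)
    refine hE _ (E3_of_not_mem hV hV4 hww h1 hn) (sup_le (IsElementaryAbelian.le_centralizer hV) ?_)
    rwa [zpowers_le]
  have hyu : y ∉ centralizer ({u} : Set G) := by
    intro hc
    have h1 : u ∈ centralizer ((four z y : Subgroup G) : Set G) := by
      rw [centralizer_four]
      exact ⟨h.zc h.uS, mem_centralizer_singleton_iff.2 (mem_centralizer_singleton_iff.1 hc).symm⟩
    have h2 := hinv u h1 h.uu
    have h3 : four z u = four z y := eq_of_le_of_card_ge (four_le (left_mem_four _ _) h2)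
      ((card_four_le h.zz yy hzy).trans h.toNF.card)
    obtain ⟨A, h4, h5⟩ := h.vx.2
    refine hE A h5 ?_
    rw [← h3]
    exact (IsElementaryAbelian.le_centralizer h5.1).trans (centralizer_le h4)
  obtain ⟨A, hAS, hA⟩ := h.e3
  refine ⟨?_, fun e => ?_, fun t ht htt => ?_⟩
  · have hlt : T < S := lt_of_le_of_ne hTS fun e => hE A hA (hAS.trans (e ▸ hTC))
    obtain ⟨s, hs, hsT, hsn⟩ := H13.exists_mem_normalizer_of_lt h.pg.isNilpotent hlt
    refine ⟨s, hsn, ?_⟩
    have h1 : s * y * s⁻¹ ∈ four z y := by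
      refine hinv _ (hTC (H13.conj_mem_of_mem_normalizer hsn (hVT (right_mem_four _ _)))) ?_
      calc s * y * s⁻¹ * (s * y * s⁻¹) = s * (y * y) * s⁻¹ := by group
        _ = 1 := by rw [yy]; group
    rcases (mem_four h.zz yy hzy).1 h1 with h2 | h2 | h2 | h2
    · exact absurd (by simpa using h2) (ne_one_of_order hy)
    · rw [← h.toNF.cz hs] at h2
      exact absurd (by simpa using h2) hne
    · refine absurd ?_ hsT
      rw [← hST, centralizer_four]
      exact ⟨hs, h.zc hs, mem_centralizer_singleton_iff.2 (mul_inv_eq_iff_eq_mul.1 h2)⟩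
    · exact h2
  · refine not_E3_of_selfCentralizing h.pg (hVT.trans hTS)
      (le_antisymm (card_four_le h.zz yy hzy) hV4) (hST.trans e) hA hAS
  · have h1 := h.toNF.sq_mem_cent (hTS ht)
    rcases (mem_four h.zz yy hzy).1 htt with h2 | h2 | h2 | h2
    · exact Or.inl h2
    · exact Or.inr h2
    · exact absurd (h2 ▸ h1) hyu
    · rw [h2] at h1
      exact absurd ((mul_mem_cancel_left (mem_centralizer_singleton_iff.2 h.toNF.zu)).1 h1) hyu

theorem exists_sq_mem {T V : Subgroup G} (hT : IsPGroup 2 T) (hn : ¬ T ≤ V) :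
    ∃ w ∈ T, w ∉ V ∧ w * w ∈ V := by
  classical
  obtain ⟨t, ht, htV⟩ := SetLike.not_le_iff_exists.1 hn
  have hex : ∃ k : ℕ, t ^ 2 ^ k ∈ V := by
    obtain ⟨k, hk⟩ := H13.isPGroup_iff_forall_mem.1 hT t ht
    exact ⟨k, hk ▸ one_mem _⟩
  have h0 : Nat.find hex ≠ 0 := fun e => htV (by simpa [e] using Nat.find_spec hex)
  obtain ⟨k, hk⟩ := Nat.exists_eq_succ_of_ne_zero h0
  refine ⟨t ^ 2 ^ k, pow_mem ht _, Nat.find_min hex (by omega), ?_⟩
  have := Nat.find_spec hex
  rwa [hk, Nat.succ_eq_add_one, pow_succ, pow_mul, pow_two] at this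

section unique

variable {θ : G → Subgroup G} (hθ : ESF 2 θ)
  (hC : ∀ (S : Subgroup G) (z u : G), Tr S z u →
    centralizer {z} ≤ normalizer ((signalizerClosure (four z u) θ : Subgroup G) : Set G))
include hθ hC

theorem closure_eq_of_mem_normalizer {S S' : Subgroup G} {z u z' u' : G} (h : Tr S z u)
    (h' : Tr S' z' u')
    (hz : z ∈ normalizer ((signalizerClosure (four z' u') θ : Subgroup G) : Set G)) :
    signalizerClosure (four z u) θ = signalizerClosure (four z' u') θ := by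
  -- reduce to `z ∈ S'`
  wlog hzS : z ∈ S' generalizing S' z' u'
  · obtain ⟨l, hl, h1⟩ := h'.exists_conj (h'.le_N hθ) (isPGroup_zpowers_of_orderOf h.oz)
      (zpowers_le.2 hz)
    have e : signalizerClosure (four (l⁻¹ * z' * l⁻¹⁻¹) (l⁻¹ * u' * l⁻¹⁻¹)) θ =
        signalizerClosure (four z' u') θ := by
      rw [h'.closure_conj hθ]
      exact mem_normalizer_iff_map_conj.1 (inv_mem hl)
    rw [← e]
    exact this (h'.conj l⁻¹) (e ▸ hz) (le_map_conj_inv h1 (mem_zpowers z))
  by_contra hW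
  have hzz : z * z' = z' * z := h'.toNF.comm hzS
  have hE : ∀ A, E3 2 A → A ≤ centralizer {z} → A ≤ centralizer {z'} → False := fun A hA h1 h2 =>
    hW ((h.closure_E3' hθ hA (h1.trans (hC _ _ _ h))).symm.trans
      (h'.closure_E3' hθ hA (h2.trans (hC _ _ _ h'))))
  have hne : z' ≠ z := by
    rintro rfl
    obtain ⟨A, h1, h2⟩ := h.e3
    exact hE A h2 (h1.trans h.zc) (h1.trans h.zc)
  have hE' : ∀ A, E3 2 A → ¬ A ≤ centralizer ((four z z' : Subgroup G) : Set G) := by
    intro A hA h1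
    rw [centralizer_four] at h1
    exact hE A hA (h1.trans inf_le_left) (h1.trans inf_le_right)
  have hV := ea_four h.zz h'.zz hzz
  obtain ⟨T, hT, hVT, hTC, hi⟩ := H13.exists_sylow_rel (IsElementaryAbelian.isPGroup hV)
    (IsElementaryAbelian.le_centralizer hV)
  have hTC' := hTC
  rw [centralizer_four] at hTC'
  obtain ⟨c, hc, h1⟩ := h.exists_conj h.zc hT (hTC'.trans inf_le_left)
  obtain ⟨c', hc', h1'⟩ := h'.exists_conj h'.zc hT (hTC'.trans inf_le_right)
  have h2 := h.conj c⁻¹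
  have h2' := h'.conj c'⁻¹
  have e : c⁻¹ * z * c⁻¹⁻¹ = z := by
    rw [mem_centralizer_singleton_iff.1 (inv_mem hc), mul_inv_cancel_right]
  have e' : c'⁻¹ * z' * c'⁻¹⁻¹ = z' := by
    rw [mem_centralizer_singleton_iff.1 (inv_mem hc'), mul_inv_cancel_right]
  rw [e] at h2
  rw [e'] at h2'
  have hsw : four z' z = four z z' := sup_comm _ _
  obtain ⟨-, h3, h4⟩ := h2.aux_unique h'.oz hne hzz (le_map_conj_inv h1) hVT hTC hi hE'
  obtain ⟨⟨s, hs, hsz⟩, -, -⟩ := h2'.aux_unique h.oz hne.symm hzz.symm (le_map_conj_inv h1')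
    (hsw ▸ hVT) (hsw ▸ hTC) (hsw ▸ hi) (hsw ▸ hE')
  obtain ⟨w, hw, hwV, hww⟩ := exists_sq_mem hT fun hle => h3 (le_antisymm hle hVT)
  have hw1 : w * w ≠ 1 := by
    intro e1
    have h5 : four z z' ≤ centralizer {w} := fun v hv =>
      mem_centralizer_singleton_iff.2 (hTC hw v hv)
    refine hE' _ (E3_of_not_mem hV (four_le_card h.oz h'.oz hzz hne) e1 h5 hwV)
      (sup_le (IsElementaryAbelian.le_centralizer hV) ?_)
    rw [zpowers_le]; exact hTC hw
  have hwz : w * w = z := (h4 w hw hww).resolve_left hw1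
  have h6 : s * w * s⁻¹ * (s * w * s⁻¹) = z' * z := by
    rw [← hsz, ← hwz]; group
  rcases h4 _ (H13.conj_mem_of_mem_normalizer hs hw)
    (h6 ▸ mul_mem (right_mem_four _ _) (left_mem_four _ _)) with h7 | h7
  · rw [h6] at h7
    exact hne ((eq_inv_of_mul_eq_one_left h7).trans (inv_eq_of_mul_self h.zz))
  · rw [h6] at h7
    exact ne_one_of_order h'.oz (by simpa using h7)

end unique

end H25.Sg
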