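import Mathlib
import Cfsg.Agent.H25.Dich0
import Cfsg.Agent.H3.Transfer
import Cfsg.Agent.H13.CyclicMax
import Cfsg.Agent.S0205
import Cfsg.Agent.S1221

/-!
# The dichotomy theorem
-/

set_option autoImplicit false
set_option linter.unusedSectionVars false

open Cfsg Subgroup H23
open scoped commutatorElement

namespace H25.Sg

variable {G : Type*} [Group G] [Finite G]

theorem mem_cent_self (x : G) : x ∈ centralizer ({x} : Set G) :=
  mem_centralizer_singleton_iff.2 rfl

theorem self_mem_oq {x : G} {T : Subgroup G} (hL : pLayer 2 (centralizer ({x} : Set G)) = ⊥)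
    (hx : x * x = 1) (h : ¬ 2 ∣ T.relIndex (centralizer ({x} : Set G))) {a : G}
    (ha : a ∈ centralizer ({x} : Set G))
    (hq : ∀ q ∈ T ⊓ oq 2 (centralizer ({x} : Set G)), ⁅q, a⁆ = 1 ∨ ⁅q, a⁆ = x) :
    a ∈ oq 2 (centralizer ({x} : Set G)) :=
  mem_oq_of_stab hL h (mem_cent_self x) le_rfl (by rw [pow_two, hx]) ha fun q hq' =>
    (mem_zpowers_two hx).2 (hq q hq')

namespace Tr

variable {S : Subgroup G} {z u : G} (h : Tr S z u)
  (hLz : pLayer 2 (centralizer ({z} : Set G)) = ⊥)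
include h hLz

theorem z_mem_oq : z ∈ oq 2 (centralizer ({z} : Set G)) :=
  self_mem_oq hLz h.zz (not_dvd_relIndex_of_index h.idx h.zc) (mem_cent_self z) fun _ hq =>
    Or.inl (commutatorElement_eq_one_iff_mul_comm.2 (h.toNF.comm hq.1))

theorem u_mem_oq : u ∈ oq 2 (centralizer ({z} : Set G)) :=
  self_mem_oq hLz h.zz (not_dvd_relIndex_of_index h.idx h.zc) (h.zc h.uS) fun q hq => by
    rw [commutatorElement_def]
    rcases h.cj q hq.1 with h1 | h1
    · left; rw [h1, mul_inv_cancel]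
    · right; rw [h1, mul_inv_cancel_right]

theorem mem_four_of (hE : ∀ A, E3 2 A → ¬ A ≤ S ⊓ oq 2 (centralizer ({z} : Set G))) {w : G}
    (hw : w ∈ S ⊓ oq 2 (centralizer ({z} : Set G))) (hww : w * w = 1)
    (hwu : w ∈ centralizer ({u} : Set G)) : w ∈ four z u := by
  by_contra hn
  refine hE _ (E3_of_not_mem h.toNF.ea h.toNF.card hww ?_ hn)
    (sup_le (four_le ⟨h.zS, h.z_mem_oq hLz⟩ ⟨h.uS, h.u_mem_oq hLz⟩) (zpowers_le.2 hw))
  exact four_le (mem_centralizer_singleton_iff.2 (h.toNF.comm hw.1).symm)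
    (mem_centralizer_singleton_iff.2 (mem_centralizer_singleton_iff.1 hwu).symm)

theorem omega_center (hE : ∀ A, E3 2 A → ¬ A ≤ S ⊓ oq 2 (centralizer ({z} : Set G))) {v : G}
    (hv : v ∈ S ⊓ oq 2 (centralizer ({z} : Set G))) (hvv : v * v = 1)
    (hvu : v ∉ centralizer ({u} : Set G)) {a : G} (ha : a ∈ S ⊓ centralizer {u}) (haa : a * a = 1)
    (hac : ∀ s ∈ S ⊓ centralizer {u}, s * a = a * s) : a ∈ four z u := by
  have hSn : S ≤ normalizer ((S ⊓ oq 2 (centralizer ({z} : Set G)) : Subgroup G) : Set G) :=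
    le_normalizer_inf le_normalizer (h.zc.trans (le_normalizer_oq _ _))
  have hS0 : S ≤ normalizer ((S ⊓ centralizer {u} : Subgroup G) : Set G) := by
    have e : S ⊓ centralizer {u} = S ⊓ centralizer ((four z u : Subgroup G) : Set G) := by
      rw [centralizer_four, ← inf_assoc, inf_eq_left.2 h.zc]
    rw [e]
    exact le_normalizer_inf le_normalizer (le_normalizer_centralizer h.toNF.le_normalizer)
  refine h.mem_four_of hLz hE ⟨ha.1, ?_⟩ haa ha.2
  have key : ⁅v, a⁆ = 1 ∨ ⁅v, a⁆ = z := by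
    have h1 : v * a * v⁻¹ ∈ S ⊓ centralizer {u} := conj_mem hS0 hv.1 ha
    have h2 : ⁅v, a⁆ ∈ S ⊓ oq 2 (centralizer ({z} : Set G)) := by
      have : ⁅v, a⁆ = v * (a * v⁻¹ * a⁻¹) := by simp only [commutatorElement_def]; group
      rw [this]
      exact mul_mem hv (conj_mem hSn ha.1 (inv_mem hv))
    have h3 : ⁅v, a⁆ * ⁅v, a⁆ = 1 := by
      have h4 := hac _ h1
      rw [commutatorElement_def, inv_eq_of_mul_self haa]
      calc v * a * v⁻¹ * a * (v * a * v⁻¹ * a) = v * a * v⁻¹ * (a * (v * a * v⁻¹)) * a := by group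
        _ = v * (a * a) * v⁻¹ * (a * a) := by rw [← h4]; group
        _ = 1 := by rw [haa]; group
    have h4 : ⁅v, a⁆ ∈ centralizer ({u} : Set G) := mul_mem h1.2 (inv_mem ha.2)
    have h5 : ⁅v, a⁆ * v = v * ⁅v, a⁆ := by
      have h6 : ⁅v, a⁆⁻¹ * v * (⁅v, a⁆⁻¹ * v) = 1 := by
        rw [commutatorElement_def]
        calc (v * a * v⁻¹ * a⁻¹)⁻¹ * v * ((v * a * v⁻¹ * a⁻¹)⁻¹ * v) = a * (v * v) * a⁻¹ := by group
          _ = 1 := by rw [hvv]; group
      rw [inv_eq_of_mul_self h3] at h6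
      have h7 := inv_eq_of_mul_self h6
      rw [mul_inv_rev, inv_eq_of_mul_self hvv, inv_eq_of_mul_self h3] at h7
      exact h7.symm
    rcases h.toNF.mem.1 (h.mem_four_of hLz hE h2 h3 h4) with h6 | h6 | h6 | h6
    · exact Or.inl h6
    · exact Or.inr h6
    · rw [h6] at h5
      exact absurd (mem_centralizer_singleton_iff.2 h5.symm) hvu
    · rw [h6, ← mul_assoc, h.toNF.comm hv.1, mul_assoc, mul_assoc, mul_left_cancel_iff] at h5
      exact absurd (mem_centralizer_singleton_iff.2 h5.symm) hvu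
  refine self_mem_oq hLz h.zz (not_dvd_relIndex_of_index h.idx h.zc) (h.zc ha.1) fun q hq => ?_
  by_cases hqu : q ∈ centralizer ({u} : Set G)
  · exact Or.inl (commutatorElement_eq_one_iff_mul_comm.2 (hac q ⟨hq.1, hqu⟩))
  · have h1 : q * v ∈ S ⊓ centralizer {u} :=
      ⟨mul_mem hq.1 hv.1, h.toNF.mul_mem_cent hq.1 hv.1 hqu hvu⟩
    have h2 := hac _ h1
    have h3 : ⁅q, a⁆ = (q * v) * ⁅v, a⁆ * (q * v)⁻¹ := by
      have e : q = q * v * v := by rw [mul_assoc, hvv, mul_one]
      simp only [commutatorElement_def]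
      calc q * a * q⁻¹ * a⁻¹ = (q * v * v) * a * (q * v * v)⁻¹ * a⁻¹ := by rw [← e]
        _ = q * v * (v * a * v⁻¹) * (a * (q * v))⁻¹ := by group
        _ = _ := by rw [← h2]; group
    rw [h3]
    rcases key with h4 | h4
    · left; rw [h4]; group
    · right; rw [h4, h.toNF.cz h1.1]

theorem z_mem_oq_u (hLu : pLayer 2 (centralizer ({u} : Set G)) = ⊥)
    (hE : ∀ A, E3 2 A → ¬ A ≤ S ⊓ oq 2 (centralizer ({z} : Set G))) {v : G}
    (hv : v ∈ S ⊓ oq 2 (centralizer ({z} : Set G))) (hvv : v * v = 1)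
    (hvu : v ∉ centralizer ({u} : Set G)) : z ∈ oq 2 (centralizer ({u} : Set G)) := by
  obtain ⟨T, hT, hST, hTC, hi⟩ := H13.exists_sylow_rel
    (h.pg.to_le (inf_le_left : S ⊓ centralizer {u} ≤ S)) inf_le_right
  have hn : T ≤ normalizer ((S ⊓ centralizer {u} : Subgroup G) : Set G) := by
    have h1 := H2.card_mul_relIndex hST
    have h2 := h.card_le hT
    have h3 := h.toNF.card_le (le_refl S)
    have h4 : (S ⊓ centralizer {u}).relIndex T ≤ 2 := by
      by_contra h5
      have : 0 < Nat.card ↥(S ⊓ centralizer {u}) := Nat.card_pos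
      nlinarith
    have h5 : (S ⊓ centralizer {u}).relIndex T ≠ 0 := by
      intro e; rw [e, mul_zero] at h1; exact Nat.card_pos.ne h1
    rw [← normal_subgroupOf_iff_le_normalizer hST]
    have h6 : (S ⊓ centralizer {u}).relIndex T = 1 ∨ (S ⊓ centralizer {u}).relIndex T = 2 := by
      omega
    rcases h6 with h6 | h6
    · rw [relIndex, index_eq_one] at h6
      rw [h6]; infer_instance
    · exact normal_of_index_eq_two h6
  have hzu : z ∈ centralizer ({u} : Set G) := mem_centralizer_singleton_iff.2 h.toNF.zu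
  have huq : u ∈ oq 2 (centralizer ({u} : Set G)) :=
    self_mem_oq hLu h.uu hi (mem_cent_self u) fun q hq =>
      Or.inl (commutatorElement_eq_one_iff_mul_comm.2 (mem_centralizer_singleton_iff.1 (hTC hq.1)))
  by_contra hz
  refine hz (self_mem_oq hLu h.uu hi hzu fun y hy => ?_)
  have h1 : y * z * y⁻¹ ∈ four z u := by
    refine h.omega_center hLz hE hv hvv hvu (conj_mem hn hy.1 ⟨h.zS, hzu⟩) ?_ fun s hs => ?_
    · calc y * z * y⁻¹ * (y * z * y⁻¹) = y * (z * z) * y⁻¹ := by group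
        _ = 1 := by rw [h.zz]; group
    · have h2 := h.toNF.comm (conj_mem' hn hy.1 hs).1
      calc s * (y * z * y⁻¹) = y * (y⁻¹ * s * y * z) * y⁻¹ := by group
        _ = _ := by rw [h2]; group
  have h2 : ⁅y, z⁆ ∈ four z u := mul_mem h1 (inv_mem (left_mem_four _ _))
  have h3 : ⁅y, z⁆ ∈ oq 2 (centralizer ({u} : Set G)) := by
    have : ⁅y, z⁆ = y * (z * y⁻¹ * z⁻¹) := by simp only [commutatorElement_def]; group
    rw [this]
    exact mul_mem hy.2 (conj_mem (le_normalizer_oq _ _) hzu (inv_mem hy.2))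
  rcases h.toNF.mem.1 h2 with h4 | h4 | h4 | h4
  · exact Or.inl h4
  · exact absurd (h4 ▸ h3) hz
  · exact Or.inr h4
  · rw [h4] at h3
    exact absurd ((mul_mem_cancel_right huq).1 h3) hz

end Tr

theorem inf_cent_le_cpp {W : Subgroup G} {a z : G} (hz : orderOf z = 2)
    (hW : (Nat.card W).Coprime 2) (hzW : z ∈ normalizer (W : Set G))
    (hza : z ∈ oq 2 (centralizer ({a} : Set G)))
    (h : W ⊓ centralizer {z} ⊓ centralizer {a} ≤ centralizerPPrimeCore 2 a) :
    W ⊓ centralizer {a} ≤ centralizerPPrimeCore 2 a := by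
  have hp := isPGroup_zpowers_of_orderOf hz
  have hn : zpowers z ≤ normalizer ((W ⊓ centralizer {a} : Subgroup G) : Set G) :=
    le_normalizer_inf (zpowers_le.2 hzW) ((zpowers_le.2 (oq_le _ _ hza)).trans le_normalizer)
  have hc : (Nat.card ↥(W ⊓ centralizer {a})).Coprime 2 := cop_of_le hW inf_le_left
  rw [← H1.commutator_sup_centralizer (zpowers z) _ hn (cop_card_of_isPGroup hp hc)
    (Or.inl (solv_of_isPGroup hp))]
  refine sup_le ?_ ?_
  · refine le_opp_of_le_oq ?_ (cop_of_le hc (commutator_le_left_of hn))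
    exact (commutator_mono inf_le_right (zpowers_le.2 hza)).trans
      (commutator_le_right_of (le_normalizer_oq _ _))
  · rw [centralizer_zpowers, inf_right_comm]
    exact h

section main

variable (hL : ∀ t : G, orderOf t = 2 → pLayer 2 (centralizer ({t} : Set G)) = ⊥)
include hL

theorem esf_two : ESF 2 (centralizerPPrimeCore (G := G) 2) :=
  esf_cpp fun a ha => ⟨hL a ha.1, Cfsg.Agent.S0205.result (cop_two_iff_odd.1 (opp_cop 2 _))⟩

theorem Tr.centralizer_le {S : Subgroup G} {z u : G} (h : Tr S z u) : centralizer {z} ≤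
    normalizer ((signalizerClosure (four z u) (centralizerPPrimeCore 2) : Subgroup G) : Set G) := by
  have hθ := esf_two hL
  have hLz := hL z h.oz
  refine le_of_opp_of_normalizer h.pg (not_dvd_relIndex_of_index h.idx h.zc)
    ((le_closure (θ := centralizerPPrimeCore 2) (left_mem_four z u)
      (ne_one_of_order h.oz)).trans le_normalizer) fun n hn hnQ => ?_
  rw [mem_normalizer_iff_map_conj]
  by_cases hE : ∃ A, E3 2 A ∧ A ≤ S ⊓ oq 2 (centralizer ({z} : Set G))
  · obtain ⟨A, hA, hAQ⟩ := hE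
    rw [← h.closure_E3 hθ hA (hAQ.trans inf_le_left),
      ← hθ.closure_conj fun a ha h1 => hA.big ha h1, h.closure_E3 hθ hA (hAQ.trans inf_le_left)]
    refine h.closure_E3 hθ (hA.conj n) (map_conj_le_of fun x hx => ?_)
    exact (H13.conj_mem_of_mem_normalizer hnQ (hAQ hx)).1
  push Not at hE
  have h' := h.conj n
  rw [← h.closure_conj hθ]
  have e : n * z * n⁻¹ = z := by rw [mem_centralizer_singleton_iff.1 hn, mul_inv_cancel_right]
  have hcard : Nat.card (signalizerClosure (four (n * z * n⁻¹) (n * u * n⁻¹))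
      (centralizerPPrimeCore 2)) = Nat.card (signalizerClosure (four z u)
        (centralizerPPrimeCore 2)) := by rw [h.closure_conj hθ, card_map_conj]
  rw [e] at h' hcard ⊢
  have huQ : u ∈ S ⊓ oq 2 (centralizer ({z} : Set G)) := ⟨h.uS, h.u_mem_oq hLz⟩
  have hv := H13.conj_mem_of_mem_normalizer hnQ huQ
  by_cases hvu : n * u * n⁻¹ ∈ centralizer ({u} : Set G)
  · refine (hθ.closure_eq_of_comm h.vx h'.toNF.ea h'.toNF.card ?_).symm
    apply comm_bot_of_le_centralizer
    rw [centralizer_four]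
    exact four_le ⟨mem_cent_self z, mem_centralizer_singleton_iff.2 h'.toNF.zu⟩
      ⟨h.zc h.uS, mem_centralizer_singleton_iff.2 (mem_centralizer_singleton_iff.1 hvu).symm⟩
  refine eq_of_le_of_card_ge ?_ hcard.ge
  have hUS : four z u ≤ S.map (MulAut.conj n).toMonoidHom := by
    refine four_le h'.zS ?_
    rw [mem_map_conj]
    exact (H13.conj_mem_of_mem_normalizer' hnQ huQ).1
  have hW := hθ.vx_cop h'.vx
  have hzN := h'.le_N hθ h'.zS
  have hz' := hθ.vx_inf h'.vx (left_mem_four _ _) (ne_one_of_order h.oz)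
  refine le_of_cent h.toNF.ea h.toNF.card (hUS.trans (h'.le_N hθ)) hW fun a ha h1 => ?_
  refine le_trans ?_ (le_closure ha h1)
  have hba := h.vx.big ha h1
  have hza : z * a = a * z := IsElementaryAbelian.comm h.toNF.ea (left_mem_four _ _) ha
  rcases h.toNF.mem.1 ha with h2 | h2 | h2 | h2
  · exact absurd h2 h1
  · rw [h2, hz']
  · refine inf_cent_le_cpp h.oz hW hzN ?_ (by rw [hz']; exact hθ.bal z a h.bigz hba hza)
    rw [h2]
    exact h.z_mem_oq_u hLz (hL u h.ou) hE hv h'.uu hvu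
  · refine inf_cent_le_cpp h.oz hW hzN ?_ (by rw [hz']; exact hθ.bal z a h.bigz hba hza)
    rw [h2]
    refine h.swap.z_mem_oq_u hLz (hL _ h.swap.ou) hE hv h'.uu fun hc => hvu ?_
    rw [mem_centralizer_singleton_iff, ← mul_assoc, ← h'.toNF.zu, mul_assoc, mul_assoc z u,
      mul_left_cancel_iff] at hc
    exact mem_centralizer_singleton_iff.2 hc

variable (hbig : ∀ t : G, orderOf t = 2 → Big 2 t)
include hbig

theorem Tr.centralizer_le' {S : Subgroup G} {z u : G} (h : Tr S z u) {x : G} (hx : orderOf x = 2)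
    (hxS : x ∈ S) : centralizerPPrimeCore 2 x ≤
      signalizerClosure (four z u) (centralizerPPrimeCore 2) ∧ centralizer {x} ≤
    normalizer ((signalizerClosure (four z u) (centralizerPPrimeCore 2) : Subgroup G) : Set G) := by
  have hθ := esf_two hL
  have hC := fun S z u (h : Tr S z u) => Tr.centralizer_le hL h
  obtain ⟨T, hT, hST, hTC, hi⟩ := H13.exists_sylow_rel
    (h.pg.to_le (inf_le_left : S ⊓ centralizer {x} ≤ S)) inf_le_right
  have hr : ¬ PRankLE 2 2 G := fun h1 => (hbig x hx).2 fun A hA hA2 => by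
    have := h1 (A.map (centralizer ({x} : Set G)).subtype)
      (IsElementaryAbelian.map ⟨hA, hA2⟩ _).1 (IsElementaryAbelian.map ⟨hA, hA2⟩ _).2
    rwa [H2.card_map_subtype] at this
  obtain ⟨S1, z1, u1, h1, hTS⟩ := exists_tr hr hT
  have hzT : z ∈ T := hST ⟨h.zS, mem_centralizer_singleton_iff.2 (h.toNF.comm hxS).symm⟩
  have hxT : x ∈ T := hST ⟨hxS, mem_cent_self x⟩
  rw [closure_eq_of_mem_normalizer hθ hC h h1 (h1.le_N hθ (hTS hzT))]
  have hO : centralizerPPrimeCore 2 x ≤
      signalizerClosure (four z1 u1) (centralizerPPrimeCore 2) := by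
    obtain ⟨A, hxA, hA⟩ := (hbig x hx).exists_E3
    obtain ⟨l, hl, h2⟩ := H13.exists_conj_mem_of_not_dvd_relIndex hT hi
      (IsElementaryAbelian.isPGroup hA.1) (IsElementaryAbelian.le_centralizer_singleton hA.1 hxA)
    rw [← h1.closure_E3 hθ (hA.conj l) ((map_conj_le_of h2).trans hTS)]
    refine le_closure ⟨x, hxA, ?_⟩ (ne_one_of_order hx)
    change l * x * l⁻¹ = x
    rw [mem_centralizer_singleton_iff.1 hl, mul_inv_cancel_right]
  refine ⟨hO, le_of_opp_of_normalizer hT hi (hO.trans le_normalizer) fun n _ hnQ => ?_⟩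
  have hz1C : z1 ∈ centralizer ({x} : Set G) :=
    mem_centralizer_singleton_iff.2 (h1.toNF.comm (hTS hxT)).symm
  have hz1T : z1 ∈ T := by
    have := H13.eq_of_not_dvd_relIndex hi (h1.pg.to_le (inf_le_left : S1 ⊓ centralizer {x} ≤ S1))
      inf_le_right (le_inf hTS hTC)
    rw [← this]
    exact ⟨h1.zS, hz1C⟩
  have hz1Q : z1 ∈ oq 2 (centralizer ({x} : Set G)) :=
    self_mem_oq (hL x hx) (mul_self_of_order hx) hi hz1C fun q hq =>
      Or.inl (commutatorElement_eq_one_iff_mul_comm.2 (h1.toNF.comm (hTS hq.1)))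
  have h2 := (H13.conj_mem_of_mem_normalizer hnQ ⟨hz1T, hz1Q⟩).1
  rw [mem_normalizer_iff_map_conj, ← h1.closure_conj hθ]
  exact closure_eq_of_mem_normalizer hθ hC (h1.conj n) h1 (h1.le_N hθ (hTS h2))

theorem cpp_eq_bot (hO : oddCore G = ⊥) {t : G} (ht : orderOf t = 2) :
    centralizerPPrimeCore 2 t = ⊥ := by
  have hθ := esf_two hL
  have hr : ¬ PRankLE 2 2 G := fun h1 => (hbig t ht).2 fun A hA hA2 => by
    have := h1 (A.map (centralizer ({t} : Set G)).subtype)
      (IsElementaryAbelian.map ⟨hA, hA2⟩ _).1 (IsElementaryAbelian.map ⟨hA, hA2⟩ _).2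
    rwa [H2.card_map_subtype] at this
  obtain ⟨S, z, u, h, htS⟩ := exists_tr hr (isPGroup_zpowers_of_orderOf ht)
  have h1 := (h.centralizer_le' hL hbig ht (htS (mem_zpowers t))).1
  set W := signalizerClosure (four z u) (centralizerPPrimeCore 2) with hW
  have hWc : (Nat.card W).Coprime 2 := hθ.vx_cop h.vx
  have key : ∀ (S : Subgroup G) (z u : G), Tr S z u → ∀ x : G, orderOf x = 2 →
      x ∈ normalizer ((signalizerClosure (four z u) (centralizerPPrimeCore 2) : Subgroup G) :
        Set G) → centralizer {x} ≤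
      normalizer ((signalizerClosure (four z u) (centralizerPPrimeCore 2) : Subgroup G) :
        Set G) := by
    intro S z u h x hx hxN
    obtain ⟨l, hl, h2⟩ := h.exists_conj (h.le_N hθ) (isPGroup_zpowers_of_orderOf hx)
      (zpowers_le.2 hxN)
    have h3 := ((h.conj l⁻¹).centralizer_le' hL hbig hx (le_map_conj_inv h2 (mem_zpowers x))).2
    rwa [h.closure_conj hθ, mem_normalizer_iff_map_conj.1 (inv_mem hl)] at h3
  suffices W ≤ oddCore G from eq_bot_iff.2 (h1.trans (hO ▸ this))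
  by_cases hM : normalizer (W : Set G) = ⊤
  · exact H2.le_pPrimeCore (normalizer_eq_top_iff.1 hM) hWc
  refine le_trans (le_opp le_normalizer le_rfl hWc) (Cfsg.Agent.S1221.result _ ⟨hM, ?_, ?_⟩)
  · exact H25.LB.even_card_of_invol (h.le_N hθ h.zS) h.oz
  · intro g hg
    by_contra hodd
    obtain ⟨x, hx, hxo⟩ := H25.LB.exists_invol_of_not_odd hodd
    apply hg
    have h2 := key S z u h x hxo hx.1
    have hx2 := hx.2
    rw [← map_conj_normalizer, hW, ← h.closure_conj hθ] at hx2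
    have h3 := key _ _ _ (h.conj g) x hxo hx2
    obtain ⟨A, hxA, hA⟩ := (hbig x hxo).exists_E3
    have h4 := IsElementaryAbelian.le_centralizer_singleton hA.1 hxA
    rw [mem_normalizer_iff_map_conj, hW, ← h.closure_conj hθ,
      ← (h.conj g).closure_E3' hθ hA (h4.trans h3), h.closure_E3' hθ hA (h4.trans h2)]

theorem isCharacteristicTwoType (hO : oddCore G = ⊥) (he : Even (Nat.card G)) :
    IsCharacteristicTwoType G := by
  refine ⟨he, fun T hT h1 => fstar_eq_pCore_iff.1
    (fstar_normalizer_of_centralizers (fun t ht => ?_) hT h1)⟩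
  have h2 := cpp_eq_bot hL hbig hO ht
  rw [cpp_def, opp_eq_bot_iff] at h2
  rw [fstar_eq_pCore_iff', ← pLayer_eq_layer h2]
  exact ⟨hL t ht, h2⟩

end main

theorem pLayer_eq_bot_of_not_componentType (h : ¬ IsComponentType G) (t : G) (ht : orderOf t = 2) :
    pLayer 2 (centralizer ({t} : Set G)) = ⊥ := by
  rw [pLayer_eq_bot_iff, layer_eq_bot_iff]
  exact fun L hL => h ⟨t, ht, L, hL⟩

theorem Tr.big_of_mem {S : Subgroup G} {z u : G} (h : Tr S z u) {t : G} (ht : orderOf t = 2)
    (htS : t ∈ S) (htu : t ∈ centralizer ({u} : Set G)) : Big 2 t := by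
  by_cases h1 : t ∈ four z u
  · exact h.vx.big h1 (ne_one_of_order ht)
  · exact (E3_of_not_mem h.toNF.ea h.toNF.card (mul_self_of_order ht)
      (four_le (mem_centralizer_singleton_iff.2 (h.toNF.comm htS).symm)
        (mem_centralizer_singleton_iff.2 (mem_centralizer_singleton_iff.1 htu).symm)) h1).big
      (mem_sup_right (mem_zpowers t)) (ne_one_of_order ht)

theorem Big.of_conj {t g : G} (h : Big 2 (g * t * g⁻¹)) : Big 2 t := by
  obtain ⟨A, h1, h2⟩ := h.exists_E3
  refine (h2.conj g⁻¹).big ⟨_, h1, by simp [mul_assoc]⟩ ?_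
  rintro rfl
  exact ne_one_of_order h.1 (by simp)

theorem big_of_no_index_two (hO2 : ∀ N : Subgroup G, N.Normal → N.index ≠ 2)
    (hr : ¬ PRankLE 2 2 G) (t : G) (ht : orderOf t = 2) : Big 2 t := by
  obtain ⟨S, z, u, h, htS⟩ := exists_tr hr (isPGroup_zpowers_of_orderOf ht)
  have htS' := htS (mem_zpowers t)
  by_cases htu : t ∈ centralizer ({u} : Set G)
  · exact h.big_of_mem ht htS' htu
  have h2 : (S ⊓ centralizer {u}).relIndex S = 2 := by
    rw [inf_relIndex_left]
    rcases (Nat.dvd_prime Nat.prime_two).1 (h.toNF.relIndex_dvd (le_refl S)) with h1 | h1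
    · rw [relIndex_eq_one] at h1
      exact absurd (h1 htS') htu
    · exact h1
  rcases H3.thompson_transfer S (S ⊓ centralizer {u})
    (Nat.not_even_iff_odd.1 fun e => h.idx e.two_dvd) h2 t (mul_self_of_order ht) htS'
    (fun e => htu e.2) with ⟨M, hM, hM2, -⟩ | ⟨g, hg⟩
  · exact absurd hM2 (hO2 M hM)
  · exact Big.of_conj (h.big_of_mem (by rw [H25.LB.orderOf_conj', ht]) hg.1 hg.2)

theorem dichotomy (heven : Even (Nat.card G)) (hO2 : ∀ N : Subgroup G, N.Normal → N.index ≠ 2)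
    (hO : oddCore G = ⊥) : PRankLE 2 2 G ∨ IsComponentType G ∨ IsCharacteristicTwoType G := by
  by_cases hr : PRankLE 2 2 G
  · exact Or.inl hr
  by_cases hc : IsComponentType G
  · exact Or.inr (Or.inl hc)
  exact Or.inr (Or.inr (isCharacteristicTwoType (pLayer_eq_bot_of_not_componentType hc)
    (big_of_no_index_two hO2 hr) hO heven))

theorem ea_of_isKleinFour {V : Subgroup G} (h : IsKleinFour V) :
    IsElementaryAbelian 2 V ∧ Nat.card V = 4 := by
  have h1 : ∀ v ∈ V, v ^ 2 = 1 := fun v hv => by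
    have := Monoid.pow_exponent_eq_one (⟨v, hv⟩ : V)
    rw [h.exponent_two] at this
    exact congrArg Subtype.val this
  refine ⟨isElementaryAbelian_iff.2 ⟨fun a ha b hb => ?_, h1⟩, h.card_four⟩
  have h3 : ∀ v ∈ V, v⁻¹ = v := fun v hv =>
    inv_eq_of_mul_self (by rw [← pow_two]; exact h1 v hv)
  have h2 := h3 _ (mul_mem ha hb)
  rw [mul_inv_rev, h3 a ha, h3 b hb] at h2
  exact h2.symm

theorem isKleinFour_subgroupOf {V S : Subgroup G} (hV : IsElementaryAbelian 2 V)
    (h4 : Nat.card V = 4) (hle : V ≤ S) : IsKleinFour (V.subgroupOf S) :=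
  H13.isKleinFour_of_card_of_sq (by rw [H2.card_subgroupOf_of_le hle, h4])
    (IsElementaryAbelian.subgroupOf hV S).2

/-- in a connected `2`-group of rank at least three every four-group lies in an `E₈`. -/
theorem Tr.vx_of_connected {S : Subgroup G} {z u : G} (h : Tr S z u) (hc : IsFourConnected S)
    {V : Subgroup G} (hV : IsElementaryAbelian 2 V) (h4 : Nat.card V = 4) (hVS : V ≤ S) :
    ∃ A, V ≤ A ∧ A ≤ S ∧ E3 2 A := by
  have h1 := hc _ _ (isKleinFour_subgroupOf hV h4 hVS) (isKleinFour_subgroupOf h.toNF.ea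
    (le_antisymm (card_four_le h.zz h.uu h.toNF.zu) h.toNF.card) h.toNF.le)
  have key : ∀ X : Subgroup S, Relation.ReflTransGen (fun A B : Subgroup S =>
      IsKleinFour A ∧ IsKleinFour B ∧ ∀ a ∈ A, ∀ b ∈ B, a * b = b * a) (V.subgroupOf S) X →
      X = V.subgroupOf S ∨ ∃ A, V ≤ A ∧ A ≤ S ∧ E3 2 A := by
    intro X hX
    induction hX with
    | refl => exact Or.inl rfl
    | @tail X Y _ h2 ih =>
      rcases ih with rfl | ih
      · obtain ⟨hY, hY4⟩ := ea_of_isKleinFour h2.2.1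
        by_cases hle : Y ≤ V.subgroupOf S
        · left
          exact eq_of_le_of_card_ge hle (by rw [H2.card_subgroupOf_of_le hVS, h4, hY4])
        · right
          obtain ⟨y, hy, hyV⟩ := SetLike.not_le_iff_exists.1 hle
          refine ⟨_, le_sup_left, sup_le hVS (zpowers_le.2 y.2), E3_of_not_mem hV h4.ge
            (w := (y : G)) ?_ (fun v hv => ?_) hyV⟩
          · rw [← pow_two]; exact congrArg Subtype.val (hY.2 y hy)
          · exact mem_centralizer_singleton_iff.2
              (congrArg Subtype.val (h2.2.2 ⟨v, hVS hv⟩ hv y hy))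
      · exact Or.inr ih
  rcases key _ h1 with h2 | h2
  · have h3 : four z u = V := by
      rw [← map_subgroupOf_eq_of_le h.toNF.le, h2, map_subgroupOf_eq_of_le hVS]
    obtain ⟨A, h5, h6⟩ := h.e3
    obtain ⟨B, h7, h8, h9⟩ := h.toNF.exists_E3 h6 h5
    exact ⟨B, h3 ▸ h8, h7, h9⟩
  · exact h2

theorem exists_tr_sylow (hr : ¬ PRankLE 2 2 G) (S : Sylow 2 G) :
    ∃ z u, Tr (S : Subgroup G) z u := by
  obtain ⟨S', z, u, h, hle⟩ := exists_tr hr S.isPGroup'
  rw [S.is_maximal' h.pg hle] at h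
  exact ⟨z, u, h⟩

theorem big_of_connected (hr : ¬ PRankLE 2 2 G) (S : Sylow 2 G)
    (hc : IsFourConnected (S : Subgroup G)) (t : G) (ht : orderOf t = 2) : Big 2 t := by
  obtain ⟨z, u, h⟩ := exists_tr_sylow hr S
  obtain ⟨l, -, hl⟩ := h.exists_conj le_top (isPGroup_zpowers_of_orderOf ht) le_top
  have h1 := hl t (mem_zpowers t)
  have h2 : orderOf (l * t * l⁻¹) = 2 := by rw [H25.LB.orderOf_conj', ht]
  apply Big.of_conj (g := l)
  by_cases e : l * t * l⁻¹ = z
  · rw [e]; exact h.bigz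
  have h3 := (h.toNF.comm h1).symm
  obtain ⟨A, h4, -, h5⟩ := h.vx_of_connected hc (ea_four h.zz (mul_self_of_order h2) h3)
    (le_antisymm (card_four_le h.zz (mul_self_of_order h2) h3) (four_le_card h.oz h2 h3 e))
    (four_le h.zS h1)
  exact h5.big (h4 (right_mem_four _ _)) (ne_one_of_order h2)

theorem charTwo_of_connected (hr : ¬ PRankLE 2 2 G) (hO : oddCore G = ⊥)
    (hc : ¬ IsComponentType G) (S : Sylow 2 G) (hS : IsFourConnected (S : Subgroup G)) :
    IsCharacteristicTwoType G := by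
  obtain ⟨z, u, h⟩ := exists_tr_sylow hr S
  refine isCharacteristicTwoType (pLayer_eq_bot_of_not_componentType hc)
    (big_of_connected hr S hS) hO ?_
  have := orderOf_dvd_natCard z
  rw [h.oz] at this
  exact even_iff_two_dvd.2 this

end H25.Sg
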