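import Mathlib
import Cfsg.Agent.H23.Ext
import Cfsg.Agent.S0227

/-!
# L-balance and core balance (via Glauberman's theorem on automorphisms fixing a Sylow 2-subgroup)
-/

set_option autoImplicit false
set_option linter.unusedSectionVars false

open Cfsg Subgroup H23
open scoped commutatorElement

namespace H25.LB

variable {G : Type*} [Group G] [Finite G] {p : ℕ} [hp : Fact p.Prime]

/-! ### centralizing modulo a subgroup -/

/-- the elements normalizing `Y` and centralizing `K` modulo `Y`. -/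
def cmod (K Y : Subgroup G) : Subgroup G where
  carrier := {x | x ∈ normalizer (Y : Set G) ∧ ∀ k ∈ K, ⁅k, x⁆ ∈ Y}
  one_mem' := ⟨one_mem _, fun k _ => by rw [commutatorElement_one_right]; exact one_mem _⟩
  mul_mem' := fun {x y} hx hy => ⟨mul_mem hx.1 hy.1, fun k hk => by
    have : ⁅k, x * y⁆ = ⁅k, x⁆ * (x * ⁅k, y⁆ * x⁻¹) := by
      simp only [commutatorElement_def]; group
    rw [this]
    exact mul_mem (hx.2 k hk) ((mem_normalizer_iff.mp hx.1 _).mp (hy.2 k hk))⟩
  inv_mem' := fun {x} hx => ⟨inv_mem hx.1, fun k hk => by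
    have : ⁅k, x⁻¹⁆ = x⁻¹ * ⁅k, x⁆⁻¹ * x⁻¹⁻¹ := by
      simp only [commutatorElement_def]; group
    rw [this]
    exact (mem_normalizer_iff.mp (inv_mem hx.1) _).mp (inv_mem (hx.2 k hk))⟩

theorem mem_cmod {K Y : Subgroup G} {x : G} :
    x ∈ cmod K Y ↔ x ∈ normalizer (Y : Set G) ∧ ∀ k ∈ K, ⁅k, x⁆ ∈ Y := Iff.rfl

theorem le_cmod {K Y A : Subgroup G} (h : ⁅K, A⁆ ≤ Y) (hn : A ≤ normalizer (Y : Set G)) :
    A ≤ cmod K Y := fun _ ha => ⟨hn ha, fun _ hk => h (commutator_mem_commutator hk ha)⟩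

theorem comm_le_of_le_cmod {K Y A : Subgroup G} (h : A ≤ cmod K Y) : ⁅K, A⁆ ≤ Y :=
  commutator_le.mpr fun k hk _ ha => (h ha).2 k hk

theorem comm_sup_le {K Y A B : Subgroup G} (hA : ⁅K, A⁆ ≤ Y) (hB : ⁅K, B⁆ ≤ Y)
    (hA' : A ≤ normalizer (Y : Set G)) (hB' : B ≤ normalizer (Y : Set G)) : ⁅K, A ⊔ B⁆ ≤ Y :=
  comm_le_of_le_cmod (sup_le (le_cmod hA hA') (le_cmod hB hB'))

/-! ### relative versions -/

theorem map_subgroupOf_comm {H K X : Subgroup G} (hK : K ≤ H) (hX : X ≤ H) :
    (⁅K.subgroupOf H, X.subgroupOf H⁆).map H.subtype = ⁅K, X⁆ := by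
  rw [map_commutator, map_subgroupOf_eq_of_le hK, map_subgroupOf_eq_of_le hX]

theorem pcomp_le_or_comm_le {K H X : Subgroup G} (h : IsPCompOf p K H) (hX : X ≤ H)
    (hs : (X.subgroupOf H).IsSubnormal) : K ≤ X ∨ ⁅K, X⁆ ≤ opp p H := by
  rcases IsPComponent.le_or_comm_le h.2 hs with h1 | h1
  · left
    intro k hk
    exact h1 (show (⟨k, h.1 hk⟩ : H) ∈ K.subgroupOf H from hk)
  · right
    rw [← map_subgroupOf_comm h.1 hX]
    exact map_mono h1

theorem pcomp_eq_or_comm_le {K L H : Subgroup G} (hK : IsPCompOf p K H) (hL : IsPCompOf p L H) :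
    K = L ∨ ⁅K, L⁆ ≤ opp p H := by
  rcases IsPComponent.eq_or_comm_le hK.2 hL.2 with h | h
  · left
    rw [← map_subgroupOf_eq_of_le hK.1, h, map_subgroupOf_eq_of_le hL.1]
  · right
    rw [← map_subgroupOf_comm hK.1 hL.1]
    exact map_mono h

theorem pcomp_eq_of_le {K L H : Subgroup G} (hK : IsPCompOf p K H) (hL : IsPCompOf p L H)
    (h : K ≤ L) : K = L := by
  have := IsPComponent.eq_of_le hK.2 hL.2 (comap_mono h)
  rw [← map_subgroupOf_eq_of_le hK.1, this, map_subgroupOf_eq_of_le hL.1]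

theorem le_normalizer_of_subgroupOf {H K A : Subgroup G} (hK : K ≤ H) (hA : A ≤ H)
    (h : A.subgroupOf H ≤ normalizer ((K.subgroupOf H : Subgroup H) : Set H)) :
    A ≤ normalizer (K : Set G) := by
  have := map_le_normalizer_map h H.subtype
  rwa [map_subgroupOf_eq_of_le hK, map_subgroupOf_eq_of_le hA] at this

theorem play_le_normalizer_pcomp {K H : Subgroup G} (hK : IsPCompOf p K H) :
    play p H ≤ normalizer (K : Set G) := by
  have := map_le_normalizer_map (pLayer_le_normalizer_pcomp hK.2) H.subtype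
  rwa [map_subgroupOf_eq_of_le hK.1] at this

theorem opp_le_normalizer_pcomp {K H : Subgroup G} (hK : IsPCompOf p K H) :
    opp p H ≤ normalizer (K : Set G) := by
  have := map_le_normalizer_map (IsPComponent.pPrimeCore_le_normalizer hK.2) H.subtype
  rwa [map_subgroupOf_eq_of_le hK.1] at this

theorem pcomp_pGen_eq {K H : Subgroup G} (hK : IsPCompOf p K H) : pGen p K = K :=
  (isPCompOf_iff.mp hK).2.2.1

theorem pcomp_subnormal {K H : Subgroup G} (hK : IsPCompOf p K H) :
    (K.subgroupOf H).IsSubnormal := (isPCompOf_iff.mp hK).2.1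

theorem pcomp_opp_eq {K H : Subgroup G} (hK : IsPCompOf p K H) : opp p K = opp p H ⊓ K := by
  apply le_antisymm
  · exact le_inf (le_opp_of_isSubnormal ((opp_le p K).trans hK.1)
      (isSubnormal_subgroupOf_trans (opp_le p K) hK.1
        (isSubnormal_subgroupOf_of_le_normalizer (le_normalizer_opp p le_normalizer))
        (pcomp_subnormal hK)) (opp_cop p K)) (opp_le p K)
  · exact opp_inf_le hK.1

theorem pcomp_not_le_cop {K H Y : Subgroup G} (hK : IsPCompOf p K H)
    (hY : (Nat.card Y).Coprime p) : ¬ K ≤ Y := fun h =>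
  (cop_iff_not_dvd.mp hY) (hK.dvd_card.trans (card_dvd_of_le h))

/-- a `p`-subgroup of `E Y`, `Y` a `p'`-group normalizing `E`, lies in `E`. -/
theorem le_of_isPGroup_of_le_sup_cop {E Y P : Subgroup G} (hn : Y ≤ normalizer (E : Set G))
    (hY : (Nat.card Y).Coprime p) (hP : IsPGroup p P) (h : P ≤ E ⊔ Y) : P ≤ E := by
  set W := E ⊔ Y with hW
  have hWn : W ≤ normalizer (E : Set G) := sup_le le_normalizer hn
  haveI : (E.subgroupOf W).Normal := (normal_subgroupOf_iff_le_normalizer le_sup_left).mpr hWn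
  set f := QuotientGroup.mk' (E.subgroupOf W) with hf
  have h1 : (P.subgroupOf W).map f ≤ (Y.subgroupOf W).map f := by
    rintro _ ⟨x, -, rfl⟩
    obtain ⟨a, ha, b, hb, e⟩ := mem_sup_of_le_normalizer_left hn x.2
    refine ⟨⟨b, mem_sup_right hb⟩, hb, ?_⟩
    have : x = ⟨a, mem_sup_left ha⟩ * ⟨b, mem_sup_right hb⟩ := Subtype.ext e.symm
    rw [this, map_mul]
    have h2 : f ⟨a, mem_sup_left ha⟩ = 1 := (QuotientGroup.eq_one_iff _).mpr ha
    rw [h2, one_mul]
  have h2 : IsPGroup p ((P.subgroupOf W).map f) := (hP.comap_subtype).map f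
  have h3 := inf_eq_bot_of_isPGroup_of_cop h2 (cop_map (cop_subgroupOf hY W) f)
  rw [inf_eq_left.mpr h1, Subgroup.map_eq_bot_iff, hf, QuotientGroup.ker_mk'] at h3
  intro x hx
  exact h3 (show (⟨x, h hx⟩ : W) ∈ P.subgroupOf W from hx)

theorem le_of_pGen_of_le_sup_cop {E Y K : Subgroup G} (hn : Y ≤ normalizer (E : Set G))
    (hY : (Nat.card Y).Coprime p) (hK : pGen p K = K) (h : K ≤ E ⊔ Y) : K ≤ E := by
  rw [← hK]
  exact pGen_le_iff.mpr fun P hP hP' => le_of_isPGroup_of_le_sup_cop hn hY hP' (hP.trans h)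

/-! ### `p`-components centralized modulo the core -/

theorem isQuasisimple_quot_of_map {K : Subgroup G} (h : IsComponent (K.map (piO p G))) :
    IsQuasisimple (K ⧸ pPrimeCore p K) := by
  refine (isQuasisimple_congr (quotEquivMap (piO p G) K _ ?_)).mpr h.2
  rw [ker_piO, ← comap_map_subtype (pPrimeCore p K)]
  apply le_antisymm
  · apply comap_mono
    have h1 := map_opp_le p K (piO p G)
    rw [opp_of_isSubnormal h.1, H2.pPrimeCore_quotient_pPrimeCore, bot_inf_eq, le_bot_iff,
      Subgroup.map_eq_bot_iff, ker_piO] at h1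
    exact h1
  · intro x hx
    exact pPrimeCore_inf_le_opp p K ⟨hx, x.2⟩

theorem pcomp_centralizer_top {K S : Subgroup G} (hK : IsPComponent p K) (hS : IsPGroup p S)
    (h : ⁅K, S⁆ ≤ pPrimeCore p G) :
    IsPCompOf p (pGen p (K ⊓ centralizer (S : Set G))) (centralizer (S : Set G)) ∧
      K ≤ pGen p (K ⊓ centralizer (S : Set G)) ⊔ pPrimeCore p G := by
  set f := piO p G with hf
  set W := (K ⊔ pPrimeCore p G) ⊓ centralizer (S : Set G) with hW
  have h1 : K.map f ≤ (centralizer (S : Set G)).map f := by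
    rw [map_centralizer_of_cop_ker (piO_surj p G) (cop_ker_piO p G) hS]
    apply le_centralizer_of_comm_bot
    rw [← comm_le_ker_iff, ker_piO]; exact h
  have h2 : W.map f = K.map f := by
    apply le_antisymm
    · rw [map_le_iff_le_comap, comap_map_piO]; exact inf_le_left
    · intro y hy
      obtain ⟨c, hc, rfl⟩ := h1 hy
      refine ⟨c, ⟨?_, hc⟩, rfl⟩
      rw [← comap_map_piO]; exact hy
  have h3 : pGen p W = pGen p (K ⊓ centralizer (S : Set G)) := by
    apply le_antisymm
    · refine pGen_le_iff.mpr fun P hP hP' => le_pGen (le_inf ?_ (hP.trans inf_le_right)) hP'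
      exact le_of_isSubnormal_of_le_sup hK.1 (H2.pPrimeCore_coprime p G) hP' (hP.trans inf_le_left)
    · exact pGen_mono p (inf_le_inf_right _ le_sup_left)
  have h4 : (pGen p (K ⊓ centralizer (S : Set G))).map f = K.map f := by
    rw [← h3, map_pGen_piO (by rw [h2]; exact hK.2.1), h2]
  refine ⟨isPCompOf_iff.mpr ⟨(pGen_le p _).trans inf_le_right, ?_, pGen_pGen p _,
    isQuasisimple_quot_of_map (by rw [h4]; exact hK.2.1)⟩, ?_⟩
  · refine isSubnormal_subgroupOf_trans (pGen_le p _) inf_le_right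
      (isSubnormal_subgroupOf_of_le_normalizer
        (le_normalizer.trans (normalizer_le_normalizer_pGen p _))) ?_
    rw [inf_subgroupOf_right]
    exact hK.1.subgroupOf
  · rw [← comap_map_piO, h4]; exact le_comap_map _ _

theorem map_subtype_pGen_inf_centralizer {H K S : Subgroup G} (hK : K ≤ H) (hS : S ≤ H) :
    (pGen p (K.subgroupOf H ⊓ centralizer ((S.subgroupOf H : Subgroup H) : Set H))).map H.subtype
      = pGen p (K ⊓ centralizer (S : Set G)) := by
  rw [map_pGen_of_injective p _ H.subtype_injective, subgroupOf_centralizer hS]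
  change pGen p (((K ⊓ centralizer (S : Set G)).subgroupOf H).map H.subtype) = _
  rw [map_subgroupOf_eq_of_le (inf_le_left.trans hK)]

/-- a `p`-component centralized modulo the core by a `p`-group `S` gives a `p`-component of the
centralizer of `S`. -/
theorem pcomp_centralizer {K H S : Subgroup G} (hK : IsPCompOf p K H) (hSH : S ≤ H)
    (hS : IsPGroup p S) (h : ⁅K, S⁆ ≤ opp p H) :
    IsPCompOf p (pGen p (K ⊓ centralizer (S : Set G))) (H ⊓ centralizer (S : Set G)) ∧
      K ≤ pGen p (K ⊓ centralizer (S : Set G)) ⊔ opp p H := by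
  have h1 : ⁅K.subgroupOf H, S.subgroupOf H⁆ ≤ pPrimeCore p H := by
    rw [← map_le_map_iff_of_injective H.subtype_injective, map_subgroupOf_comm hK.1 hSH]
    exact h
  obtain ⟨h2, h3⟩ := pcomp_centralizer_top (S := S.subgroupOf H) hK.2 hS.comap_subtype h1
  constructor
  · have := h2.map_of_injective H.subtype_injective
    rwa [map_subtype_pGen_inf_centralizer hK.1 hSH, subgroupOf_centralizer hSH,
      subgroupOf_map_subtype, inf_comm (centralizer (S : Set G))] at this
  · have := map_mono (f := H.subtype) h3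
    rwa [Subgroup.map_sup, map_subtype_pGen_inf_centralizer hK.1 hSH,
      map_subgroupOf_eq_of_le hK.1] at this

/-! ### Glauberman's theorem, ambient form -/

theorem exists_sylow_eq {M S : Subgroup G} (hS : IsPGroup p S)
    (h : ¬ p ∣ S.relIndex M) : ∃ P : Sylow p M, (P : Subgroup M) = S.subgroupOf M :=
  ⟨(hS.comap_subtype : IsPGroup p (S.subgroupOf M)).toSylow h, rfl⟩

theorem glauberman {M S : Subgroup G} (hO : opp 2 M = ⊥) (hS : IsPGroup 2 S) (_hSM : S ≤ M)
    (h : ¬ 2 ∣ S.relIndex M) {X : Subgroup G} (hXS : X ≤ centralizer (S : Set G))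
    (hXM : X ≤ normalizer (M : Set G)) :
    ∃ (Y : Subgroup (MulAut M)) (f : X →* Y), Group.IsSolvable Y ∧
      f.ker = (centralizer (M : Set G)).subgroupOf X ∧
      ∃ N : Subgroup Y, N.Normal ∧ Odd (Nat.card N) ∧ ∃ k, N.index = 2 ^ k := by
  haveI : Fact (Nat.Prime 2) := ⟨Nat.prime_two⟩
  obtain ⟨P, hP⟩ := exists_sylow_eq hS h
  let C : Subgroup (MulAut M) :=
    { carrier := {φ | ∀ s : M, s ∈ P → φ s = s}
      one_mem' := fun _ _ => rfl
      mul_mem' := fun {a b} ha hb s hs => by
        rw [MulAut.mul_apply, hb s hs, ha s hs]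
      inv_mem' := fun {a} ha s hs => by
        rw [MulAut.inv_def, MulEquiv.symm_apply_eq, ha s hs] }
  obtain ⟨h1, h2⟩ := Cfsg.Agent.S0227.result (G := M) (fun N hN hodd => by
    have h3 : N ≤ pPrimeCore 2 M := H2.le_pPrimeCore hN (cop_two_iff_odd.mpr hodd)
    rw [opp_eq_bot_iff.mp hO] at h3
    exact le_bot_iff.mp h3) P C (fun φ => Iff.rfl)
  let g : X →* MulAut M := M.normalizerMonoidHom.comp (inclusion hXM)
  have hg : ∀ x : X, g x ∈ C := fun x s hs => by
    apply Subtype.ext
    have hs' : (s : G) ∈ S := by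
      have : s ∈ (P : Subgroup M) := hs
      rw [hP] at this; exact this
    change (x : G) * s * (x : G)⁻¹ = s
    rw [← (hXS x.2) s hs', mul_inv_cancel_right]
  refine ⟨C, g.codRestrict C hg, h2, ?_, ?_⟩
  · ext x
    rw [MonoidHom.mem_ker, mem_subgroupOf, mem_centralizer_iff]
    constructor
    · intro hx m hm
      have h3 : g x = 1 := congrArg Subtype.val hx
      have h4 := congrArg Subtype.val (congrArg (fun φ : MulAut M => φ ⟨m, hm⟩) h3)
      change (x : G) * m * (x : G)⁻¹ = m at h4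
      rw [mul_inv_eq_iff_eq_mul] at h4
      exact h4.symm
    · intro hx
      apply Subtype.ext
      ext m
      change (x : G) * m * (x : G)⁻¹ = m
      rw [← hx m m.2, mul_inv_cancel_right]
  · obtain ⟨T⟩ := (inferInstance : Nonempty (Sylow 2 C))
    obtain ⟨-, N, hN, hc⟩ := h1 T
    refine ⟨N, hN, ?_, ?_⟩
    · rw [← hc.index_eq_card, ← cop_two_iff_odd, cop_iff_not_dvd]
      exact T.not_dvd_index
    · obtain ⟨k, hk⟩ := T.2.exists_card_eq
      exact ⟨k, by rw [hc.symm.index_eq_card]; exact hk⟩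

theorem comm_bot_of_perfect_of_centralizes_sylow {M S K : Subgroup G} (hO : opp 2 M = ⊥)
    (hS : IsPGroup 2 S) (hSM : S ≤ M) (h : ¬ 2 ∣ S.relIndex M)
    (hKS : K ≤ centralizer (S : Set G)) (hKM : K ≤ normalizer (M : Set G)) (hK : ⁅K, K⁆ = K) :
    ⁅K, M⁆ = ⊥ := by
  obtain ⟨Y, f, hY, hf, -⟩ := glauberman hO hS hSM h hKS hKM
  have h1 : ⁅(⊤ : Subgroup K), (⊤ : Subgroup K)⁆ = ⊤ := by
    apply map_injective K.subtype_injective
    rw [map_commutator, map_subtype_top, hK]
  have h2 : (⊤ : Subgroup K).map f = ⊥ :=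
    eq_bot_of_perfect_of_solvable (by rw [← map_commutator, h1]) inferInstance
  rw [Subgroup.map_eq_bot_iff, hf] at h2
  exact comm_bot_of_le_centralizer fun k hk => h2 (mem_top (⟨k, hk⟩ : K))

theorem mem_opp_of_central_sylow {N Z : Subgroup G} (hZ : IsPGroup p Z) (hZN : Z ≤ N)
    (hc : ⁅Z, N⁆ = ⊥) (hi : (Z.relIndex N).Coprime p) {x : G} (hx : x ∈ N)
    (ho : (orderOf x).Coprime p) : x ∈ opp p N := by
  have hn : N ≤ normalizer (Z : Set G) := le_normalizer_of_comm_bot (comm_bot_symm hc)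
  haveI : (Z.subgroupOf N).Normal := (normal_subgroupOf_iff_le_normalizer hZN).mpr hn
  have hZ' : IsPGroup p (Z.subgroupOf N) := hZ.comap_subtype
  obtain ⟨k, hk⟩ := hZ'.exists_card_eq
  obtain ⟨H, hH⟩ := exists_right_complement'_of_coprime (N := Z.subgroupOf N)
    (by rw [hk]; exact (Nat.Coprime.pow_right k hi).symm)
  have hHn : H.Normal := by
    constructor
    intro h hh g
    obtain ⟨⟨z, a⟩, rfl⟩ := hH.2 g
    have h1 : ∀ y : N, (z : N) * y = y * z := fun y =>
      Subtype.ext (comm_bot_iff.mp hc _ z.2 _ y.2)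
    have : (z : N) * a * h * ((z : N) * a)⁻¹ = a * h * (a : N)⁻¹ := by
      rw [mul_assoc (z : N), mul_assoc (z : N), h1, mul_inv_rev]; group
    rw [this]
    exact H.mul_mem (H.mul_mem a.2 hh) (H.inv_mem a.2)
  have h2 : H ≤ pPrimeCore p N := H2.le_pPrimeCore hHn (by rw [← hH.symm.index_eq_card]; exact hi)
  have h3 : (⟨x, hx⟩ : N) ∈ H := by
    refine mem_of_pow_mem_of_coprime (n := H.index) ?_ (H.pow_index_mem _)
    rw [hH.index_eq_card, hk, orderOf_mk]
    exact ho.pow_right k
  exact ⟨_, h2 h3, rfl⟩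

theorem odd_mem_opp_centralizer {M S : Subgroup G} [M.Normal] (hO : opp 2 M = ⊥)
    (hS : IsPGroup 2 S) (hSM : S ≤ M) (h : ¬ 2 ∣ S.relIndex M)
    (hC : centralizer (M : Set G) ≤ S) {x : G} (hx : x ∈ centralizer (S : Set G))
    (ho : (orderOf x).Coprime 2) : x ∈ opp 2 (centralizer (S : Set G)) := by
  haveI : Fact (Nat.Prime 2) := ⟨Nat.prime_two⟩
  set X := centralizer (S : Set G) with hX
  obtain ⟨Y, f, -, hf, N, hN, hodd, k, hk⟩ :=
    glauberman hO hS hSM h (X := X) le_rfl (by rw [normalizer_eq_top]; exact le_top)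
  set N' := (N.comap f).map X.subtype with hN'
  have hZX : centralizer (M : Set G) ≤ X := centralizer_le hSM
  have hZN : centralizer (M : Set G) ≤ N' := by
    intro z hz
    refine ⟨⟨z, hZX hz⟩, ?_, rfl⟩
    have : (⟨z, hZX hz⟩ : X) ∈ f.ker := by rw [hf]; exact hz
    exact ker_le_comap f N this
  have hxN : x ∈ N' := by
    refine ⟨⟨x, hx⟩, ?_, rfl⟩
    change f ⟨x, hx⟩ ∈ N
    refine mem_of_pow_mem_of_coprime (n := N.index) ?_ (N.pow_index_mem _)
    rw [hk]
    refine Nat.Coprime.pow_right k (Nat.Coprime.coprime_dvd_left (orderOf_map_dvd f _) ?_)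
    rwa [orderOf_mk]
  have h1 : x ∈ opp 2 N' := by
    refine mem_opp_of_central_sylow (hS.to_le hC) hZN
      (comm_bot_symm (comm_bot_of_le_centralizer
        ((map_subtype_le _).trans (centralizer_le hC)))) ?_ hxN ho
    have h2 : Nat.card (centralizer (M : Set G)) * (centralizer (M : Set G)).relIndex N'
        = Nat.card f.ker * Nat.card ((N.comap f).map f) := by
      rw [← card_comap_eq, ← H2.card_subgroupOf_of_le hZN, relIndex, card_mul_index, hN',
        card_map_of_injective X.subtype_injective]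
    rw [hf, H2.card_subgroupOf_of_le hZX] at h2
    rw [Nat.eq_of_mul_eq_mul_left Nat.card_pos h2]
    exact cop_of_le (cop_two_iff_odd.mpr hodd) (map_comap_le f N)
  exact opp_mono (map_subtype_le _) (le_normalizer_map_subtype_of_normal _) h1

/-! ### L-balance -/

/-- normalizers grow: a `T`-invariant `p`-group `S` not in `T` has `N_S(T) ≰ T`. -/
theorem not_inf_normalizer_le {S T : Subgroup G} (hS : IsPGroup p S) (hT : IsPGroup p T)
    (hn : T ≤ normalizer (S : Set G)) (h : ¬ S ≤ T) : ¬ S ⊓ normalizer (T : Set G) ≤ T := by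
  intro h1
  have hP : IsPGroup p ↥(T ⊔ S) := isPGroup_sup hT hS hn
  haveI := hP.isNilpotent
  have hne : T.subgroupOf (T ⊔ S) < ⊤ := by
    rw [lt_top_iff_ne_top, Ne, subgroupOf_eq_top]
    exact fun h2 => h (le_sup_right.trans h2)
  have h2 := Group.normalizerCondition_of_isNilpotent (G := ↥(T ⊔ S)) _ hne
  obtain ⟨x, hx1, hx2⟩ := SetLike.exists_of_lt h2
  have hx3 : (x : G) ∈ normalizer (T : Set G) := by
    have := map_le_normalizer_map (le_refl (normalizer
      ((T.subgroupOf (T ⊔ S) : Subgroup ↥(T ⊔ S)) : Set ↥(T ⊔ S)))) (T ⊔ S).subtype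
    rw [map_subgroupOf_eq_of_le le_sup_left] at this
    exact this ⟨x, hx1, rfl⟩
  obtain ⟨a, ha, b, hb, e⟩ := mem_sup_of_le_normalizer_right hn x.2
  apply hx2
  change (x : G) ∈ T
  have hb' : b ∈ normalizer (T : Set G) := by
    have : b = a⁻¹ * x := by rw [← e]; group
    rw [this]
    exact mul_mem (inv_mem (le_normalizer ha)) hx3
  rw [← e]
  exact mul_mem ha (h1 ⟨hb, hb'⟩)

theorem opp_layer_eq_bot (hO : pPrimeCore p G = ⊥) : opp p (layer G) = ⊥ := by
  rw [opp_of_isSubnormal (Normal.isSubnormal inferInstance), hO, bot_inf_eq]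

theorem pcomp_le_layer (hO : pPrimeCore 2 G = ⊥) (T : Subgroup G) :
    IsPGroup 2 T → ∀ K : Subgroup G, IsPCompOf 2 K (centralizer (T : Set G)) → K ≤ layer G := by
  haveI : Fact (Nat.Prime 2) := ⟨Nat.prime_two⟩
  induction T using WellFoundedGT.induction with
  | ind T ih =>
  intro hT K hK
  obtain ⟨S, hSE, hS, hTS, hSi⟩ := sylow_inf_normal_exists (layer G) T hT
    (by rw [normalizer_eq_top]; exact le_top)
  by_cases hST : S ≤ T
  · have h1 : ⁅K, layer G⁆ = ⊥ := comm_bot_of_perfect_of_centralizes_sylow (opp_layer_eq_bot hO)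
      hS hSE hSi (hK.1.trans (centralizer_le hST)) (by rw [normalizer_eq_top]; exact le_top)
      hK.perfect
    have h2 : K ≤ centralizer (pCore 2 G : Set G) :=
      hK.le_play.trans (le_sup_left.trans (oppE_centralizer_le_centralizer_pCore hT))
    have h3 : fittingSubgroup G = pCore 2 G := H2.fitting_eq_pCore_of_pPrimeCore_eq_bot hO
    have h4 : K ≤ fittingSubgroup G :=
      le_fitting_of_comm h1 (by rw [h3]; exact comm_bot_of_le_centralizer h2)
    rw [h3] at h4
    rw [eq_bot_of_perfect_of_isPGroup hK.perfect ((H2.pCore_isPGroup 2 G).to_le h4)]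
    exact bot_le
  · set N := normalizer (T : Set G) with hN
    have hKN : IsPCompOf 2 K N := hK.trans (centralizer_le_normalizer _)
      (isSubnormal_subgroupOf_of_le_normalizer (normalizer_le_normalizer_centralizer T))
    rcases pcomp_le_or_comm_le hKN (X := layer G ⊓ N) inf_le_right
      (isSubnormal_subgroupOf_of_le_normalizer (le_normalizer_inf
        (by rw [normalizer_eq_top]; exact le_top) le_normalizer)) with h1 | h1
    · exact h1.trans inf_le_left
    have h2 := not_inf_normalizer_le hS hT hTS hST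
    set S1 := S ⊓ N with hS1
    have hS1p : IsPGroup 2 S1 := hS.to_le inf_le_left
    have hT1 : IsPGroup 2 ↥(S1 ⊔ T) := isPGroup_sup hS1p hT inf_le_right
    have hNO : N ≤ normalizer ((opp 2 N : Subgroup G) : Set G) := le_normalizer_opp 2 le_normalizer
    have h3 : ⁅K, S1 ⊔ T⁆ ≤ opp 2 N :=
      comm_sup_le ((commutator_mono le_rfl (inf_le_inf_right _ hSE)).trans h1)
        (by rw [comm_bot_of_le_centralizer hK.1]; exact bot_le) (inf_le_right.trans hNO)
        (le_normalizer.trans hNO)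
    obtain ⟨h4, h5⟩ := pcomp_centralizer hKN (sup_le inf_le_right le_normalizer) hT1 h3
    have h7 : centralizer ((S1 ⊔ T : Subgroup G) : Set G) ≤ N :=
      (centralizer_le (le_sup_right : T ≤ S1 ⊔ T)).trans (centralizer_le_normalizer _)
    rw [inf_eq_right.mpr h7] at h4
    have h6 := ih (S1 ⊔ T) (lt_of_le_of_ne le_sup_right fun e => h2 (le_sup_left.trans e.ge))
      hT1 _ h4
    exact le_of_pGen_of_le_sup_cop (by rw [normalizer_eq_top]; exact le_top) (opp_cop 2 N)
      (pcomp_pGen_eq hK) (h5.trans (sup_le_sup_right h6 _))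

/-- **L-balance**. -/
theorem l_balance {T : Subgroup G} (hT : IsPGroup 2 T) :
    play 2 (centralizer (T : Set G)) ≤ pLayer 2 G := by
  haveI : Fact (Nat.Prime 2) := ⟨Nat.prime_two⟩
  have h1 : (play 2 (centralizer (T : Set G))).map (piO 2 G) ≤ layer (G ⧸ pPrimeCore 2 G) := by
    rw [map_play_of_cop_ker _ (cop_ker_piO 2 G),
      map_centralizer_of_cop_ker (piO_surj 2 G) (cop_ker_piO 2 G) hT]
    exact play_le_of (pcomp_le_layer (H2.pPrimeCore_quotient_pPrimeCore 2 G) _ (hT.map _))
  rw [map_le_iff_le_comap, comap_layer_piO] at h1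
  exact le_of_pGen_of_le_sup_cop (by rw [normalizer_eq_top]; exact le_top)
    (H2.pPrimeCore_coprime 2 G) (pGen_play _) h1

/-- L-balance, relative form. -/
theorem l_balance_rel {H T : Subgroup G} (hTH : T ≤ H) (hT : IsPGroup 2 T) :
    play 2 (H ⊓ centralizer (T : Set G)) ≤ play 2 H := by
  haveI : Fact (Nat.Prime 2) := ⟨Nat.prime_two⟩
  have h := map_mono (f := H.subtype) (l_balance (T := T.subgroupOf H) hT.comap_subtype)
  rwa [map_play_of_cop_ker _ (cop_ker_of_injective H.subtype_injective),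
    subgroupOf_centralizer hTH, subgroupOf_map_subtype, inf_comm] at h

/-! ### core balance -/

theorem comap_pCore_of_ker_isPGroup' (hO : pPrimeCore p G = ⊥) :
    pPrimePCore p G = pCore p G :=
  H2.comap_pCore_of_ker_isPGroup (piO_surj p G) (by rw [ker_piO, hO]; exact IsPGroup.of_bot)

theorem opp_map_le {G' : Type*} [Group G'] {f : G →* G'} (hk : (Nat.card f.ker).Coprime p)
    (H : Subgroup G) : opp p (H.map f) ≤ (opp p H).map f := by
  have hs := f.subgroupMap_surjective H
  have h1 := map_pPrimeCore_of_cop_ker (p := p) hs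
    (by rw [ker_subgroupMap]; exact cop_subgroupOf hk H)
  rintro _ ⟨y, hy, rfl⟩
  rw [← h1] at hy
  obtain ⟨x, hx, rfl⟩ := hy
  exact ⟨x, ⟨x, hx, rfl⟩, rfl⟩

theorem opp_centralizer_le_of_core_free (hO : pPrimeCore 2 G = ⊥) {T0 : Subgroup G}
    (hT0 : IsPGroup 2 T0) (hT0M : T0 ≤ layer G ⊔ pCore 2 G)
    (hT0i : ¬ 2 ∣ T0.relIndex (layer G ⊔ pCore 2 G)) (R : Subgroup G) :
    IsPGroup 2 R →
      opp 2 (centralizer (R : Set G)) ≤ layer G ⊔ opp 2 (centralizer (T0 : Set G)) := by
  haveI : Fact (Nat.Prime 2) := ⟨Nat.prime_two⟩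
  set M := layer G ⊔ pCore 2 G with hM
  have hF : fittingSubgroup G = pCore 2 G := H2.fitting_eq_pCore_of_pPrimeCore_eq_bot hO
  have hMF : generalizedFittingSubgroup G = M := by rw [hM, ← hF]; rfl
  have hOM : opp 2 M = ⊥ := by
    rw [opp_of_isSubnormal (Normal.isSubnormal inferInstance), hO, bot_inf_eq]
  have hL : lopp 2 G = M := by
    rw [lopp, pLayer_eq_layer hO, hM]
    congr 1
    have h1 := comap_pCore_of_ker_isPGroup' (p := 2) (G := G) hO
    exact h1
  induction R using WellFoundedGT.induction with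
  | ind R ih =>
  intro hR
  obtain ⟨S, hSE, hS, hRS, hSi⟩ := sylow_inf_normal_exists M R hR
    (by rw [normalizer_eq_top]; exact le_top)
  by_cases hSR : S ≤ R
  · have hC : centralizer (M : Set G) ≤ S := by
      have h1 : centralizer (M : Set G) ≤ pCore 2 G := by
        rw [← hMF, ← hF]; exact centralizer_fstar_le_fitting
      refine h1.trans ?_
      have h2 : IsPGroup 2 ↥(S ⊔ pCore 2 G) := isPGroup_sup hS (H2.pCore_isPGroup 2 G)
        (by rw [normalizer_eq_top]; exact le_top)
      have h3 := eq_of_isPGroup_of_not_dvd_relIndex h2 le_sup_left fun h => hSi (h.trans ?_)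
      · exact le_sup_right.trans h3.ge
      · rw [← relIndex_mul_relIndex S (S ⊔ pCore 2 G) M le_sup_left (sup_le hSE le_sup_right)]
        exact dvd_mul_right _ _
    have h1 : opp 2 (centralizer (R : Set G)) ≤ opp 2 (centralizer (S : Set G)) := fun x hx =>
      odd_mem_opp_centralizer hOM hS hSE hSi hC (centralizer_le hSR (opp_le _ _ hx))
        (Nat.Coprime.coprime_dvd_left (orderOf_dvd_natCard _ hx) (opp_cop 2 _))
    have h2 := opp_centralizer_le_of_sylow hT0 hS (hL ▸ hT0M) (hL ▸ hSE) (hL ▸ hT0i) (hL ▸ hSi)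
    rw [pLayer_eq_layer hO, hO, sup_bot_eq] at h2
    exact h1.trans h2
  · set N := normalizer (R : Set G) with hN
    have h2 := not_inf_normalizer_le hS hR hRS hSR
    set S1 := S ⊓ N with hS1
    have hS1p : IsPGroup 2 S1 := hS.to_le inf_le_left
    have hR1 : IsPGroup 2 ↥(S1 ⊔ R) := isPGroup_sup hS1p hR inf_le_right
    have h6 := ih (S1 ⊔ R) (lt_of_le_of_ne le_sup_right fun e => h2 (le_sup_left.trans e.ge)) hR1
    have hY : opp 2 N = opp 2 (centralizer (R : Set G)) := opp_normalizer_eq_opp_centralizer hR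
    rw [← hY]
    have hNO : N ≤ normalizer ((opp 2 N : Subgroup G) : Set G) := le_normalizer_opp 2 le_normalizer
    rw [← H1.commutator_sup_centralizer S1 (opp 2 N) (inf_le_right.trans hNO)
      (cop_card_of_isPGroup hS1p (opp_cop 2 N)) (Or.inl (solv_of_isPGroup hS1p))]
    refine sup_le (le_sup_of_le_left ?_) (le_trans ?_ h6)
    · refine H2.le_of_coprime_of_le_sup_isPGroup (p := 2) (K := pCore 2 G)
        (cop_of_le (opp_cop 2 N) (commutator_le_left_of (inf_le_right.trans hNO)))
        (H2.pCore_isPGroup 2 G) ?_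
      exact (commutator_mono le_top (inf_le_left.trans hSE)).trans (commutator_le_right _ _)
    · have h7 : centralizer ((S1 ⊔ R : Subgroup G) : Set G) ≤ N :=
        (centralizer_le (le_sup_right : R ≤ S1 ⊔ R)).trans (centralizer_le_normalizer _)
      refine le_opp_of_le_opp inf_le_left ?_ h7
      rw [centralizer_sup]
      exact le_inf inf_le_right (inf_le_left.trans (hY.le.trans (opp_le _ _)))

/-- **core balance** (no `K`-group hypothesis needed). -/
theorem core_balance {R : Subgroup G} (hR : IsPGroup 2 R) :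
    opp 2 (centralizer (R : Set G)) ≤ extendedTwoLayer G := by
  haveI : Fact (Nat.Prime 2) := ⟨Nat.prime_two⟩
  obtain ⟨T, hT, -, hTM, h⟩ :=
    H13.exists_sylow_rel (L := lopp 2 G) (IsPGroup.of_bot (p := 2)) bot_le
  rw [extendedTwoLayer_eq hT hTM h]
  set f := piO 2 G with hf
  have hM : (lopp 2 G).map f = layer (G ⧸ pPrimeCore 2 G) ⊔ pCore 2 (G ⧸ pPrimeCore 2 G) := by
    rw [Subgroup.map_sup, map_pLayer_piO]
    congr 1
    exact map_comap_eq_self_of_surjective (piO_surj 2 G) _
  have h1 := opp_centralizer_le_of_core_free (H2.pPrimeCore_quotient_pPrimeCore 2 G) (hT.map f)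
    (hM ▸ map_mono hTM) (fun hd => h (dvd_trans (by rw [hM]; exact hd) (relIndex_map_dvd f T _))) (R.map f) (hR.map f)
  rw [← map_centralizer_of_cop_ker (piO_surj 2 G) (cop_ker_piO 2 G) hR,
    ← map_centralizer_of_cop_ker (piO_surj 2 G) (cop_ker_piO 2 G) hT] at h1
  have h2 : opp 2 ((centralizer (T : Set G)).map f) ≤ (opp 2 (centralizer (T : Set G))).map f :=
    opp_map_le (cop_ker_piO 2 G) _
  have h3 := (map_opp_le 2 _ f).trans (h1.trans (sup_le_sup_left h2 _))
  rw [← map_pLayer_piO, ← Subgroup.map_sup, map_le_iff_le_comap, comap_map_piO] at h3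
  refine h3.trans (le_of_eq ?_)
  rw [sup_right_comm]

theorem core_balance_rel {H R : Subgroup G} (hRH : R ≤ H) (hR : IsPGroup 2 R) :
    opp 2 (H ⊓ centralizer (R : Set G)) ≤ (extendedTwoLayer H).map H.subtype := by
  have h := map_mono (f := H.subtype) (core_balance (R := R.subgroupOf H) hR.comap_subtype)
  rwa [map_opp_of_injective 2 _ H.subtype_injective,
    subgroupOf_centralizer hRH, subgroupOf_map_subtype, inf_comm] at h

/-- **L\*-balance**. -/
theorem ext_balance {X Y : Subgroup G} {x y : G} (hX : X = centralizer ({x} : Set G))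
    (hY : Y = centralizer ({y} : Set G)) (hx : x ^ 2 = 1) (hxy : x * y = y * x) :
    (extendedTwoLayer ↥((extendedTwoLayer X).map X.subtype ⊓ Y)).map
      ((extendedTwoLayer X).map X.subtype ⊓ Y).subtype ≤ (extendedTwoLayer Y).map Y.subtype := by
  haveI : Fact (Nat.Prime 2) := ⟨Nat.prime_two⟩
  haveI := extendedTwoLayer_normal (G := X)
  set H := (extendedTwoLayer X).map X.subtype ⊓ Y with hH
  have hxY : zpowers x ≤ Y := by
    rw [hY, zpowers_le, mem_centralizer_singleton_iff]; exact hxy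
  have hx2 : IsPGroup 2 (zpowers x) := isPGroup_zpowers_of_pow hx
  have hXx : X = centralizer ((zpowers x : Subgroup G) : Set G) := by rw [centralizer_zpowers, hX]
  have hHC : H ≤ Y ⊓ X := le_inf inf_le_right (inf_le_left.trans (map_subtype_le _))
  have hHn : Y ⊓ X ≤ normalizer (H : Set G) :=
    le_normalizer_inf (inf_le_right.trans (le_normalizer_map_subtype_of_normal _))
      (le_normalizer_of_le inf_le_left)
  obtain ⟨T, hT, -, hTM, h⟩ :=
    H13.exists_sylow_rel (L := lopp 2 H) (IsPGroup.of_bot (p := 2)) bot_le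
  rw [extendedTwoLayer_eq hT hTM h, Subgroup.map_sup, Subgroup.map_sup]
  refine sup_le (sup_le ?_ ?_) ?_
  · refine (play_mono hHC (isSubnormal_subgroupOf_of_le_normalizer hHn)).trans ?_
    rw [hXx]
    exact (l_balance_rel hxY hx2).trans (map_mono (le_sup_of_le_left le_sup_left))
  · refine (opp_mono hHC hHn).trans ?_
    rw [hXx]
    exact core_balance_rel hxY hx2
  · set T' := T.map H.subtype with hT'
    have hT'H : T' ≤ H := map_subtype_le _
    have h1 : (centralizer (T : Set H)).map H.subtype = H ⊓ centralizer (T' : Set G) := by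
      rw [← comap_map_subtype T, subgroupOf_centralizer hT'H, subgroupOf_map_subtype, inf_comm]
    rw [map_opp_of_injective 2 _ H.subtype_injective, h1]
    have hT'X : T' ≤ X := hT'H.trans (hHC.trans inf_le_right)
    have hR : IsPGroup 2 ↥(T' ⊔ zpowers x) := isPGroup_sup (hT.map _) hx2
      (hT'X.trans (hXx.le.trans (centralizer_le_normalizer _)))
    refine le_trans ?_ (core_balance_rel (sup_le (hT'H.trans (hHC.trans inf_le_left)) hxY) hR)
    rw [centralizer_sup, ← hXx, inf_comm (centralizer (T' : Set G)), ← inf_assoc]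
    exact opp_mono (inf_le_inf_right _ hHC) (le_normalizer_inf (inf_le_left.trans hHn)
      (le_normalizer_of_le inf_le_right))

end H25.LB
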