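import Mathlib
import Cfsg.Agent.H25.LBal
import Cfsg.Agent.H1.CoprimeAbelian

/-!
# Flatness of signalizer functors; the functor of a `k`-balanced group
-/

set_option autoImplicit false
set_option linter.unusedSectionVars false

open Cfsg Subgroup H23
open scoped commutatorElement

namespace H25.Sg

variable {G : Type*} [Group G] [Finite G] {p : ℕ} [hp : Fact p.Prime]

/-- `B` is cocyclic in `A`. -/
def Coc (A B : Subgroup G) : Prop := B ≤ A ∧ ∃ a ∈ A, A ≤ B ⊔ zpowers a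

theorem le_of_coc {A K L : Subgroup G} (hA : IsMulCommutative A) (hAp : IsPGroup p A)
    (hn : A ≤ normalizer (K : Set G)) (hK : (Nat.card K).Coprime p)
    (hL : ∀ B, Coc A B → K ⊓ centralizer (B : Set G) ≤ L) : K ≤ L :=
  H1.le_of_centralizer_cocyclic_le A K L hn (cop_card_of_isPGroup hAp hK)
    fun B h1 h2 => hL B ⟨h1, h2⟩

theorem sup_inf_cent_le {B X Y : Subgroup G} (hB : IsPGroup p B) (hY : (Nat.card Y).Coprime p)
    (hBX : B ≤ normalizer (X : Set G)) (hBY : B ≤ normalizer (Y : Set G))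
    (hXY : X ≤ normalizer (Y : Set G)) :
    (X ⊔ Y) ⊓ centralizer (B : Set G) ≤
      (X ⊓ centralizer (B : Set G)) ⊔ (Y ⊓ centralizer (B : Set G)) := by
  rintro g ⟨hg, hc⟩
  obtain ⟨x, hx, y, hy, rfl⟩ := mem_sup_of_le_normalizer_right hXY hg
  obtain ⟨x', hx', y', hy', e⟩ := H1.exists_centralizer_mul_centralizer B X Y hBX hBY
    (cop_card_of_isPGroup hB (cop_of_le hY inf_le_right)) (Or.inl (solv_of_isPGroup hB))
    x y hx hy hc
  rw [e]
  exact mul_mem_sup hx' hy'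

theorem le_of_le_commutator_sup {K Y : Subgroup G} (hs : Group.IsSolvable K)
    (hn : K ≤ normalizer (Y : Set G)) (h : K ≤ ⁅K, K⁆ ⊔ Y) : K ≤ Y := by
  haveI : (Y.subgroupOf K).Normal := by
    rw [← inf_subgroupOf_right, normal_subgroupOf_iff_le_normalizer inf_le_right]
    exact le_normalizer_inf hn le_normalizer
  have h1 : ⁅(⊤ : Subgroup (K ⧸ Y.subgroupOf K)), (⊤ : Subgroup (K ⧸ Y.subgroupOf K))⁆ = ⊤ := by
    rw [eq_top_iff]
    intro x _
    obtain ⟨k, rfl⟩ := QuotientGroup.mk'_surjective _ x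
    obtain ⟨c, hc, y, hy, e⟩ := mem_sup_of_le_normalizer_right
      ((commutator_le_left_of le_normalizer).trans hn) (h k.2)
    rw [← LB.map_subgroupOf_comm (le_refl K) le_rfl, subgroupOf_self] at hc
    obtain ⟨c, hc, rfl⟩ := hc
    have h2 : QuotientGroup.mk' (Y.subgroupOf K) k = QuotientGroup.mk' (Y.subgroupOf K) c := by
      symm
      rw [QuotientGroup.mk'_apply, QuotientGroup.mk'_apply, QuotientGroup.eq, mem_subgroupOf]
      have : ((c⁻¹ * k : K) : G) = y := by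
        rw [Subgroup.coe_mul, ← e]; simp
      rw [this]; exact hy
    rw [h2, ← map_top_of_surjective _ (QuotientGroup.mk'_surjective (Y.subgroupOf K)),
      ← map_commutator]
    exact mem_map_of_mem _ hc
  have h2 := eq_bot_of_perfect_of_solvable h1 inferInstance
  intro k hk
  have h3 : QuotientGroup.mk' (Y.subgroupOf K) ⟨k, hk⟩ ∈ (⊥ : Subgroup (K ⧸ Y.subgroupOf K)) :=
    h2 ▸ mem_top _
  rwa [mem_bot, QuotientGroup.mk'_apply, QuotientGroup.eq_one_iff, mem_subgroupOf] at h3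

theorem flat {A X : Subgroup G} (hA : IsMulCommutative A) (hAp : IsPGroup p A)
    (hX : (Nat.card X).Coprime p) (hs : Group.IsSolvable X) (hAX : A ≤ normalizer (X : Set G))
    (Z : Subgroup G → Subgroup G) (hZX : ∀ B, Coc A B → Z B ≤ X)
    (hZA : ∀ B, Coc A B → A ≤ normalizer (Z B : Set G))
    (hP : ∀ B₁ B₂ B₃, Coc A B₁ → Coc A B₂ → Coc A B₃ →
      (Z B₁ ⊔ Z B₂) ⊓ centralizer (B₃ : Set G) ≤ Z B₃)
    (hgen : ∀ L, (∀ B, Coc A B → Z B ≤ L) → X ≤ L) :
    ∀ B, Coc A B → X ⊓ centralizer (B : Set G) ≤ Z B := by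
  obtain ⟨Y, ⟨hYX, hXY, hAY, hY⟩, hmax⟩ := (Set.toFinite {Y : Subgroup G | Y ≤ X ∧
    X ≤ normalizer (Y : Set G) ∧ A ≤ normalizer (Y : Set G) ∧
    ∀ B, Coc A B → Y ⊓ centralizer (B : Set G) ≤ Z B}).exists_maximal
    ⟨⊥, bot_le, by simp, by simp, fun B _ => by simp⟩
  suffices hXY' : X ≤ Y from fun B hB => (inf_le_inf_right _ hXY').trans (hY B hB)
  by_contra hne
  obtain ⟨K, ⟨hYK, hKX, hXK, hAK, B₀, hB₀, hK⟩, hmin⟩ := (Set.toFinite {K : Subgroup G | Y ≤ K ∧
    K ≤ X ∧ X ≤ normalizer (K : Set G) ∧ A ≤ normalizer (K : Set G) ∧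
    ∃ B, Coc A B ∧ ¬ K ⊓ (Z B ⊔ Y) ≤ Y}).exists_minimal
    ⟨X, hYX, le_rfl, le_normalizer, hAX, by
      by_contra h
      push Not at h
      exact hne (hgen Y fun B hB => (le_inf (hZX B hB) le_sup_left).trans (h B hB))⟩
  have hcY := cop_of_le hX hYX
  have hK1 : ∀ B, Coc A B → (⁅K, K⁆ ⊔ Y) ⊓ (Z B ⊔ Y) ≤ Y := by
    intro B hB
    by_contra h
    have hle : ⁅K, K⁆ ⊔ Y ≤ K := sup_le (commutator_le_left_of le_normalizer) hYK
    have := hmin (y := ⁅K, K⁆ ⊔ Y) ⟨le_sup_right, hle.trans hKX,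
      le_normalizer_sup (le_normalizer_commutator hXK hXK) hXY,
      le_normalizer_sup (le_normalizer_commutator hAK hAK) hAY, B, hB, h⟩ hle
    exact hK (inf_le_left.trans
      (le_of_le_commutator_sup (solvable_of_le hKX hs) (hKX.trans hXY) this))
  -- the modified family
  have hP' : ∀ B₁ B₂ B₃, Coc A B₁ → Coc A B₂ → Coc A B₃ →
      ((Z B₁ ⊔ Y) ⊔ (Z B₂ ⊔ Y)) ⊓ centralizer (B₃ : Set G) ≤ Z B₃ := by
    intro B₁ B₂ B₃ h1 h2 h3
    have e : (Z B₁ ⊔ Y) ⊔ (Z B₂ ⊔ Y) = (Z B₁ ⊔ Z B₂) ⊔ Y := by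
      rw [sup_sup_sup_comm, sup_idem]
    rw [e]
    refine (sup_inf_cent_le (hAp.to_le h3.1) hcY
      (h3.1.trans (le_normalizer_sup (hZA _ h1) (hZA _ h2))) (h3.1.trans hAY)
      ((sup_le (hZX _ h1) (hZX _ h2)).trans hXY)).trans (sup_le (hP _ _ _ h1 h2 h3) (hY _ h3))
  have hZ'X : ∀ B, Coc A B → Z B ⊔ Y ≤ X := fun B hB => sup_le (hZX B hB) hYX
  have hZ'A : ∀ B, Coc A B → A ≤ normalizer ((Z B ⊔ Y : Subgroup G) : Set G) := fun B hB =>
    le_normalizer_sup (hZA B hB) hAY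
  have hred : ∀ (L R : Subgroup G) (B₁ B₂ : Subgroup G), Coc A B₁ → Coc A B₂ →
      A ≤ normalizer (L : Set G) → (∀ B, Coc A B → L ⊓ (Z B ⊔ Y) ≤ R) →
      L ⊓ ((Z B₁ ⊔ Y) ⊔ (Z B₂ ⊔ Y)) ≤ R := by
    intro L R B₁ B₂ h1 h2 hAL hR
    refine le_of_coc hA hAp (le_normalizer_inf hAL (le_normalizer_sup (hZ'A _ h1) (hZ'A _ h2)))
      (cop_of_le hX (inf_le_right.trans (sup_le (hZ'X _ h1) (hZ'X _ h2)))) fun B hB => ?_
    refine le_trans ?_ (hR B hB)
    rw [inf_assoc]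
    exact inf_le_inf_left _ ((hP' _ _ _ h1 h2 hB).trans le_sup_left)
  set M : Subgroup G := ⨆ B : {B // Coc A B}, K ⊓ (Z B ⊔ Y) with hM
  have hle : ∀ B, Coc A B → K ⊓ (Z B ⊔ Y) ≤ M := fun B hB =>
    le_iSup (fun B : {B // Coc A B} => K ⊓ (Z B ⊔ Y)) ⟨B, hB⟩
  have hMK : M ≤ K := iSup_le fun _ => inf_le_left
  have hYM : Y ≤ M := (le_inf hYK le_sup_right).trans (hle B₀ hB₀)
  have hc1 : ∀ B₁ B₂, Coc A B₁ → Coc A B₂ → ⁅K ⊓ (Z B₁ ⊔ Y), K ⊓ (Z B₂ ⊔ Y)⁆ ≤ Y := by
    intro B₁ B₂ h1 h2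
    refine le_trans (le_inf ((commutator_mono inf_le_left inf_le_left).trans le_sup_left) ?_)
      (hred _ _ B₁ B₂ h1 h2 (le_normalizer_sup (le_normalizer_commutator hAK hAK) hAY) hK1)
    exact (commutator_mono (inf_le_right.trans le_sup_left) (inf_le_right.trans le_sup_right)).trans
      (commutator_le_left_of le_normalizer)
  have hc2 : ∀ B, Coc A B → ⁅M, K ⊓ (Z B ⊔ Y)⁆ ≤ Y := by
    intro B hB
    rw [commutator_comm]
    exact LB.comm_le_of_le_cmod (iSup_le fun B' => LB.le_cmod (hc1 _ _ hB B'.2)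
      (inf_le_left.trans (hKX.trans hXY)))
  have hc3 : ⁅M, M⁆ ≤ Y :=
    LB.comm_le_of_le_cmod (iSup_le fun B' => LB.le_cmod (hc2 _ B'.2)
      (inf_le_left.trans (hKX.trans hXY)))
  have hnorm : ∀ g : G, (∀ B, Coc A B → ∀ y ∈ K ⊓ (Z B ⊔ Y), g * y * g⁻¹ ∈ M) →
      g ∈ normalizer (M : Set G) := by
    intro g hg
    refine H13.mem_normalizer_of_finite fun x hx => ?_
    have : M ≤ M.comap (MulAut.conj g).toMonoidHom := iSup_le fun B y hy => hg B B.2 y hy
    exact this hx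
  have hAM : A ≤ normalizer (M : Set G) := fun a ha => hnorm a fun B hB y hy =>
    hle B hB (conj_mem (le_normalizer_inf hAK (hZ'A B hB)) ha hy)
  have hXM : X ≤ normalizer (M : Set G) := by
    refine hgen _ fun B' hB' g hg => hnorm g fun B hB y hy => ?_
    refine hred K M B B' hB hB' hAK hle ⟨conj_mem hXK (hZX B' hB' hg) hy.1, ?_⟩
    have h1 : g ∈ (Z B ⊔ Y) ⊔ (Z B' ⊔ Y) := mem_sup_right (mem_sup_left hg)
    have h2 : y ∈ (Z B ⊔ Y) ⊔ (Z B' ⊔ Y) := mem_sup_left hy.2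
    have h3 : g * y * g⁻¹ ∈ (Z B ⊔ Y) ⊔ (Z B' ⊔ Y) := mul_mem (mul_mem h1 h2) (inv_mem h1)
    exact h3
  have hgood : ∀ B, Coc A B → M ⊓ centralizer (B : Set G) ≤ Z B := by
    have h1 := H2.sSup_mem_of_sup_closed {U : Subgroup G | U ≤ M ∧ A ≤ normalizer (U : Set G) ∧
      ∀ B, Coc A B → (U ⊔ Y) ⊓ centralizer (B : Set G) ≤ Z B}
      ⟨bot_le, by simp, fun B hB => by rw [bot_sup_eq]; exact hY B hB⟩
      (by
        rintro U ⟨h1, h2, h3⟩ V ⟨h4, h5, h6⟩
        refine ⟨sup_le h1 h4, le_normalizer_sup h2 h5, fun B hB => ?_⟩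
        have e : U ⊔ V ⊔ Y = (U ⊔ Y) ⊔ (V ⊔ Y) := by rw [sup_sup_sup_comm, sup_idem]
        rw [e]
        refine (sup_inf_cent_le (hAp.to_le hB.1)
          (cop_of_le hX ((sup_le h4 hYM).trans (hMK.trans hKX)))
          (hB.1.trans (le_normalizer_sup h2 hAY)) (hB.1.trans (le_normalizer_sup h5 hAY))
          ?_).trans (sup_le (h3 B hB) (h6 B hB))
        intro g hg
        refine H13.mem_normalizer_of_finite fun x hx => ?_
        have h7 : ⁅g, x⁆ ∈ Y :=
          hc3 (commutator_mem_commutator (sup_le h1 hYM hg) (sup_le h4 hYM hx))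
        have : g * x * g⁻¹ = ⁅g, x⁆ * x := by simp only [commutatorElement_def]; group
        rw [this]
        exact mul_mem (mem_sup_right h7) hx)
    intro B hB
    refine le_trans (inf_le_inf_right _ (le_trans ?_ le_sup_left)) (h1.2.2 B hB)
    refine iSup_le fun B' => le_sSup ⟨hle _ B'.2, le_normalizer_inf hAK (hZ'A _ B'.2),
      fun B₃ h3 => le_trans (inf_le_inf_right _ ?_) (hP' _ _ _ B'.2 B'.2 h3)⟩
    exact sup_le (inf_le_right.trans le_sup_left) (le_sup_right.trans le_sup_left)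
  exact hK ((hle B₀ hB₀).trans (hmax ⟨hMK.trans hKX, hXM, hAM, hgood⟩ hYM))

theorem Coc.relIndex_le {A B : Subgroup G} (hA : IsElementaryAbelian p A) (h : Coc A B) :
    B.relIndex A ≤ p := by
  obtain ⟨h1, a, ha, h2⟩ := h
  have h3 := H2.card_mul_relIndex h1
  have h4 := Nat.le_of_dvd (Nat.mul_pos Nat.card_pos Nat.card_pos)
    (H2.card_sup_dvd_of_le_normalizer (H := B) (K := zpowers a) (le_normalizer_of_comm_bot
      (comm_bot_iff.2 fun b hb c hc => IsElementaryAbelian.comm hA (h1 hb) (zpowers_le.2 ha hc))))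
  have h5 : Nat.card (zpowers a) ≤ p := by
    rw [Nat.card_zpowers]
    exact orderOf_le_of_pow_eq_one hp.out.pos (hA.2 a ha)
  have h6 := (card_le_of_le h2).trans (h4.trans (Nat.mul_le_mul_left _ h5))
  rw [← h3] at h6
  exact Nat.le_of_mul_le_mul_left h6 Nat.card_pos

theorem Coc.le_card_inf {A B D : Subgroup G} (hA : IsElementaryAbelian p A) (h : Coc A B)
    (hD : D ≤ A) {k : ℕ} (hk : p ^ (k + 1) ≤ Nat.card D) : p ^ k ≤ Nat.card ↥(B ⊓ D) := by
  have h1 := H2.card_inf_mul_relIndex B D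
  have h2 := (relIndex_le_of_le_right hD (H := B) FiniteIndex.index_ne_zero).trans
    (h.relIndex_le hA)
  rw [← h1, pow_succ] at hk
  exact Nat.le_of_mul_le_mul_right (hk.trans (Nat.mul_le_mul_left _ h2)) hp.out.pos

theorem exists_le_card_eq {B : Subgroup G} (hB : IsPGroup p B) {k : ℕ} (hk : p ^ k ≤ Nat.card B) :
    ∃ D, D ≤ B ∧ Nat.card D = p ^ k := by
  obtain ⟨n, hn⟩ := hB.exists_card_eq
  obtain ⟨D, hD⟩ := Sylow.exists_subgroup_card_pow_prime (G := B) p (n := k) (by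
    rw [hn] at hk ⊢
    exact pow_dvd_pow _ ((Nat.pow_le_pow_iff_right hp.out.one_lt).1 hk))
  exact ⟨D.map B.subtype, map_subtype_le _, by rw [H2.card_map_subtype, hD]⟩

theorem mem_delta {D : Subgroup G} {x : G} :
    x ∈ signalizerDelta p D ↔ ∀ d ∈ D, d ≠ 1 → x ∈ centralizerPPrimeCore p d :=
  ⟨fun h _ hd h1 => signalizerDelta_le p hd h1 h,
    fun h => mem_iInf.2 fun d => h d d.2.1 d.2.2⟩

theorem delta_anti {D B : Subgroup G} (h : D ≤ B) : signalizerDelta p B ≤ signalizerDelta p D :=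
  le_signalizerDelta fun _ hd h1 => signalizerDelta_le p (h hd) h1

theorem centralizer_le_normalizer_delta (D : Subgroup G) :
    centralizer (D : Set G) ≤ normalizer ((signalizerDelta p D : Subgroup G) : Set G) := by
  intro g hg
  refine H13.mem_normalizer_of_finite fun x hx => mem_delta.2 fun d hd h1 => ?_
  exact conj_mem (le_normalizer_opp p le_normalizer) (centralizer_le_centralizer_singleton hd hg)
    (mem_delta.1 hx d hd h1)

theorem le_normalizer_iSup {ι : Sort*} {A : Subgroup G} {f : ι → Subgroup G}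
    (h : ∀ i, A ≤ normalizer (f i : Set G)) :
    A ≤ normalizer ((⨆ i, f i : Subgroup G) : Set G) := by
  intro a ha
  refine H13.mem_normalizer_of_finite fun x hx => ?_
  have : (⨆ i, f i) ≤ (⨆ i, f i).comap (MulAut.conj a).toMonoidHom :=
    iSup_le fun i y hy => le_iSup f i (conj_mem (h i) ha hy)
  exact this hx

theorem kbalanced_functor {k : ℕ} (hbal : IsKBalanced p k G) {A : Subgroup G}
    (hA : IsElementaryAbelian p A) (hAk : p ^ (k + 2) ≤ Nat.card A)
    (hsolv : ∀ a ∈ A, a ≠ 1 → Group.IsSolvable (centralizerPPrimeCore p a)) :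
    IsSignalizerFunctor p A (fun a => ⨆ D : {D : Subgroup G // D ≤ A ∧ Nat.card ↥D = p ^ k},
      signalizerDelta p (D : Subgroup G) ⊓ centralizer {a}) := by
  have hAp := IsElementaryAbelian.isPGroup hA
  have hb : ∀ D ≤ A, Nat.card D = p ^ k → ∀ b ∈ A, b ≠ 1 →
      signalizerDelta p D ⊓ centralizer {b} ≤ centralizerPPrimeCore p b := fun D hD h1 b hb h2 =>
    hbal D (IsElementaryAbelian.of_le hA hD) h1 b (IsElementaryAbelian.orderOf_eq hA hb h2)
      fun a ha => IsElementaryAbelian.comm hA (hD ha) hb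
  have hb' : ∀ D ≤ A, Nat.card D = p ^ k → ∀ B ≤ A,
      signalizerDelta p D ⊓ centralizer (B : Set G) ≤ signalizerDelta p B := fun D hD h1 B hB =>
    le_signalizerDelta fun b hb1 h2 => (inf_le_inf_left _
      (centralizer_le_centralizer_singleton hb1)).trans (hb D hD h1 b (hB hb1) h2)
  have hAD : ∀ D ≤ A, A ≤ normalizer ((signalizerDelta p D : Subgroup G) : Set G) := fun D hD =>
    ((IsElementaryAbelian.le_centralizer hA).trans (centralizer_le hD)).trans
      (centralizer_le_normalizer_delta D)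
  have hAC : ∀ a ∈ A, A ≤ normalizer ((centralizer {a} : Subgroup G) : Set G) := fun a ha =>
    (IsElementaryAbelian.le_centralizer_singleton hA ha).trans le_normalizer
  set θ : G → Subgroup G := fun a => ⨆ D : {D : Subgroup G // D ≤ A ∧ Nat.card ↥D = p ^ k},
      signalizerDelta p (D : Subgroup G) ⊓ centralizer {a} with hθ
  have hle : ∀ a, ∀ D ≤ A, Nat.card D = p ^ k → signalizerDelta p D ⊓ centralizer {a} ≤ θ a :=
    fun a D hD h1 => le_iSup (fun D : {D : Subgroup G // D ≤ A ∧ Nat.card ↥D = p ^ k} =>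
      signalizerDelta p (D : Subgroup G) ⊓ centralizer {a}) ⟨D, hD, h1⟩
  have hO : ∀ a ∈ A, a ≠ 1 → θ a ≤ centralizerPPrimeCore p a := fun a ha h1 =>
    iSup_le fun D => hb D D.2.1 D.2.2 a ha h1
  have hcop : ∀ a ∈ A, a ≠ 1 → (Nat.card (θ a)).Coprime p := fun a ha h1 =>
    cop_of_le (opp_cop p _) (hO a ha h1)
  have hn : ∀ a ∈ A, A ≤ normalizer (θ a : Set G) := fun a ha =>
    le_normalizer_iSup fun D => le_normalizer_inf (hAD D D.2.1) (hAC a ha)
  have hB1 : ∀ B, Coc A B → p ^ (k + 1) ≤ Nat.card B := fun B hB => by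
    have := hB.le_card_inf hA le_rfl hAk
    rwa [inf_eq_left.2 hB.1] at this
  have hcoc : ∀ a, ∀ B, Coc A B → signalizerDelta p B ⊓ centralizer {a} ≤ θ a := by
    intro a B hB
    obtain ⟨D, h1, h2⟩ := exists_le_card_eq (hAp.to_le hB.1)
      ((Nat.pow_le_pow_right hp.out.pos (Nat.le_succ k)).trans (hB1 B hB))
    exact (inf_le_inf_right _ (delta_anti h1)).trans (hle a D (h1.trans hB.1) h2)
  refine ⟨fun a _ _ => iSup_le fun _ => inf_le_right,
    fun a ha h1 => cop_iff_not_dvd.1 (hcop a ha h1),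
    fun a ha _ b hb x hx => conj_mem (hn a ha) hb hx, fun a ha h1 b hbA _ => ?_⟩
  have key := flat hA.1 hAp (hcop a ha h1) (solvable_of_le (hO a ha h1) (hsolv a ha h1)) (hn a ha)
    (fun B => signalizerDelta p B ⊓ centralizer {a}) (hcoc a)
    (fun B hB => le_normalizer_inf (hAD B hB.1) (hAC a ha))
    (fun B₁ B₂ B₃ h2 h3 h4 => by
      obtain ⟨D, h5, h6⟩ := exists_le_card_eq (hAp.to_le (inf_le_left.trans h2.1))
        (h2.le_card_inf hA h3.1 (hB1 _ h3))
      refine le_inf (le_trans (inf_le_inf_right _ ?_)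
        (hb' D (h5.trans (inf_le_left.trans h2.1)) h6 B₃ h4.1))
        (inf_le_left.trans (sup_le inf_le_right inf_le_right))
      exact sup_le (inf_le_left.trans (delta_anti (h5.trans inf_le_left)))
        (inf_le_left.trans (delta_anti (h5.trans inf_le_right))))
    (fun L hL => iSup_le fun D => le_of_coc hA.1 hAp
      (le_normalizer_inf (hAD D D.2.1) (hAC a ha))
      (cop_of_le (hcop a ha h1) (hle a D D.2.1 D.2.2)) fun B hB => by
        refine le_trans ?_ (hL B hB)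
        rw [inf_right_comm]
        exact inf_le_inf_right _ (hb' D D.2.1 D.2.2 B hB.1))
  refine le_of_coc hA.1 hAp (le_normalizer_inf (hn a ha) (hAC b hbA))
    (cop_of_le (hcop a ha h1) inf_le_left) fun B hB => le_trans ?_ (hcoc b B hB)
  rw [inf_right_comm]
  exact inf_le_inf_right _ ((key B hB).trans inf_le_left)

end H25.Sg
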