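import Mathlib
import Cfsg.Agent.H7.Fix
import Cfsg.Agent.H29.Tau
import Cfsg.Agent.H24.Base1
import Cfsg.Agent.H3.Extraspecial

/-!
Bounds for normalisers of small subgroups of explicit permutation groups.
-/

set_option autoImplicit false
set_option linter.unusedSectionVars false
set_option linter.deprecated false

open H29 H7 H7.Cay Subgroup H24

namespace H25.JS

variable {G : Type*} [Group G]

theorem ev_replicate (e : ℕ → G) (c : ℕ) : ∀ n, ev e (List.replicate n c) = e c ^ n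
  | 0 => by simp
  | n + 1 => by rw [List.replicate_succ, ev_cons, ev_replicate e c n, pow_succ']

theorem mem_zp {x g : G} {n : ℕ} (hn : 0 < n) (h : x ^ n = 1) (hg : g ∈ zpowers x) :
    ∃ i < n, g = x ^ i := by
  have hf : IsOfFinOrder x := isOfFinOrder_iff_pow_eq_one.2 ⟨n, hn, h⟩
  obtain ⟨i, rfl⟩ := (hf.mem_powers_iff_mem_zpowers).2 hg
  exact ⟨i % n, Nat.mod_lt _ hn, pow_eq_pow_mod i h⟩

theorem isPGroup_zp {x : G} {p : ℕ} (h : x ^ p = 1) : IsPGroup p (zpowers x) := by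
  rintro ⟨_, k, rfl⟩
  refine ⟨1, Subtype.ext ?_⟩
  rw [pow_one]
  change (x ^ k) ^ p = 1
  rw [← zpow_natCast, ← zpow_mul, mul_comm, zpow_mul, zpow_natCast, h, one_zpow]

theorem card_mul_le [Finite G] {A C N : Subgroup G} (hA : A ≤ N) (hC : C ≤ N) (h : Disjoint A C) :
    Nat.card A * Nat.card C ≤ Nat.card N := by
  rw [← Nat.card_prod]
  exact Nat.card_le_card_of_injective
    (fun g : A × C => (⟨g.1 * g.2, N.mul_mem (hA g.1.2) (hC g.2.2)⟩ : N))
    fun a b hab => mul_injective_of_disjoint h (congrArg Subtype.val hab)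

theorem two_mul_le [Finite G] {A B : Subgroup G} (h : A ≤ B) {g : G} (hg : g ∈ B) (hgA : g ∉ A) :
    2 * Nat.card A ≤ Nat.card B := by
  obtain ⟨k, hk⟩ := card_dvd_of_le h
  have h0 : 0 < Nat.card B := Nat.card_pos
  have h1 : k ≠ 1 := by
    rintro rfl
    exact hgA ((eq_of_le_of_card_ge h (by omega)) ▸ hg)
  have h2 : k ≠ 0 := by rintro rfl; omega
  rw [hk, mul_comm]
  exact Nat.mul_le_mul_left _ (by omega)

theorem norm_of_conj [Finite G] {P : Subgroup G} {h : G} (hh : ∀ x ∈ P, h * x * h⁻¹ ∈ P) :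
    h ∈ N[P] := mem_normalizer_fintype hh

theorem conj_sup {A B P : Subgroup G} {h : G} (hA : ∀ x ∈ A, h * x * h⁻¹ ∈ P)
    (hB : ∀ x ∈ B, h * x * h⁻¹ ∈ P) : ∀ x ∈ A ⊔ B, h * x * h⁻¹ ∈ P :=
  fun _ hx => (sup_le (c := P.comap (MulAut.conj h).toMonoidHom) hA hB) hx

theorem conj_zp {a h : G} {P : Subgroup G} (ha : h * a * h⁻¹ ∈ P) :
    ∀ x ∈ zpowers a, h * x * h⁻¹ ∈ P :=
  fun _ hx => (zpowers_le (H := P.comap (MulAut.conj h).toMonoidHom)).2 ha hx

theorem card_syl [Finite G] {p k m : ℕ} [hp : Fact p.Prime] (h : Nat.card G = p ^ k * m)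
    (hm : ¬ p ∣ m) (P : Sylow p G) : Nat.card P = p ^ k := by
  have hm0 : m ≠ 0 := by rintro rfl; exact hm (dvd_zero _)
  rw [P.card_eq_multiplicity, h, Nat.factorization_mul (pow_ne_zero _ hp.out.ne_zero) hm0,
    Finsupp.add_apply, hp.out.factorization_pow, Finsupp.single_eq_same,
    Nat.factorization_eq_zero_of_not_dvd hm, add_zero]

theorem norm_mod [Finite G] {p a b k : ℕ} [Fact p.Prime] (P : Sylow p G) (h : Nat.card G = a * b)
    (ha : 0 < a) (hk : Nat.card N[(P : Subgroup G)] = a * k) : k % p = b % p := by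
  have h1 := card_sylow_modEq_one p G
  rw [P.card_eq_index_normalizer] at h1
  have h2 := (N[(P : Subgroup G)]).card_mul_index
  rw [hk, h, mul_assoc] at h2
  have h3 := Nat.eq_of_mul_eq_mul_left ha h2
  rw [← h3]
  exact ((Nat.ModEq.mul_left k h1).trans (by rw [mul_one])).symm

theorem exists_equiv {S : Type*} [Group S] [Finite S] [Finite G] {p : ℕ} [Fact p.Prime]
    (f : S ≃* G) (P0 : Sylow p S) (P : Sylow p G) :
    ∃ φ : S ≃* G, (P : Subgroup G) = (P0 : Subgroup S).map φ.toMonoidHom := by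
  have hf : Function.Surjective f.toMonoidHom := f.surjective
  obtain ⟨g, hg⟩ := MulAction.exists_smul_eq G (P0.mapSurjective hf) P
  refine ⟨f.trans (MulAut.conj g), ?_⟩
  rw [← hg, Sylow.coe_subgroup_smul, Sylow.coe_mapSurjective]
  exact map_map _ _ _

theorem map_C {S : Type*} [Group S] (φ : S ≃* G) (A : Subgroup S) :
    C[A.map φ.toMonoidHom] = C[A].map φ.toMonoidHom := by
  ext g
  obtain ⟨g, rfl⟩ := φ.surjective g
  rw [show φ g = φ.toMonoidHom g from rfl, mem_map_iff_mem φ.injective, mem_centralizer_iff,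
    mem_centralizer_iff]
  constructor
  · intro h a ha
    exact φ.injective (by simpa using h _ ⟨a, ha, rfl⟩)
  · rintro h _ ⟨a, ha, rfl⟩
    rw [← map_mul, ← map_mul, h a ha]

theorem map_N {S : Type*} [Group S] (φ : S ≃* G) (A : Subgroup S) :
    N[A.map φ.toMonoidHom] = N[A].map φ.toMonoidHom := (map_equiv_normalizer_eq A φ).symm

theorem card_map {S : Type*} [Group S] (φ : S ≃* G) (A : Subgroup S) :
    Nat.card (A.map φ.toMonoidHom) = Nat.card A := card_map_of_injective φ.injective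

theorem eq_of_prime [Finite G] {p : ℕ} [hp : Fact p.Prime] {A B : Subgroup G} (hA : Nat.card A = p)
    (hB : Nat.card B = p) {x : G} (hx : x ≠ 1) (h1 : x ∈ A) (h2 : x ∈ B) : A = B := by
  have key : ∀ {A : Subgroup G}, Nat.card A = p → x ∈ A → zpowers x = A := fun {A} hA h1 => by
    refine eq_of_le_of_card_ge (zpowers_le.2 h1) ?_
    have := card_dvd_of_le (zpowers_le.2 h1)
    rw [hA] at this ⊢
    rcases (Nat.dvd_prime hp.out).1 this with h | h
    · rw [card_eq_one, zpowers_eq_bot] at h; exact absurd h hx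
    · exact h.ge
  rw [← key hA h1, key hB h2]

theorem extraspecial_of_cube [Finite G] {p : ℕ} [hp : Fact p.Prime] {K : Subgroup G}
    (hK : Nat.card K = p ^ 3) {a b : G} (ha : a ∈ K) (hb : b ∈ K) (hab : a * b ≠ b * a) :
    Cfsg.IsExtraspecial p K := by
  have hP : IsPGroup p K := IsPGroup.of_card hK
  have hnc : ¬ IsCyclic (K ⧸ center K) := fun h => hab (congrArg Subtype.val
    (commutative_of_cyclic_center_quotient (QuotientGroup.mk' (center K))
      (by rw [QuotientGroup.ker_mk']) ⟨a, ha⟩ ⟨b, hb⟩))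
  have hnt : Nontrivial K := by
    rw [← Finite.one_lt_card_iff_nontrivial, hK]
    exact Nat.one_lt_pow (by norm_num) hp.out.one_lt
  have hc := card_eq_card_quotient_mul_card_subgroup (center K)
  obtain ⟨i, hi, hZ⟩ := (Nat.dvd_prime_pow hp.out).1 (hK ▸ card_subgroup_dvd_card (center K))
  have hi0 : i ≠ 0 := by
    rintro rfl
    have := hP.center_nontrivial
    rw [← Finite.one_lt_card_iff_nontrivial, hZ] at this
    simp at this
  have hQ : Nat.card (K ⧸ center K) = p ^ (3 - i) := by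
    rw [hK, hZ, show p ^ 3 = p ^ (3 - i) * p ^ i by rw [← pow_add]; congr 1; omega] at hc
    exact (Nat.eq_of_mul_eq_mul_right (pow_pos hp.out.pos _) hc).symm
  have hi1 : i = 1 := by
    by_contra h
    refine hnc (isCyclic_of_card_dvd_prime (p := p) ?_)
    rw [hQ]
    nth_rewrite 2 [← pow_one p]
    exact pow_dvd_pow _ (by omega)
  subst hi1
  rw [pow_one] at hZ
  obtain ⟨z, hz, hz'⟩ := H3.exists_generator_of_card_prime hZ
  have hcomm := IsPGroup.commutative_of_card_eq_prime_sq (p := p) hQ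
  have xs : H3.XS p z (⊤ : Subgroup K) :=
    { ord := hz
      mem := mem_top _
      central := fun x _ => (mem_center_iff.1 (hz' ▸ mem_zpowers z) x).symm
      comm := fun x _ y _ => by
        rw [hz', ← QuotientGroup.eq_one_iff, ← QuotientGroup.mk'_apply, map_commutatorElement,
          commutatorElement_eq_one_iff_mul_comm]
        exact hcomm _ _
      pow := fun x _ => by
        rw [hz', ← QuotientGroup.eq_one_iff, QuotientGroup.mk_pow]
        obtain ⟨j, hj, h⟩ := (Nat.dvd_prime_pow hp.out).1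
          (hQ ▸ orderOf_dvd_natCard (x : K ⧸ center K))
        have : j ≠ 2 := by
          rintro rfl
          exact hnc (isCyclic_of_orderOf_eq_card _ (h.trans hQ.symm))
        refine orderOf_dvd_iff_pow_eq_one.1 ?_
        rw [h]
        nth_rewrite 2 [← pow_one p]
        exact pow_dvd_pow _ (by omega)
      center_le := fun x _ h => hz' ▸ mem_center_iff.2 fun y => (h y (mem_top _)).symm }
  have xs' := xs.map K.subtype K.subtype_injective
  rw [← MonoidHom.range_eq_map, range_subtype] at xs'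
  refine xs'.isExtraspecial fun e => ?_
  have := congrArg (fun A : Subgroup G => Nat.card A) e
  simp only [Nat.card_zpowers, xs'.ord, hK] at this
  have h2 := Nat.pow_right_injective hp.out.two_le ((pow_one p).trans this)
  omega

/-! ### permutation part -/

variable {ρ : G →* Equiv.Perm ℕ} {e : ℕ → G} {nets : ℕ → Net} {K k : ℕ}

/-- a small bit set -/
noncomputable def small (k V m : ℕ) : Bool :=
  seqN V fun V => and2 (Nat.beq (Nat.shiftRight V (Nat.pow 2 k)) 0) (Nat.ble (popc k V) m)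

theorem card_le_orbit [Finite G] (N : Subgroup G) {b V m : ℕ}
    (hV : ∀ g ∈ N, V.testBit (ρ g b) = true) (hc : small k V m = true) :
    Nat.card N ≤ m * Nat.card ↥(N ⊓ stab ρ b) := by
  rw [small, seqN_eq, and2_true, H29.beq_true, ble_true] at hc
  let _ : MulAction N ℕ := MulAction.compHom ℕ (ρ.comp N.subtype)
  have h1 : (MulAction.orbit N b).ncard ≤ m := by
    refine le_trans (Set.ncard_le_ncard (t := {i | V.testBit i = true}) ?_ ?_) ?_
    · rintro _ ⟨g, rfl⟩; exact hV g g.2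
    · refine (Set.finite_Iio (2 ^ k)).subset fun i hi => ?_
      by_contra h
      have h2 := congrArg (fun x => Nat.testBit x (i - 2 ^ k)) hc.1
      simp only [shr_eq, Nat.testBit_shiftRight, Nat.zero_testBit] at h2
      rw [show Nat.pow 2 k + (i - 2 ^ k) = i by
        change 2 ^ k + (i - 2 ^ k) = i
        simp only [Set.mem_Iio] at h; omega] at h2
      simp only [Set.mem_setOf_eq] at hi
      rw [hi] at h2; exact absurd h2 (by simp)
    · rw [ncard_bits hc.1]; exact hc.2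
  rw [← MulAction.index_stabilizer] at h1
  rw [← (MulAction.stabilizer N b).index_mul_card]
  refine Nat.mul_le_mul h1 (le_of_eq ?_)
  rw [← Nat.card_congr (subgroupOfEquivOfLe (inf_le_left : N ⊓ stab ρ b ≤ N)).toEquiv]
  congr 2
  ext g
  simp only [MulAction.mem_stabilizer_iff, mem_subgroupOf, mem_inf, g.2, true_and, mem_stab]
  rfl

theorem bit_fx (hn : NetsOK K nets) (hK : K ≤ 2 ^ k) (hρ : ∀ c, ρ (e c) = sg nets c) {w : List ℕ}
    {i : ℕ} : (fx K k nets w).testBit i = true ↔ i < K ∧ ρ (ev e w) i = i := by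
  rw [testBit_fx hn hK, map_ev_sg fun c _ => hρ c]

theorem ne_one (hn : NetsOK K nets) (hK : K ≤ 2 ^ k) (hρ : ∀ c, ρ (e c) = sg nets c) {w : List ℕ}
    (h : Nat.beq (fx K k nets w) (ones K) = false) : ev e w ≠ 1 := fun h1 => by
  rw [← Bool.not_eq_true, H29.beq_true] at h
  refine h (Nat.eq_of_testBit_eq fun i => ?_)
  rw [Bool.eq_iff_iff, bit_fx hn hK hρ, testBit_ones, h1]
  simp

theorem ne_ones (hn : NetsOK K nets) (hK : K ≤ 2 ^ k) (hρ : ∀ c, ρ (e c) = sg nets c)
    {W : List (List ℕ)} (h : (allL W fun w => Bool.not (Nat.beq (fx K k nets w) (ones K))) = true) :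
    ∀ w ∈ W, ev e w ≠ 1 := fun w hw =>
  ne_one hn hK hρ (by simpa using allL_true.1 h w hw)

theorem no_fix (hn : NetsOK K nets) (hK : K ≤ 2 ^ k) (hρ : ∀ c, ρ (e c) = sg nets c)
    {W : List (List ℕ)} (h : (allL W fun w => Nat.beq (fx K k nets w) 0) = true) :
    ∀ w ∈ W, ∀ i < K, ρ (ev e w) i ≠ i := fun w hw i hi h1 => by
  have := (bit_fx hn hK hρ).2 ⟨hi, h1⟩
  rw [H29.beq_true.1 (allL_true.1 h w hw)] at this
  simp at this

theorem pt (hn : NetsOK K nets) (hρ : ∀ c, ρ (e c) = sg nets c) {w : List ℕ} {p q : ℕ}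
    (h : chkPt nets w p q = true) : ρ (ev e w) p = q := by
  rw [map_ev_sg fun c _ => hρ c]; exact pt_of_chk hn h

/-- the points fixed by some word of the list -/
noncomputable def uni (K k : ℕ) (nets : ℕ → Net) (W : List (List ℕ)) : ℕ :=
  List.rec (motive := fun _ => ℕ) 0 (fun w _ ih => seqN ih fun m => Nat.lor (fx K k nets w) m) W

theorem bit_uni {i : ℕ} : ∀ {W : List (List ℕ)} {w : List ℕ}, w ∈ W →
    (fx K k nets w).testBit i = true → (uni K k nets W).testBit i = true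
  | u :: W, w, hw, h => by
    rw [show uni K k nets (u :: W) = seqN (uni K k nets W) fun m => Nat.lor (fx K k nets u) m
      from rfl, seqN_eq, lor_eq, Nat.testBit_or, Bool.or_eq_true]
    rcases List.mem_cons.1 hw with rfl | hw
    · exact Or.inl h
    · exact Or.inr (bit_uni hw h)

theorem conj_fix {n x : G} {q : ℕ} (h : ρ x q = q) : ρ (n * x * n⁻¹) (ρ n q) = ρ n q := by
  simp [h]

theorem mem_uni {M : ℕ} (ht : Trans ρ M) (hn : NetsOK M nets) (hK : M ≤ 2 ^ k)
    (hρ : ∀ c, ρ (e c) = sg nets c) {P : Subgroup G} {W : List (List ℕ)}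
    (hP : ∀ g ∈ P, g ≠ 1 → ∃ w ∈ W, g = ev e w) {x : G} (hx : x ∈ P) (hx1 : x ≠ 1) {q : ℕ}
    (hq : q < M) (hxq : ρ x q = q) : ∀ n ∈ N[P], (uni M k nets W).testBit (ρ n q) = true := by
  intro n hn'
  obtain ⟨w, hw, e1⟩ := hP (n * x * n⁻¹) ((mem_normalizer_iff.1 hn' x).1 hx) (by simpa using hx1)
  exact bit_uni hw ((bit_fx hn hK hρ).2 ⟨ht.lt n q hq, e1 ▸ conj_fix hxq⟩)

theorem orbit_data [Finite G] (hn : NetsOK K nets) {L : List ℕ} (hρ : ∀ c ∈ L, ρ (e c) = sg nets c)
    {q r m : ℕ} (hc : chkOrbit k nets L q r m = true) :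
    (∀ g ∈ gen e L, (orb nets L r (bit q)).testBit (ρ g q) = true) ∧
      m * Nat.card ↥(gen e L ⊓ stab ρ q) ≤ Nat.card (gen e L) := by
  refine ⟨fun g hg => ?_, card_mul_le_of_orbit inf_le_left (fun g hg => hg.2)
    (ncard_orbit_of_chk hn hρ hc).ge⟩
  rw [chkOrbit, seqN_eq, and2_true, and2_true] at hc
  rw [inv_of_chk hn hρ hc.1.2 hg]
  exact sub_true hc.1.1 (by simp [testBit_bit])

/-- the bound -/
theorem bound [Finite G] {N H : Subgroup G} (hH : stab ρ 0 = H) {q V0 F O m0 m1 m : ℕ}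
    (h0 : ∀ g ∈ N, V0.testBit (ρ g 0) = true) (c0 : small k V0 m0 = true)
    (h1 : ∀ g ∈ N, F.testBit (ρ g q) = true)
    (h2 : (∀ g ∈ H, O.testBit (ρ g q) = true) ∧ m * Nat.card ↥(H ⊓ stab ρ q) ≤ Nat.card H)
    (c1 : small k (Nat.land F O) m1 = true) {g : G} (g0 : ρ g 0 = 0) (gq : ρ g q = q)
    (gN : g ∉ N) : 2 * m * Nat.card N ≤ m0 * m1 * Nat.card H := by
  have a1 := card_le_orbit N h0 c0
  rw [hH] at a1
  have a2 := card_le_orbit (ρ := ρ) (b := q) (N ⊓ H) (fun g hg => by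
    rw [land_eq, Nat.testBit_and, h1 g hg.1, h2.1 g hg.2]; rfl) c1
  have a3 := two_mul_le (A := N ⊓ H ⊓ stab ρ q) (B := H ⊓ stab ρ q)
    (inf_le_inf_right _ inf_le_right) (g := g) ⟨hH ▸ g0, gq⟩ fun h => gN h.1.1
  calc 2 * m * Nat.card N ≤ 2 * m * (m0 * (m1 * Nat.card ↥(N ⊓ H ⊓ stab ρ q))) :=
        Nat.mul_le_mul_left _ (a1.trans (Nat.mul_le_mul_left _ a2))
    _ = m0 * m1 * (m * (2 * Nat.card ↥(N ⊓ H ⊓ stab ρ q))) := by ring
    _ ≤ m0 * m1 * Nat.card H :=
        Nat.mul_le_mul_left _ ((Nat.mul_le_mul_left _ a3).trans h2.2)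

/-- the commutator word -/
noncomputable def cw (iv : ℕ → ℕ) (u v : List ℕ) : List ℕ := u ++ v ++ invW iv u ++ invW iv v

theorem ncomm {iv : ℕ → ℕ} (hiv : IvOK e iv) {u v : List ℕ} (h : ev e (cw iv u v) ≠ 1) :
    ev e u * ev e v ≠ ev e v * ev e u := fun h1 => h (by
  simp only [cw, ev_append, ev_invW hiv, h1]; group)

/-- the relator `u t u⁻¹ w⁻¹` -/
noncomputable def cr (iv : ℕ → ℕ) (x : List ℕ × List ℕ × List ℕ) : List ℕ :=
  x.1 ++ x.2.1 ++ invW iv x.1 ++ invW iv x.2.2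

theorem conj_tab {iv : ℕ → ℕ} (hiv : IvOK e iv) {T : List (List ℕ × List ℕ × List ℕ)}
    (h : ∀ r ∈ T.map (cr iv), ev e r = 1) :
    ∀ x ∈ T, ev e x.1 * ev e x.2.1 * (ev e x.1)⁻¹ = ev e x.2.2 := fun x hx => by
  have := h _ (List.mem_map_of_mem hx)
  simp only [cr, ev_append, ev_invW hiv] at this
  exact mul_inv_eq_one.1 this

end H25.JS
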