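import Mathlib
import Cfsg.Agent.H7.J2U
import Cfsg.Agent.H25.JSyl0

/-!
The Sylow 3-subgroups of the Hall–Janko group.
-/

set_option autoImplicit false
set_option maxRecDepth 100000
set_option linter.all false

open H29 H9 H9.MX H7 H7.JP H7.J2 Subgroup H24

namespace H25.JS.P3

def W : List (List ℕ) :=
  [[2, 7, 6, 10, 7], [7, 10, 6, 7, 2], [0, 1, 6, 7, 10, 3, 7, 6], [6, 7, 3, 10, 7, 6, 1, 0],
   [9, 10, 7, 6, 10], [10, 6, 7, 10, 8], [1, 0, 10, 2], [2, 10, 0, 1], [5]]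
def ivl : List ℕ := [1, 0, 3, 2, 5, 4, 7, 6, 8]
noncomputable abbrev e : ℕ → S := wE eS W
noncomputable abbrev nets : ℕ → Net := wNets nH W
noncomputable abbrev nets' : ℕ → Net := wNets (nth Net.nil J2P.nl) W
theorem hn : NetsOK 100 nets := J2H.hn.wNets _
theorem hn' : NetsOK 315 nets' := J2P.hn.wNets _
theorem hρ : ∀ c, ρH (e c) = sg nets c := ρH_wE (by decide)
theorem hρ' : ∀ c, (PG J2P.nl).subtype (e c) = sg nets' c := map_wE (pe_rho _) _
theorem hiv : IvOK e (ivOf ivl) := ivOK_wE (by decide) (relS (by decide +kernel))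
theorem hR : ∀ r ∈ [List.replicate 3 0, List.replicate 3 2, List.replicate 3 4, List.replicate 8 6],
    ev e r = 1 := rels_wE (relS (by decide +kernel))
def T0 : List (List ℕ × List ℕ × List ℕ) :=
  [([0], [4], [4]), ([2], [4], [4]), ([2], [0], [0, 4, 4]), ([6], [0], [2, 2, 0, 4]),
   ([6], [2], [2, 0, 4, 4]), ([6], [4], [4, 4])]
def T : List (List ℕ × List ℕ × List ℕ) :=
  [([], [0], [0]), ([2], [0], [0, 4, 4]), ([3], [0], [0, 4]), ([6], [0], [2, 2, 0, 4]),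
   ([7], [0], [2, 2, 0, 0, 4, 4]), ([6, 2], [0], [2, 2, 0, 4, 4]), ([7, 2], [0], [2, 2, 0, 0]),
   ([6, 3], [0], [2, 2, 0]), ([7, 3], [0], [2, 2, 0, 0, 4]), ([6, 6], [0], [2]), ([7, 7], [0], [2, 2]),
   ([6, 6, 2], [0], [2, 4, 4]), ([7, 7, 2], [0], [2, 2, 4, 4]), ([6, 6, 3], [0], [2, 4]),
   ([7, 7, 3], [0], [2, 2, 4]), ([6, 6, 6], [0], [2, 0, 4, 4]), ([7, 7, 7], [0], [2, 0, 0, 4]),
   ([6, 6, 6, 2], [0], [2, 0]), ([7, 7, 7, 2], [0], [2, 0, 0, 4, 4]), ([6, 6, 6, 3], [0], [2, 0, 4]),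
   ([7, 7, 7, 3], [0], [2, 0, 0]), ([6, 6, 6, 6], [0], [0, 0]), ([6, 6, 6, 6, 2], [0], [0, 0, 4, 4]),
   ([6, 6, 6, 6, 3], [0], [0, 0, 4]), ([], [4], [4]), ([6], [4], [4, 4])]
theorem hT0 : ∀ x ∈ T0, ev e x.1 * ev e x.2.1 * (ev e x.1)⁻¹ = ev e x.2.2 :=
  conj_tab hiv (rels_wE (relS (by decide +kernel)))
theorem hT : ∀ x ∈ T, ev e x.1 * ev e x.2.1 * (ev e x.1)⁻¹ = ev e x.2.2 :=
  conj_tab hiv (rels_wE (relS (by decide +kernel)))
theorem a3 : e 0 ^ 3 = 1 := by rw [← ev_replicate]; exact hR _ (by simp)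
theorem b3 : e 2 ^ 3 = 1 := by rw [← ev_replicate]; exact hR _ (by simp)
theorem c3 : e 4 ^ 3 = 1 := by rw [← ev_replicate]; exact hR _ (by simp)
theorem h8 : e 6 ^ 8 = 1 := by rw [← ev_replicate]; exact hR _ (by simp)
theorem hne : ∀ w ∈ [[0], [4], List.replicate 4 6, cw (ivOf ivl) [0] [2],
    cw (ivOf ivl) [8, 4, 8] [4]], ev e w ≠ 1 :=
  ne_ones (k := 7) hn (by decide) hρ (by decide +kernel)
theorem a1 : e 0 ≠ 1 := by simpa using hne [0] (by simp)
theorem c1 : e 4 ≠ 1 := by simpa using hne [4] (by simp)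
theorem ord8 : orderOf (e 6) = 2 ^ (2 + 1) :=
  orderOf_eq_prime_pow (by rw [← ev_replicate]; exact hne _ (by simp)) h8
theorem ac : e 0 * e 4 * (e 0)⁻¹ = e 4 := by simpa using hT0 ([0], [4], [4]) (by decide)
theorem bc : e 2 * e 4 * (e 2)⁻¹ = e 4 := by simpa using hT0 ([2], [4], [4]) (by decide)

/-- the subgroup of order nine -/
noncomputable def A : Subgroup S := zpowers (e 0) ⊔ zpowers (e 4)
/-- the Sylow subgroup -/
noncomputable def P1 : Subgroup S := zpowers (e 2) ⊔ A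
theorem aA : e 0 ∈ A := mem_sup_left (mem_zpowers _)
theorem cA : e 4 ∈ A := mem_sup_right (mem_zpowers _)
theorem aP : e 0 ∈ P1 := mem_sup_right aA
theorem cP : e 4 ∈ P1 := mem_sup_right cA
theorem bP : e 2 ∈ P1 := mem_sup_left (mem_zpowers _)
theorem n1 : zpowers (e 0) ≤ N[zpowers (e 4)] :=
  zpowers_le.2 (norm_of_conj (conj_zp (ac.symm ▸ mem_zpowers _)))
theorem n2 : zpowers (e 2) ≤ N[A] := by
  refine zpowers_le.2 (norm_of_conj (conj_sup (conj_zp ?_) (conj_zp (bc.symm ▸ cA))))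
  have := hT0 ([2], [0], [0, 4, 4]) (by decide)
  simp only [ev_cons, ev_nil, mul_one] at this
  rw [this]; exact mul_mem aA (mul_mem cA cA)
theorem hN : e 6 ∈ N[P1] := by
  have h1 := hT0 ([6], [0], [2, 2, 0, 4]) (by decide)
  have h2 := hT0 ([6], [2], [2, 0, 4, 4]) (by decide)
  have h3 := hT0 ([6], [4], [4, 4]) (by decide)
  simp only [ev_cons, ev_nil, mul_one] at h1 h2 h3
  refine norm_of_conj (conj_sup (conj_zp ?_) (conj_sup (conj_zp ?_) (conj_zp ?_)))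
  · rw [h2]; exact mul_mem bP (mul_mem aP (mul_mem cP cP))
  · rw [h1]; exact mul_mem bP (mul_mem bP (mul_mem aP cP))
  · rw [h3]; exact mul_mem cP cP
theorem pP : IsPGroup 3 P1 :=
  (isPGroup_zp b3).to_sup_of_normal_right' ((isPGroup_zp a3).to_sup_of_normal_right'
    (isPGroup_zp c3) n1) n2
theorem cC : P1 ≤ C{e 4} :=
  sup_le (zpowers_le.2 (mem_centralizer_singleton_iff.2 (mul_inv_eq_iff_eq_mul.1 bc)))
    (sup_le (zpowers_le.2 (mem_centralizer_singleton_iff.2 (mul_inv_eq_iff_eq_mul.1 ac)))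
      (zpowers_le.2 (mem_centralizer_singleton_iff.2 rfl)))

theorem nf : ∀ g ∈ P1, g ≠ 1 → ∃ w ∈ T.map (fun x => x.2.2), g = ev e w := fun g hg h1 => by
  obtain ⟨x, hx, y', hy', rfl⟩ := (mem_sup_of_norm' n2).1 hg
  obtain ⟨y, hy, z, hz, rfl⟩ := (mem_sup_of_norm' n1).1 hy'
  obtain ⟨j, hj, rfl⟩ := mem_zp (by decide) b3 hx
  obtain ⟨i, hi, rfl⟩ := mem_zp (by decide) a3 hy
  obtain ⟨k, hk, rfl⟩ := mem_zp (by decide) c3 hz
  have key : ∀ j i k : Fin 3, (j.1 = 0 ∧ i.1 = 0 ∧ k.1 = 0) ∨ List.replicate j.1 2 ++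
      (List.replicate i.1 0 ++ List.replicate k.1 4) ∈ T.map (fun x => x.2.2) := by
    decide
  rcases key ⟨j, hj⟩ ⟨i, hi⟩ ⟨k, hk⟩ with ⟨rfl, rfl, rfl⟩ | h
  · simp at h1
  · exact ⟨_, h, by simp only [ev_append, ev_replicate]⟩

theorem main : ∃ P : Sylow 3 S, (∃ a ∈ (P : Subgroup S), ∃ b ∈ (P : Subgroup S), a * b ≠ b * a) ∧
    Nat.card P = 27 ∧ Nat.card N[(P : Subgroup S)] = 216 ∧
    ∃ a b : S, orderOf a = 3 ∧ orderOf b = 3 ∧ ¬ IsConj a b ∧
      ∀ c : S, orderOf c = 3 → IsConj c a ∨ IsConj c b := by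
  have : Fact (Nat.Prime 3) := ⟨by norm_num⟩
  obtain ⟨P, hP⟩ := pP.exists_le_sylow
  have cS : Nat.card P = 27 := card_syl (k := 3) (m := 22400) card (by norm_num) P
  have h27 : 27 ≤ Nat.card (gen e [0, 2, 4]) :=
    le_card_gen_of_chain (k := 7) (ch := [(1, 4, 27, [])]) hn faithH (fun c _ => hρ c)
      (by decide +kernel)
  have eP : (P : Subgroup S) = P1 :=
    (eq_of_le_of_card_ge hP (cS ▸ h27.trans (card_le_of_le (gen_le.2 fun c hc => by
      simp only [List.mem_cons, List.not_mem_nil, or_false] at hc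
      rcases hc with rfl | rfl | rfl
      exacts [aP, bP, cP])))).symm
  have p0 : ∀ c ∈ [0, 2, 4, 8], ρH (e c) 0 = 0 := fun c hc => by
    rw [hρ]; exact fix_zero_of_chk (L := [0, 2, 4, 8]) hn (by decide +kernel) c hc
  have P0 : P1 ≤ stab ρH 0 := sup_le (zpowers_le.2 (p0 2 (by decide)))
    (sup_le (zpowers_le.2 (p0 0 (by decide))) (zpowers_le.2 (p0 4 (by decide))))
  have pq : ρH (e 4) 6 = 6 := by simpa using pt hn hρ (w := [4]) (by decide +kernel)
  have hb := bound (k := 7) (N := N[P1]) stabH_eq (q := 6) (m0 := 1) (m1 := 9) (m := 63)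
    (V0 := Nat.land (fx 100 7 nets [0]) (fx 100 7 nets [2])) (fun g hg => by
      have key : ∀ x ∈ P1, ρH x (ρH g 0) = ρH g 0 := fun x hx => by
        have := conj_fix (ρ := ρH) (n := g)
          (P0 ((mem_normalizer_iff.1 (inv_mem hg) x).1 hx))
        simpa [mul_assoc] using this
      rw [land_eq, Nat.testBit_and, (bit_fx hn (by decide) hρ).2 ⟨transH.lt g 0 (by decide),
        by simpa using key _ aP⟩, (bit_fx hn (by decide) hρ).2 ⟨transH.lt g 0 (by decide),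
        by simpa using key _ bP⟩]; rfl)
    (by decide +kernel)
    (mem_uni (k := 7) transH hn (by decide) hρ nf cP c1 (by decide) pq)
    (orbit_data (k := 7) (r := 8) hnU (fun c _ => ρH_eU c) (by decide +kernel)) (by decide +kernel)
    (g := e 8) (p0 8 (by decide))
    (by simpa using pt hn hρ (w := [8]) (by decide +kernel)) (fun h => by
      have h1 := (mem_normalizer_iff.1 h _).1 cP
      have h2 := ncomm hiv (hne (cw (ivOf ivl) [8, 4, 8] [4]) (by simp))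
      simp only [ev_cons, ev_nil, mul_one] at h2
      rw [← show e 8 = (e 8)⁻¹ from hiv 8] at h1
      exact h2 (by simpa [mul_assoc] using mem_centralizer_singleton_iff.1 (cC h1)))
  rw [← stabH_eq, card_stabH] at hb
  have dv : 216 ∣ Nat.card N[P1] := by
    refine Nat.Coprime.mul_dvd_of_dvd_of_dvd (m := 27) (n := 8) (by decide) ?_ ?_
    · rw [← cS, eP]; exact card_dvd_of_le le_normalizer
    · rw [show 8 = 2 ^ (2 + 1) from rfl, ← ord8]; exact (N[P1]).orderOf_dvd_natCard hN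
  obtain ⟨k, hk⟩ := dv
  have hm := norm_mod (b := 2800) P card (by decide) (eP ▸ hk)
  have cN : Nat.card N[P1] = 216 := by omega
  refine ⟨P, ⟨e 0, eP ▸ aP, e 2, eP ▸ bP, ?_⟩, cS, eP ▸ cN, e 0, e 4, orderOf_eq_prime a3 a1,
    orderOf_eq_prime c3 c1, fun h => ?_, fun c hc => ?_⟩
  · simpa using ncomm hiv (hne (cw (ivOf ivl) [0] [2]) (by simp))
  · obtain ⟨g, hg⟩ := isConj_iff.1 h.symm
    have h1 : (PG J2P.nl).subtype (e 4) 10 = 10 := by
      simpa using pt hn' hρ' (w := [4]) (by decide +kernel)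
    have h2 := conj_fix (n := g) h1
    rw [hg] at h2
    exact no_fix (k := 9) (W := [[0]]) hn' (by decide) hρ' (by decide +kernel) [0] (by simp) _
      (trans.lt g 10 (by decide)) (by simpa using h2)
  · obtain ⟨Q, hQ⟩ := (isPGroup_zp (hc ▸ pow_orderOf_eq_one c : c ^ 3 = 1)).exists_le_sylow
    obtain ⟨g, hg⟩ := MulAction.exists_smul_eq S Q P
    have h1 : g * c * g⁻¹ ∈ P1 := by
      rw [← eP, ← hg, Sylow.coe_subgroup_smul]
      exact ⟨c, hQ (mem_zpowers c), rfl⟩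
    obtain ⟨w, hw, e1⟩ := nf _ h1 (fun h => by
      rw [conj_eq_one_iff] at h; rw [h, orderOf_one] at hc; omega)
    obtain ⟨x, hx, rfl⟩ := List.mem_map.1 hw
    have h2 : IsConj c (ev e x.2.1) :=
      (isConj_iff.2 ⟨g, e1⟩).trans (isConj_iff.2 ⟨_, hT x hx⟩).symm
    rcases (by decide : ∀ x ∈ T, x.2.1 = [0] ∨ x.2.1 = [4]) x hx with h | h <;> rw [h] at h2
    · exact Or.inl (by simpa using h2)
    · exact Or.inr (by simpa using h2)

end H25.JS.P3
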