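import Mathlib
import Cfsg.Agent.H7.J2U
import Cfsg.Agent.H25.JSyl0

/-!
The Sylow 5-subgroups of the Hall–Janko group.
-/

set_option autoImplicit false
set_option maxRecDepth 100000
set_option linter.all false

open H29 H9 H9.MX H7 H7.JP H7.J2 Subgroup H24

namespace H25.JS.P5

def W : List (List ℕ) :=
  [[6, 7], [7, 6], [5, 10, 7, 10, 7, 10, 7, 10, 7, 10], [10, 7, 10, 7, 10, 7, 10, 7, 10, 5],
   [0, 1, 10, 7, 10, 6, 7, 10, 3], [3, 10, 7, 6, 10, 7, 10, 1, 0], [6], [8], [9]]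
def ivl : List ℕ := [1, 0, 3, 2, 5, 4, 6, 8, 7]
noncomputable abbrev e : ℕ → S := wE eS W
noncomputable abbrev nets : ℕ → Net := wNets (nth Net.nil J2P.nl) W
noncomputable abbrev ρ : S →* Equiv.Perm ℕ := (PG J2P.nl).subtype
theorem hn : NetsOK 315 nets := J2P.hn.wNets _
theorem hρ : ∀ c, ρ (e c) = sg nets c := map_wE (pe_rho _) _
theorem hiv : IvOK e (ivOf ivl) := ivOK_wE (by decide) (relS (by decide +kernel))
theorem hR : ∀ r ∈ [List.replicate 5 0, List.replicate 5 2, List.replicate 6 4, List.replicate 2 6],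
    ev e r = 1 := rels_wE (relS (by decide +kernel))
def T0 : List (List ℕ × List ℕ × List ℕ) :=
  [([0], [2], [2]), ([4], [0], [0, 0, 0, 2]), ([4], [2], [0, 0, 0, 2, 2, 2]), ([6], [0], [1]),
   ([6], [2], [2]), ([6], [4], [5])]
def T : List (List ℕ × List ℕ × List ℕ) :=
  [([], [2], [2]), ([], [2, 2], [2, 2]), ([], [2, 2, 2], [2, 2, 2]), ([], [2, 2, 2, 2], [2, 2, 2, 2]),
   ([], [0], [0]), ([4], [2, 2], [0, 2]), ([4], [0, 0], [0, 2, 2]), ([4, 4], [0, 0, 0], [0, 2, 2, 2]),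
   ([4, 4], [2, 2], [0, 2, 2, 2, 2]), ([], [0, 0], [0, 0]), ([4, 4], [0], [0, 0, 2]),
   ([4], [2, 2, 2, 2], [0, 0, 2, 2]), ([4, 4], [2, 2, 2, 2], [0, 0, 2, 2, 2]),
   ([4], [0, 0, 0, 0], [0, 0, 2, 2, 2, 2]), ([], [0, 0, 0], [0, 0, 0]), ([4], [0], [0, 0, 0, 2]),
   ([4, 4], [2], [0, 0, 0, 2, 2]), ([4], [2], [0, 0, 0, 2, 2, 2]),
   ([4, 4], [0, 0, 0, 0], [0, 0, 0, 2, 2, 2, 2]), ([], [0, 0, 0, 0], [0, 0, 0, 0]),
   ([4, 4], [2, 2, 2], [0, 0, 0, 0, 2]), ([4, 4], [0, 0], [0, 0, 0, 0, 2, 2]),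
   ([4], [0, 0, 0], [0, 0, 0, 0, 2, 2, 2]), ([4], [2, 2, 2], [0, 0, 0, 0, 2, 2, 2, 2])]
theorem hT0 : ∀ x ∈ T0, ev e x.1 * ev e x.2.1 * (ev e x.1)⁻¹ = ev e x.2.2 :=
  conj_tab hiv (rels_wE (relS (by decide +kernel)))
theorem hT : ∀ x ∈ T, ev e x.1 * ev e x.2.1 * (ev e x.1)⁻¹ = ev e x.2.2 :=
  conj_tab hiv (rels_wE (relS (by decide +kernel)))
theorem y5 : e 0 ^ 5 = 1 := by rw [← ev_replicate]; exact hR _ (by simp)
theorem w5 : e 2 ^ 5 = 1 := by rw [← ev_replicate]; exact hR _ (by simp)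
theorem r6 : e 4 ^ 6 = 1 := by rw [← ev_replicate]; exact hR _ (by simp)
theorem s2 : e 6 ^ 2 = 1 := by rw [← ev_replicate]; exact hR _ (by simp)
/-- the words of the dihedral group -/
def DW : List (List ℕ) :=
  [[4], [4, 4], [4, 4, 4], [4, 4, 4, 4], [4, 4, 4, 4, 4], [6], [6, 4], [6, 4, 4],
   [6, 4, 4, 4, 4], [6, 4, 4, 4, 4, 4]]
theorem hne : ∀ w ∈ [0] :: [2] :: cw (ivOf ivl) [7, 0, 8] [0] :: cw (ivOf ivl) [6, 4, 4, 4] [2] ::
    DW.map (fun w => cw (ivOf ivl) w [0]), ev e w ≠ 1 :=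
  ne_ones (k := 9) hn (by decide) hρ (by decide +kernel)
theorem y1 : e 0 ≠ 1 := by simpa using hne [0] (by simp)
theorem w1 : e 2 ≠ 1 := by simpa using hne [2] (by simp)
theorem hD : ∀ w ∈ DW, ev e w * e 0 ≠ e 0 * ev e w := fun w hw => by
  simpa using ncomm hiv (hne _ (List.mem_cons_of_mem _ (List.mem_cons_of_mem _
    (List.mem_cons_of_mem _ (List.mem_cons_of_mem _ (List.mem_map_of_mem hw))))))
theorem hD' : ev e [6, 4, 4, 4] * ev e [2] ≠ ev e [2] * ev e [6, 4, 4, 4] :=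
  ncomm hiv (hne _ (by simp))
theorem ord6 : orderOf (e 4) = 6 :=
  (orderOf_eq_iff (by decide)).2 ⟨r6, fun m hm h0 h =>
    hD _ ((by decide : ∀ m < 6, 0 < m → List.replicate m 4 ∈ DW) m hm h0)
      (by rw [ev_replicate, h]; simp)⟩
theorem yw : e 0 * e 2 * (e 0)⁻¹ = e 2 := by simpa using hT0 ([0], [2], [2]) (by decide)

/-- the Sylow subgroup -/
noncomputable def P1 : Subgroup S := zpowers (e 0) ⊔ zpowers (e 2)
theorem yP : e 0 ∈ P1 := mem_sup_left (mem_zpowers _)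
theorem wP : e 2 ∈ P1 := mem_sup_right (mem_zpowers _)
theorem n1 : zpowers (e 0) ≤ N[zpowers (e 2)] :=
  zpowers_le.2 (norm_of_conj (conj_zp (yw.symm ▸ mem_zpowers _)))
theorem rN : e 4 ∈ N[P1] := by
  have h1 := hT0 ([4], [0], [0, 0, 0, 2]) (by decide)
  have h2 := hT0 ([4], [2], [0, 0, 0, 2, 2, 2]) (by decide)
  simp only [ev_cons, ev_nil, mul_one] at h1 h2
  refine norm_of_conj (conj_sup (conj_zp ?_) (conj_zp ?_))
  · rw [h1]; exact mul_mem yP (mul_mem yP (mul_mem yP wP))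
  · rw [h2]; exact mul_mem yP (mul_mem yP (mul_mem yP (mul_mem wP (mul_mem wP wP))))
theorem sN : e 6 ∈ N[P1] := by
  have h1 := hT0 ([6], [0], [1]) (by decide)
  have h2 := hT0 ([6], [2], [2]) (by decide)
  simp only [ev_cons, ev_nil, mul_one, show e 1 = (e 0)⁻¹ from hiv 0] at h1 h2
  refine norm_of_conj (conj_sup (conj_zp ?_) (conj_zp ?_))
  · rw [h1]; exact inv_mem yP
  · rw [h2]; exact wP
theorem n2 : zpowers (e 6) ≤ N[zpowers (e 4)] := by
  have h1 := hT0 ([6], [4], [5]) (by decide)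
  simp only [ev_cons, ev_nil, mul_one, show e 5 = (e 4)⁻¹ from hiv 4] at h1
  exact zpowers_le.2 (norm_of_conj (conj_zp (h1 ▸ inv_mem (mem_zpowers _))))
theorem pP : IsPGroup 5 P1 := (isPGroup_zp y5).to_sup_of_normal_right' (isPGroup_zp w5) n1
theorem aP : Abl P1 := (abl_zpowers _).sup (abl_zpowers _) (zpowers_le.2 (by
  rintro _ ⟨k, rfl⟩
  exact (Commute.zpow_left (mul_inv_eq_iff_eq_mul.1 yw).symm k).eq))

theorem nf : ∀ g ∈ P1, g ≠ 1 → ∃ w ∈ T.map (fun x => x.2.2), g = ev e w := fun g hg h1 => by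
  obtain ⟨y, hy, z, hz, rfl⟩ := (mem_sup_of_norm' n1).1 hg
  obtain ⟨i, hi, rfl⟩ := mem_zp (by decide) y5 hy
  obtain ⟨k, hk, rfl⟩ := mem_zp (by decide) w5 hz
  have key : ∀ i < 5, ∀ k < 5, (i = 0 ∧ k = 0) ∨
      List.replicate i 0 ++ List.replicate k 2 ∈ T.map (fun x => x.2.2) := by
    decide
  rcases key i hi k hk with ⟨rfl, rfl⟩ | h
  · simp at h1
  · exact ⟨_, h, by simp only [ev_append, ev_replicate]⟩

theorem cardM' : Nat.card (gen eS colsM) = 1920 := by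
  have := J2.trans.card_eq
  rw [card, stab_eq] at this
  exact Nat.eq_of_mul_eq_mul_left (by decide : 0 < 315) this.symm

theorem main : ∃ P : Sylow 5 S, C[(P : Subgroup S)] = P ∧ Nat.card P = 25 ∧
    Nat.card N[(P : Subgroup S)] = 300 ∧ ∃ X Y : Subgroup S, Nat.card X = 5 ∧ Nat.card Y = 5 ∧
      (∀ g : S, X.map (MulAut.conj g).toMonoidHom ≠ Y) ∧ ∀ V : Subgroup S, Nat.card V = 5 →
        ∃ g : S, V.map (MulAut.conj g).toMonoidHom = X ∨ V.map (MulAut.conj g).toMonoidHom = Y := by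
  have : Fact (Nat.Prime 5) := ⟨by norm_num⟩
  obtain ⟨P, hP⟩ := pP.exists_le_sylow
  have cS : Nat.card P = 25 := card_syl (k := 2) (m := 24192) card (by norm_num) P
  have h25 : 25 ≤ Nat.card (gen e [0, 2]) :=
    le_card_gen_of_chain (k := 9) (ch := [(1, 4, 25, [])]) hn (PG_faithful J2P.hn)
      (fun c _ => hρ c) (by decide +kernel)
  have eP : (P : Subgroup S) = P1 :=
    (eq_of_le_of_card_ge hP (cS ▸ h25.trans (card_le_of_le (gen_le.2 fun c hc => by
      simp only [List.mem_cons, List.not_mem_nil, or_false] at hc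
      rcases hc with rfl | rfl
      exacts [yP, wP])))).symm
  have p0 : ρ (e 0) 0 = 0 := by simpa using pt hn hρ (w := [0]) (by decide +kernel)
  have pq : ρ (e 0) 73 = 73 := by simpa using pt hn hρ (w := [0]) (by decide +kernel)
  have hb := bound (k := 9) (N := N[P1]) stab_eq (q := 73) (m0 := 15) (m1 := 2) (m := 32)
    (mem_uni (k := 9) trans hn (by decide) hρ nf yP y1 (by decide) p0)
    (by decide +kernel)
    (mem_uni (k := 9) trans hn (by decide) hρ nf yP y1 (by decide) pq)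
    (orbit_data (k := 9) (r := 4) J2P.hn (fun c _ => pe_rho _ c) (by decide +kernel))
    (by decide +kernel)
    (g := e 7) (by simpa using pt hn hρ (w := [7]) (by decide +kernel))
    (by simpa using pt hn hρ (w := [7]) (by decide +kernel)) (fun h => by
      have h1 := (mem_normalizer_iff.1 h _).1 yP
      have h2 := ncomm hiv (hne (cw (ivOf ivl) [7, 0, 8] [0]) (by simp))
      simp only [ev_cons, ev_nil, mul_one] at h2
      rw [← show e 8 = (e 7)⁻¹ from hiv 7] at h1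
      exact h2 (by simpa [mul_assoc] using aP.comm h1 yP))
  rw [cardM'] at hb
  have dv : 150 ∣ Nat.card N[P1] := by
    refine Nat.Coprime.mul_dvd_of_dvd_of_dvd (m := 25) (n := 6) (by decide) ?_ ?_
    · rw [← cS, eP]; exact card_dvd_of_le le_normalizer
    · rw [← ord6]; exact (N[P1]).orderOf_dvd_natCard rN
  obtain ⟨k, hk⟩ := dv
  have hm := norm_mod (b := 4032) P card (by decide) (eP ▸ hk)
  have cN : Nat.card N[P1] = 300 := by omega
  have oy : Nat.card (zpowers (e 0)) = 5 := by rw [Nat.card_zpowers, orderOf_eq_prime y5 y1]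
  have ow : Nat.card (zpowers (e 2)) = 5 := by rw [Nat.card_zpowers, orderOf_eq_prime w5 w1]
  refine ⟨P, ?_, cS, eP ▸ cN, zpowers (e 2), zpowers (e 0), ow, oy, fun g h => ?_, fun V hV => ?_⟩
  · rw [eP]
    have h12 : 12 ≤ Nat.card (gen e [4, 6]) :=
      le_card_gen_of_chain (k := 9) (ch := [(3, 6, 12, [])]) hn (PG_faithful J2P.hn)
        (fun c _ => hρ c) (by decide +kernel)
    have h12' : 12 ≤ Nat.card ↥(zpowers (e 6) ⊔ zpowers (e 4)) :=
      h12.trans (card_le_of_le (gen_le.2 fun c hc => by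
        simp only [List.mem_cons, List.not_mem_nil, or_false] at hc
        rcases hc with rfl | rfl
        exacts [mem_sup_right (mem_zpowers _), mem_sup_left (mem_zpowers _)]))
    have h1 := card_mul_le (sup_le (zpowers_le.2 sN) (zpowers_le.2 rN)) (C_le_N P1)
      (disjoint_def.2 fun {x} hx hc => by
        obtain ⟨y, hy, z, hz, rfl⟩ := (mem_sup_of_norm' n2).1 hx
        obtain ⟨i, hi, rfl⟩ := mem_zp (by decide) s2 hy
        obtain ⟨k, hk, rfl⟩ := mem_zp (by decide) r6 hz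
        have key : ∀ i < 2, ∀ k < 6, (i = 0 ∧ k = 0) ∨ (i = 1 ∧ k = 3) ∨
            List.replicate i 6 ++ List.replicate k 4 ∈ DW := by decide
        rcases key i hi k hk with ⟨rfl, rfl⟩ | ⟨rfl, rfl⟩ | h
        · simp
        · refine absurd ?_ hD'
          simpa [pow_succ, mul_assoc] using (hc _ wP).symm
        · refine absurd ?_ (hD _ h)
          simp only [ev_append, ev_replicate]
          exact (hc _ yP).symm)
    rw [cN] at h1
    refine (eq_of_le_of_card_ge aP.le_C ?_).symm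
    rw [← eP, cS, eP]
    nlinarith
  · obtain ⟨x, hx, e1⟩ : e 0 ∈ (zpowers (e 2)).map (MulAut.conj g).toMonoidHom :=
      h ▸ mem_zpowers _
    obtain ⟨i, hi, rfl⟩ := mem_zp (by decide) w5 hx
    have h2 := conj_fix (n := g⁻¹) p0
    rw [← e1, show g⁻¹ * (MulAut.conj g).toMonoidHom (e 2 ^ i) * g⁻¹⁻¹ = e 2 ^ i by
      simp [mul_assoc]] at h2
    rcases Nat.eq_zero_or_pos i with rfl | h0
    · exact y1 (by simpa using e1.symm)
    · refine no_fix (k := 9) (W := [[2], [2, 2], [2, 2, 2], [2, 2, 2, 2]]) hn (by decide) hρ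
        (by decide +kernel) _ ((by decide : ∀ i < 5, 0 < i →
          List.replicate i 2 ∈ [[2], [2, 2], [2, 2, 2], [2, 2, 2, 2]]) i hi h0) _
        (trans.lt g⁻¹ 0 (by decide)) (by rw [ev_replicate]; exact h2)
  · obtain ⟨Q, hQ⟩ := (IsPGroup.of_card (p := 5) (n := 1) hV).exists_le_sylow
    obtain ⟨g, hg⟩ := MulAction.exists_smul_eq S Q P
    obtain ⟨c, hc, hc1⟩ : ∃ c ∈ V, c ≠ 1 := (V.bot_or_exists_ne_one).resolve_left fun h => by
      rw [h, card_bot] at hV; omega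
    have h1 : g * c * g⁻¹ ∈ P1 := by
      rw [← eP, ← hg, Sylow.coe_subgroup_smul]
      exact ⟨c, hQ hc, rfl⟩
    obtain ⟨w, hw, e1⟩ := nf _ h1 (by simpa using hc1)
    obtain ⟨x, hx, rfl⟩ := List.mem_map.1 hw
    have h2 : ev e x.2.1 ∈ V.map (MulAut.conj ((ev e x.1)⁻¹ * g)).toMonoidHom :=
      ⟨c, hc, by
        change (ev e x.1)⁻¹ * g * c * ((ev e x.1)⁻¹ * g)⁻¹ = _
        rw [show (ev e x.1)⁻¹ * g * c * ((ev e x.1)⁻¹ * g)⁻¹ =
          (ev e x.1)⁻¹ * (g * c * g⁻¹) * ev e x.1 by group, e1, ← hT x hx]; group⟩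
    have h3 : ev e x.2.1 ≠ 1 := fun h => hc1 (by
      rw [← hT x hx, h] at e1; simpa using e1)
    have h4 := (card_map (MulAut.conj ((ev e x.1)⁻¹ * g)) V).trans hV
    refine ⟨(ev e x.1)⁻¹ * g, ?_⟩
    obtain ⟨i, -, h | h⟩ := (by decide : ∀ x ∈ T, ∃ i < 5,
      x.2.1 = List.replicate i 2 ∨ x.2.1 = List.replicate i 0) x hx
    · exact Or.inl (eq_of_prime h4 ow h3 h2 (by rw [h, ev_replicate]; exact pow_mem (mem_zpowers _) i))
    · exact Or.inr (eq_of_prime h4 oy h3 h2 (by rw [h, ev_replicate]; exact pow_mem (mem_zpowers _) i))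

end H25.JS.P5
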