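import Mathlib
import Cfsg.Agent.H7.J2U
import Cfsg.Agent.H25.JSyl0

/-!
The Sylow 7-subgroups of the Hall–Janko group.
-/

set_option autoImplicit false
set_option maxRecDepth 100000
set_option linter.all false

open H29 H9 H9.MX H7 H7.JP H7.J2 Subgroup H24

namespace H25.JS.P7

def W : List (List ℕ) :=
  [[4, 7, 10, 7, 6], [6, 7, 10, 7, 4], [1, 2, 8, 10, 7, 10, 7, 10], [10, 7, 10, 7, 10, 9, 2, 1], [0]]
def ivl : List ℕ := [1, 0, 3, 2, 4]
noncomputable abbrev e : ℕ → S := wE eS W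
noncomputable abbrev nets : ℕ → Net := wNets nH W
theorem hn : NetsOK 100 nets := J2H.hn.wNets _
theorem hρ : ∀ c, ρH (e c) = sg nets c := ρH_wE (by decide)
theorem hiv : IvOK e (ivOf ivl) := ivOK_wE (by decide) (relS (by decide +kernel))
theorem hR : ∀ r ∈ [List.replicate 7 0, List.replicate 6 2, [2, 0, 3, 1, 1, 1]], ev e r = 1 :=
  rels_wE (relS (by decide +kernel))
theorem d7 : e 0 ^ 7 = 1 := by rw [← ev_replicate]; exact hR _ (by simp)
theorem h6 : e 2 ^ 6 = 1 := by rw [← ev_replicate]; exact hR _ (by simp)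
theorem hd : e 2 * e 0 * (e 2)⁻¹ = e 0 ^ 3 := by
  have := hR [2, 0, 3, 1, 1, 1] (by simp)
  simp only [ev_cons, ev_nil, show e 3 = (e 2)⁻¹ from hiv 2, show e 1 = (e 0)⁻¹ from hiv 0] at this
  rw [← mul_inv_eq_one, ← this]; group
theorem hne : ∀ w ∈ [0] :: cw (ivOf ivl) [4, 0, 4] [0] ::
    (List.range 5).map (fun i => cw (ivOf ivl) (List.replicate (i + 1) 2) [0]), ev e w ≠ 1 :=
  ne_ones (k := 7) hn (by decide) hρ (by decide +kernel)
theorem d1 : e 0 ≠ 1 := by simpa using hne [0] (by simp)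
theorem hC (i : ℕ) (h0 : 0 < i) (h : i < 6) : e 2 ^ i * e 0 ≠ e 0 * e 2 ^ i := by
  obtain ⟨j, rfl⟩ : ∃ j, i = j + 1 := ⟨i - 1, by omega⟩
  have := ncomm hiv (hne _ (List.mem_cons_of_mem _ (List.mem_cons_of_mem _
    (List.mem_map_of_mem (a := j) (List.mem_range.2 (by omega))))))
  simpa [ev_replicate] using this
theorem ord : orderOf (e 0) = 7 := orderOf_eq_prime d7 d1
theorem ord6 : orderOf (e 2) = 6 :=
  (orderOf_eq_iff (by decide)).2 ⟨h6, fun m hm h0 h => hC m h0 hm (by rw [h]; simp)⟩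

theorem nf : ∀ g ∈ zpowers (e 0), g ≠ 1 →
    ∃ w ∈ (List.range 6).map (fun i => List.replicate (i + 1) 0), g = ev e w := fun g hg h1 => by
  obtain ⟨i, hi, rfl⟩ := mem_zp (by decide) d7 hg
  obtain ⟨j, rfl⟩ : ∃ j, i = j + 1 := ⟨i - 1, by
    rcases Nat.eq_zero_or_pos i with rfl | h
    · simp at h1
    · omega⟩
  exact ⟨_, List.mem_map_of_mem (a := j) (List.mem_range.2 (by omega)), (ev_replicate _ _ _).symm⟩

theorem main : ∃ P : Sylow 7 S, C[(P : Subgroup S)] = P ∧ Nat.card N[(P : Subgroup S)] = 42 ∧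
    ¬ Abl N[(P : Subgroup S)] := by
  have : Fact (Nat.Prime 7) := ⟨by norm_num⟩
  obtain ⟨P, hP⟩ := (isPGroup_zp d7).exists_le_sylow
  have cP : Nat.card P = 7 := card_syl (k := 1) (m := 86400) card (by norm_num) P
  have eP : (P : Subgroup S) = zpowers (e 0) :=
    (eq_of_le_of_card_ge hP (by rw [cP, Nat.card_zpowers, ord])).symm
  have hN : e 2 ∈ N[zpowers (e 0)] := norm_of_conj (conj_zp (hd ▸ pow_mem (mem_zpowers _) 3))
  have p0 : ρH (e 0) 0 = 0 := by simpa using pt hn hρ (w := [0]) (by decide +kernel)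
  have pq : ρH (e 0) 23 = 23 := by simpa using pt hn hρ (w := [0]) (by decide +kernel)
  have hb := bound (k := 7) (N := N[zpowers (e 0)]) stabH_eq (q := 23) (m0 := 2) (m1 := 1) (m := 36)
    (mem_uni (k := 7) transH hn (by decide) hρ nf (mem_zpowers _) d1 (by decide) p0)
    (by decide +kernel)
    (mem_uni (k := 7) transH hn (by decide) hρ nf (mem_zpowers _) d1 (by decide) pq)
    (orbit_data (k := 7) (r := 8) hnU (fun c _ => ρH_eU c) (by decide +kernel)) (by decide +kernel)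
    (g := e 4) (by simpa using pt hn hρ (w := [4]) (by decide +kernel))
    (by simpa using pt hn hρ (w := [4]) (by decide +kernel)) (fun h => by
      have h1 := (mem_normalizer_iff.1 h _).1 (mem_zpowers (e 0))
      have h2 := ncomm hiv (hne _ (List.mem_cons_of_mem _ List.mem_cons_self))
      simp only [ev_cons, ev_nil, mul_one] at h2
      rw [← show e 4 = (e 4)⁻¹ from hiv 4] at h1
      exact h2 (by simpa [mul_assoc] using (abl_zpowers (e 0)).comm h1 (mem_zpowers _)))
  rw [← stabH_eq, card_stabH] at hb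
  have dv : 42 ∣ Nat.card N[zpowers (e 0)] := by
    refine Nat.Coprime.mul_dvd_of_dvd_of_dvd (m := 7) (n := 6) (by decide) ?_ ?_
    · rw [← ord]; exact (N[zpowers (e 0)]).orderOf_dvd_natCard (le_normalizer (mem_zpowers _))
    · rw [← ord6]; exact (N[zpowers (e 0)]).orderOf_dvd_natCard hN
  obtain ⟨k, hk⟩ := dv
  have hm := norm_mod (b := 14400) P card (by decide) (eP ▸ hk)
  have cN : Nat.card N[zpowers (e 0)] = 42 := by omega
  refine ⟨P, ?_, eP ▸ cN, fun h => ?_⟩
  · rw [eP]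
    have h1 := card_mul_le (zpowers_le.2 hN) (C_le_N (zpowers (e 0))) (disjoint_def.2 fun {x} hx hc => by
      obtain ⟨i, hi, rfl⟩ := mem_zp (by decide) h6 hx
      rcases Nat.eq_zero_or_pos i with rfl | h
      · simp
      · exact absurd (hc _ (mem_zpowers _)).symm (hC i h hi))
    rw [Nat.card_zpowers, ord6, cN] at h1
    exact (eq_of_le_of_card_ge (abl_zpowers _).le_C (by rw [Nat.card_zpowers, ord]; omega)).symm
  · rw [eP] at h
    exact hC 1 (by decide) (by decide) (by simpa using h.comm hN (le_normalizer (mem_zpowers _)))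

end H25.JS.P7
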