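import Mathlib
import Cfsg.Agent.H25.LBal
import Cfsg.Agent.S1314
import Cfsg.Agent.S0205

/-!
# Pump-ups of components of centralizers of involutions
-/

set_option autoImplicit false
set_option linter.unusedSectionVars false

open Cfsg Subgroup H23
open scoped commutatorElement

namespace H25.LB

variable {G : Type*} [Group G] [Finite G] {p : ℕ} [hp : Fact p.Prime]

theorem commutatorElement_mul_mul {a b a' b' : G} (c1 : Commute a b) (c2 : Commute a' b)
    (c3 : Commute a b') (c4 : Commute a' b') : ⁅a * b, a' * b'⁆ = ⁅a, a'⁆ * ⁅b, b'⁆ := by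
  simp only [commutatorElement_def, mul_inv_rev]
  have d1 : Commute (b * b' * b⁻¹ * b'⁻¹) (a⁻¹ * a'⁻¹) :=
    ((((c1.symm.mul_left c3.symm).mul_left c1.symm.inv_left).mul_left
      c3.symm.inv_left).inv_right).mul_right
    ((((c2.symm.mul_left c4.symm).mul_left c2.symm.inv_left).mul_left c4.symm.inv_left).inv_right)
  calc a * b * (a' * b') * (b⁻¹ * a⁻¹) * (b'⁻¹ * a'⁻¹)
      = a * (b * a') * b' * b⁻¹ * (a⁻¹ * b'⁻¹) * a'⁻¹ := by group
    _ = a * (a' * b) * b' * b⁻¹ * (b'⁻¹ * a⁻¹) * a'⁻¹ := by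
      rw [← c2.eq, c3.inv_left.inv_right.eq]
    _ = a * a' * ((b * b' * b⁻¹ * b'⁻¹) * (a⁻¹ * a'⁻¹)) := by group
    _ = _ := by rw [d1.eq]; group

theorem commutator_le_inf_centralizer_sup {L A : Subgroup G} {e : G}
    (hL : L ≤ A ⊔ centralizer (A : Set G)) (hLe : L ≤ centralizer {e})
    (he : e ∈ normalizer (A : Set G)) :
    ⁅L, L⁆ ≤ (A ⊓ centralizer {e}) ⊔ centralizer (A : Set G) := by
  have key : ∀ l ∈ L, ∃ a ∈ A, ∃ b ∈ centralizer (A : Set G), ∃ z ∈ centralizer (A : Set G),
      l = a * b ∧ e * a * e⁻¹ = a * z ∧ z ∈ A := by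
    intro l hl
    obtain ⟨a, ha, b, hb, rfl⟩ := mem_sup_of_le_normalizer_left
      (centralizer_le_normalizer (A : Set G)) (hL hl)
    have h1 : a * b * e = e * (a * b) := mem_centralizer_singleton_iff.mp (hLe hl)
    refine ⟨a, ha, b, hb, b * (e * b⁻¹ * e⁻¹), mul_mem hb ((mem_normalizer_iff.mp
      (normalizer_le_normalizer_centralizer A he) _).mp (inv_mem hb)), rfl, ?_, ?_⟩
    · calc e * a * e⁻¹ = (e * (a * b)) * (b⁻¹ * e⁻¹) := by group
        _ = _ := by rw [← h1]; group
    · have : b * (e * b⁻¹ * e⁻¹) = a⁻¹ * (e * a * e⁻¹) := by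
        calc b * (e * b⁻¹ * e⁻¹) = a⁻¹ * ((a * b * e) * (b⁻¹ * e⁻¹)) := by group
          _ = _ := by rw [h1]; group
      rw [this]
      exact mul_mem (inv_mem ha) ((mem_normalizer_iff.mp he _).mp ha)
  rw [commutator_le]
  intro l hl l' hl'
  obtain ⟨a, ha, b, hb, z, hz, rfl, h1, hzA⟩ := key l hl
  obtain ⟨a', ha', b', hb', z', hz', rfl, h1', hzA'⟩ := key l' hl'
  rw [commutatorElement_mul_mul (hb a ha) (hb a' ha') (hb' a ha) (hb' a' ha')]
  refine mul_mem_sup ⟨?_, ?_⟩ ?_
  · exact (commutator_le_left_of le_normalizer) (commutator_mem_commutator ha ha')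
  · change _ ∈ centralizer _
    have d5 : Commute z z' := hz' z hzA
    have : e * ⁅a, a'⁆ * e⁻¹ = ⁅a, a'⁆ := by
      rw [conjugate_commutatorElement, h1, h1',
        commutatorElement_mul_mul (hz a ha) (hz a' ha') (hz' a ha) (hz' a' ha'),
        commutatorElement_eq_one_iff_commute.mpr d5, mul_one]
    rw [mem_centralizer_singleton_iff]
    exact (mul_inv_eq_iff_eq_mul.mp this).symm
  · exact (commutator_le_left_of le_normalizer) (commutator_mem_commutator hb hb')

theorem pump_aux {L A : Subgroup G} {e : G} (hL : IsPCompOf p L (centralizer {e}))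
    (hLA : L ≤ A ⊔ centralizer (A : Set G)) (he : e ∈ normalizer (A : Set G)) :
    L ≤ A ∨ ⁅L, A⁆ = ⊥ := by
  set Y := A ⊓ centralizer {e} with hY
  set B := centralizer (A : Set G) with hB
  have h1 : L ≤ Y ⊔ B := hL.perfect.ge.trans (commutator_le_inf_centralizer_sup hLA hL.1 he)
  have hLAn : L ≤ normalizer (A : Set G) :=
    hLA.trans (sup_le le_normalizer (centralizer_le_normalizer _))
  have hLY : L ≤ normalizer (Y : Set G) := le_normalizer_inf hLAn (le_normalizer_of_le hL.1)
  have hL' : IsPCompOf p L (L ⊔ Y) := hL.of_le le_sup_left (sup_le hL.1 inf_le_right)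
  rcases pcomp_le_or_comm_le hL' le_sup_right
    (isSubnormal_subgroupOf_of_le_normalizer (sup_le hLY le_normalizer)) with h | h
  · exact Or.inl (h.trans inf_le_left)
  right
  have hc : ⁅L, Y⁆ ≤ A := (commutator_le_right_of hLY).trans inf_le_left
  have hAB : A ≤ normalizer (B : Set G) := le_normalizer_centralizer le_normalizer
  have h2 : L ≤ cmod L (B ⊔ ⁅L, Y⁆) := by
    refine h1.trans (sup_le (le_cmod le_sup_right ?_) (le_cmod (le_sup_of_le_left ?_) ?_))
    · exact le_normalizer_sup (inf_le_left.trans hAB) (normalizer_commutator_ge_right _ _)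
    · exact commutator_le_right_of (le_normalizer_centralizer hLAn)
    · exact le_normalizer_sup le_normalizer
        ((centralizer_le hc).trans (centralizer_le_normalizer _))
  exact comm_bot_of_le_centralizer (le_of_pGen_of_le_sup_cop (hc.trans hAB)
    (cop_of_le (opp_cop p _) h) (pcomp_pGen_eq hL) (hL.perfect.ge.trans (comm_le_of_le_cmod h2)))

theorem layer_le_sup_centralizer {A : Subgroup G} (h : layer G ≤ normalizer (A : Set G)) :
    layer G ≤ A ⊔ centralizer (A : Set G) :=
  layer_le fun _ hL => (IsComponent.le_or_comm_of_le_normalizer hL ((le_layer hL).trans h)).elim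
    le_sup_of_le_left fun h1 => le_sup_of_le_right (le_centralizer_of_comm_bot h1)

theorem pcomp_map_of_cop_ker {G' : Type*} [Group G'] {f : G →* G'}
    (hk : (Nat.card f.ker).Coprime p) {K H : Subgroup G} (hK : IsPCompOf p K H) :
    IsPCompOf p (K.map f) (H.map f) := by
  refine ⟨map_mono hK.1, ?_⟩
  have h1 := IsPComponent.map_of_cop_ker (f.subgroupMap_surjective H)
    (by rw [ker_subgroupMap]; exact cop_subgroupOf hk H) hK.2
  convert h1 using 1
  ext ⟨y, hy⟩
  constructor
  · rintro ⟨k, hk, rfl⟩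
    exact ⟨⟨k, hK.1 hk⟩, hk, rfl⟩
  · rintro ⟨k, hk, e⟩
    exact ⟨k, hk, congrArg Subtype.val e⟩

/-- a 2-component of `C(e)` lies in, or centralizes modulo the core, any `e`-invariant subgroup
normalized by the 2-layer. -/
theorem pump_top {L A : Subgroup G} {e : G} (he2 : e ^ 2 = 1)
    (hL : IsPCompOf 2 L (centralizer {e})) (he : e ∈ normalizer (A : Set G))
    (hA : pLayer 2 G ≤ normalizer (A : Set G)) :
    L ≤ A ⊔ pPrimeCore 2 G ∨ ⁅L, A⁆ ≤ pPrimeCore 2 G := by
  haveI : Fact (Nat.Prime 2) := ⟨Nat.prime_two⟩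
  set f := piO 2 G with hf
  have h1 := pcomp_map_of_cop_ker (cop_ker_piO 2 G) hL
  rw [map_centralizer_singleton_of_cop_ker (piO_surj 2 G) (cop_ker_piO 2 G)
    (isPGroup_zpowers_of_pow he2)] at h1
  have h2 : L.map f ≤ layer (G ⧸ pPrimeCore 2 G) := by
    rw [← map_pLayer_piO]
    refine map_mono (hL.le_play.trans ?_)
    rw [← centralizer_zpowers]
    exact l_balance (isPGroup_zpowers_of_pow he2)
  have h3 : layer (G ⧸ pPrimeCore 2 G) ≤ normalizer ((A.map f : Subgroup _) : Set _) := by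
    rw [← map_pLayer_piO]; exact map_le_normalizer_map hA f
  have h4 : f e ∈ normalizer ((A.map f : Subgroup _) : Set _) :=
    map_le_normalizer_map (le_refl (normalizer (A : Set G))) f ⟨e, he, rfl⟩
  rcases pump_aux h1 (h2.trans (layer_le_sup_centralizer h3)) h4 with h | h
  · left
    rwa [map_le_iff_le_comap, comap_map_piO] at h
  · right
    rwa [← comm_le_ker_iff, ker_piO] at h

theorem map_subtype_centralizer_singleton {X : Subgroup G} (e : X) :
    (centralizer ({e} : Set X)).map X.subtype = X ⊓ centralizer {(e : G)} := by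
  rw [← comap_centralizer_singleton_of_injective X.subtype_injective e]
  exact (subgroupOf_map_subtype _ _).trans (inf_comm _ _)

theorem pcomp_subgroupOf {L C X : Subgroup G} (hL : IsPCompOf p L C) (hC : C ≤ X) :
    IsPCompOf p (L.subgroupOf X) (C.subgroupOf X) := by
  refine ⟨comap_mono hL.1, ?_⟩
  refine IsPComponent.of_map_injective (f := (subgroupOfEquivOfLe hC : C.subgroupOf X →* C))
    (subgroupOfEquivOfLe hC).injective ?_
  rw [← subgroupOf_subgroupOf_eq hC]
  exact hL.2

theorem pump_rel {X L M : Subgroup G} {e : G} (heX : e ∈ X) (he2 : e ^ 2 = 1)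
    (hL : IsPCompOf 2 L (X ⊓ centralizer {e})) (hM : IsPCompOf 2 M X)
    (he : e ∈ normalizer (M : Set G)) : L ≤ M ∨ ⁅L, M⁆ ≤ opp 2 X := by
  haveI : Fact (Nat.Prime 2) := ⟨Nat.prime_two⟩
  have h1 := pcomp_subgroupOf hL (inf_le_left : _ ≤ X)
  have h2 : (X ⊓ centralizer {e}).subgroupOf X = centralizer {(⟨e, heX⟩ : X)} := by
    rw [inf_subgroupOf_left]
    exact comap_centralizer_singleton_of_injective X.subtype_injective ⟨e, heX⟩
  rw [h2] at h1
  have hLX : L ≤ X := hL.1.trans inf_le_left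
  rcases pump_top (e := (⟨e, heX⟩ : X)) (A := M.subgroupOf X) (Subtype.ext he2) h1
    (comap_le_normalizer_comap (le_refl (normalizer (M : Set G))) X.subtype he)
    (pLayer_le_normalizer_pcomp hM.2) with h | h
  · left
    have := map_mono (f := X.subtype) h
    rw [Subgroup.map_sup, map_subgroupOf_eq_of_le hLX, map_subgroupOf_eq_of_le hM.1] at this
    exact le_of_pGen_of_le_sup_cop (opp_le_normalizer_pcomp hM) (opp_cop 2 X)
      (pcomp_pGen_eq hL) this
  · right
    rw [← map_subgroupOf_comm hLX hM.1]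
    exact map_mono h

/-! ### components -/

theorem two_dvd_card_of_quasisimple {K : Subgroup G} (hK : IsQuasisimple K) : 2 ∣ Nat.card K := by
  by_contra h
  exact IsQuasisimple.not_isSolvable hK
    (Cfsg.Agent.S0205.result (Nat.odd_iff.mpr (Nat.two_dvd_ne_zero.mp h)))

theorem exists_diag {D : Subgroup G} {t : G} (ht : orderOf t = 2) (hD : IsQuasisimple D)
    (hc : ⁅D, D.map (MulAut.conj t).toMonoidHom⁆ = ⊥) :
    ∃ π : D →* G, (∀ d : D, π d = (d : G) * (t * d * t⁻¹)) ∧
      IsCompOf π.range ((D ⊔ D.map (MulAut.conj t).toMonoidHom) ⊓ centralizer {t}) ∧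
      ∀ K, K ≤ (D ⊔ D.map (MulAut.conj t).toMonoidHom) ⊓ centralizer {t} → ⁅K, K⁆ = K →
        K ≤ π.range := by
  obtain ⟨π, h1, h2, h3, h4⟩ := Cfsg.Agent.S1314.result t ht D (IsQuasisimple.perfect hD) hc
  refine ⟨π, h1, ⟨?_, ?_, ?_⟩, fun K hK hp => ?_⟩
  · rw [← h4]; exact commutator_le_left_of le_normalizer
  · apply isSubnormal_subgroupOf_of_le_normalizer
    rw [← h4]; exact normalizer_commutator_ge_left _ _
  · have hle : π.range ≤ (D ⊔ D.map (MulAut.conj t).toMonoidHom) ⊓ centralizer {t} := by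
      rw [← h4]; exact commutator_le_left_of le_normalizer
    rw [isQuasisimple_subgroupOf_iff hle, MonoidHom.range_eq_map]
    refine IsQuasisimple.map (isQuasisimple_top_iff.mpr hD) π fun h => ?_
    rw [Subgroup.map_eq_bot_iff] at h
    apply IsQuasisimple.comm_ne_bot hD
    rw [comm_bot_iff]
    intro a ha b hb
    exact congrArg Subtype.val (mem_center_iff.mp (h2 (h (mem_top (⟨b, hb⟩ : D)))) ⟨a, ha⟩)
  · rw [← h4, ← hp]; exact commutator_mono hK hK

theorem conj_conj_of_order_two {D : Subgroup G} {t : G} (ht : orderOf t = 2) :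
    (D.map (MulAut.conj t).toMonoidHom).map (MulAut.conj t).toMonoidHom = D := by
  rw [← map_conj_mul, ← pow_two, ← ht, pow_orderOf_eq_one, map_conj_one]

theorem mem_normalizer_sup_conj {D : Subgroup G} {t : G} (ht : orderOf t = 2) :
    t ∈ normalizer ((D ⊔ D.map (MulAut.conj t).toMonoidHom : Subgroup G) : Set G) := by
  rw [mem_normalizer_iff_map_conj, Subgroup.map_sup, conj_conj_of_order_two ht, sup_comm]

/-- the pump-up trichotomy, with the diagonal made explicit. -/
theorem trichotomy (hL2 : pLayer 2 G = layer G) {t : G} (ht : orderOf t = 2) {L : Subgroup G}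
    (hL : IsCompOf L (centralizer {t})) :
    ∃ D : Subgroup G, IsComponent D ∧ ⁅L, D⁆ ≠ ⊥ ∧ (L = D ∨ (L < D ∧ D = ⁅D, zpowers t⁆) ∨
      (D.map (MulAut.conj t).toMonoidHom ≠ D ∧
        L = lay ((D ⊔ D.map (MulAut.conj t).toMonoidHom) ⊓ centralizer {t}) ∧
        ∃ π : D →* G, (∀ d : D, π d = (d : G) * (t * d * t⁻¹)) ∧ L = π.range)) := by
  haveI : Fact (Nat.Prime 2) := ⟨Nat.prime_two⟩
  have ht2 : t ^ 2 = 1 := by rw [← ht]; exact pow_orderOf_eq_one t
  have hL' : IsPCompOf 2 L (centralizer {t}) :=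
    hL.isPCompOf (two_dvd_card_of_quasisimple hL.quasisimple)
  have hLE : L ≤ layer G := by
    rw [← hL2]
    refine hL'.le_play.trans ?_
    rw [← centralizer_zpowers]
    exact l_balance (isPGroup_zpowers_of_pow ht2)
  obtain ⟨D, hD, hne⟩ : ∃ D : Subgroup G, IsComponent D ∧ ⁅L, D⁆ ≠ ⊥ := by
    by_contra h
    push Not at h
    exact IsQuasisimple.comm_ne_bot hL.quasisimple (comm_bot_mono
      (layer_comm fun D hD => comm_bot_symm (h D hD)) hLE le_rfl)
  refine ⟨D, hD, hne, ?_⟩
  have hDt := IsComponent.conj hD t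
  have hA : L ≤ D ⊔ D.map (MulAut.conj t).toMonoidHom := by
    refine (pump_aux hL' (hLE.trans (layer_le_sup_centralizer (le_normalizer_sup
      (layer_le_normalizer_of_isSubnormal hD.1) (layer_le_normalizer_of_isSubnormal hDt.1))))
      (mem_normalizer_sup_conj ht)).resolve_right fun h => hne (comm_bot_mono h le_rfl le_sup_left)
  by_cases hn : D.map (MulAut.conj t).toMonoidHom = D
  · rw [hn, sup_idem] at hA
    by_cases h1 : ⁅D, zpowers t⁆ = D
    · by_cases h2 : L = D
      · exact Or.inl h2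
      · exact Or.inr (Or.inl ⟨lt_of_le_of_ne hA h2, h1.symm⟩)
    · left
      have h2 := comm_eq_bot_of_comm_zpowers_ne hD.2 (mem_normalizer_iff_map_conj.mpr hn) h1
      have h3 : D ≤ centralizer {t} := by
        rw [← centralizer_zpowers]; exact le_centralizer_of_comm_bot h2
      exact (hL.eq_or_comm (IsComponent.isCompOf hD h3)).resolve_right hne
  · right; right
    have hc := (IsComponent.eq_or_comm hD hDt).resolve_left (Ne.symm hn)
    obtain ⟨π, h1, h2, h3⟩ := exists_diag ht hD.2 hc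
    have hL1 := hL.of_le (le_inf hA hL.1) inf_le_right
    have key : ∀ K, IsCompOf K ((D ⊔ D.map (MulAut.conj t).toMonoidHom) ⊓ centralizer {t}) →
        K = π.range := fun K hK => (hK.eq_or_comm h2).resolve_right fun h =>
      IsQuasisimple.not_le_of_comm hK.quasisimple h
        (h3 K hK.1 (IsQuasisimple.perfect hK.quasisimple))
    refine ⟨hn, le_antisymm hL1.le_lay (lay_le_of fun K hK => ?_), π, h1, key L hL1⟩
    rw [key K hK, key L hL1]

end H25.LB
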