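import Mathlib
import Cfsg.Agent.H24.Base5
import Cfsg.Agent.H13.CyclicMax

/-!
# Nilpotent groups whose normal abelian subgroups are cyclic: characteristic complements
-/

set_option autoImplicit false
set_option linter.unusedVariables false

namespace H25.KSN

open _root_.Cfsg _root_.H24 Subgroup

universe u

theorem two_case {T : Type u} [Group T] [Finite T] (hT : IsPGroup 2 T)
    (hn : ∀ A : Subgroup T, A.Normal → IsMulCommutative A → IsCyclic A) {s t : T}
    (hs : s * s = 1) (hst : s * t ≠ t * s) :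
    ∃ x : T, (∀ y y' : T, y ∉ zpowers x → y' ∉ zpowers x → y * y' ∈ zpowers x) ∧ x ^ 4 ≠ 1 ∧
      ∀ y : T, y ∉ zpowers x → y * x ^ 2 * y⁻¹ = (x ^ 2)⁻¹ := by
  haveI : Fact (Nat.Prime 2) := ⟨Nat.prime_two⟩
  have hnc : ¬ IsCyclic T := fun h => hst (by
    letI := h.commGroup
    exact mul_comm s t)
  obtain ⟨-, ⟨n, ⟨e⟩⟩ | ⟨n, hn8, ⟨e⟩⟩ | ⟨n, h3, hc, x, y, hx, hy, hxy⟩⟩ :=
    H13.cyclic_normal_abelian 2 hT hn hnc
  · exfalso
    have n0 : n ≠ 0 := by
      rintro rfl
      haveI : Finite (QuaternionGroup 0) := Finite.of_equiv _ e.toEquiv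
      have : Function.Injective (QuaternionGroup.a : ZMod (2 * 0) → QuaternionGroup 0) :=
        fun i j h => by injection h
      haveI : Finite (ZMod (2 * 0)) := Finite.of_injective _ this
      exact not_finite (ZMod 0)
    haveI : NeZero n := ⟨n0⟩
    apply hst
    apply e.injective
    have h1 : e s * e s = 1 := by rw [← map_mul, hs, map_one]
    rw [map_mul, map_mul]
    generalize e s = a at h1
    generalize e t = b
    rcases a with i | i
    · have h2 : i + i = 0 := by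
        rw [QuaternionGroup.a_mul_a, QuaternionGroup.one_def] at h1
        injection h1
      rcases b with j | j
      · simp [add_comm]
      · rw [QuaternionGroup.a_mul_xa, QuaternionGroup.xa_mul_a]
        congr 1
        linear_combination -h2
    · exfalso
      have := QuaternionGroup.orderOf_xa i
      have h4 : orderOf (QuaternionGroup.xa i) ∣ 2 :=
        orderOf_dvd_of_pow_eq_one (by rw [pow_two, h1])
      rw [this] at h4
      omega
  · haveI : NeZero n := ⟨by omega⟩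
    have hr : ∀ i : ZMod n, DihedralGroup.r i ∈ zpowers (DihedralGroup.r (1 : ZMod n)) := fun i =>
      ⟨(i.val : ℤ), by simp⟩
    have key : ∀ y : T, y ∉ zpowers (e.symm (DihedralGroup.r 1)) → ∃ j, e y = DihedralGroup.sr j := by
      intro y hy
      rcases h : e y with j | j
      · exfalso
        obtain ⟨m, hm⟩ := hr j
        exact hy ⟨m, by
          apply e.injective
          simp only [map_zpow, MulEquiv.apply_symm_apply]
          rw [h]; exact hm⟩
      · exact ⟨j, rfl⟩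
    refine ⟨e.symm (DihedralGroup.r 1), fun y y' hy hy' => ?_, ?_, fun y hy => ?_⟩
    · obtain ⟨j, hj⟩ := key y hy
      obtain ⟨j', hj'⟩ := key y' hy'
      obtain ⟨m, hm⟩ := hr (j' - j)
      exact ⟨m, by
        apply e.injective
        simp only [map_zpow, MulEquiv.apply_symm_apply, map_mul, hj, hj', DihedralGroup.sr_mul_sr]
        exact hm⟩
    · intro h
      have := orderOf_dvd_of_pow_eq_one h
      rw [MulEquiv.orderOf_eq, DihedralGroup.orderOf_r_one] at this
      have := Nat.le_of_dvd (by norm_num) this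
      omega
    · obtain ⟨j, hj⟩ := key y hy
      apply e.injective
      simp only [map_mul, map_inv, map_pow, MulEquiv.apply_symm_apply, hj]
      simp [pow_two]
  · have hx0 : 0 < orderOf x := orderOf_pos x
    have hi : (zpowers x).index = 2 := by
      have := (zpowers x).card_mul_index
      rw [Nat.card_zpowers, hx, hc, pow_succ] at this
      exact Nat.eq_of_mul_eq_mul_left (by positivity) this
    obtain ⟨m, rfl⟩ : ∃ m, n = m + 3 := ⟨n - 3, by omega⟩
    have e1 : m + 3 - 1 = m + 2 := by omega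
    rw [e1] at hxy
    have h1 : 1 ≤ 2 ^ m := Nat.one_le_two_pow
    have y2 : y * x ^ 2 * y⁻¹ = (x ^ 2)⁻¹ := by
      rw [← conj_pow, hxy, eq_inv_iff_mul_eq_one, ← pow_mul, ← pow_add, ← pow_orderOf_eq_one x, hx]
      congr 1
      rw [pow_add, pow_add]
      omega
    have x4 : x ^ 4 ≠ 1 := fun h => by
      have := Nat.le_of_dvd (by norm_num) (orderOf_dvd_of_pow_eq_one h)
      rw [hx, pow_add] at this
      omega
    have hy' : y ∉ zpowers x := by
      rintro ⟨k, rfl⟩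
      apply x4
      have : x ^ k * x ^ 2 * (x ^ k)⁻¹ = x ^ 2 := by group
      simp only at y2
      rw [this, eq_inv_iff_mul_eq_one, ← pow_add] at y2
      exact y2
    have mul2 : ∀ y y' : T, y ∉ zpowers x → y' ∉ zpowers x → y * y' ∈ zpowers x :=
      fun a b ha hb => by
        rw [mul_mem_iff_of_index_two hi]
        tauto
    refine ⟨x, mul2, x4, fun a ha => ?_⟩
    obtain ⟨k, hk⟩ := mul2 y⁻¹ a (by rwa [inv_mem_iff]) ha
    have : a = y * x ^ k := by simp only at hk; rw [hk]; group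
    rw [this, ← y2]
    group

variable {G : Type u} [Group G] [Finite G] {U H : Subgroup G}

theorem pcore_hyp (hU : Nil U) (cyc : ∀ A ≤ U, U ≤ N[A] → Abl A → Cyc A) (p : ℕ)
    (A : Subgroup O[{p}, U]) (hA : A.Normal) (ha : IsMulCommutative A) : IsCyclic A := by
  have d := hU.pcoreC {p}
  have h1 : A.map (O[{p}, U]).subtype ≤ O[{p}, U] := map_subtype_le _
  have h2 : U ≤ N[A.map (O[{p}, U]).subtype] := by
    refine d.sup.ge.trans (sup_le (le_N_iff.2 ?_) (norm_of_cent (d.cent.trans (C_anti h1))))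
    rintro a ha _ ⟨x, hx, rfl⟩
    exact ⟨_, hA.conj_mem x hx ⟨a, ha⟩, rfl⟩
  exact (cyc_map_iff (subtype_injective _)).1 (cyc _ (h1.trans d.left_le) h2 (Abl.map ha _))

theorem odd_central (hU : Nil U) (cyc : ∀ A ≤ U, U ≤ N[A] → Abl A → Cyc A) :
    O[{2}ᶜ, U] ≤ C[U] := by
  have d2 := hU.pcoreC {2}
  refine (hU.of_le d2.right_le).le_of_pcore_le fun p hp hd => ?_
  haveI : Fact p.Prime := ⟨hp⟩
  have p2 : p ≠ 2 := (pcore_pi {2}ᶜ U) p hp hd
  have d := hU.pcoreC {p}
  have hc : Cyc O[{p}, U] := by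
    by_contra hnc
    exact p2 (H13.cyclic_normal_abelian p ((pcore_pi {p} U).isPGroup hp)
      (pcore_hyp hU cyc p) hnc).1
  refine (hU.pcore_mono {p} d2.right_le).trans ?_
  conv_rhs => rw [← d.sup, C_sup]
  exact le_inf hc.abl.le_C (cents_symm d.cent)

/-- a core-free subgroup has a characteristic complement -/
theorem nil_compl (hU : Nil U) (hH : H ≤ U) (cyc : ∀ A ≤ U, U ≤ N[A] → Abl A → Cyc A)
    (core : ∀ X ≤ H, U ≤ N[X] → X = ⊥) :
    ∃ U0 ≤ U, N[U] ≤ N[U0] ∧ U0 ⊔ H = U ∧ U0 ⊓ H = ⊥ := by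
  by_cases h0 : H = ⊥
  · exact ⟨U, le_rfl, le_rfl, by rw [h0, sup_bot_eq], by rw [h0, inf_bot_eq]⟩
  have oc := odd_central hU cyc
  have d := hU.pcoreC {2}
  have nc : ∀ h ∈ H, h ∈ C[U] → h = 1 := fun h hh hc => by
    have := core (zpowers h) (zpowers_le.2 hh) (norm_zpowers_of_cent (mem_C_iff_le_C1.1 hc))
    exact zpowers_eq_bot.1 this
  have HT : H ≤ O[{2}, U] := fun h hh => by
    obtain ⟨y, z, hy, hz, y1, z1, e⟩ := exists_piElt_decomp {2} h
    have hzH : z ∈ H := zpowers_le.2 hh z1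
    rw [e, nc z hzH (oc (hU.mem_pcore hz (hH hzH))), mul_one]
    exact hU.mem_pcore hy (hH (zpowers_le.2 hh y1))
  obtain ⟨s, hsH, hs⟩ := exists_orderOf_eq Nat.prime_two (((pcore_pi {2} U).of_le HT).dvd_card h0)
  have s1 : s ≠ 1 := by rintro rfl; simp at hs
  have s2 : s * s = 1 := by rw [← pow_two, ← hs, pow_orderOf_eq_one]
  obtain ⟨t, ht, hst⟩ : ∃ t ∈ O[{2}, U], s * t ≠ t * s := by
    by_contra hcon
    push Not at hcon
    refine s1 (nc s hsH ?_)
    rw [← d.sup, C_sup]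
    exact mem_inf.2 ⟨mem_C'.2 hcon, cents_symm d.cent (HT hsH)⟩
  obtain ⟨⟨x, hx⟩, m2, x4, inv⟩ := two_case ((pcore_pi {2} U).isPGroup Nat.prime_two)
    (pcore_hyp hU cyc 2) (s := ⟨s, HT hsH⟩) (t := ⟨t, ht⟩) (Subtype.ext s2)
    (fun e => hst (congrArg Subtype.val e))
  have zp : ∀ y : O[{2}, U], y ∈ zpowers (⟨x, hx⟩ : O[{2}, U]) ↔ (y : G) ∈ zpowers x := fun y =>
    ⟨fun ⟨k, e⟩ => ⟨k, by simpa using congrArg Subtype.val e⟩,
      fun ⟨k, e⟩ => ⟨k, Subtype.ext (by simpa using e)⟩⟩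
  have m2' : ∀ y ∈ O[{2}, U], ∀ y' ∈ O[{2}, U], y ∉ zpowers x → y' ∉ zpowers x →
      y * y' ∈ zpowers x := fun y hy y' hy' a b =>
    (zp _).1 (m2 ⟨y, hy⟩ ⟨y', hy'⟩ (fun c => a ((zp _).1 c)) (fun c => b ((zp _).1 c)))
  have x4' : x ^ 4 ≠ 1 := fun e => x4 (Subtype.ext (by simpa using e))
  have inv' : ∀ y ∈ O[{2}, U], y ∉ zpowers x → y * x ^ 2 * y⁻¹ = (x ^ 2)⁻¹ := fun y hy a => by
    simpa using congrArg Subtype.val (inv ⟨y, hy⟩ (fun c => a ((zp _).1 c)))
  have dec : ∀ g ∈ U, ∃ a ∈ O[{2}, U], ∃ o ∈ O[{2}ᶜ, U], g = a * o := fun g hg =>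
    (mem_sup_of_norm (norm_of_cent d.cent)).1 (by rw [d.sup]; exact hg)
  set U0 := U ⊓ C[closure {y | ∃ g ∈ U, y = g * g}] with hU0
  have sqU : closure {y | ∃ g ∈ U, y = g * g} ≤ U := by
    rw [closure_le]; rintro _ ⟨g, hg, rfl⟩; exact mul_mem hg hg
  have oU : O[{2}ᶜ, U] ≤ U0 := le_inf d.right_le (oc.trans (C_anti sqU))
  have xU : zpowers x ≤ U0 := by
    refine le_inf (zpowers_le.2 (d.left_le hx)) (cents_symm ?_)
    rw [closure_le]
    rintro _ ⟨g, hg, rfl⟩
    obtain ⟨a, ha, o, ho, rfl⟩ := dec g hg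
    have h1 : a * a ∈ zpowers x := by
      by_cases c : a ∈ zpowers x
      · exact mul_mem c c
      · exact m2' a ha a ha c c
    have e : a * o * (a * o) = a * a * (o * o) := by
      have := mem_C'.1 (oc ho) a (d.left_le ha)
      calc a * o * (a * o) = a * (o * a) * o := by group
        _ = _ := by rw [this]; group
    rw [e]
    exact mul_mem ((abl_zpowers x).le_C h1)
      (C_anti (zpowers_le.2 (d.left_le hx)) (oc (mul_mem ho ho)))
  have U0x : ∀ y ∈ U0, y ∈ O[{2}, U] → y ∈ zpowers x := fun y hy hyT => by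
    by_contra c
    have h1 := mem_C'.1 hy.2 (x ^ 2) (subset_closure ⟨x, d.left_le hx, pow_two x⟩)
    have h2 := inv' y hyT c
    rw [h1, mul_inv_cancel_right, eq_inv_iff_mul_eq_one, ← pow_add] at h2
    exact x4' h2
  have nx : ∀ a ∈ O[{2}, U], a * x * a⁻¹ ∈ zpowers x := fun a ha => by
    by_cases c : a ∈ zpowers x
    · exact mul_mem (mul_mem c (mem_zpowers x)) (inv_mem c)
    · exact m2' _ (mul_mem ha hx) _ (inv_mem ha)
        (fun e => c ((mul_mem_cancel_right (mem_zpowers x)).1 e)) (by rwa [inv_mem_iff])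
  have bot : U0 ⊓ H = ⊥ := by
    refine core _ inf_le_right (le_N_iff.2 fun g hg y hy => ?_)
    obtain ⟨a, ha, o, ho, rfl⟩ := dec g hg
    obtain ⟨i, rfl⟩ := U0x y hy.1 (HT hy.2)
    obtain ⟨j, hj⟩ := nx a ha
    simp only at hj hy ⊢
    have e1 := mem_C'.1 (oc ho) (x ^ i) hy.1.1
    have e : a * o * x ^ i * (a * o)⁻¹ = (x ^ i) ^ j := by
      calc a * o * x ^ i * (a * o)⁻¹ = a * (o * x ^ i) * o⁻¹ * a⁻¹ := by group
        _ = a * x ^ i * a⁻¹ := by rw [e1]; group
        _ = (a * x * a⁻¹) ^ i := by rw [conj_zpow]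
        _ = _ := by rw [← hj]; group
    rw [e]
    exact zpow_mem hy j
  refine ⟨U0, inf_le_left, norm_inf le_rfl (norm_C (norm_closure ?_)),
    le_antisymm (sup_le inf_le_left hH) fun g hg => ?_, bot⟩
  · rintro a ha _ ⟨g, hg, rfl⟩
    exact subset_closure ⟨a * g * a⁻¹, conj_mem ha hg, by group⟩
  · obtain ⟨a, ha, o, ho, rfl⟩ := dec g hg
    refine mul_mem ?_ (mem_sup_left (oU ho))
    by_cases c : a ∈ zpowers x
    · exact mem_sup_left (xU c)
    · have sx : s ∉ zpowers x := fun e => s1 (mem_bot.1 (bot ▸ mem_inf.2 ⟨xU e, hsH⟩))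
      have : a = a * s * s := by rw [mul_assoc, s2, mul_one]
      rw [this]
      exact mul_mem (mem_sup_left (xU (m2' a ha s (HT hsH) c sx))) (mem_sup_right hsH)

end H25.KSN
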