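import Mathlib
import Cfsg.Agent.H8.PC2
import Cfsg.Agent.H26.S01a
import Cfsg.Agent.H26.B71C
import Cfsg.Agent.H6.RankThree
import Cfsg.Agent.H21.OddInv
import Cfsg.Agent.S0217
import Cfsg.Agent.H6.CentEA

/-!
# General tools: characters of order two, class sizes, signalizers, abelian Sylow subgroups
-/

set_option autoImplicit false
set_option linter.unusedSectionVars false

open Cfsg H24 H26 H26.Gold Subgroup
open scoped commutatorElement

namespace H25.Tw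

universe u

variable {G : Type u} [Group G] [Finite G] {A B H K L M P Q S V W X : Subgroup G} {a b g x y : G}

/-- `κ` is the kernel of a homomorphism from `H` to a group of order two. -/
def Ch (H : Subgroup G) (κ : G → Prop) : Prop := ∀ a ∈ H, ∀ b ∈ H, κ (a * b) ↔ (κ a ↔ κ b)

variable {κ μ : G → Prop}

theorem Ch.one (h : Ch H κ) : κ 1 := by
  have := h 1 (one_mem H) 1 (one_mem H)
  rw [mul_one] at this
  tauto

theorem Ch.inv (h : Ch H κ) (ha : a ∈ H) : κ a⁻¹ ↔ κ a := by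
  have := h a⁻¹ (inv_mem ha) a ha
  rw [inv_mul_cancel] at this
  exact this.1 h.one

theorem Ch.conj (h : Ch H κ) (hg : g ∈ H) (ha : a ∈ H) : κ (g * a * g⁻¹) ↔ κ a := by
  rw [h _ (mul_mem hg ha) _ (inv_mem hg), h _ hg _ ha, h.inv hg]
  tauto

theorem Ch.iff (h : Ch H κ) (h' : Ch H μ) : Ch H fun g => κ g ↔ μ g := fun a ha b hb => by
  simp only [h a ha b hb, h' a ha b hb]
  tauto

/-- the kernel as a subgroup. -/
def Ch.sub (h : Ch H κ) : Subgroup G where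
  carrier := {g | g ∈ H ∧ κ g}
  one_mem' := ⟨one_mem H, h.one⟩
  mul_mem' ha hb := ⟨mul_mem ha.1 hb.1, (h _ ha.1 _ hb.1).2 (iff_of_true ha.2 hb.2)⟩
  inv_mem' ha := ⟨inv_mem ha.1, (h.inv ha.1).2 ha.2⟩

theorem Ch.mem (h : Ch H κ) : g ∈ h.sub ↔ g ∈ H ∧ κ g := Iff.rfl

theorem Ch.nml (h : Ch H κ) : h.sub ⊴ H :=
  ⟨fun _ hg => hg.1, le_N_iff.2 fun _ hg _ ha =>
    ⟨mul_mem (mul_mem hg ha.1) (inv_mem hg), (h.conj hg ha.1).2 ha.2⟩⟩

theorem Ch.le_sup (h : Ch H κ) (hx : x ∈ H) (h1 : ¬ κ x) : H ≤ h.sub ⊔ zpowers x := fun g hg => by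
  by_cases h2 : κ g
  · exact mem_sup_left ⟨hg, h2⟩
  · have : g = g * x * x⁻¹ := by group
    rw [this]
    exact mul_mem (mem_sup_left ⟨mul_mem hg hx, (h _ hg _ hx).2 (iff_of_false h2 h1)⟩)
      (mem_sup_right (inv_mem (mem_zpowers x)))

/-- Thompson's transfer lemma inside a subgroup. -/
theorem tt (hP : Syl 2 H P) (hQ : Q ≤ P) (hi : Q.relIndex P = 2) (hx : x ∈ H) (h2 : x * x = 1)
    (h : ∀ g ∈ H, g * x * g⁻¹ ∉ Q) : ∃ κ : G → Prop, Ch H κ ∧ ¬ κ x := by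
  have h1 : (Q.subgroupOf H).index = 2 * P.relIndex H := by
    rw [← hi]; exact (relIndex_mul_relIndex Q P H hQ hP.le).symm
  obtain ⟨K, hK, hxK⟩ := H6.thompson_transfer (Nat.not_even_iff_odd.1 fun e =>
    hP.not_dvd Nat.prime_two e.two_dvd) h1 (x := ⟨x, hx⟩) (Subtype.ext h2) fun g hg => h g g.2 hg
  refine ⟨fun g => ∃ hg : g ∈ H, (⟨g, hg⟩ : H) ∈ K, fun a ha b hb => ?_, fun ⟨_, e⟩ => hxK e⟩
  have := mul_mem_iff_of_index_two hK (a := ⟨a, ha⟩) (b := ⟨b, hb⟩)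
  simpa [ha, hb, mul_mem ha hb] using this

theorem tt_simple [IsSimpleGroup G] (hP : Syl 2 ⊤ P) (hna : ¬ Abl P) (hQ : Q ≤ P) (hi : Q.relIndex P = 2)
    (h2 : x * x = 1) : ∃ g : G, g * x * g⁻¹ ∈ Q := by
  by_contra h
  push Not at h
  obtain ⟨κ, hκ, hx⟩ := tt hP hQ hi (mem_top x) h2 fun g _ => h g
  rcases (nml_top_iff.1 hκ.nml).eq_bot_or_eq_top with e | e
  · have := hκ.le_sup (mem_top x) hx
    rw [e, bot_sup_eq] at this
    exact hna ((abl_zpowers x).of_le (le_top.trans this))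
  · exact hx (hκ.mem.1 (e.ge (mem_top x))).2

/-- the class of `x` under `X`. -/
def cls (X : Subgroup G) (x : G) : Set G := {y | ∃ g ∈ X, y = g * x * g⁻¹}

theorem cls_card (X : Subgroup G) (x : G) : (cls X x).ncard * ♯(X ⊓ C{x}) = ♯X := by
  have e : cls X x = MulAction.orbit (X.map (ConjAct.toConjAct (G := G)).toMonoidHom) x := by
    ext y
    constructor
    · rintro ⟨g, hg, rfl⟩
      exact ⟨⟨ConjAct.toConjAct g, g, hg, rfl⟩, ConjAct.toConjAct_smul g x⟩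
    · rintro ⟨⟨_, g, hg, rfl⟩, rfl⟩
      exact ⟨g, hg, ConjAct.toConjAct_smul g x⟩
  have e2 : ♯(X ⊓ C{x}) = Nat.card (MulAction.stabilizer (X.map (ConjAct.toConjAct (G := G)).toMonoidHom) x) := by
    refine Nat.card_congr ⟨fun g => ⟨⟨ConjAct.toConjAct g.1, g.1, g.2.1, rfl⟩, ?_⟩,
      fun g => ⟨ConjAct.ofConjAct g.1.1, ?_, ?_⟩, fun _ => rfl, fun _ => rfl⟩
    · exact (ConjAct.toConjAct_smul g.1 x).trans (mem_C1_iff_conj.1 g.2.2)
    · obtain ⟨k, hk, e⟩ := g.1.2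
      rw [← e]; exact hk
    · exact mem_C1_iff_conj.2 ((ConjAct.smul_def _ _).symm.trans g.2)
  rw [e, e2, ← MulAction.index_stabilizer, index_mul_card,
    card_map_of_injective (ConjAct.toConjAct (G := G)).injective]

theorem card_pairs {R : G → G → Prop} {D : Set G} {k : ℕ} (h1 : ∀ a b, R a b → a ∈ D)
    (h2 : ∀ a ∈ D, {b | R a b}.ncard = k) : Nat.card {p : G × G // R p.1 p.2} = D.ncard * k := by
  have e : {p : G × G // R p.1 p.2} ≃ Σ a : D, {b | R a b} :=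
    ⟨fun p => ⟨⟨p.1.1, h1 _ _ p.2⟩, p.1.2, p.2⟩, fun q => ⟨(q.1.1, q.2.1), q.2.2⟩, fun _ => rfl, fun _ => rfl⟩
  have := Fintype.ofFinite D
  rw [Nat.card_congr e, Nat.card_sigma, Finset.sum_congr rfl fun (a : D) _ =>
    (Nat.card_coe_set_eq _).trans (h2 a a.2), Finset.sum_const, Finset.card_univ, smul_eq_mul,
    ← Nat.card_eq_fintype_card, Nat.card_coe_set_eq]

theorem not_cyc (hV : EA V) (h4 : 4 ≤ ♯V) : ¬ Cyc V := fun h => by
  obtain ⟨x, hx, e⟩ := h.exists_gen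
  rw [← e, card_zpowers'] at h4
  have : orderOf x ∣ 2 := orderOf_dvd_of_pow_eq_one (by rw [pow_two, hV.sq hx])
  have := Nat.le_of_dvd two_pos this
  omega

/-- the closure of the signalizer functor of odd cores. -/
theorem sigW (hA : EA A) (h8 : 8 ≤ ♯A)
    (bal : ∀ a ∈ A, a ≠ 1 → ∀ b ∈ A, b ≠ 1 → Od[C{a}] ⊓ C{b} ≤ Od[C{b}]) :
    ∃ W : Subgroup G, OddG W ∧ (∀ a ∈ A, a ≠ 1 → Od[C{a}] ≤ W) ∧ ∀ V ≤ A, 4 ≤ ♯V → N[V] ≤ N[W] := by
  have : Fact (Nat.Prime 2) := ⟨Nat.prime_two⟩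
  have hn : ∀ a ∈ A, A ≤ N[Od[C{a}]] := fun a ha =>
    norm_pcore _ (norm_C1 fun b hb => mem_C1.2 (hA.comm hb ha))
  obtain ⟨h1, h2⟩ := Cfsg.Agent.S0217.result (p := 2) A (fun a ha b hb => hA.comm ha hb)
    (fun a ha => by rw [pow_two, hA.sq ha]) h8 (fun a => Od[C{a}]) (fun a _ _ => pcore_le _ _)
    (fun a _ _ => (piNat_compl_singleton Nat.prime_two).1 (Od_odd _))
    (fun a ha _ b hb x hx => conj_mem (hn a ha hb) hx) (fun a _ _ => Od_sol _) bal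
  have hW : OddG (⨆ a : {a : G // a ∈ A ∧ a ≠ 1}, Od[C{(a : G)}]) :=
    (piNat_compl_singleton Nat.prime_two).2 h1
  have hl : ∀ a ∈ A, a ≠ 1 → Od[C{a}] ≤ ⨆ a : {a : G // a ∈ A ∧ a ≠ 1}, Od[C{(a : G)}] :=
    fun a ha a1 => le_iSup (fun a : {a : G // a ∈ A ∧ a ≠ 1} => Od[C{(a : G)}]) ⟨a, ha, a1⟩
  refine ⟨_, hW, hl, fun V hV h4 n hn' => mem_N_of_cj_le (cj_le_iff.2 ?_)⟩
  have hV' := hA.of_le hV
  refine coprime_abelian_gen_cent1 hV'.abl (not_cyc hV' h4)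
    (hV.trans (norm_iSup fun a => hn a a.2.1)) (cop hW hV'.two) fun a ha a1 => ?_
  rw [h2 a (hV ha) a1, ← cj_le_iff, ← pcore_cj, cj_C1]
  exact hl _ (hV (conj_mem hn' ha)) (by rwa [Ne, conj_eq_one_iff'])

theorem se_of (hS : Syl 2 ⊤ S) (hM : S ≤ M) (h1 : M ≠ ⊤) (h2 : S ≠ ⊥)
    (h : ∀ b ∈ S, b ≠ 1 → b * b = 1 → ∀ k : G, k * b * k⁻¹ ∈ S → k ∈ M) : IsStronglyEmbedded M := by
  obtain ⟨z, hz, z1, z2⟩ := TwoG.exists_inv hS.pi h2
  refine H6.isStronglyEmbedded_iff.2 ⟨h1, H21.even_card_of_invol (hM hz) z1 z2, fun g t ht o hg => ?_⟩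
  have t2 := H6.mul_self_of_orderOf_two o
  have hS' := hS.of_le hM le_top
  obtain ⟨m, hm, e⟩ := Sylow_Jsub Nat.prime_two hS' (twoE_of_sq t2).isPi (zpowers_le.2 ht)
  obtain ⟨m', hm', e'⟩ := Sylow_Jsub Nat.prime_two hS' ((twoE_of_sq t2).conj g).isPi (zpowers_le.2 hg)
  have := h _ (e (conj_mem_cj m (mem_zpowers t))) (by
    rw [Ne, conj_eq_one_iff']; exact H6.ne_one_of_orderOf_two o) (conj_sq t2 m) (m' * g * m⁻¹) (by
    have := e' (conj_mem_cj m' (mem_zpowers _))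
    convert this using 1; group)
  exact (mul_mem_cancel_left hm').1 ((mul_mem_cancel_right (inv_mem hm)).1 this)

/-- elementary abelian Sylow subgroup with a semiregular automizer and two classes. -/
theorem lemN (hB : Syl 2 ⊤ B) (hE : EA B) (h8 : 8 ≤ ♯B) (hN : ∀ b ∈ B, b ≠ 1 → N[B] ⊓ C{b} ≤ C[B])
    (ha : a ∈ B) (a1 : a ≠ 1) (hb : b ∈ B) (b1 : b ≠ 1) (hab : ∀ g, g * a * g⁻¹ ≠ b) :
    ⊤ ≤ Od[(⊤ : Subgroup G)] ⊔ N[B] := by
  have hC : ∀ b ∈ B, B ≤ C{b} := fun b hb c hc => mem_C1.2 (hE.comm hc hb)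
  have hsd : ∀ b ∈ B, b ≠ 1 → SD Od[C{b}] B C{b} := fun b hb b1 =>
    Burnside_normal_complement Nat.prime_two (hB.of_le (hC b hb) le_top)
      ((inf_comm _ _).le.trans (hN b hb b1))
  obtain ⟨W, hW, h1, h2⟩ := sigW hE h8 fun a _ _ b hb b1 =>
    ((hsd b hb b1).hall_left (Od_odd _) (by simpa using hE.two)).le_pcore
      ((Od_odd _).of_le inf_le_left) inf_le_right
  have key : ∀ M : Subgroup G, W ≤ M → N[B] ≤ M → M = ⊤ := fun M hWM hM => by
    by_contra hne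
    obtain ⟨P, rfl⟩ := hB.exists_sylow_top Nat.prime_two
    have : Fact (Nat.Prime 2) := ⟨Nat.prime_two⟩
    obtain ⟨g, hg⟩ := H26.BR.conj_of_se (se_of hB ((norm_self _).trans hM) hne (ne_bot_of_mem ha a1)
      fun c hc c1 _ k hk => by
        obtain ⟨w, hw, e⟩ := H3.abelian_sylow_controls P hE.abl c hc k hk
        have : w⁻¹ * k ∈ C{c} := mem_C1_iff_conj.2 (by
          rw [mul_inv_rev, inv_inv, mul_assoc w⁻¹, mul_assoc w⁻¹, ← mul_assoc _ k⁻¹, ← e]; group)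
        rw [← (hsd c hc c1).isProd.sup_eq] at this
        exact (mul_mem_cancel_left (inv_mem (hM hw))).1
          (sup_le ((h1 c hc c1).trans hWM) ((norm_self _).trans hM) this))
      (orderOf_eq_prime (by rw [pow_two, hE.sq ha]) a1) (orderOf_eq_prime (by rw [pow_two, hE.sq hb]) b1)
    exact hab g hg
  have := key _ (norm_self W) (h2 B le_rfl (by omega))
  exact (key _ ((pcore_max hW ⟨le_top, this.ge⟩).trans le_sup_left) le_sup_right).ge

/-- a self-centralizing four-group. -/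
theorem four_card (hV : Syl 2 L V) (hE : EA V) (h4 : ♯V = 4) (hC : ∀ v ∈ V, v ≠ 1 → L ⊓ C{v} ≤ V) :
    L ≤ N[V] ∨ ♯L = 60 := by
  refine or_iff_not_imp_left.2 fun hn => ?_
  obtain ⟨T, rfl⟩ := hV.exists_sylow Nat.prime_two
  have hc : Nat.card (T : Subgroup L) = 4 := by
    rw [← h4, card_map_of_injective L.subtype_injective]
  have h1 : ¬ IsCyclic (T : Subgroup L) := fun h => not_cyc hE h4.ge (Cyc.map h _)
  have h2 : ¬ (T : Subgroup L).Normal := fun h => hn (nml_map_subtype _).2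
  have h3 : ∀ t : L, orderOf t = 2 → IsMulCommutative (centralizer ({t} : Set L)) ∧
      ∀ c ∈ centralizer ({t} : Set L), c ^ 2 = 1 := fun t ht => by
    have t2 := H6.mul_self_of_orderOf_two ht
    obtain ⟨g, -, e⟩ := Sylow_Jsub Nat.prime_two (syl_top_of_sylow Nat.prime_two T)
      (twoE_of_sq t2).isPi le_top
    have : EA C{t} := ea_of_sq fun c hc => by
      have h5 := hE.sq (hC (g * t * g⁻¹ : L) ⟨_, e (conj_mem_cj g (mem_zpowers t)), rfl⟩ (fun e =>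
        H6.ne_one_of_orderOf_two ht (conj_eq_one_iff'.1 (Subtype.ext e)))
        (show ((g * c * g⁻¹ : L) : G) ∈ L ⊓ C{((g * t * g⁻¹ : L) : G)} from ⟨Subtype.mem _, mem_C1.2 (by
          have := congrArg (fun x : L => ((g * x * g⁻¹ : L) : G)) (mem_C1.1 hc)
          simp only [coe_mul, coe_inv] at this ⊢
          simpa [mul_assoc] using this)⟩))
      have h6 : g * (c * c) * g⁻¹ = 1 := Subtype.ext (by simpa [mul_assoc] using h5)
      exact conj_eq_one_iff'.1 h6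
    exact ⟨this.abl, fun c hc => by rw [pow_two, this.sq hc]⟩
  have h5 := H6.cea_card_quotient T h1 h3 h2
  have : Nontrivial (L ⧸ normalizer ((T : Subgroup L) : Set L)) :=
    Finite.one_lt_card_iff_nontrivial.1 (by omega)
  obtain ⟨y, hy⟩ := exists_ne ((1 : L) : L ⧸ normalizer ((T : Subgroup L) : Set L))
  obtain ⟨w, hw, e, -⟩ := (H6.cea_of_sylow T h1 h3 h2).exists_swap hy.symm
  have h6 := (H6.cea_inf_spec T h1 h3 h2 w hw fun h => hy (e ▸ H26.BR.fix_one.2 h)).2.1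
  rw [← (normalizer ((T : Subgroup L) : Set L)).index_mul_card, index, h5, h6]
  exact (show Nat.card T = 4 from hc) ▸ rfl

end H25.Tw
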