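import Mathlib
import Cfsg.Agent.H25.TwG
import Cfsg.Agent.H7.SyG
import Cfsg.Agent.H26.GMain

/-!
# Tools for groups with a given Sylow `2`-subgroup
-/

set_option autoImplicit false
set_option linter.unusedSectionVars false

open Cfsg H24 H26 H26.Gold Subgroup H7.SJ H25.Tw
open scoped commutatorElement

namespace H25.Sy

universe u

variable {G : Type u} [Group G] [Finite G] {A B D H K L P Q R S V W Z : Subgroup G}
  {a b g k r w x y z : G}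

theorem odd_fix (hr : OddE r) (hw : TwoE w) (hc : r * w = w * r) (h : r * a * r⁻¹ = a * w) :
    r * a * r⁻¹ = a := by
  have key : ∀ n : ℕ, r ^ n * a * (r ^ n)⁻¹ = a * w ^ n := fun n => by
    induction n with
    | zero => simp
    | succ n ih =>
      have e : r * w ^ n * r⁻¹ = w ^ n := by rw [((Commute.pow_right hc n)).eq]; group
      calc _ = r * (r ^ n * a * (r ^ n)⁻¹) * r⁻¹ := by rw [pow_succ']; group
        _ = r * a * r⁻¹ * (r * w ^ n * r⁻¹) := by rw [ih]; group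
        _ = _ := by rw [h, e, pow_succ']; group
  have h1 := key (orderOf r)
  rw [pow_orderOf_eq_one, one_mul, inv_one, mul_one, left_eq_mul] at h1
  rw [h, hw.eq_one (piElt_of_pow_eq_one hr h1), mul_one]

theorem ord2 (h2 : w * w = 1) (h1 : w ≠ 1) : orderOf w = 2 := H6.orderOf_eq_two_of h2 h1

theorem conj_mul' (g a b : G) : g * (a * b) * g⁻¹ = g * a * g⁻¹ * (g * b * g⁻¹) := by group

theorem conj_inv' (h : IsConj a b) (a2 : a * a = 1) (a1 : a ≠ 1) : b * b = 1 ∧ b ≠ 1 := by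
  obtain ⟨g, rfl⟩ := isConj_iff.1 h
  exact ⟨H7.SJ.conj_sq a2 g, by rwa [Ne, conj_eq_one_iff']⟩

theorem odd_lift {X : Type u} [Group X] [Finite X] {f : H →* X} (hf : H8.PC.Quo f Z) {v : X}
    (hv : OddE v) : ∃ r ∈ H, OddE r ∧ ap f r = v := by
  obtain ⟨m, hm, rfl⟩ := hf.exists_ap v
  exact ⟨_, constt_mem _ hm, piElt_constt _ m, by rw [constt_ap f _ hm, constt_eq_self hv]⟩

/-- A strongly closed extraspecial group. -/
theorem gold_Q (hS : Syl 2 H S) (z2 : z * z = 1) (hH : H ≤ C{z}) (hz : z ∈ Q) (hQ : Q ≤ S)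
    (sq : ∀ a ∈ Q, a * a = 1 ∨ a * a = z) (nd : ∀ a ∈ Q, a ∈ C[Q] → a = 1 ∨ a = z)
    (sc : ∀ a ∈ Q, ∀ g ∈ H, g * a * g⁻¹ ∈ S → g * a * g⁻¹ ∈ Q)
    (no : ∀ R ≤ Q, (∀ r ∈ R, r = 1 ∨ r = z ∨ r * r = z) → (∃ a ∈ R, ∃ b ∈ R, a * b ≠ b * a) →
      ∃ s ∈ S, s ∉ N[R] ∧ ¬ cj s R ≤ C[R]) : Cons Q H := by
  have QH := hQ.trans hS.le
  have hc : H ≤ C[zpowers z] := by rwa [C_zpowers]
  have zQ := zpowers_le.2 hz
  obtain ⟨X, _, _, f, hf⟩ := H8.PC.exists_quo ⟨zQ.trans QH, norm_of_cent hc⟩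
  have k1 : ∀ a, a = 1 ∨ a = z → a ∈ zpowers z := by
    rintro _ (rfl | rfl)
    exacts [one_mem _, mem_zpowers _]
  have mem : ∀ Y ≤ H, zpowers z ≤ Y → ∀ x ∈ H, ap f x ∈ img f Y → x ∈ Y := fun Y h1 h2 x hx e =>
    sup_le le_rfl h2 ((hf.mem_iff hx h1).1 e)
  have hE : EA (img f Q) := ea_of_sq fun b hb => by
    obtain ⟨q, hq, rfl⟩ := (mem_img_of_le QH).1 hb
    rw [← ap_mul f (QH hq) (QH hq)]
    exact hf.ap_ker (k1 _ (sq q hq))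
  have hS' := hf.img_top ▸ hS.img f le_rfl
  have hsc : IsStronglyClosed (img f Q) (img f S) := ⟨img_mono f hQ, fun b hb y hy => by
    obtain ⟨q, hq, rfl⟩ := (mem_img_of_le QH).1 hb
    obtain ⟨g, hg, rfl⟩ := hf.exists_ap y
    have h1 := mul_mem (mul_mem hg (QH hq)) (inv_mem hg)
    rw [← ap_conj f hg (QH hq)] at hy ⊢
    exact ap_mem_img f (sc q hq g hg (mem S hS.le (zQ.trans hQ) _ h1 hy)) h1⟩
  have hD := sc_DC hS' hE hsc
  have hM := maxD_DC hS' hE hsc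
  have ctx := ctx_all hD hM
  have hN : ∀ g ∈ H, ap f g ∈ N[img f Q] → g ∈ N[Q] := fun g hg e =>
    norm_of_img (pre_le _ _) QH (hf.ker.le.trans zQ) (img_pre_le _ _) (mem_pre.2 ⟨hg, e⟩)
  by_cases hK : ∃ K, Piece (DC (img f Q)) ⊤ K
  swap
  · have h1 : (⊤ : Subgroup X) ≤ Od[⊤] ⊔ N[img f Q] := (hM.frattini hD).sup_eq.ge.trans (sup_le
      (ctx.struct.trans (sup_le (sup_le_sup (hD.Od_Og_le _) (norm_self _))
        (sSup_le fun K h => absurd ⟨K, h⟩ hK))) (inf_le_right.trans le_sup_right))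
    have h2 := pre_mono f h1
    rw [pre_top, pre_sup (le_top.trans hf.range.ge) (le_top.trans hf.range.ge), ← hf.img_top] at h2
    exact h2.trans (sup_le ((hf.pre_Od_le (twoG_zp z2) le_rfl (zQ.trans QH) hc).trans (sup_le
      ((le_inf (zQ.trans QH) (norm_of_le zQ)).trans le_sup_right) le_sup_left))
      (le_trans (fun g hg => mem_inf.2 ⟨pre_le _ _ hg, hN g (pre_le _ _ hg) (mem_pre.1 hg).2⟩) le_sup_right))
  exfalso
  obtain ⟨K, hK⟩ := hK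
  have T := ctx.trs hK
  obtain ⟨B, hB⟩ : ∃ B, B = Q ⊓ pre f (Ck K) := ⟨_, rfl⟩
  have mB : ∀ x ∈ Q, x ∈ B ↔ ap f x ∈ img f Q ⊓ Ck K := fun x hx => by
    rw [hB, mem_inf, mem_inf, mem_pre]
    exact ⟨fun e => ⟨ap_mem_img f hx (QH hx), e.2.2⟩, fun e => ⟨hx, QH hx, e.2⟩⟩
  have BQ : B ≤ Q := hB ▸ inf_le_left
  have zB : zpowers z ≤ B := fun x hx => (mB x (zQ hx)).2 (by rw [hf.ap_ker hx]; exact one_mem _)
  have QB : Q ≤ N[B] := le_N_iff.2 fun q hq b hb => (mB _ (mul_mem (mul_mem hq (BQ hb)) (inv_mem hq))).2 (by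
    rw [ap_conj f (QH hq) (QH (BQ hb)), conj_eq_of_mem_C (hE.le_C (ap_mem_img f hq (QH hq)))
      (ap_mem_img f (BQ hb) (QH (BQ hb)))]
    exact (mB b (BQ hb)).1 hb)
  have tr : ∀ x ∈ Q, x ∉ B → ∀ y ∈ Q, y ∉ B → ∃ r ∈ H, r ∈ N[Q] ∧ r ∈ C[B] ∧ ap f r ∈ K ∧
      r * x * r⁻¹ * y ∈ B := fun x hx x1 y hy y1 => by
    obtain ⟨v, hv, ho, e⟩ := T.trans _ (ap_mem_img f hx (QH hx)) (mt (mB x hx).2 x1) _
      (ap_mem_img f hy (QH hy)) (mt (mB y hy).2 y1)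
    obtain ⟨r, hr, ro, rfl⟩ := odd_lift hf ho
    have rN := hN r hr hv.2
    refine ⟨r, hr, rN, mem_C'.2 fun b hb => mul_inv_eq_iff_eq_mul.1 ?_, hv.1,
      (mB _ (mul_mem (conj_mem rN hx) hy)).2 (by
        rwa [ap_mul f (QH (conj_mem rN hx)) (QH hy), ap_conj f hr (QH hx)])⟩
    have h1 : b⁻¹ * (r * b * r⁻¹) ∈ zpowers z := (hf.eq_iff (QH (BQ hb)) (QH (conj_mem rN (BQ hb)))).1 (by
      rw [ap_conj f hr (QH (BQ hb)), conj_eq_of_mem_C (T.cent hv) ((mB b (BQ hb)).1 hb)])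
    exact odd_fix ro ((twoG_zp z2).piElt h1) (mem_C'.1 (hc hr) _ h1) (by rw [mul_inv_cancel_left])
  have ex : ∀ w : G, ∃ x ∈ Q, x ∉ B ∧ x⁻¹ * w ∉ B := fun w => by
    by_contra hn
    push Not at hn
    have h4 := T.four
    have h5 : (img f Q ⊓ Ck K).relIndex (img f Q) = B.relIndex Q := by
      rw [← relIndex_pre f _ QH, hB, pre_inf, hf.pre_img QH, sup_eq_left.2 zQ]
    rw [h5] at h4
    have := card_mul_relIndex BQ
    have h6 : ♯Q ≤ ♯B + ♯B := by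
      have h7 : (Q : Set G) ⊆ B ∪ (fun b => w * b⁻¹) '' B := fun x hx => by
        by_cases e : x ∈ B
        · exact Or.inl e
        · exact Or.inr ⟨_, hn x hx e, by simp⟩
      refine (Set.ncard_le_ncard h7 (Set.toFinite _)).trans ((Set.ncard_union_le _ _).trans
        (Nat.add_le_add_left (Set.ncard_image_le (Set.toFinite _)) _))
    have := card_pos B
    nlinarith
  have cov : ∀ w ∈ Q, w ∉ B → ∃ c ∈ Q ⊓ C[B], ap f c ∈ K ∧ c * w ∈ B := fun w hw w1 => by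
    obtain ⟨x, hx, x1, x2⟩ := ex w
    obtain ⟨r, hr, rN, rC, rK, e⟩ := tr x hx x1 _ (mul_mem (inv_mem hx) hw) x2
    refine ⟨r * x * r⁻¹ * x⁻¹, ⟨Q.mul_mem (conj_mem rN hx) (Q.inv_mem hx), mem_C'.2 fun b hb => ?_⟩, ?_,
      by rwa [mul_assoc]⟩
    · have e1 := conj_eq_of_mem_C (inv_mem rC) (conj_mem' (QB hx) hb)
      rw [← mul_inv_eq_iff_eq_mul]
      calc _ = r * (x * (r⁻¹ * (x⁻¹ * b * x) * r⁻¹⁻¹) * x⁻¹) * r⁻¹ := by group
        _ = r * b * r⁻¹ := by rw [e1]; group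
        _ = b := conj_eq_of_mem_C rC hb
    · rw [ap_mul f (QH (conj_mem rN hx)) (QH (inv_mem hx)), ap_conj f hr (QH hx), ap_inv f (QH hx),
        mul_assoc, mul_assoc, ← mul_assoc (ap f x)]
      exact mul_mem rK (conj_mem (hK.normA hM (ap_mem_img f hx (QH hx))) (inv_mem rK))
  have cen : ∀ r ∈ Q ⊓ C[B], (∀ c ∈ Q ⊓ C[B], r * c = c * r) → r = 1 ∨ r = z := fun r hr e =>
    nd r hr.1 (mem_C'.2 fun q hq => by
      by_cases h1 : q ∈ B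
      · exact mem_C'.1 hr.2 q h1
      obtain ⟨c, hc, -, h2⟩ := cov q hq h1
      have h3 := mem_C'.1 hr.2 _ h2
      rw [← mul_assoc, e c hc, mul_assoc, mul_assoc] at h3
      exact mul_left_cancel h3)
  have RB : ∀ r ∈ Q ⊓ C[B], r ∈ B → r = 1 ∨ r = z := fun r hr e =>
    cen r hr fun c hc => (mem_C'.1 hc.2 r e).symm
  have nR : ∀ r ∈ N[Q], r ∈ N[B] → r ∈ N[Q ⊓ C[B]] := fun r h1 h2 =>
    norm_inf inf_le_left (inf_le_right.trans (N_le_NC B)) (mem_inf.2 ⟨h1, h2⟩)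
  have zc : ∀ x ∈ H, x * z = z * x := fun x hx => mem_C1.1 (hH hx)
  have same : ∀ x ∈ Q ⊓ C[B], x ∉ B → ∀ y ∈ Q ⊓ C[B], y ∉ B → x * x = y * y := fun x hx x1 y hy y1 => by
    obtain ⟨r, hr, rN, rC, -, e⟩ := tr x hx.1 x1 _ (inv_mem hy.1) (mt inv_mem_iff.1 y1)
    have e1 : r * (x * x) * r⁻¹ = x * x := conj_eq_of_mem_C (hc hr) (k1 _ (sq x hx.1))
    rw [← e1, conj_mul']
    rcases RB _ (mul_mem (conj_mem (nR r rN (C_le_N B rC)) hx) (inv_mem hy)) e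
      with e2 | e2
    · rw [mul_inv_eq_one.1 e2]
    · rw [mul_inv_eq_iff_eq_mul.1 e2, mul_assoc, ← mul_assoc y, zc y (QH hy.1), ← mul_assoc, ← mul_assoc,
        z2, one_mul]
  obtain ⟨a, ha, b, hb, ab⟩ : ∃ a ∈ Q ⊓ C[B], ∃ b ∈ Q ⊓ C[B], a * b ≠ b * a := by
    obtain ⟨w, hw, w1, -⟩ := ex 1
    obtain ⟨c, hc, -, e⟩ := cov w hw w1
    by_contra hn
    push Not at hn
    exact w1 ((mul_mem_cancel_left (zB (k1 c (cen c hc (hn c hc))))).1 e)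
  have a1 : a ∉ B := fun e => ab (mem_C'.1 hb.2 a e).symm
  have b1 : b ∉ B := fun e => ab (mem_C'.1 ha.2 b e)
  have ab1 : a * b ∉ B := fun e => ab (mul_left_cancel ((mem_C'.1 ha.2 _ e).trans (mul_assoc _ _ _)))
  have az : a * a = z := (sq a ha.1).resolve_left fun e => ab (by
    have e1 := (same _ hb b1 a ha a1).trans e
    have e2 := (same _ (mul_mem ha hb) ab1 a ha a1).trans e
    rw [← inv_eq_of_mul_eq_one_right e2, mul_inv_rev, inv_eq_of_mul_eq_one_right e,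
      inv_eq_of_mul_eq_one_right e1])
  obtain ⟨s, hs, s1, s2⟩ := no (Q ⊓ C[B]) inf_le_left (fun r hr => by
    by_cases e : r ∈ B
    · exact (RB r hr e).imp_right Or.inl
    · exact Or.inr (Or.inr ((same r hr e a ha a1).trans az))) ⟨a, ha, b, hb, ab⟩
  have sQ : s ∈ N[Q] := mem_N_of_finite fun q hq =>
    sc q hq s (hS.le hs) (mul_mem (mul_mem hs (hQ hq)) (inv_mem hs))
  have hK' := hK.cj hD (ap f s)
  rw [cj_top] at hK'
  by_cases e : cj (ap f s) K = K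
  · refine s1 (nR s sQ (mem_N_of_finite fun b hb => ?_))
    refine (mB _ (conj_mem sQ (BQ hb))).2 ⟨ap_mem_img f (conj_mem sQ (BQ hb)) (QH (conj_mem sQ (BQ hb))), ?_⟩
    rw [ap_conj f (hS.le hs) (QH (BQ hb))]
    exact conj_mem (norm_Ck le_rfl (mem_N_iff_cj.2 e)) ((mB b (BQ hb)).1 hb).2
  refine s2 (le_trans (fun x hx => ?_) (cents_symm inf_le_right))
  obtain ⟨r, hr, rfl⟩ := mem_cj'.1 hx
  refine (mB _ (conj_mem sQ hr.1)).2 ⟨ap_mem_img f (conj_mem sQ hr.1) (QH (conj_mem sQ hr.1)), ?_⟩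
  rw [ap_conj f (hS.le hs) (QH hr.1)]
  refine hK.le_Ck_of_ne hK' e (conj_mem_cj _ ?_)
  by_cases e1 : r ∈ B
  · rw [hf.ap_ker (k1 r (RB r hr e1))]; exact one_mem _
  obtain ⟨c, hc, c1, c2⟩ := cov r hr.1 e1
  have := hf.ap_ker (k1 _ (RB _ (mul_mem hc hr) c2))
  rw [ap_mul f (QH hc.1) (QH hr.1)] at this
  rw [eq_inv_of_mul_eq_one_right this]
  exact inv_mem c1

theorem cq_le (hc : Cons Q L) (hS : Syl 2 L S) (hn : S ≤ N[Q]) (h : S ⊓ C[Q] ≤ Q) :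
    L ⊓ C[Q] ≤ Od[L] ⊔ Q := by
  have hN : L ⊓ C[Q] ⊴ L ⊓ N[Q] :=
    ⟨inf_le_inf_left _ (C_le_N Q), norm_inf (norm_of_le inf_le_left) (inf_le_right.trans (N_le_NC Q))⟩
  have h1 := (hS.of_le (le_inf hS.le hn) inf_le_left).inf_nml hN
  have h2 : S ⊓ (L ⊓ C[Q]) ≤ Q := (inf_le_inf_left _ inf_le_right).trans h
  refine (H8.PC.le_sup_Od_of_cent h1.pi h1.le (inf_le_right.trans (C_anti h2)) h1.idx).trans
    (sup_le (h2.trans le_sup_right) (le_trans ?_ le_sup_left))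
  exact Od_cover hc inf_le_left (Od_odd _) ((pcore_le _ _).trans inf_le_left) (hN.pcore _).norm

theorem bal0 (hQ : TwoG Q) (hn : Q ⊴ L) (hc : L ⊓ C[Q] ≤ Q) (hR : TwoG R) (hRL : R ≤ L) :
    Od[L ⊓ C[R]] = ⊥ := by
  have h0 := pcore_le {2}ᶜ (L ⊓ C[R])
  have h1 : Od[L ⊓ C[R]] ≤ C[Q] :=
    Thompson_PxQ p2 hR (Od_odd _) hQ (cents_symm (h0.trans inf_le_right)) (hRL.trans hn.norm)
      ((h0.trans inf_le_left).trans hn.norm) (cents_symm (pcore_compl_cents (hQ.inf_left _)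
        ⟨inf_le_inf_right _ hn.le, norm_inf (inf_le_left.trans hn.norm) (norm_of_le inf_le_right)⟩))
  exact (hQ.of_le ((le_inf (h0.trans inf_le_left) h1).trans hc)).eq_bot (Od_odd _)

theorem bal (hc : Cons Q L) (hQ : TwoG Q) (hQL : Q ≤ L) (hC : L ⊓ C[Q] ≤ Od[L] ⊔ Q) (hR : TwoG R)
    (hRL : R ≤ L) : Od[L ⊓ C[R]] ≤ Od[L] := by
  have hK := pcore_nml {2}ᶜ L
  have h1 : quo Q Od[L] ⊴ quo L Od[L] := by
    rw [← quo_sup_left (hQL.trans hK.norm)]; exact (hc.nml hQL).quo _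
  have h2 : quo L Od[L] ⊓ C[quo Q Od[L]] ≤ quo Q Od[L] := by
    rw [coprime_subcent_quotient_pgroup p2 hQ (hQL.trans hK.norm) (cop (Od_odd _) hQ) hK.le]
    exact (quo_mono _ hC).trans (quo_sup_left (hQL.trans hK.norm)).le
  rw [← quo_eq_bot (((pcore_le _ _).trans inf_le_left).trans hK.norm), eq_bot_iff,
    ← bal0 (hQ.quo _) h1 h2 (hR.quo _) (quo_mono _ hRL),
    coprime_subcent_quotient_pgroup p2 hR (hRL.trans hK.norm) (cop (Od_odd _) hR) hK.le]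
  exact quo_pcore_le _ _ _

theorem bal1 (hc : Cons Q L) (hQ : TwoG Q) (hQL : Q ≤ L) (hC : L ⊓ C[Q] ≤ Od[L] ⊔ Q) (a2 : a * a = 1)
    (ha : a ∈ L) : Od[C{a}] ⊓ L ≤ Od[L] := by
  refine le_trans ?_ (bal hc hQ hQL hC (twoG_zp a2) (zpowers_le.2 ha))
  rw [C_zpowers]
  exact (le_inf inf_le_left (le_inf inf_le_right (inf_le_left.trans (pcore_le _ _)))).trans
    (pcore_inf_le _ inf_le_right)

/-- `φ` maps `M` onto a Sylow `2`-subgroup of the simple group `G`. -/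
structure Emb {M : Type} [Group M] (φ : M →* G) : Prop where
  inj : Function.Injective φ
  syl : Syl 2 ⊤ φ.range
  simple : IsSimpleGroup G

namespace Emb

variable {M : Type} [Group M] {φ : M →* G} {c s s' : M} {X Y : Subgroup M} (h : Emb φ)
include h

theorem eq : φ s = φ s' ↔ s = s' := h.inj.eq_iff

theorem ne_one (h1 : s ≠ 1) : φ s ≠ 1 := fun e => h1 (h.inj (e.trans φ.map_one.symm))

theorem mem : φ s ∈ X.map φ ↔ s ∈ X := mem_map_iff_mem h.inj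

theorem card (X : Subgroup M) : ♯(X.map φ) = ♯X := card_map_of_injective h.inj

theorem two (X : Subgroup M) : TwoG (X.map φ) := h.syl.pi.of_le (map_le_range _ _)

theorem twoE (s : M) : TwoE (φ s) := h.syl.pi.piElt ⟨s, rfl⟩

theorem pull (hK : φ.range ≤ K) (hP : TwoG P) (hPK : P ≤ K) :
    ∃ k ∈ K, ∀ p ∈ P, ∃ s, φ s = k * p * k⁻¹ := by
  obtain ⟨k, hk, e⟩ := Sylow_Jsub Nat.prime_two (h.syl.of_le hK le_top) hP hPK
  exact ⟨k, hk, fun p hp => e (conj_mem_cj k hp)⟩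

theorem pull1 (hK : φ.range ≤ K) (hw : TwoE w) (hwK : w ∈ K) : ∃ k ∈ K, ∃ s, φ s = k * w * k⁻¹ := by
  obtain ⟨k, hk, e⟩ := h.pull hK hw.isPi (zpowers_le.2 hwK)
  exact ⟨k, hk, e w (mem_zpowers w)⟩

omit h in
theorem sq (hs : s * s = 1) : φ s * φ s = 1 := by rw [← map_mul, hs, map_one]

theorem inv_of (e : IsConj w (φ s)) (hw : w * w = 1) (w1 : w ≠ 1) : s * s = 1 ∧ s ≠ 1 := by
  obtain ⟨h1, h2⟩ := conj_inv' e hw w1
  exact ⟨h.inj (by rw [map_mul, h1, map_one]), fun e1 => h2 (by rw [e1, map_one])⟩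

theorem mem_C : φ s ∈ C{φ c} ↔ s * c = c * s := by
  rw [mem_C1, ← map_mul, ← map_mul, h.eq]

theorem map_C : C{c}.map φ ≤ C{φ c} := by
  rintro _ ⟨s, hs, rfl⟩; exact h.mem_C.2 (mem_C1.1 hs)

omit h in
theorem le_C (hc : ∀ s, s * c = c * s) : φ.range ≤ C{φ c} := by
  rintro _ ⟨s, rfl⟩
  rw [mem_C1, ← map_mul, ← map_mul, hc]

omit h in
theorem conj (g s : M) : IsConj (φ s) (φ (g * s * g⁻¹)) :=
  isConj_iff.2 ⟨φ g, by simp only [map_mul, map_inv]⟩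

/-- the conjugation of the centraliser of `s` into a Sylow subgroup of `K ⊓ C{φ c}`. -/
theorem ext (hK : φ.range ≤ K) (hS : Syl 2 (K ⊓ C{φ c}) (X.map φ)) (hg : g ∈ K)
    (e : g * φ s * g⁻¹ = φ c) : ∃ k ∈ K, φ c = k * φ s * k⁻¹ ∧
      ∀ w, w * s = s * w → ∃ w' ∈ X, φ w' = k * φ w * k⁻¹ := by
  obtain ⟨k, hk, e1, e2⟩ := ext_conj hS (h.two C{s})
    (le_inf ((map_le_range _ _).trans hK) h.map_C) hg e
  exact ⟨k, hk, e1.symm, fun w hw => e2 (conj_mem_cj k ⟨w, mem_C1.2 hw, rfl⟩)⟩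

theorem ext0 (hc : ∀ s, s * c = c * s) (e : IsConj (φ c) (φ s)) :
    ∃ k, φ c = k * φ s * k⁻¹ ∧ ∀ w, w * s = s * w → ∃ w', φ w' = k * φ w * k⁻¹ := by
  obtain ⟨g, e⟩ := isConj_iff.1 e.symm
  obtain ⟨k, -, e1, e2⟩ := h.ext (X := ⊤) le_top (by
    rw [← φ.range_eq_map]; exact h.syl.of_le (le_inf le_top (le_C hc)) le_top) (mem_top g) e
  exact ⟨k, e1, fun w hw => (e2 w hw).imp fun _ e => e.2⟩

omit h in
theorem mul {s1 s2 r1 r2 : M} (e1 : φ r1 = g * φ s1 * g⁻¹) (e2 : φ r2 = g * φ s2 * g⁻¹) :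
    φ (r1 * r2) = g * φ (s1 * s2) * g⁻¹ := by
  rw [map_mul, map_mul, e1, e2, conj_mul']

omit h in
theorem inv {s1 r1 : M} (e : φ r1 = g * φ s1 * g⁻¹) : φ r1⁻¹ = g * φ s1⁻¹ * g⁻¹ := by
  rw [map_inv, map_inv, e]; group

omit h in
theorem one (g : G) : φ 1 = g * φ 1 * g⁻¹ := by simp

omit h in
theorem symm {s1 r1 : M} (e : φ r1 = g * φ s1 * g⁻¹) : φ s1 = g⁻¹ * φ r1 * g⁻¹⁻¹ := by
  rw [e]; group

omit h in
theorem trans {s1 s2 s3 : M} (e : φ s2 = g * φ s1 * g⁻¹) (e' : φ s3 = k * φ s2 * k⁻¹) :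
    φ s3 = k * g * φ s1 * (k * g)⁻¹ := by
  rw [e', e]; group

omit h in
theorem conj_conj (e : φ s' = g * φ s * g⁻¹) (c : M) :
    φ (c * s' * c⁻¹) = φ c * g * φ s * (φ c * g)⁻¹ := by
  rw [map_mul, map_mul, map_inv, e]; group

theorem eq' {s1 s2 r1 r2 : M} (e1 : φ r1 = g * φ s1 * g⁻¹) (e2 : φ r2 = g * φ s2 * g⁻¹) :
    r1 = r2 ↔ s1 = s2 := by
  rw [← h.eq, e1, e2, mul_left_inj, mul_right_inj, h.eq]

theorem rel {s1 s2 s3 r1 r2 r3 : M} (e1 : φ r1 = g * φ s1 * g⁻¹) (e2 : φ r2 = g * φ s2 * g⁻¹)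
    (e3 : φ r3 = g * φ s3 * g⁻¹) : r1 * r2 = r3 ↔ s1 * s2 = s3 := h.eq' (mul e1 e2) e3

theorem comm {s1 s2 r1 r2 : M} (e1 : φ r1 = g * φ s1 * g⁻¹) (e2 : φ r2 = g * φ s2 * g⁻¹) :
    r1 * r2 = r2 * r1 ↔ s1 * s2 = s2 * s1 := h.eq' (mul e1 e2) (mul e2 e1)

theorem sq1 {s1 r1 : M} (e : φ r1 = g * φ s1 * g⁻¹) : r1 * r1 = 1 ↔ s1 * s1 = 1 := h.rel e e (one g)

theorem eq1 {s1 r1 : M} (e : φ r1 = g * φ s1 * g⁻¹) : r1 = 1 ↔ s1 = 1 := h.eq' e (one g)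

theorem syl_N (hX : ∀ g s, s ∈ X → g * s * g⁻¹ ∈ X) : φ.range ≤ N[X.map φ] := by
  rintro _ ⟨g, rfl⟩
  refine mem_N_of_finite ?_
  rintro _ ⟨s, hs, rfl⟩
  exact ⟨_, hX g s hs, by simp only [map_mul, map_inv]⟩

theorem mem_N (hg : ∀ s ∈ X, ∃ s' ∈ X, φ s' = g * φ s * g⁻¹) : g ∈ N[X.map φ] :=
  mem_N_of_finite (by rintro _ ⟨s, hs, rfl⟩; exact hg s hs)

omit h in
theorem of_N (hg : g ∈ N[X.map φ]) (hs : s ∈ X) : ∃ s' ∈ X, φ s' = g * φ s * g⁻¹ :=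
  conj_mem hg ⟨s, hs, rfl⟩

theorem nml (hn : ⊤ ≤ N[K]) : K = ⊥ ∨ K = ⊤ := by
  have := h.simple
  exact (nml_top_iff.1 ⟨le_top, hn⟩).eq_bot_or_eq_top

theorem odd_nml (s1 : s ≠ 1) (hK : OddG K) (hn : ⊤ ≤ N[K]) : K = ⊥ :=
  (h.nml hn).resolve_right fun e => h.ne_one s1 ((h.twoE s).eq_one (hK.piElt (e.ge (mem_top _))))

theorem zstar (s2 : s * s = 1) (s1 : s ≠ 1) (hc : c * s' ≠ s' * c) :
    ∃ r, IsConj (φ s) (φ r) ∧ r ≠ s := by
  by_contra hne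
  push Not at hne
  have h1 := zstar_sub h.syl ⟨s, rfl⟩ (h.ne_one s1) (sq s2) fun g _ ⟨r, e⟩ => by
    rw [← e, hne r (isConj_iff.2 ⟨g, e.symm⟩)]
  rw [h.odd_nml s1 (Od_odd ⊤) (pcore_nml _ _).norm, le_bot_iff, comm_eq_bot'] at h1
  rcases h.nml (norm_of_cent h1) with e | e
  · exact h.ne_one s1 (zpowers_eq_bot.1 e)
  · exact hc (h.inj (by
      simpa only [map_mul] using (abl_zpowers _).comm (e.ge (mem_top _)) (e.ge (mem_top _))))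

/-- a `2`-subgroup properly containing a non Sylow subgroup. -/
theorem syl_of (hK : φ.range ≤ K) (hL : L ≤ K) (hX : X.map φ ≤ L)
    (hm : ∀ k ∈ K, ∀ t ∈ L, t ∈ N[X.map φ] → (∀ s ∈ X, ∃ s', φ s' = k * φ s * k⁻¹) →
      (∃ s', φ s' = k * t * k⁻¹) → t ∈ X.map φ) : Syl 2 L (X.map φ) := by
  by_contra hn
  obtain ⟨P, hP, h1, h2, h3⟩ := exists_lt_norm_of_not_syl p2 (h.two X) hX hn
  obtain ⟨k, hk, e⟩ := h.pull hK hP (h2.trans hL)
  exact h1.not_ge fun t ht => hm k hk t (h2 ht) (h3 ht) (fun s hs => e _ (h1.le ⟨s, hs, rfl⟩)) (e t ht)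

end Emb

end H25.Sy
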