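import Mathlib
import Cfsg.Agent.H25.SyG

/-!
# Tools for groups with a given Sylow `2`-subgroup: signalizers
-/

set_option autoImplicit false
set_option linter.unusedSectionVars false

open Cfsg H24 H26 H26.Gold Subgroup H7.SJ H25.Tw

namespace H25.Sy

universe u

variable {G : Type u} [Group G] [Finite G] {A B D H K L P Q R S V V' W X Θ Θ' : Subgroup G}
  {a b c g k v x y z : G}

def H1175 (G : Type u) [Group G] : Prop := ∀ (M S : Subgroup G) (z : G), M ≠ ⊤ → z * z = 1 → z ≠ 1 → z ∈ M →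
  Syl 2 ⊤ S → z ∈ S → S ≤ C{z} → (∀ g : G, g * z * g⁻¹ ∈ M → g ∈ M) →
  (∀ g : G, z * (g * z * g⁻¹) = g * z * g⁻¹ * z → g * z * g⁻¹ ≠ z → C{z * (g * z * g⁻¹)} ≤ M) →
  ∃ H : Subgroup G, IsStronglyEmbedded H

/-- the closure of the signalizer functor of odd cores. -/
structure Th (A Θ : Subgroup G) : Prop where
  odd : OddG Θ
  le : ∀ a ∈ A, a ≠ 1 → Od[C{a}] ≤ Θ
  inf : ∀ a ∈ A, a ≠ 1 → Θ ⊓ C{a} ≤ Od[C{a}]
  norm : ∀ V ≤ A, 4 ≤ ♯V → N[V] ≤ N[Θ]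

theorem sigTh (hA : EA A) (h8 : 8 ≤ ♯A)
    (bal : ∀ a ∈ A, a ≠ 1 → ∀ b ∈ A, b ≠ 1 → Od[C{a}] ⊓ C{b} ≤ Od[C{b}]) : ∃ Θ, Th A Θ := by
  have : Fact (Nat.Prime 2) := ⟨Nat.prime_two⟩
  have hn : ∀ a ∈ A, A ≤ N[Od[C{a}]] := fun a ha =>
    norm_pcore _ (norm_C1 fun b hb => mem_C1.2 (hA.comm hb ha))
  obtain ⟨h1, h2⟩ := Cfsg.Agent.S0217.result (p := 2) A (fun a ha b hb => hA.comm ha hb)
    (fun a ha => by rw [pow_two, hA.sq ha]) h8 (fun a => Od[C{a}]) (fun a _ _ => pcore_le _ _)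
    (fun a _ _ => (piNat_compl_singleton Nat.prime_two).1 (Od_odd _))
    (fun a ha _ b hb x hx => conj_mem (hn a ha hb) hx) (fun a _ _ => Od_sol _) bal
  have hW : OddG (⨆ a : {a : G // a ∈ A ∧ a ≠ 1}, Od[C{(a : G)}]) :=
    (piNat_compl_singleton Nat.prime_two).2 h1
  have hl : ∀ a ∈ A, a ≠ 1 → Od[C{a}] ≤ ⨆ a : {a : G // a ∈ A ∧ a ≠ 1}, Od[C{(a : G)}] :=
    fun a ha a1 => le_iSup (fun a : {a : G // a ∈ A ∧ a ≠ 1} => Od[C{(a : G)}]) ⟨a, ha, a1⟩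
  refine ⟨_, hW, hl, fun a ha a1 => (h2 a ha a1).le, fun V hV h4 n hn' => mem_N_of_cj_le (cj_le_iff.2 ?_)⟩
  refine gen1 (hA.of_le hV) h4 hW (hV.trans (norm_iSup fun a => hn a a.2.1)) fun a ha a1 => ?_
  rw [h2 a (hV ha) a1, ← cj_le_iff, ← pcore_cj, cj_C1]
  exact hl _ (hV (conj_mem hn' ha)) (by rwa [Ne, conj_eq_one_iff'])

theorem Th.conn (h : Th A Θ) (hA : EA A) (hV : V ≤ A) (h4 : 4 ≤ ♯V) (hV' : EA V') (h4' : 4 ≤ ♯V')
    (hc : V' ≤ C[V]) (hg : V' ≤ cj g A)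
    (bal : ∀ v ∈ V, v ≠ 1 → ∀ w ∈ V', w ≠ 1 → Od[C{v}] ⊓ C{w} ≤ Od[C{w}]) : g ∈ N[Θ] := by
  refine mem_N_of_le_cj (gen1 hV' h4' h.odd (hc.trans ((C_le_N V).trans (h.norm V hV h4))) fun w hw w1 => ?_)
  refine gen1 (hA.of_le hV) h4 (h.odd.inf_left _) (norm_inf ((norm_self V).trans (h.norm V hV h4))
    (norm_C1 (mem_C_iff_le_C1.1 (hc hw)))) fun v hv v1 => ?_
  obtain ⟨a, ha, rfl⟩ := mem_cj'.1 (hg hw)
  refine (le_inf ((inf_le_inf_right _ inf_le_left).trans (h.inf v (hV hv) v1))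
    (inf_le_left.trans inf_le_right)).trans ((bal v hv v1 _ hw w1).trans ?_)
  rw [← cj_C1, pcore_cj, cj_le_cj]
  exact h.le a ha fun e => w1 (by simp [e])

theorem Cons.comm_le (hc : Cons W L) (hW : TwoG W) (hWL : W ≤ L) (hX : OddG X) (hXL : X ≤ L) (hA : A ≤ W)
    (hn : A ≤ N[X]) (h : X ⊓ C[A] ≤ Od[L]) : X ≤ Od[L] :=
  (coprime_cent_prod hn (cop hX (hW.of_le hA)) hX.sol).sup_eq.ge.trans (sup_le
    (odd_le (Od_odd L) hW (hWL.trans (pcore_nml _ L).norm) (hX.of_le (comm_le_left hn))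
      ((comm_mono_right (hA.trans le_sup_right)).trans (comm_le_right (hXL.trans (hc.nml hWL).norm)))) h)

theorem balW1 (hW : EA W) (hb : b ∈ W) (hc : c ∈ W) (h : Cons W C{c}) : Od[C{b}] ⊓ C{c} ≤ Od[C{c}] := by
  have h1 := mem_C_iff_le_C1.1 (hW.le_C hc)
  refine Cons.comm_le h hW.two h1 ((Od_odd _).inf_left _) inf_le_right le_rfl (norm_inf (norm_pcore _
    (norm_C1 (mem_C_iff_le_C1.1 (hW.le_C hb)))) (norm_C1 h1)) ?_
  exact ((inf_le_inf_right _ inf_le_left).trans (pcore_inf_le _ (C_le_C1 hb))).trans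
    (Od_cover h inf_le_left (Od_odd _) ((pcore_le _ _).trans (C_le_C1 hc))
      (norm_pcore _ (inf_le_right.trans (N_le_NC W))))

theorem balW2 (hW : EA W) (hz : z ∈ W) (hc : c ∈ W) (h : Cons W C{c}) (hv : z ∈ C{v})
    (hb : Od[C{v}] ⊓ C{z} ≤ Od[C{z}]) : Od[C{v}] ⊓ C{c} ≤ Od[C{c}] := by
  have h1 := mem_C_iff_le_C1.1 (hW.le_C hc)
  refine Cons.comm_le h hW.two h1 ((Od_odd _).inf_left _) inf_le_right (zpowers_le.2 hz) (norm_inf
    (norm_pcore _ (norm_C1 (zpowers_le.2 hv))) (norm_C1 (zpowers_le.2 (h1 hz)))) ?_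
  rw [C_zpowers]
  exact (le_inf ((inf_le_inf_right _ inf_le_left).trans hb) (inf_le_left.trans inf_le_right)).trans
    (balW1 hW hz hc h)

theorem four_of (a2 : a * a = 1) (b2 : b * b = 1) (a1 : a ≠ 1) (b1 : b ≠ 1) (ab : a ≠ b)
    (hc : a * b = b * a) : EA (zpowers a ⊔ zpowers b) ∧ 4 ≤ ♯(zpowers a ⊔ zpowers b) ∧
      ∀ x ∈ zpowers a ⊔ zpowers b, x = 1 ∨ x = a ∨ x = b ∨ x = a * b := by
  have hn : zpowers b ≤ N[zpowers a] := norm_zpowers_of_cent (zpowers_le.2 (mem_C1.2 hc.symm))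
  have key : ∀ x ∈ zpowers a ⊔ zpowers b, x = 1 ∨ x = a ∨ x = b ∨ x = a * b := fun x hx => by
    obtain ⟨p, hp, q, hq, rfl⟩ := (mem_sup_of_norm hn).1 hx
    rcases mem_zp a2 hp with rfl | rfl <;> rcases mem_zp b2 hq with rfl | rfl <;> simp
  refine ⟨ea_of_sq fun x hx => ?_, ?_, key⟩
  · rcases key x hx with rfl | rfl | rfl | rfl
    · simp
    · exact a2
    · exact b2
    · rw [mul_assoc, ← mul_assoc b, ← hc, mul_assoc, b2, mul_one, a2]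
  · rw [card_sup_of_inf hn, card_zpowers', card_zpowers', ord2 a2 a1, ord2 b2 b1]
    refine eq_bot_iff.2 fun x hx => (mem_zp a2 hx.1).elim id fun e => ?_
    rcases mem_zp b2 hx.2 with e' | e'
    · exact e'
    · exact absurd (e.symm.trans e') ab

theorem dc {α β : Type*} [Finite α] [Finite β] (r : α → β → Prop) (s : Set α) (t : Set β) {m n : ℕ}
    (hm : ∀ a ∈ s, m ≤ {b | b ∈ t ∧ r a b}.ncard) (hn : ∀ b ∈ t, {a | a ∈ s ∧ r a b}.ncard ≤ n) :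
    s.ncard * m ≤ t.ncard * n := by
  classical
  rw [Set.ncard_eq_toFinset_card s, Set.ncard_eq_toFinset_card t]
  refine Finset.card_mul_le_card_mul r (fun a ha => (hm a (by simpa using ha)).trans_eq ?_)
    fun b hb => le_of_eq_of_le ?_ (hn b (by simpa using hb))
  · rw [← Set.ncard_coe_finset]; congr 1; ext; simp [Finset.bipartiteAbove]
  · rw [← Set.ncard_coe_finset]; congr 1; ext; simp [Finset.bipartiteBelow]

namespace Emb

variable {M : Type} [Group M] {φ : M →* G} {c s s' : M} (h : Emb φ)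
include h

theorem cj (g : G) : Emb ((MulAut.conj g).toMonoidHom.comp φ) :=
  ⟨(conj_injective' g).comp h.inj, by
    rw [MonoidHom.range_comp]; exact h.syl.cj_mem (mem_top g), h.simple⟩

theorem kill (hG : H1175 G) (hc : ∀ s, s * c = c * s) (c2 : c * c = 1) (c1 : c ≠ 1) (hΘ : OddG Θ)
    (hH : C{φ c} ≤ N[Θ]) (tr : ∀ s, IsConj (φ c) (φ s) → (∃ m ∈ N[Θ], φ c = m * φ s * m⁻¹) ∧
      (s ≠ c → C{φ (c * s)} ≤ N[Θ])) (s2 : s * s = 1) (s1 : s ≠ 1) (two : ¬ IsConj (φ c) (φ s)) :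
    Θ = ⊥ := by
  by_contra hne
  have hS := (le_C hc).trans hH
  have t2 := twoE_of_sq (sq (φ := φ) c2)
  obtain ⟨H, hH⟩ := hG N[Θ] _ (φ c) (fun e => hne (h.odd_nml c1 hΘ e.ge)) (sq c2) (h.ne_one c1)
    (hS ⟨_, rfl⟩) h.syl ⟨_, rfl⟩ (le_C hc) (fun k hk => by
      obtain ⟨m, hm, r, e⟩ := h.pull1 hS (t2.conj k) hk
      have e1 : φ r = m * k * φ c * (m * k)⁻¹ := by rw [e]; group
      obtain ⟨m', hm', e2⟩ := (tr r (isConj_iff.2 ⟨_, e1.symm⟩)).1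
      exact (mul_mem_cancel_left hm).1 ((mul_mem_cancel_left hm').1
        (hH (mem_C1_iff_conj.2 (trans e1 e2).symm)))) fun k hk hne => by
      obtain ⟨m, hm, r, e⟩ := h.pull1 (le_C hc) (t2.conj k) (mem_C1.2 hk.symm)
      have ez := mem_C1_iff_conj.1 hm
      have := (tr r (isConj_iff.2 ⟨m * k, by rw [e]; group⟩)).2 fun e1 =>
        hne (mul_left_cancel (mul_right_cancel (e.symm.trans (e1 ▸ ez.symm))))
      rw [map_mul, e, ← ez, ← conj_mul', ez, ← cj_C1, cj_le_iff] at this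
      exact this.trans (cj_le_of_mem le_rfl (inv_mem (hH hm)))
  exact two (isConj_iff.2 (H26.BR.conj_of_se hH (ord2 (sq c2) (h.ne_one c1)) (ord2 (sq s2) (h.ne_one s1))))

end Emb

end H25.Sy
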