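import Mathlib
import Cfsg.Agent.H11.HsD
import Cfsg.Agent.H11.HsK

/-!
# The action of the normaliser of `Q` on the six spreads
-/

set_option autoImplicit false
set_option linter.unusedSectionVars false
set_option maxRecDepth 100000
set_option synthInstance.maxSize 4000

open Cfsg H24 H26 H26.Gold Subgroup H7.SJ H25.Tw H25.Sy H11.Hs

namespace H25.HR

universe u

theorem f_Z : ∀ c ∈ Z4, c ∈ Q0 ∧ pt c = 0 ∧ rq c = c⁻¹ ∧ sl 6 * c * (sl 6)⁻¹ = c⁻¹ ∧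
    ∀ q ∈ Q0, c * q = q * c := by decide +kernel
theorem f_b : u0 ∈ Q0 ∧ el 320 ∈ Q0 ∧ v0 ∈ Q0 ∧ el 64 ∈ Q0 := by decide +kernel
theorem f_sq : u0 * u0 = 1 ∧ el 320 * el 320 = 1 ∧ v0 * v0 = 1 ∧ el 64 * el 64 = 1 := by decide +kernel
theorem f_gram : u0 * el 320 ≠ el 320 * u0 ∧ u0 * v0 = v0 * u0 ∧ el 320 * v0 = v0 * el 320 ∧
    u0 * el 64 = el 64 * u0 ∧ el 320 * el 64 = el 64 * el 320 ∧ v0 * el 64 ≠ el 64 * v0 := by decide +kernel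
theorem f_one : pt 1 = 0 := by decide +kernel
theorem f_id : ∀ p < 16, lin 1 2 4 8 p = p := by decide +kernel
theorem f_rq : ∀ q ∈ Q0, ∃ c ∈ Z4, q = bw c u0 (el 320) v0 (el 64) (pt q) ∧
    rq q = bw c⁻¹ (rq u0) (rq (el 320)) (rq v0) (rq (el 64)) (pt q) := by decide +kernel
theorem f_V : ∀ x ∈ V0, x ∈ Q0 ∧ x * x = 1 ∧ (x = 1 ∨ x = z0 ∨
    ∃ y ∈ Q0, sp 0 (pt x) (pt y) ∧ sp 1 (pt x) (pt y)) := by decide +kernel
theorem f_al : ∀ a ∈ Q0, ∀ b ∈ Q0, sp 0 (pt a) (pt b) ↔ sp 1 (pt (al a)) (pt (al b)) := by decide +kernel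
theorem f_zV : z0 ∈ V0 := by decide +kernel

theorem pt_bif {x : S0} (hx : x ∈ Q0) (β : Bool) :
    (bif β then x else 1) ∈ Q0 ∧ pt (bif β then x else 1) = bif β then pt x else 0 := by
  cases β
  exacts [⟨one_mem _, f_one⟩, ⟨hx, rfl⟩]

theorem pt_bw {c a1 a2 a3 a4 : S0} (hc : c ∈ Z4) (h1 : a1 ∈ Q0) (h2 : a2 ∈ Q0) (h3 : a3 ∈ Q0) (h4 : a4 ∈ Q0)
    (p : ℕ) : pt (bw c a1 a2 a3 a4 p) = lin (pt a1) (pt a2) (pt a3) (pt a4) p := by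
  obtain ⟨m1, e1⟩ := pt_bif h1 (Nat.testBit p 0)
  obtain ⟨m2, e2⟩ := pt_bif h2 (Nat.testBit p 1)
  obtain ⟨m3, e3⟩ := pt_bif h3 (Nat.testBit p 2)
  obtain ⟨m4, e4⟩ := pt_bif h4 (Nat.testBit p 3)
  obtain ⟨c1, c2, -⟩ := f_Z c hc
  rw [bw, pt_mul _ (mul_mem c1 (mul_mem m1 m2)) _ (mul_mem m3 m4), pt_mul _ c1 _ (mul_mem m1 m2),
    pt_mul _ m1 _ m2, pt_mul _ m3 _ m4, e1, e2, e3, e4, c2, Nat.zero_xor]
  rfl

variable {G : Type u} [Group G] [Finite G] {φ : S0 →* G} {m n : G} {a b c d q q' : S0} {j k l : Fin 6}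

theorem cj_bif {x x' : S0} (e : φ x' = n * φ x * n⁻¹) (β : Bool) :
    φ (bif β then x' else 1) = n * φ (bif β then x else 1) * n⁻¹ := by
  cases β
  exacts [Emb.one n, e]

theorem cj_bw {c a1 a2 a3 a4 c' b1 b2 b3 b4 : S0} (ec : φ c' = n * φ c * n⁻¹) (e1 : φ b1 = n * φ a1 * n⁻¹)
    (e2 : φ b2 = n * φ a2 * n⁻¹) (e3 : φ b3 = n * φ a3 * n⁻¹) (e4 : φ b4 = n * φ a4 * n⁻¹) (p : ℕ) :
    φ (bw c' b1 b2 b3 b4 p) = n * φ (bw c a1 a2 a3 a4 p) * n⁻¹ :=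
  Emb.mul (Emb.mul ec (Emb.mul (cj_bif e1 _) (cj_bif e2 _))) (Emb.mul (cj_bif e3 _) (cj_bif e4 _))

/-- `n` sends the spread `j` to the spread `k`. -/
def R (φ : S0 →* G) (n : G) (j k : Fin 6) : Prop := ∀ a ∈ Q0, ∀ b ∈ Q0, ∀ a' b', φ a' = n * φ a * n⁻¹ →
  φ b' = n * φ b * n⁻¹ → sp j (pt a) (pt b) → sp k (pt a') (pt b')

/-- the images of the basis -/
structure Im (φ : S0 →* G) (n : G) (a b c d : S0) : Prop where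
  nr : n ∈ N[Q0.map φ]
  a : φ a = n * φ u0 * n⁻¹
  b : φ b = n * φ (el 320) * n⁻¹
  c : φ c = n * φ v0 * n⁻¹
  d : φ d = n * φ (el 64) * n⁻¹

theorem exists_im (hn : n ∈ N[Q0.map φ]) : ∃ a b c d, Im φ n a b c d := by
  obtain ⟨a, -, ea⟩ := Emb.of_N hn f_b.1
  obtain ⟨b, -, eb⟩ := Emb.of_N hn f_b.2.1
  obtain ⟨c, -, ec⟩ := Emb.of_N hn f_b.2.2.1
  obtain ⟨d, -, ed⟩ := Emb.of_N hn f_b.2.2.2
  exact ⟨a, b, c, d, hn, ea, eb, ec, ed⟩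

variable (h : Emb φ)
include h

theorem mQ (hn : n ∈ N[Q0.map φ]) (hq : q ∈ Q0) (e : φ q' = n * φ q * n⁻¹) : q' ∈ Q0 :=
  h.mem.1 (e ▸ conj_mem hn ⟨q, hq, rfl⟩)

theorem imZ (hn : n ∈ N[Q0.map φ]) (hc : c ∈ Z4) : ∃ c' ∈ Z4, φ c' = n * φ c * n⁻¹ := by
  obtain ⟨c1, -, -, -, c2⟩ := f_Z c hc
  obtain ⟨c', -, e⟩ := Emb.of_N hn c1
  have k : ∀ q ∈ Q0, c' * q = q * c' := fun q hq => by
    obtain ⟨q', hq', e'⟩ := Emb.of_N (inv_mem hn) hq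
    have e2 := Emb.symm e'
    rw [inv_inv] at e2
    exact (h.comm e e2).2 (c2 q' hq')
  exact ⟨c', CQ c' (k _ f_b.1) (k _ f_b.2.1) (k _ f_b.2.2.1) (k _ f_b.2.2.2), e⟩

theorem Im.lin (i : Im φ n a b c d) (hq : q ∈ Q0) (e : φ q' = n * φ q * n⁻¹) :
    pt q' = lin (pt a) (pt b) (pt c) (pt d) (pt q) := by
  obtain ⟨x, hx, e1⟩ := Q_bw q hq
  obtain ⟨x', hx', e2⟩ := imZ h i.nr hx
  have e3 := cj_bw e2 i.a i.b i.c i.d (pt q)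
  rw [← e1, ← e, h.eq] at e3
  rw [← e3]
  exact pt_bw hx' (mQ h i.nr f_b.1 i.a) (mQ h i.nr f_b.2.1 i.b) (mQ h i.nr f_b.2.2.1 i.c)
    (mQ h i.nr f_b.2.2.2 i.d) _

theorem Im.mn (i : Im φ n a b c d) : Mn (pt a) (pt b) (pt c) (pt d) := by
  have ha := mQ h i.nr f_b.1 i.a
  have hb := mQ h i.nr f_b.2.1 i.b
  have hc := mQ h i.nr f_b.2.2.1 i.c
  have hd := mQ h i.nr f_b.2.2.2 i.d
  obtain ⟨g1, g2, g3, g4, g5, g6⟩ := f_gram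
  exact main _ (pt_lt _) _ (pt_lt _) ((fm_iff _ ha _ hb).2.2 (mt (h.comm i.a i.b).1 g1)) _ (pt_lt _)
    ((fm_iff _ ha _ hc).1.2 ((h.comm i.a i.c).2 g2)) ((fm_iff _ hb _ hc).1.2 ((h.comm i.b i.c).2 g3)) _ (pt_lt _)
    ((fm_iff _ ha _ hd).1.2 ((h.comm i.a i.d).2 g4)) ((fm_iff _ hb _ hd).1.2 ((h.comm i.b i.d).2 g5))
    ((fm_iff _ hc _ hd).2.2 (mt (h.comm i.c i.d).1 g6))

theorem Im.iff (i : Im φ n a b c d) : R φ n j k ↔ cnd (pt a) (pt b) (pt c) (pt d) j k := by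
  refine ⟨fun r x hx => ?_, fun r x hx y hy x' y' ex ey s => ?_⟩
  · obtain ⟨l1, l2⟩ := prs_lt j x hx
    obtain ⟨y, hy, e1⟩ := pt_surj _ l1
    obtain ⟨w, hw, e2⟩ := pt_surj _ l2
    obtain ⟨y', -, ey⟩ := Emb.of_N i.nr hy
    obtain ⟨w', -, ew⟩ := Emb.of_N i.nr hw
    have := r y hy w hw y' w' ey ew (by rw [e1, e2]; exact (mem_prs j _ l1 _ l2).1 hx)
    rwa [i.lin h hy ey, i.lin h hw ew, e1, e2] at this
  · rw [i.lin h hx ex, i.lin h hy ey]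
    exact r (pt x, pt y) ((mem_prs j _ (pt_lt _) _ (pt_lt _)).2 s)

theorem R_one (j : Fin 6) : R φ 1 j j := fun a _ b _ a' b' ea eb s => by
  rw [one_mul, inv_one, mul_one, h.eq] at ea eb
  rwa [ea, eb]

omit h in
theorem R.mul (hn : n ∈ N[Q0.map φ]) (r1 : R φ n j k) (r2 : R φ m k l) : R φ (m * n) j l :=
  fun a ha b hb a' b' ea eb s => by
    obtain ⟨x, hx, ex⟩ := Emb.of_N hn ha
    obtain ⟨y, hy, ey⟩ := Emb.of_N hn hb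
    exact r2 x hx y hy a' b' (by rw [ea, ex]; group) (by rw [eb, ey]; group) (r1 a ha b hb x y ex ey s)

theorem R_ex (hn : n ∈ N[Q0.map φ]) (j : Fin 6) : ∃ k, ∀ k', R φ n j k' ↔ k = k' := by
  obtain ⟨a, b, c, d, i⟩ := exists_im hn
  obtain ⟨k, k1, k2⟩ := (i.mn h).1 j
  exact ⟨k, fun k' => (i.iff h).trans ⟨fun e => (k2 k' e).symm, fun e => e ▸ k1⟩⟩

theorem exists_pi : ∃ π : N[Q0.map φ] →* Equiv.Perm (Fin 6), ∀ n ∈ N[Q0.map φ], ∀ j k,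
    R φ n j k ↔ ap π n j = k := by
  choose f hf using fun (n : N[Q0.map φ]) j => R_ex h n.2 j
  letI : MulAction N[Q0.map φ] (Fin 6) :=
    { smul := f
      one_smul := fun j => (hf 1 j j).1 (R_one h j)
      mul_smul := fun m n j => (hf (m * n) j _).1 (R.mul n.2 ((hf n j _).2 rfl) ((hf m _ _).2 rfl)) }
  exact ⟨MulAction.toPermHom _ _, fun n hn j k => by rw [ap_of_mem _ hn]; exact hf ⟨n, hn⟩ j k⟩

theorem S_N : φ.range ≤ N[Q0.map φ] := h.syl_N Q_n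

theorem im_S (s : S0) : Im φ (φ s) (s * u0 * s⁻¹) (s * el 320 * s⁻¹) (s * v0 * s⁻¹) (s * el 64 * s⁻¹) :=
  ⟨S_N h ⟨s, rfl⟩, by simp only [map_mul, map_inv], by simp only [map_mul, map_inv],
    by simp only [map_mul, map_inv], by simp only [map_mul, map_inv]⟩

end H25.HR
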