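import Mathlib
import Cfsg.Agent.H24.Base3
import Cfsg.Agent.H25.MFT
import Cfsg.Agent.H25.Rank2

/-!
# Vocabulary for Bender–Glauberman, sections 10–15

Definitions, and the unfolding lemmas of the prime sets attached to a maximal subgroup.
-/

set_option autoImplicit false

namespace H25 end H25

open Subgroup H24 Cfsg H25

namespace H25

universe u

variable {G : Type u} [Group G]

/-- `H` is not a conjugate of `M` (MathComp `gval H \notin M :^: G`). -/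
def NConj (M H : Subgroup G) : Prop := ∀ g : G, H ≠ cj g M

/-- MathComp `sigma_complement M E E1 E2 E3`. -/
structure SigmaCompl (M E E₁ E₂ E₃ : Subgroup G) : Prop where
  hallE : Hall (sigma M)ᶜ M E
  hall1 : Hall (tau1 M) E E₁
  hall2 : Hall (tau2 M) E E₂
  hall3 : Hall (tau3 M) E E₃
  prod : IsProd E₂ E₁ (E₂ ⊔ E₁)

/-- MathComp `exceptional_FTmaximal p M A0 A` (Hypothesis 11.1). -/
structure ExcMax (p : ℕ) (M A₀ A : Subgroup G) : Prop where
  prime : p.Prime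
  not_sigma : p ∉ sigma M
  elemA : PnElem p 2 M A
  elemA0 : PnElem p 1 A A₀
  norm : N[A₀] ≤ M

section NConj

variable {M H : Subgroup G}

theorem NConj.symm (h : NConj M H) : NConj H M := fun g e =>
  h g⁻¹ (by rw [e, cj_inv_cj])

theorem NConj.ne (h : NConj M H) : H ≠ M := by simpa using h 1

theorem NConj.ne' (h : NConj M H) : M ≠ H := h.ne.symm

theorem NConj.cj_left (h : NConj M H) (g : G) : NConj (cj g M) H := fun x e =>
  h (x * g) (by rw [e, cj_mul])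

theorem NConj.cj_right (h : NConj M H) (g : G) : NConj M (cj g H) := (h.symm.cj_left g).symm

theorem not_nconj : ¬ NConj M H ↔ ∃ g, H = cj g M := by
  unfold NConj; push Not; rfl

theorem not_nconj_cj (M : Subgroup G) (g : G) : ¬ NConj M (cj g M) := not_nconj.2 ⟨g, rfl⟩

end NConj

section Mem

variable [Finite G] {M P : Subgroup G} {p : ℕ}

theorem mem_sigma : p ∈ sigma M ↔ p.Prime ∧ p ∣ ♯M ∧ ∃ P, Syl p M P ∧ N[P] ≤ M := by
  constructor
  · rintro ⟨hp, hd, S, hS⟩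
    exact ⟨hp, hd, _, syl_of_sylow hp S, hS⟩
  · rintro ⟨hp, hd, P, hP, hN⟩
    obtain ⟨S, rfl⟩ := hP.exists_sylow hp
    exact ⟨hp, hd, S, hN⟩

omit [Finite G] in
theorem sigma_prime (h : p ∈ sigma M) : p.Prime := h.1

omit [Finite G] in
theorem sigma_dvd (h : p ∈ sigma M) : p ∣ ♯M := h.2.1

omit [Finite G] in
theorem sigma_sub_pi (M : Subgroup G) : sigma M ⊆ primesOf M := fun _ h => ⟨h.1, h.2.1⟩

theorem mem_alpha : p ∈ alpha M ↔ p.Prime ∧ 2 < prank p M := by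
  constructor
  · rintro ⟨hp, h⟩; exact ⟨hp, (lt_prank_iff hp).2 h⟩
  · rintro ⟨hp, h⟩; exact ⟨hp, (lt_prank_iff hp).1 h⟩

omit [Finite G] in
theorem alpha_prime (h : p ∈ alpha M) : p.Prime := h.1

theorem not_mem_alpha (hp : p.Prime) : p ∉ alpha M ↔ prank p M ≤ 2 := by
  rw [mem_alpha]; simp [hp]

omit [Finite G] in
theorem mem_beta : p ∈ beta M ↔ p ∈ alpha M ∧ p ∈ betaG G := Iff.rfl

omit [Finite G] in
theorem beta_prime (h : p ∈ beta M) : p.Prime := h.1.1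

omit [Finite G] in
theorem betaG_prime (h : p ∈ betaG G) : p.Prime := h.1

omit [Finite G] in
theorem beta_sub_alpha (M : Subgroup G) : beta M ⊆ alpha M := fun _ h => h.1

omit [Finite G] in
theorem beta_sub_betaG (M : Subgroup G) : beta M ⊆ betaG G := fun _ h => h.2

/-- `β(G)` in the MathComp form: no Sylow `p`-subgroup of `G` is narrow. -/
theorem mem_betaG : p ∈ betaG G ↔ p.Prime ∧ ∀ P : Subgroup G, Syl p ⊤ P → ¬ Narrow p P := by
  constructor
  · rintro ⟨hp, hr, h⟩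
    refine ⟨hp, fun P hP hn => ?_⟩
    have h2 : 2 < prank p P := by
      rw [prank_Syl hp hP]
      exact lt_of_not_ge fun h' => hr ((prank_top_le_iff hp).1 h')
    obtain ⟨E, hE, hm⟩ := hn h2
    obtain ⟨S, rfl⟩ := hP.exists_sylow_top hp
    obtain ⟨B, hB, hBe, hlt⟩ := h S E hE.le hE.elem hE.card
    exact hlt.ne' (hm.max B hB hBe hlt.le)
  · rintro ⟨hp, h⟩
    refine ⟨hp, ?_, fun S A hA hAe hc => ?_⟩
    · obtain ⟨P, hP⟩ := Sylow_exists hp (⊤ : Subgroup G)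
      intro hr
      refine h P hP fun h2 => ?_
      rw [prank_Syl hp hP] at h2
      exact absurd ((prank_top_le_iff hp).2 hr) (not_le.2 h2)
    · by_contra hc'
      refine h S (syl_top_of_sylow hp S) fun _ => ⟨A, ⟨hA, hAe, hc⟩, hA, hAe, fun B hB hBe hAB => ?_⟩
      by_contra hne
      exact hc' ⟨B, hB, hBe, lt_of_le_of_ne hAB (Ne.symm hne)⟩

theorem Narrow_cj (hp : p.Prime) {R : Subgroup G} (h : Narrow p R) (g : G) :
    Narrow p (cj g R) := by
  intro h2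
  rw [prank_cj hp] at h2
  obtain ⟨E, hE, hm⟩ := h h2
  exact ⟨cj g E, hE.cj g, hm.cj g⟩

/-- `β(G)`: some Sylow `p`-subgroup of `G` is not narrow. -/
theorem mem_betaG_of_syl (hp : p.Prime) (hP : Syl p ⊤ P) : p ∈ betaG G ↔ ¬ Narrow p P := by
  rw [mem_betaG]
  refine ⟨fun h => h.2 P hP, fun h => ⟨hp, fun Q hQ hn => h ?_⟩⟩
  obtain ⟨g, -, rfl⟩ := Sylow_trans hp hQ hP
  exact Narrow_cj hp hn g

/-- MathComp `not_narrow_ideal`. -/
theorem not_narrow_ideal (h : p ∈ betaG G) (hP : Syl p ⊤ P) : ¬ Narrow p P :=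
  (mem_betaG.1 h).2 P hP

theorem narrow_of_not_betaG (hp : p.Prime) (h : p ∉ betaG G) (hP : Syl p ⊤ P) : Narrow p P := by
  by_contra hn; exact h ((mem_betaG_of_syl hp hP).2 hn)

omit [Finite G] in
theorem narrow_of_prank_le {R : Subgroup G} (h : prank p R ≤ 2) : Narrow p R :=
  fun h2 => absurd h (not_le.2 h2)

theorem betaG_prank (h : p ∈ betaG G) : 2 < prank p (⊤ : Subgroup G) :=
  lt_of_not_ge fun h' => h.2.1 ((prank_top_le_iff h.1).1 h')

theorem mem_tau1 : p ∈ tau1 M ↔ p.Prime ∧ p ∉ sigma M ∧ prank p M = 1 ∧ ¬ p ∣ ♯⁅M, M⁆ := by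
  constructor
  · rintro ⟨hp, hs, hd, hn, hr⟩
    refine ⟨hp, hs, le_antisymm ((prank_le_iff hp).2 hr) ((prank_pos_iff hp).2 hd), hn⟩
  · rintro ⟨hp, hs, hr, hn⟩
    exact ⟨hp, hs, (prank_pos_iff hp).1 (by omega), hn, (prank_le_iff hp).1 hr.le⟩

theorem mem_tau2 : p ∈ tau2 M ↔ p.Prime ∧ p ∉ sigma M ∧ prank p M = 2 := by
  constructor
  · rintro ⟨hp, hs, h2, h1⟩
    exact ⟨hp, hs, le_antisymm ((prank_le_iff hp).2 h2) ((lt_prank_iff hp).2 h1)⟩
  · rintro ⟨hp, hs, hr⟩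
    exact ⟨hp, hs, (prank_le_iff hp).1 hr.le, (lt_prank_iff hp).1 (by omega)⟩

theorem mem_tau3 : p ∈ tau3 M ↔ p.Prime ∧ p ∉ sigma M ∧ prank p M = 1 ∧ p ∣ ♯⁅M, M⁆ := by
  constructor
  · rintro ⟨hp, hs, hd, hr⟩
    exact ⟨hp, hs, le_antisymm ((prank_le_iff hp).2 hr)
      ((prank_pos_iff hp).2 (hd.trans (card_dvd (der1_le M)))), hd⟩
  · rintro ⟨hp, hs, hr, hd⟩
    exact ⟨hp, hs, hd, (prank_le_iff hp).1 hr.le⟩

omit [Finite G] in
theorem tau1_prime (h : p ∈ tau1 M) : p.Prime := h.1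
omit [Finite G] in
theorem tau2_prime (h : p ∈ tau2 M) : p.Prime := h.1
omit [Finite G] in
theorem tau3_prime (h : p ∈ tau3 M) : p.Prime := h.1
omit [Finite G] in
theorem tau1_not_sigma (h : p ∈ tau1 M) : p ∉ sigma M := h.2.1
omit [Finite G] in
theorem tau2_not_sigma (h : p ∈ tau2 M) : p ∉ sigma M := h.2.1
omit [Finite G] in
theorem tau3_not_sigma (h : p ∈ tau3 M) : p ∉ sigma M := h.2.1
theorem tau1_prank (h : p ∈ tau1 M) : prank p M = 1 := (mem_tau1.1 h).2.2.1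
theorem tau2_prank (h : p ∈ tau2 M) : prank p M = 2 := (mem_tau2.1 h).2.2
theorem tau3_prank (h : p ∈ tau3 M) : prank p M = 1 := (mem_tau3.1 h).2.2.1
omit [Finite G] in
theorem tau1_not_dvd_der (h : p ∈ tau1 M) : ¬ p ∣ ♯⁅M, M⁆ := h.2.2.2.1
omit [Finite G] in
theorem tau3_dvd_der (h : p ∈ tau3 M) : p ∣ ♯⁅M, M⁆ := h.2.2.1
omit [Finite G] in
theorem tau1_dvd (h : p ∈ tau1 M) : p ∣ ♯M := h.2.2.1
theorem tau2_dvd (h : p ∈ tau2 M) : p ∣ ♯M :=
  (prank_pos_iff h.1).1 (by rw [tau2_prank h]; omega)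
omit [Finite G] in
theorem tau3_dvd (h : p ∈ tau3 M) : p ∣ ♯M := (tau3_dvd_der h).trans (card_dvd (der1_le M))

omit [Finite G] in
theorem tau1_sub_sigma' (M : Subgroup G) : tau1 M ⊆ (sigma M)ᶜ := fun _ h => tau1_not_sigma h
omit [Finite G] in
theorem tau2_sub_sigma' (M : Subgroup G) : tau2 M ⊆ (sigma M)ᶜ := fun _ h => tau2_not_sigma h
omit [Finite G] in
theorem tau3_sub_sigma' (M : Subgroup G) : tau3 M ⊆ (sigma M)ᶜ := fun _ h => tau3_not_sigma h

omit [Finite G] in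
theorem tau3'1 (M : Subgroup G) : tau1 M ⊆ (tau3 M)ᶜ := fun _ h h' =>
  tau1_not_dvd_der h (tau3_dvd_der h')
theorem tau3'2 (M : Subgroup G) : tau2 M ⊆ (tau3 M)ᶜ := fun _ h h' => by
  have := tau2_prank h; have := tau3_prank h'; omega
theorem tau2'1 (M : Subgroup G) : tau1 M ⊆ (tau2 M)ᶜ := fun _ h h' => by
  have := tau1_prank h; have := tau2_prank h'; omega
omit [Finite G] in
theorem tau1'3 (M : Subgroup G) : tau3 M ⊆ (tau1 M)ᶜ := fun _ h h' => tau3'1 M h' h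
theorem tau2'3 (M : Subgroup G) : tau3 M ⊆ (tau2 M)ᶜ := fun _ h h' => tau3'2 M h' h
theorem tau1'2 (M : Subgroup G) : tau2 M ⊆ (tau1 M)ᶜ := fun _ h h' => tau2'1 M h' h

/-! ### conjugation invariance -/

theorem sigma_cj_sub (g : G) (M : Subgroup G) : sigma M ⊆ sigma (cj g M) := by
  intro p h
  obtain ⟨hp, hd, P, hP, hN⟩ := mem_sigma.1 h
  refine mem_sigma.2 ⟨hp, by rwa [card_cj], cj g P, hP.cj g, ?_⟩
  rw [← cj_N]; exact cj_mono g hN

@[simp] theorem sigma_cj (g : G) (M : Subgroup G) : sigma (cj g M) = sigma M := by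
  refine Set.Subset.antisymm ?_ (sigma_cj_sub g M)
  simpa using sigma_cj_sub g⁻¹ (cj g M)

@[simp] theorem alpha_cj (g : G) (M : Subgroup G) : alpha (cj g M) = alpha M := by
  ext p; rw [mem_alpha, mem_alpha]
  exact and_congr_right fun hp => by rw [prank_cj hp]

@[simp] theorem beta_cj (g : G) (M : Subgroup G) : beta (cj g M) = beta M := by
  ext p; rw [mem_beta, mem_beta, alpha_cj]

@[simp] theorem tau1_cj (g : G) (M : Subgroup G) : tau1 (cj g M) = tau1 M := by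
  ext p; rw [mem_tau1, mem_tau1, sigma_cj, ← cj_comm, card_cj]
  exact and_congr_right fun hp => by rw [prank_cj hp]

@[simp] theorem tau2_cj (g : G) (M : Subgroup G) : tau2 (cj g M) = tau2 M := by
  ext p; rw [mem_tau2, mem_tau2, sigma_cj]
  exact and_congr_right fun hp => by rw [prank_cj hp]

@[simp] theorem tau3_cj (g : G) (M : Subgroup G) : tau3 (cj g M) = tau3 M := by
  ext p; rw [mem_tau3, mem_tau3, sigma_cj, ← cj_comm, card_cj]
  exact and_congr_right fun hp => by rw [prank_cj hp]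

theorem alpha_mono {H : Subgroup G} (h : H ≤ M) : alpha H ⊆ alpha M := fun _ hp =>
  mem_alpha.2 ⟨hp.1, lt_of_lt_of_le (mem_alpha.1 hp).2 (prank_mono hp.1 h)⟩

theorem alpha_sub_pi (M : Subgroup G) : alpha M ⊆ primesOf M := fun _ h =>
  ⟨h.1, (prank_pos_iff h.1).1 (by have := (mem_alpha.1 h).2; omega)⟩

end Mem

end H25
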