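import Mathlib
import Cfsg.Agent.H24.Base5
import Cfsg.Agent.H25.Rank3
import Cfsg.Agent.H1.S03

/-!
# The results of Bender–Glauberman §3 used in §10–§15, in the relative vocabulary
-/

set_option autoImplicit false

open Subgroup H24 Cfsg H25

namespace H25

universe u

variable {G : Type u} [Group G] [Finite G]
variable {A B H K L M R R₀ V : Subgroup G} {p q : ℕ}

/-- Theorem 3.6 -/
theorem odd_sdprod_Zgroup_cent_prime_plength1 (hp : p.Prime) (hM : Sol M) (hodd : Odd ♯M)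
    (h : SD H R M) (hcop : (♯H).Coprime ♯R) (hR₀ : R₀ ≤ R) (hR₀p : (♯R₀).Prime)
    (hZ : IsZGroup ↥(H ⊓ C[R₀])) : PLen1 p ⁅H, R⁆ :=
  H1.odd_sdprod_Zgroup_cent_prime_plength1 hp hM hodd h hcop hR₀ hR₀p hZ

/-- Theorem 3.7 -/
theorem prime_Frobenius_sol_kernel_nil (hRK : R ≤ N[K]) (hK : Sol K) (hR : (♯R).Prime)
    (hreg : K ⊓ C[R] = ⊥) : Nil K :=
  H1.semiregular_sol_nil hK hRK (ne_bot_of_prime hR) (semireg_of_prime hR hreg)

end H25
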