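import Mathlib
import Cfsg.Agent.H2.MinNormal
import Cfsg.Agent.H24.Base4
import Cfsg.Agent.H25.Voc
import Cfsg.Agent.H26.S01
import Cfsg.Agent.S1392
import Cfsg.Agent.S1394
import Cfsg.Agent.S1395
import Cfsg.Agent.S1396
import Cfsg.Agent.S1398
import Cfsg.Agent.S1399
import Cfsg.Agent.S1403

/-!
# The results of Bender–Glauberman §7–§9 used in §10–§15, in the relative vocabulary
-/

set_option autoImplicit false

open Subgroup H24 Cfsg H25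

namespace H25

universe u

variable {G : Type u} [Group G] [Finite G] [hG : FT G]
variable {A B H K L M P Q Q₁ Q₂ : Subgroup G} {p q : ℕ}

omit hG in
theorem pcore_primesNotDvd (hA : IsPi {p} A) (h1 : A ≠ ⊥) (H : Subgroup G) :
    piCoreOf (primesNotDvd (Nat.card A)) H = O[{p}ᶜ, H] := by
  refine pcore_congr fun r hr _ => ⟨fun h e => ?_, fun h => ⟨hr, fun hd => h (hA r hr hd)⟩⟩
  obtain rfl : r = p := e
  exact h.2 (hA.dvd_card h1)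

omit [Finite G] hG in
theorem mem_maxInv {π : Set ℕ} : Q ∈ maxInvSubgroups ⊤ A π ↔
    IsPi π Q ∧ A ≤ N[Q] ∧ ∀ R : Subgroup G, IsPi π R → A ≤ N[R] → Q ≤ R → R = Q :=
  ⟨fun h => ⟨h.1.2.1, h.1.2.2, fun R h1 h2 h3 => h.2 R ⟨le_top, h1, h2⟩ h3⟩,
    fun h => ⟨⟨le_top, h.1, h.2.1⟩, fun R hR h3 => h.2.2 R hR.2.1 hR.2.2 h3⟩⟩

omit hG in
theorem maxInv_exists {π : Set ℕ} (hQ : IsPi π Q) (hA : A ≤ N[Q]) :
    ∃ R, R ∈ maxInvSubgroups ⊤ A π ∧ Q ≤ R := by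
  obtain ⟨R, h1, h2, h3⟩ := exists_max (P := fun R : Subgroup G => IsPi π R ∧ A ≤ N[R]) ⟨hQ, hA⟩
  exact ⟨R, mem_maxInv.2 ⟨h2.1, h2.2, fun S a b c => h3 S ⟨a, b⟩ c⟩, h1⟩

omit hG in
theorem maxInv_of_syl (hQ : Syl q ⊤ Q) (hA : A ≤ N[Q]) : Q ∈ maxInvSubgroups ⊤ A {q} :=
  mem_maxInv.2 ⟨hQ.pi, hA, fun _ h1 _ h3 => hQ.eq_of_le h1 h3 le_top⟩

/-- Proposition 7.5(1), for a maximal elementary abelian subgroup. -/
theorem plength_1_normed_constrained (hp : p.Prime) (h1 : A ≠ ⊥) (hA : PmaxElem p ⊤ A)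
    (hl : ∀ H : Subgroup G, H ≠ ⊤ → PLen1 p H) : TransitivityHypothesis A := by
  have := Fact.mk hp
  have hpi := hA.elem.isPi hp
  refine Cfsg.Agent.S1396.result hG.out p ((hpi.dvd_card h1).trans (card_subgroup_dvd_card A)) A
    hA.elem.isPGroup hA.elem.abl (Or.inl ⟨fun x hx => ⟨fun h => hA.mem_of_cent trivial hx h,
      fun h => hA.elem.pow h⟩, fun H hH => (H26.plength1_iff hp).1 (hl H hH)⟩)

/-- Lemma 7.1. -/
theorem normed_constrained_meet_trans (hAp : IsPi {p} A) (hA : TransitivityHypothesis A)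
    (hq : q.Prime) (hpq : q ≠ p) (h1 : Q₁ ∈ maxInvSubgroups ⊤ A {q})
    (h2 : Q₂ ∈ maxInvSubgroups ⊤ A {q}) (hH : H ≠ ⊤) (hAH : A ≤ H) (hH1 : H ⊓ Q₁ ≠ ⊥)
    (hH2 : H ⊓ Q₂ ≠ ⊥) : ∃ k ∈ O[{p}ᶜ, C[A]], Q₂ = cj k Q₁ := by
  have := Cfsg.Agent.S1392.result hG.out A hA q hq (fun hd => hpq (hAp q hq hd)) Q₁ Q₂ h1 h2 H hH
    hAH hH1 hH2
  rwa [pcore_primesNotDvd hAp hA.1] at this

/-- Theorem 7.3. -/
theorem normed_constrained_rank2_trans (hAp : IsPi {p} A) (hA : TransitivityHypothesis A)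
    (hr : 2 ≤ rank Z[A]) (hq : q.Prime) (hpq : q ≠ p) (hqC : q ∣ ♯C[A])
    (h1 : Q₁ ∈ maxInvSubgroups ⊤ A {q}) (h2 : Q₂ ∈ maxInvSubgroups ⊤ A {q}) :
    ∃ k ∈ O[{p}ᶜ, C[A]], Q₂ = cj k Q₁ := by
  have := Cfsg.Agent.S1394.result hG.out A hA (lt_rank_iff.1 hr) q hq
    (fun hd => hpq (hAp q hq hd)) hqC Q₁ h1 Q₂ h2
  rwa [pcore_primesNotDvd hAp hA.1] at this

/-- Theorem 7.4, for `p`-groups. -/
theorem normed_trans_superset (hp : p.Prime) (hA : TransitivityHypothesis A) (hq : q.Prime)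
    (hpq : q ≠ p) (hP : IsPi {p} P) (hAP : A ≤ P)
    (htr : ∀ Q₁ ∈ maxInvSubgroups ⊤ A {q}, ∀ Q₂ ∈ maxInvSubgroups ⊤ A {q},
      ∃ k ∈ O[{p}ᶜ, C[A]], Q₂ = cj k Q₁) :
    O[{p}ᶜ, C[A]] ⊓ C[P] = O[{p}ᶜ, C[P]] ∧
      (∀ Q₁ ∈ maxInvSubgroups ⊤ P {q}, ∀ Q₂ ∈ maxInvSubgroups ⊤ P {q},
        ∃ k ∈ O[{p}ᶜ, C[P]], Q₂ = cj k Q₁) ∧
      maxInvSubgroups ⊤ P {q} ⊆ maxInvSubgroups ⊤ A {q} ∧
      ∀ Q ∈ maxInvSubgroups ⊤ P {q}, P ⊓ ⁅N[P], N[P]⁆ ≤ ⁅N[Q], N[Q]⁆ ∧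
        IsProd O[{p}ᶜ, C[P]] (N[P] ⊓ N[Q]) N[P] := by
  have hAp : IsPi {p} A := hP.of_le hAP
  have hsn : (A.subgroupOf P).IsSubnormal := by
    have : Group.IsNilpotent P := hP.nil hp
    exact H2.isNilpotent_iff_forall_isSubnormal.1 this _
  have := Cfsg.Agent.S1395.result hG.out A hA q hq (fun hd => hpq (hAp q hq hd)) P
    (mFT_pgroup_proper hP) (fun r hr hd => by
      obtain rfl : r = p := hP r hr hd
      exact hAp.dvd_card hA.1) hAP hsn (by rw [pcore_primesNotDvd hAp hA.1]; exact htr)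
  rw [pcore_primesNotDvd hAp hA.1, pcore_primesNotDvd hAp hA.1] at this
  refine ⟨this.1, this.2.1, this.2.2.1, fun Q hQ => ⟨(this.2.2.2 Q hQ).1, ?_⟩⟩
  have h := (this.2.2.2 Q hQ).2
  have hn : N[P] ⊓ N[Q] ≤ N[O[{p}ᶜ, C[P]]] := inf_le_left.trans (norm_pcore _ (N_le_NC P))
  have := isProd_sup hn
  rwa [← h] at this

/-- Theorem 9.1, first form. -/
theorem noncyclic_cent1_sub_Uniqueness (hM : IsCoatom M) (hp : p.Prime) (hBM : B ≤ M)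
    (hB : IsElementaryAbelian p B) (hnc : ¬ Cyc B) (h : ∀ b ∈ B, b ≠ 1 → C{b} ≤ M) : Uniq B := by
  have := Fact.mk hp
  exact Cfsg.Agent.S1398.result hG.out M hM p B hBM hB hnc (Or.inl h)

/-- Theorem 9.1, second form. -/
theorem noncyclic_normed_sub_Uniqueness (hM : IsCoatom M) (hp : p.Prime) (hBM : B ≤ M)
    (hB : IsElementaryAbelian p B) (hnc : ¬ Cyc B)
    (h : ∀ Y : Subgroup G, IsPi {p}ᶜ Y → B ≤ N[Y] → Y ≤ M) : Uniq B := by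
  have := Fact.mk hp
  refine Cfsg.Agent.S1398.result hG.out M hM p B hBM hB hnc (Or.inr fun Y hY => h Y ?_ hY.2.2)
  intro r hr hd e
  obtain rfl : r = p := e
  exact (hY.2.1 r hr hd).2 dvd_rfl

/-- Corollary 9.2. -/
theorem cent_uniq_Uniqueness (hL : Uniq L) (hK : K ≤ C[L]) (hr : 1 < rank K) : Uniq K :=
  Cfsg.Agent.S1399.result hG.out L K hL hK (lt_rank_iff.1 hr)

/-- The Uniqueness Theorem, first form. -/
theorem rank3_Uniqueness (hK : K ≠ ⊤) (hr : 2 < rank K) : Uniq K :=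
  Cfsg.Agent.S1403.result hG.out K hK (lt_rank_iff.1 (by omega)) (Or.inl (lt_rank_iff.1 hr))

/-- The Uniqueness Theorem, second form. -/
theorem cent_rank3_Uniqueness (h1 : 1 < rank K) (hr : 2 < rank C[K]) : Uniq K := by
  refine Cfsg.Agent.S1403.result hG.out K ?_ (lt_rank_iff.1 h1) (Or.inr (lt_rank_iff.1 hr))
  rintro rfl
  rw [cent_mFT_trivial, rank_bot] at hr
  omega

/-- The Uniqueness Theorem, third form. -/
theorem nonmaxElem2_Uniqueness (hp : p.Prime) (hA : PnElem p 2 ⊤ A) (h : ¬ PmaxElem p ⊤ A) :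
    Uniq A := by
  obtain ⟨B, hB, hAB⟩ := hA.exists_succ_of_not_pmax hp h
  refine cent_rank3_Uniqueness (by rw [hA.rank_eq hp]; omega) ?_
  exact (hB.of_le (cents_of_le hB.le_cent hAB)).le_rank hp

theorem prank3_Uniqueness (hp : p.Prime) (hK : K ≠ ⊤) (hr : 2 < prank p K) : Uniq K :=
  rank3_Uniqueness hK (hr.trans_le (prank_le_rank hp K))

end H25
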