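import Mathlib
import Cfsg.Agent.H24.Base5
import Cfsg.Agent.H25.Voc
import Cfsg.Agent.H25.Rank3
import Cfsg.Agent.H25.Ext7
import Cfsg.Agent.H26.S01
import Cfsg.Agent.H26.S04

/-!
# Bender–Glauberman §10, first part (10.1 – 10.5)
-/

set_option autoImplicit false
set_option linter.unusedSectionVars false

open Subgroup H24 Cfsg H25
open scoped commutatorElement

namespace H25

universe u

variable {G : Type u} [Group G] [Finite G] [FT G]
variable {M H K P Q R S X Y A V E : Subgroup G} {p q : ℕ} {g : G}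

/-! ### the cores -/

section Cores
omit [FT G]

omit [Finite G] in
theorem sigmaCore_nml (M : Subgroup G) : sigmaCore M ⊴ M := pcore_nml _ M
omit [Finite G] in
theorem alphaCore_nml (M : Subgroup G) : alphaCore M ⊴ M := pcore_nml _ M
omit [Finite G] in
theorem betaCore_nml (M : Subgroup G) : betaCore M ⊴ M := pcore_nml _ M
omit [Finite G] in
theorem sigmaCore_le (M : Subgroup G) : sigmaCore M ≤ M := pcore_le _ M
omit [Finite G] in
theorem alphaCore_le (M : Subgroup G) : alphaCore M ≤ M := pcore_le _ M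
omit [Finite G] in
theorem betaCore_le (M : Subgroup G) : betaCore M ≤ M := pcore_le _ M
omit [Finite G] in
theorem sigmaCore_norm (M : Subgroup G) : M ≤ N[sigmaCore M] := (sigmaCore_nml M).norm
omit [Finite G] in
theorem alphaCore_norm (M : Subgroup G) : M ≤ N[alphaCore M] := (alphaCore_nml M).norm
omit [Finite G] in
theorem betaCore_norm (M : Subgroup G) : M ≤ N[betaCore M] := (betaCore_nml M).norm
theorem sigmaCore_pi (M : Subgroup G) : IsPi (sigma M) (sigmaCore M) := pcore_pi _ M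
theorem alphaCore_pi (M : Subgroup G) : IsPi (alpha M) (alphaCore M) := pcore_pi _ M
theorem betaCore_pi (M : Subgroup G) : IsPi (beta M) (betaCore M) := pcore_pi _ M

theorem sigmaCore_cj (g : G) (M : Subgroup G) : sigmaCore (cj g M) = cj g (sigmaCore M) := by
  rw [sigmaCore_def, sigma_cj, pcore_cj, sigmaCore_def]
theorem alphaCore_cj (g : G) (M : Subgroup G) : alphaCore (cj g M) = cj g (alphaCore M) := by
  rw [alphaCore_def, alpha_cj, pcore_cj, alphaCore_def]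
theorem betaCore_cj (g : G) (M : Subgroup G) : betaCore (cj g M) = cj g (betaCore M) := by
  unfold betaCore; rw [beta_cj, pcore_cj]

theorem Mbeta_sub_Malpha (M : Subgroup G) : betaCore M ≤ alphaCore M :=
  pcore_mono M (beta_sub_alpha M)

theorem norm_sigma_Sylow (hp : p ∈ sigma M) (hP : Syl p M P) : N[P] ≤ M := by
  obtain ⟨hpr, -, Q, hQ, hN⟩ := mem_sigma.1 hp
  obtain ⟨m, hm, rfl⟩ := Sylow_trans hpr hQ hP
  rw [← cj_N]
  exact cj_le_of_mem hN hm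

theorem sigma_Sylow_G (hp : p ∈ sigma M) (hP : Syl p M P) : Syl p ⊤ P :=
  hP.of_norm_le hp.1 le_top (inf_le_right.trans (norm_sigma_Sylow hp hP))

omit [Finite G] in
theorem sigma_Sylow_neq1 (hp : p ∈ sigma M) (hP : Syl p M P) : P ≠ ⊥ :=
  hP.ne_bot' (sigma_sub_pi M hp)

theorem mmax_sigma_Sylow (hp : p.Prime) (hP : Syl p M P) (hP1 : P ≠ ⊥) (hN : N[P] ≤ M) :
    p ∈ sigma M :=
  mem_sigma.2 ⟨hp, (hP.pi.dvd_card hP1).trans (card_dvd hP.le), P, hP, hN⟩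

/-- 10.1(d) -/
theorem sigma_Sylow_trans (hp : p ∈ sigma M) (hX : Syl p M X) (h : cj g X ≤ M) : g ∈ M := by
  have hX' : Syl p M (cj g X) := hX.of_card h (card_cj g X)
  obtain ⟨m, hm, e⟩ := Sylow_trans hp.1 hX hX'
  have := norm_sigma_Sylow hp hX (cj_eq_cj_iff.1 e)
  simpa using M.mul_mem hm this

end Cores

theorem alpha_sub_sigma (hM : IsCoatom M) : alpha M ⊆ sigma M := by
  intro p hp
  obtain ⟨hpr, hr⟩ := mem_alpha.1 hp
  obtain ⟨P, hP⟩ := Sylow_exists hpr M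
  have hU : Uniq P := prank3_Uniqueness hpr (sub_mmax_proper hM hP.le) (by rwa [prank_Syl hpr hP])
  exact mem_sigma.2 ⟨hpr, (alpha_sub_pi M hp).2, P, hP, uniq_norm_le hU hM hP.le⟩

theorem beta_sub_sigma (hM : IsCoatom M) : beta M ⊆ sigma M :=
  (beta_sub_alpha M).trans (alpha_sub_sigma hM)

theorem Malpha_sub_Msigma (hM : IsCoatom M) : alphaCore M ≤ sigmaCore M :=
  pcore_mono M (alpha_sub_sigma hM)

theorem Mbeta_sub_Msigma (hM : IsCoatom M) : betaCore M ≤ sigmaCore M :=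
  pcore_mono M (beta_sub_sigma hM)

omit [FT G] in
theorem sigma'_Sylow_contra (hM : IsCoatom M) (hp : p.Prime) (hs : p ∉ sigma M) (hP : Syl p M P) :
    ¬ N[P] ≤ M := by
  intro hN
  refine hs (mmax_sigma_Sylow hp hP ?_ hN)
  rintro rfl
  rw [N_bot] at hN
  exact hM.1 (top_le_iff.1 hN)

theorem sigma'_prank_le (hM : IsCoatom M) (hp : p.Prime) (hs : p ∉ sigma M) : prank p M ≤ 2 :=
  (not_mem_alpha hp).1 fun h => hs (alpha_sub_sigma hM h)

omit [FT G] in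
theorem sigma_prank_top (hp : p ∈ sigma M) : prank p M = prank p (⊤ : Subgroup G) := by
  obtain ⟨P, hP⟩ := Sylow_exists hp.1 M
  rw [← prank_Syl hp.1 hP, prank_Syl hp.1 (sigma_Sylow_G hp hP)]

theorem predI_sigma_alpha (hM : IsCoatom M) :
    p ∈ alpha M ↔ p ∈ sigma M ∧ p ∈ alpha (⊤ : Subgroup G) :=
  ⟨fun h => ⟨alpha_sub_sigma hM h, alpha_mono le_top h⟩, fun h =>
    mem_alpha.2 ⟨h.1.1, by rw [sigma_prank_top h.1]; exact (mem_alpha.1 h.2).2⟩⟩

theorem predI_sigma_beta (hM : IsCoatom M) : p ∈ beta M ↔ p ∈ sigma M ∧ p ∈ betaG G :=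
  ⟨fun h => ⟨beta_sub_sigma hM h, h.2⟩, fun h =>
    ⟨(predI_sigma_alpha hM).2 ⟨h.1, mem_alpha.2 ⟨h.1.1, betaG_prank h.2⟩⟩, h.2⟩⟩

/-- the MathComp definition of `β(M)`. -/
theorem mem_beta_iff_narrow (hM : IsCoatom M) :
    p ∈ beta M ↔ p.Prime ∧ ∀ P, Syl p M P → ¬ Narrow p P := by
  refine ⟨fun h => ⟨beta_prime h, fun P hP =>
    not_narrow_ideal h.2 (sigma_Sylow_G (beta_sub_sigma hM h) hP)⟩, fun ⟨hp, h⟩ => ?_⟩
  obtain ⟨P, hP⟩ := Sylow_exists hp M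
  have ha : p ∈ alpha M := mem_alpha.2 ⟨hp, by
    rw [← prank_Syl hp hP]
    exact lt_of_not_ge fun h' => h P hP (narrow_of_prank_le h')⟩
  exact ⟨ha, (mem_betaG_of_syl hp (sigma_Sylow_G (alpha_sub_sigma hM ha) hP)).2 (h P hP)⟩

theorem narrow_of_not_beta (hM : IsCoatom M) (hp : p.Prime) (hb : p ∉ beta M) (hP : Syl p M P) :
    Narrow p P := by
  by_contra hn
  refine hb ((mem_beta_iff_narrow hM).2 ⟨hp, fun Q hQ hQn => hn ?_⟩)
  obtain ⟨m, -, rfl⟩ := Sylow_trans hp hQ hP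
  exact Narrow_cj hp hQn m

/-! ### Theorem 10.1 -/

/-- 10.1(b) -/
theorem sigma_group_trans_b (hM : IsCoatom M) (hp : p ∈ sigma M) (hX : IsPi {p} X) {g h : G}
    (h1 : X ≤ cj g M) (h2 : X ≤ cj h M) : ∃ c ∈ C[X], cj h M = cj c (cj g M) := by
  have hpr := hp.1
  induction X using subgroup_ind_up generalizing g h with
  | _ X IH =>
  by_cases hX1 : X = ⊥
  · subst hX1
    exact ⟨h * g⁻¹, by rw [C_bot]; trivial, by rw [← cj_mul]; simp⟩
  by_cases hXS : Syl p ⊤ X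
  · have hs : p ∈ sigma (cj g M) := by rwa [sigma_cj]
    have : (h * g⁻¹)⁻¹ ∈ cj g M := by
      refine sigma_Sylow_trans hs (hXS.of_le h1 le_top) ?_
      rw [cj_le_iff, inv_inv, ← cj_mul]; simpa using h2
    refine ⟨1, one_mem _, ?_⟩
    rw [cj_one, ← cj_of_mem (inv_mem this), ← cj_mul]; simp
  -- `X` is not a Sylow subgroup of any conjugate of `M`
  have hup : ∀ k : G, X ≤ cj k M → ∃ Y, IsPi {p} Y ∧ X < Y ∧ Y ≤ cj k M ∧ Y ≤ N[X] := fun k hk =>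
    exists_lt_norm_of_not_syl hpr hX hk fun hs => hXS (sigma_Sylow_G (by rwa [sigma_cj]) hs)
  obtain ⟨X₁, hX₁, hlt₁, -, hN₁⟩ := hup g h1
  obtain ⟨P, hP, hX₁P⟩ := Sylow_superset hpr hX₁ hN₁
  have hXP : X < P := hlt₁.trans_le hX₁P
  obtain ⟨S, hS⟩ := Sylow_exists hpr M
  obtain ⟨g₀, -, hPS⟩ := Sylow_subJ hpr (sigma_Sylow_G hp hS) hP.pi le_top
  have hP0 : P ≤ cj g₀ M := hPS.trans (cj_mono g₀ hS.le)
  have hL : N[X] ≠ ⊤ := mFT_norm_proper hX1 (mFT_pgroup_proper hX)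
  have hA : ∀ k : G, X ≤ cj k M → ∃ l ∈ N[X], cj k M = cj l (cj g₀ M) := by
    intro k hk
    obtain ⟨Y, hY, hlt, hYM, hYN⟩ := hup k hk
    obtain ⟨t, ht, htP⟩ := Sylow_Jsub hpr hP hY hYN
    have hlt' : X < cj t Y := by
      rw [← cj_of_mem_N ht]; exact cj_lt_cj.2 hlt
    obtain ⟨c, hc, e⟩ := IH (cj t Y) hlt' (hY.cj t) (htP.trans hP0)
      (show cj t Y ≤ cj (t * k) M by rw [cj_mul]; exact cj_mono t hYM)
    refine ⟨t⁻¹ * c, mul_mem (inv_mem ht) (C_le_N X (C_anti hlt'.le hc)), ?_⟩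
    rw [cj_mul, ← e, ← cj_mul]; simp
  have hB : ∀ l ∈ N[X], ∃ c ∈ C[X], cj l (cj g₀ M) = cj c (cj g₀ M) := by
    intro l hl
    by_cases hr : 2 < prank p P
    · have hU : Uniq P := prank3_Uniqueness hpr (mFT_pgroup_proper hP.pi) hr
      have := uniq_le_mmax hU (isCoatom_cj hM g₀) hP0 hP.le hL
      exact ⟨1, one_mem _, by rw [cj_one, cj_of_mem (this hl)]⟩
    have hpl : PLen1 p N[X] := (H26.rank2_der1_complement hpr (mFT_sol hL) (mFT_odd _)
      (by rw [← prank_Syl hpr hP]; omega)).2.2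
    obtain ⟨o, ho, n, hn, rfl⟩ := (hpl.isProd hpr hP).mul l hl
    obtain ⟨c, hc, e⟩ := IH P hXP hP.pi hP0 (show P ≤ cj (n * g₀) M by
      rw [cj_mul, ← cj_of_mem_N hn.2]; exact cj_mono n hP0)
    refine ⟨o * c, mul_mem (pcore_compl_cents hX (nml_N X) ho) (C_anti hXP.le hc), ?_⟩
    rw [cj_mul, cj_mul, ← e, cj_mul]
  obtain ⟨l₁, hl₁, e₁⟩ := hA g h1
  obtain ⟨l₂, hl₂, e₂⟩ := hA h h2
  obtain ⟨c₁, hc₁, f₁⟩ := hB l₁ hl₁
  obtain ⟨c₂, hc₂, f₂⟩ := hB l₂ hl₂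
  refine ⟨c₂ * c₁⁻¹, mul_mem hc₂ (inv_mem hc₁), ?_⟩
  rw [e₁, e₂, f₁, f₂, cj_mul, cj_inv_cj]

/-- 10.1(a) -/
theorem sigma_group_trans_a (hM : IsCoatom M) (hp : p ∈ sigma M) (hX : IsPi {p} X) (hXM : X ≤ M)
    (h : cj g X ≤ M) : ∃ m ∈ M, ∃ c ∈ C[X], g = m * c := by
  obtain ⟨c, hc, e⟩ := sigma_group_trans_b hM hp hX (g := 1) (h := g⁻¹) (by rwa [cj_one])
    (cj_le_iff.1 h)
  rw [cj_one] at e
  have := cj_eq_cj_iff.1 e
  rw [norm_mmax hM] at this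
  exact ⟨g * c, by simpa using inv_mem this, c⁻¹, inv_mem hc, by simp⟩

/-- 10.1(c) -/
theorem sigma_group_trans_c (hM : IsCoatom M) (hp : p ∈ sigma M) (hX : IsPi {p} X) (hXM : X ≤ M) :
    IsProd C[X] (M ⊓ N[X]) N[X] := by
  refine IsProd.symm ⟨inf_le_right, C_le_N X, fun n hn => ?_⟩
  obtain ⟨m, hm, c, hc, e⟩ := sigma_group_trans_a hM hp hX hXM (g := n)
    (by rwa [cj_of_mem_N hn])
  refine ⟨m, ⟨hm, ?_⟩, c, hc, e⟩
  have := mul_mem hn (inv_mem (C_le_N X hc))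
  rwa [e, mul_inv_cancel_right] at this

/-- 10.1(e) -/
theorem sigma_group_trans_e (hM : IsCoatom M) (hp : p ∈ sigma M) (hX : IsPi {p} X) (hXM : X ≤ M)
    (hC : C[X] ≤ M) (h : cj g X ≤ M) : g ∈ M := by
  obtain ⟨m, hm, c, hc, rfl⟩ := sigma_group_trans_a hM hp hX hXM h
  exact mul_mem hm (hC hc)

theorem sigma_norm_le_of_cent (hM : IsCoatom M) (hp : p ∈ sigma M) (hX : IsPi {p} X) (hXM : X ≤ M)
    (hC : C[X] ≤ M) : N[X] ≤ M := fun n hn =>
  sigma_group_trans_e hM hp hX hXM hC (by rwa [cj_of_mem_N hn])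

/-! ### Theorem 10.2 -/

omit [FT G] in
theorem alpha'_Fitting_quo (M : Subgroup G) : IsPi (alpha M)ᶜ F[quo M (alphaCore M)] := by
  have h := (Fitting_nil (quo M (alphaCore M))).pcoreC (alpha M)
  have h0 : O[alpha M, F[quo M (alphaCore M)]] = ⊥ :=
    eq_bot_of_le (pcore_quo_pcore (alpha M) M) (pcore_Fitting_le _ _)
  rw [← h.sup, h0, bot_sup_eq]
  exact pcore_pi _ _

theorem Malpha_quo_sub_Fitting (hM : IsCoatom M) :
    quo ⁅M, M⁆ (alphaCore M) ≤ F[quo M (alphaCore M)] := by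
  rw [quo_comm (alphaCore_norm M) (alphaCore_norm M)]
  refine H26.rank2_der1_sub_Fitting (odd_quo (mFT_odd M) _) ((mmax_sol hM).quo _)
    (rank_le_of_isPi (alpha'_Fitting_quo M) fun p hp hpa => ?_)
  refine (prank_mono hp (Fitting_le _)).trans ?_
  rw [prank_quo_of_p' hp (alphaCore_norm M) ((alphaCore_pi M).compl_of_not_mem hpa)]
  exact (not_mem_alpha hp).1 hpa

theorem sigma_Sylow_sub_der1 (hM : IsCoatom M) (hp : p ∈ sigma M) (hP : Syl p M P) :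
    P ≤ ⁅M, M⁆ := by
  have h := H26.focal_subgroup_gen hp.1 (sigma_Sylow_G hp hP)
  rw [mFT_der1, inf_top_eq] at h
  rw [h, closure_le]
  rintro _ ⟨x, hx, u, -, hu, rfl⟩
  obtain ⟨m, hm, c, hc, rfl⟩ := sigma_group_trans_a hM hp (X := zpowers x) (g := u)
    (hP.pi.of_le (zpowers_le.2 hx)) ((zpowers_le.2 hx).trans hP.le)
    (by rw [cj_zpowers]; exact zpowers_le.2 (hP.le hu))
  rw [C_zpowers, mem_C1] at hc
  have : x⁻¹ * (m * c * x * (m * c)⁻¹) = ⁅x⁻¹, m⁆ := by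
    rw [commutatorElement_def, mul_assoc m c x, hc]; group
  rw [this]
  exact commutator_mem_commutator (inv_mem (hP.le hx)) hm

theorem sigma_sub_der1 (hM : IsCoatom M) (hH : Hall (sigma M) M H) : H ≤ ⁅M, M⁆ :=
  le_of_forall_syl_le fun p _ hp hd hP =>
    sigma_Sylow_sub_der1 hM (hH.pi p hp hd) (hH.trans_syl hP (hH.pi p hp hd))

theorem Malpha_Hall (hM : IsCoatom M) : Hall (alpha M) M (alphaCore M) := by
  refine hall_of_syl (alphaCore_le M) (alphaCore_pi M) fun p hp hpa _ => ?_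
  obtain ⟨P, hP⟩ := Sylow_exists hp M
  refine ⟨P, hP, (quo_eq_bot (hP.le.trans (alphaCore_norm M))).1 ?_⟩
  refine ((hP.pi.quo _).of_mem hpa).eq_bot ((alpha'_Fitting_quo M).of_le ?_)
  exact (quo_mono _ (sigma_Sylow_sub_der1 hM (alpha_sub_sigma hM hpa) hP)).trans
    (Malpha_quo_sub_Fitting hM)

theorem Msigma_Hall (hM : IsCoatom M) : Hall (sigma M) M (sigmaCore M) := by
  obtain ⟨H, hH, hle⟩ := H26.Hall_superset (mmax_sol hM) (alphaCore_le M)
    ((alphaCore_pi M).mono (alpha_sub_sigma hM))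
  refine hH.pcore_hall (norm_of_quo (alphaCore_norm M) ((alphaCore_nml M).of_le hle hH.le) ?_)
  refine (Fitting_nil (quo M (alphaCore M))).norm_hall (π := sigma M) ?_ (Fitting_nml _).norm
  exact (hH.quo (alphaCore_norm M)).of_le
    ((quo_mono _ (sigma_sub_der1 hM hH)).trans (Malpha_quo_sub_Fitting hM)) (Fitting_le _)

theorem pi_Msigma (hM : IsCoatom M) : primesOf (sigmaCore M) = sigma M := by
  ext p
  rw [(Msigma_Hall hM).mem_primesOf]
  exact ⟨fun h => h.1, fun h => ⟨h, sigma_sub_pi M h⟩⟩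

theorem sigma_dvd_Msigma (hM : IsCoatom M) (hp : p ∈ sigma M) : p ∣ ♯(sigmaCore M) := by
  rw [← pi_Msigma hM] at hp; exact hp.2

omit [FT G] in
theorem hall_G_of_sub_sigma {π : Set ℕ} (hπ : π ⊆ sigma M) (hH : Hall π M H) : Hall π ⊤ H := by
  refine hall_of_syl le_top hH.pi fun p hp hpa _ => ?_
  obtain ⟨P, hP⟩ := Sylow_exists hp H
  exact ⟨P, sigma_Sylow_G (hπ hpa) (hH.trans_syl hP hpa), hP.le⟩

theorem Msigma_Hall_G (hM : IsCoatom M) : Hall (sigma M) ⊤ (sigmaCore M) :=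
  hall_G_of_sub_sigma le_rfl (Msigma_Hall hM)

theorem Malpha_Hall_G (hM : IsCoatom M) : Hall (alpha M) ⊤ (alphaCore M) :=
  hall_G_of_sub_sigma (alpha_sub_sigma hM) (Malpha_Hall hM)

theorem Msigma_der1 (hM : IsCoatom M) : sigmaCore M ≤ ⁅M, M⁆ := sigma_sub_der1 hM (Msigma_Hall hM)

theorem Malpha_der1 (hM : IsCoatom M) : alphaCore M ≤ ⁅M, M⁆ :=
  (Malpha_sub_Msigma hM).trans (Msigma_der1 hM)

theorem Mbeta_der1 (hM : IsCoatom M) : betaCore M ≤ ⁅M, M⁆ :=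
  (Mbeta_sub_Msigma hM).trans (Msigma_der1 hM)

theorem Malpha_quo_rank2 (hM : IsCoatom M) : rank (quo M (alphaCore M)) ≤ 2 := by
  refine rank_le_of_isPi ((isPi_quo_iff (alphaCore_norm M)).2 (Malpha_Hall hM).idx)
    fun p hp hpa => ?_
  rw [prank_quo_of_p' hp (alphaCore_norm M) ((alphaCore_pi M).compl_of_not_mem hpa)]
  exact (not_mem_alpha hp).1 hpa

theorem Malpha_quo_nil (hM : IsCoatom M) : Nil (quo ⁅M, M⁆ (alphaCore M)) :=
  (Fitting_nil _).of_le (Malpha_quo_sub_Fitting hM)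

theorem sub_Msigma (hM : IsCoatom M) (hX : IsPi (sigma M) X) (hXM : X ≤ M) : X ≤ sigmaCore M :=
  (Msigma_Hall hM).le_pcore hX hXM

theorem sub_Malpha (hM : IsCoatom M) (hX : IsPi (alpha M) X) (hXM : X ≤ M) : X ≤ alphaCore M :=
  (Malpha_Hall hM).le_pcore hX hXM

theorem rank_le_two_of_Malpha (hM : IsCoatom M) (h : alphaCore M = ⊥) : rank M ≤ 2 :=
  rank_le_of_isPi ((Malpha_Hall hM).isPi_compl_of_eq_bot h) fun _ hp hpa =>
    (not_mem_alpha hp).1 hpa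

theorem Malpha_ne_bot (hM : IsCoatom M) (hp : p ∈ alpha M) : alphaCore M ≠ ⊥ :=
  (Malpha_Hall hM).ne_bot hp.1 hp (alpha_sub_pi M hp).2

omit [FT G] in
theorem rank_alpha'_le (hX : IsPi (alpha M)ᶜ X) (hXM : X ≤ M) : rank X ≤ 2 :=
  rank_le_of_isPi hX fun _ hp hpa => (prank_mono hp hXM).trans ((not_mem_alpha hp).1 hpa)

theorem rank_sigma'_le (hM : IsCoatom M) (hX : IsPi (sigma M)ᶜ X) (hXM : X ≤ M) : rank X ≤ 2 :=
  rank_alpha'_le (hX.mono (Set.compl_subset_compl.2 (alpha_sub_sigma hM))) hXM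

theorem Msigma_neq1 (hM : IsCoatom M) : sigmaCore M ≠ ⊥ := by
  by_cases ha : alphaCore M = ⊥
  · obtain ⟨p, hp, hd, hmax⟩ := exists_max_prime (mmax_neq1 hM)
    have hS := H26.rank2_max_pcore_Sylow (mFT_odd M) (mmax_sol hM)
      ((rank_mono (Fitting_le M)).trans (rank_le_two_of_Malpha hM ha)) hmax
    have h1 : O[{p}, M] ≠ ⊥ := hS.ne_bot' ⟨hp, hd⟩
    have hs : p ∈ sigma M := mmax_sigma_Sylow hp hS h1 (mmax_normal hM (pcore_nml _ M) h1).le
    exact ne_bot_of_le h1 (pcore_le_of_mem M hs)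
  · exact ne_bot_of_le ha (Malpha_sub_Msigma hM)

theorem norm_Msigma (hM : IsCoatom M) : N[sigmaCore M] = M :=
  mmax_normal hM (sigmaCore_nml M) (Msigma_neq1 hM)

theorem Msigma_sol (hM : IsCoatom M) : Sol (sigmaCore M) := mmax_sub_sol hM (sigmaCore_le M)
theorem Malpha_sol (hM : IsCoatom M) : Sol (alphaCore M) := mmax_sub_sol hM (alphaCore_le M)
theorem Mbeta_sol (hM : IsCoatom M) : Sol (betaCore M) := mmax_sub_sol hM (betaCore_le M)

theorem Msigma_Sylow (hM : IsCoatom M) (hp : p ∈ sigma M) (hP : Syl p (sigmaCore M) P) :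
    Syl p M P := (Msigma_Hall hM).trans_syl hP hp

theorem Msigma_Sylow_G (hM : IsCoatom M) (hp : p ∈ sigma M) (hP : Syl p (sigmaCore M) P) :
    Syl p ⊤ P := (Msigma_Hall_G hM).trans_syl hP hp

theorem Sylow_Msigma (hM : IsCoatom M) (hp : p ∈ sigma M) (hP : Syl p M P) :
    Syl p (sigmaCore M) P :=
  hP.of_le (sub_Msigma hM (hP.pi.of_mem hp) hP.le) (sigmaCore_le M)

theorem uniq_Sylow_alpha (hM : IsCoatom M) (hp : p ∈ alpha M) (hP : Syl p M P) : Uniq P :=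
  prank3_Uniqueness hp.1 (sub_mmax_proper hM hP.le)
    (by rw [prank_Syl hp.1 hP]; exact (mem_alpha.1 hp).2)

/-! ### Lemmas 10.3 – 10.5 -/

/-- 10.3 -/
theorem cent_alpha'_uniq (hM : IsCoatom M) (hXM : X ≤ M) (hX : IsPi (alpha M)ᶜ X)
    (hr : 2 ≤ rank (alphaCore M ⊓ C[X])) : Uniq (M ⊓ C[X]) := by
  have hpr : M ⊓ C[X] ≠ ⊤ := sub_mmax_proper hM inf_le_left
  obtain ⟨p, hp, hpa, hr⟩ := exists_prank_of_rank ((alphaCore_pi M).inf_left _) two_pos hr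
  obtain ⟨B, hB⟩ := (prank_geP hp).1 hr
  by_cases hU : Uniq B
  · exact hU.mono (hB.le.trans (inf_le_inf_right _ (alphaCore_le M))) hpr
  have hBm : PmaxElem p ⊤ B := by
    by_contra h; exact hU (nonmaxElem2_Uniqueness hp hB.top h)
  have hcop := (alphaCore_pi M).coprime hX
  have hXB : X ≤ C[B] := cents_symm (hB.le.trans inf_le_right)
  obtain ⟨P, hP, hXP, hBP⟩ := H26.sol_coprime_Sylow_subset hp (hXM.trans (alphaCore_norm M)) hcop
    (Or.inr (Malpha_sol hM)) (hB.le.trans inf_le_left) (hB.isPi hp) (norm_of_cent hXB)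
  have hc : X ≤ C[P] := by
    refine H26.coprime_odd_faithful_cent_abelem hp hBP hB.elem hP.pi hXP
      ((hP.pi.of_mem hpa).coprime hX) (mFT_odd P) ?_
    rwa [(hBm.restrict hBP le_top).omegaOne_cent]
  exact (uniq_Sylow_alpha hM hpa ((Malpha_Hall hM).trans_syl hP hpa)).mono
    (le_inf (hP.le.trans (alphaCore_le M)) (cents_symm hc)) hpr

/-- 10.4(a) -/
theorem der1_quo_sigma' (hM : IsCoatom M) (hd : p ∣ (⁅M, M⁆).relIndex M) : p ∉ sigma M :=
  fun hs => ((Msigma_Hall hM).idx_of_ge (Msigma_der1 hM)).not_dvd' hs.1 hs hd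

/-- 10.4(b) -/
theorem cent1_sigma'_Zgroup (hM : IsCoatom M) (hp : p.Prime) (hs : p ∉ sigma M) (hP : Syl p M P)
    (hP1 : P ≠ ⊥) : ∃ x ∈ omegaOne p Z[P], x ≠ 1 ∧ ¬ UniqMax C{x} M ∧
      IsZGroup ↥(alphaCore M ⊓ C{x}) := by
  obtain ⟨x, hx, hx1, hnu⟩ : ∃ x ∈ omegaOne p Z[P], x ≠ 1 ∧ ¬ UniqMax C{x} M := by
    obtain ⟨x, hx, hx1⟩ := exists_ne_one (omegaOne_ne_bot_of_pgroup (hP.pi.inf_left C[P])
      ((hP.pi.nil hp).center_ne_bot hP1))
    by_cases hu : UniqMax C{x} M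
    · obtain ⟨u, hu1, hu2⟩ := SetLike.not_le_iff_exists.1 (sigma'_Sylow_contra hM hp hs hP)
      refine ⟨u * x * u⁻¹, conj_mem (norm_omegaOne p (norm_Z le_rfl) hu1) hx,
        fun h => hx1 (conj_eq_one_iff'.1 h), fun h => cj_mmax_ne hM hu2 ?_⟩
      have := hu.cj u
      rw [cj_C1] at this
      exact h.eq this
    · exact ⟨x, hx, hx1, hu⟩
  refine ⟨x, hx, hx1, hnu, (odd_rank1_Zgroup (mFT_odd _)).2 (le_of_not_gt fun hr => hnu ?_)⟩
  have hxP : zpowers x ≤ P := zpowers_le.2 (omegaOne_le p _ hx).1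
  have := cent_alpha'_uniq hM (hxP.trans hP.le)
    ((hP.pi.of_le hxP).of_mem fun h => hs (alpha_sub_sigma hM h)) (by rwa [C_zpowers])
  rw [C_zpowers] at this
  exact (this.uniqMax hM inf_le_left).mono' inf_le_right (mFT_cent1_proper hx1)

theorem sigma_of_uniq (hM : IsCoatom M) (hX : IsPi {p} X) (hXM : X ≤ M) (hU : Uniq X) :
    p ∈ sigma M := by
  have hX1 := uniq_ne_bot hU
  have hp := hX.prime hX1
  obtain ⟨P, hP, hXP⟩ := Sylow_superset hp hX hXM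
  exact mmax_sigma_Sylow hp hP (ne_bot_of_le hX1 hXP)
    (uniq_norm_le (hU.mono hXP (sub_mmax_proper hM hP.le)) hM hP.le)

theorem sigma'_p2Elem_max (hM : IsCoatom M) (hp : p.Prime) (hs : p ∉ sigma M)
    (hA : PnElem p 2 M A) : PmaxElem p ⊤ A := by
  by_contra h
  exact hs (sigma_of_uniq hM (hA.isPi hp) hA.le (nonmaxElem2_Uniqueness hp hA.top h))

/-- 10.4(c) -/
theorem sigma'_rank2_max (hM : IsCoatom M) (hp : p.Prime) (hs : p ∉ sigma M) (_hr : prank p M = 2)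
    (hA : PnElem p 2 M A) : PmaxElem p ⊤ A := sigma'_p2Elem_max hM hp hs hA

omit [FT G] in
theorem not_betaG_of_p2max (hp : p.Prime) (hA : PnElem p 2 ⊤ A) (hm : PmaxElem p ⊤ A) :
    p ∉ betaG G := by
  intro hb
  obtain ⟨S, hS, hAS⟩ := Sylow_superset hp (hA.isPi hp) le_top
  exact not_narrow_ideal hb hS fun _ => ⟨A, hA.of_le hAS, hm.restrict hAS le_top⟩

theorem sigma'_rank2_beta' (hM : IsCoatom M) (hp : p.Prime) (hs : p ∉ sigma M)
    (hr : prank p M = 2) : p ∉ betaG G := by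
  obtain ⟨A, hA⟩ := (prank_geP hp).1 hr.ge
  exact not_betaG_of_p2max hp hA.top (sigma'_p2Elem_max hM hp hs hA)

/-- 10.5 -/
theorem sigma'_norm_mmax_rank2 (hM : IsCoatom M) (hp : p.Prime) (hs : p ∉ sigma M)
    (hX : IsPi {p} X) (hN : N[X] ≤ M) : prank p M = 2 := by
  refine le_antisymm (sigma'_prank_le hM hp hs) (le_of_not_gt fun hr => ?_)
  obtain ⟨P, hP, hXP⟩ := Sylow_superset hp hX ((norm_self X).trans hN)
  have hc : Cyc P := odd_pgroup_cyc hp hP.pi (mFT_odd P) (by rw [prank_Syl hp hP]; omega)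
  exact sigma'_Sylow_contra hM hp hs hP ((cyc_N_le hc hXP).trans hN)

theorem sigma'1Elem_sub_p2Elem (hM : IsCoatom M) (hp : p.Prime) (hs : p ∉ sigma M)
    (hX : PnElem p 1 ⊤ X) (hN : N[X] ≤ M) : ∃ A, PnElem p 2 M A ∧ X ≤ A := by
  obtain ⟨P, hP, hXP⟩ := Sylow_superset hp (hX.isPi hp) ((norm_self X).trans hN)
  obtain ⟨A, hA, hXA⟩ := (hX.of_le hXP).exists_two_of_prank hp hP.pi (by
    rw [prank_Syl hp hP, sigma'_norm_mmax_rank2 hM hp hs (hX.isPi hp) hN])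
  exact ⟨A, hA.mono hP.le, hXA⟩

end H25
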