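import Mathlib
import Cfsg.Agent.H25.S10a
import Cfsg.Agent.H25.PG
import Cfsg.Agent.H25.Ext3
import Cfsg.Agent.H26.S05
import Cfsg.Agent.H26.S06

/-!
# Bender–Glauberman §10, second part (10.6 – 10.14)
-/

set_option autoImplicit false
set_option linter.unusedSectionVars false

open Subgroup H24 Cfsg H25
open scoped commutatorElement

namespace H25

universe u

variable {G : Type u} [Group G] [Finite G] [FT G]
variable {M H K P Q R S X Y A V E : Subgroup G} {p q : ℕ} {g : G}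

theorem exists_prime_der1_quo (hM : IsCoatom M) : ∃ q, q.Prime ∧ q ∣ (⁅M, M⁆).relIndex M :=
  Nat.exists_prime_and_dvd fun h => (mmax_der1_lt hM).not_ge (relIndex_eq_one.1 h)

/-- 10.6 -/
theorem mFT_proper_plength1 (hp : p.Prime) (hH : H ≠ ⊤) : PLen1 p H := by
  obtain ⟨M, hM, hHM⟩ := exists_coatom hH
  refine H26.plength1S hp hHM ?_
  have hs := mmax_sol hM
  by_cases ha : p ∉ alpha M
  · exact (H26.rank2_der1_complement hp hs (mFT_odd M) ((not_mem_alpha hp).1 ha)).2.2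
  rw [not_not] at ha
  obtain ⟨K, hK⟩ := H26.Hall_exists (alpha M)ᶜ hs
  have hsd := (Malpha_Hall hM).sd hK (alphaCore_norm M)
  have hcop := (alphaCore_pi M).coprime hK.pi
  suffices h : PLen1 p (alphaCore M) by
    obtain ⟨P, hP⟩ := Sylow_exists hp (alphaCore M)
    exact (plen1_iff_syl_le ((Malpha_Hall hM).trans_syl hP ha)).2
      ((h.le_Opp hP.pi hP.le).trans ((alphaCore_nml M).core2_le {p}))
  rw [← (H26.coprime_der1_sdprod hsd hcop (Malpha_sol hM) (Malpha_der1 hM)).1]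
  obtain ⟨q, hq, hd⟩ := exists_prime_der1_quo hM
  have hqs := der1_quo_sigma' hM hd
  obtain ⟨Q, hQ⟩ := Sylow_exists hq K
  have hQM : Syl q M Q := hK.trans_syl hQ fun h => hqs (alpha_sub_sigma hM h)
  have hQ1 : Q ≠ ⊥ := hQM.ne_bot' ⟨hq, hd.trans (relIndex_dvd_card _ _)⟩
  obtain ⟨x, hx, hx1, -, hZ⟩ := cent1_sigma'_Zgroup hM hq hqs hQM hQ1
  have hX := pnElem_zpowers_of_elem hq (omegaOne_elem (abl_center Q)) hx hx1
  refine odd_sdprod_Zgroup_cent_prime_plength1 hp hs (mFT_odd M) hsd hcop (R₀ := zpowers x)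
    (hX.le.trans ((omegaOne_le _ _).trans (inf_le_left.trans hQ.le))) (hX.card_one ▸ hq) ?_
  rwa [C_zpowers]

theorem mmax_plength1 (hM : IsCoatom M) (hp : p.Prime) : PLen1 p M := mFT_proper_plength1 hp hM.1

theorem exists_mmax_sigma_Sylow (hp : p.Prime) (hP : Syl p ⊤ P) (hP1 : P ≠ ⊥) :
    ∃ M, IsCoatom M ∧ N[P] ≤ M ∧ Syl p M P ∧ p ∈ sigma M := by
  obtain ⟨M, hM, hN⟩ := exists_mmax_norm hP1 (mFT_pgroup_proper hP.pi)
  have hPM := hP.of_le ((norm_self P).trans hN) le_top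
  exact ⟨M, hM, hN, hPM, mmax_sigma_Sylow hp hPM hP1 hN⟩

/-- 10.7(a) -/
theorem mFT_Sylow_der1 (hp : p.Prime) (hP : Syl p ⊤ P) : P ≤ ⁅N[P], N[P]⁆ := by
  by_cases hP1 : P = ⊥
  · rw [hP1]; exact bot_le
  obtain ⟨M, hM, -, hPM, hs⟩ := exists_mmax_sigma_Sylow hp hP hP1
  exact (H26.plength1_Sylow_sub_der1 hp hPM (mmax_plength1 hM hp)
    (sigma_Sylow_sub_der1 hM hs hPM)).trans (der1_mono inf_le_right)

theorem mFT_Sylow_sdprod_commg (hp : p.Prime) (hP : Syl p ⊤ P) (hV : SD P V N[P]) : ⁅P, V⁆ = P :=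
  (H26.coprime_der1_sdprod hV (hV.coprime (hP.of_le (norm_self P) le_top)) (hP.pi.sol hp)
    (mFT_Sylow_der1 hp hP)).1

/-- 10.7(b) -/
theorem mFT_rank2_Sylow_cprod (hp : p.Prime) (hP : Syl p ⊤ P) (hr : prank p P ≤ 2) (hna : ¬ Abl P) :
    ∃ S C : Subgroup G, ¬ Abl S ∧ ♯S = p ^ 3 ∧ (∀ x ∈ S, x ^ p = 1) ∧ Cyc C ∧ CP S C P ∧
      omegaOne p C = Z[S] := by
  have hPN := hP.of_le (norm_self P) le_top
  obtain ⟨V, hV⟩ := H26.Hall.exists_sd hPN le_rfl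
  obtain ⟨-, h | ⟨S, C, h1, h2, h3, h4, h5, h6⟩⟩ := H26.rank2_coprime_comm_cprod hp hP.pi
    (mFT_odd P) (fun h => hna (h ▸ abl_bot)) (by rwa [rank_pgroup hp hP.pi])
    (mFT_Sylow_sdprod_commg hp hP hV) (hV.isPi_right hPN) (mFT_odd V)
  · exact absurd h hna
  exact ⟨S, C, h1, h2, h3, h5, h4, h6.trans (p3_der1_eq_center hp h2 h1)⟩

/-- 10.7(c) -/
theorem mFT_sub_Sylow_trans (hp : p.Prime) (hP : Syl p ⊤ P) (hQ : Q ≤ P) (h : cj g Q ≤ P) :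
    ∃ y ∈ N[P], cj g Q = cj y Q := by
  by_cases hP1 : P = ⊥
  · obtain rfl : Q = ⊥ := eq_bot_of_le hP1 hQ
    exact ⟨1, one_mem _, by simp⟩
  obtain ⟨M, hM, -, hPM, hs⟩ := exists_mmax_sigma_Sylow hp hP hP1
  obtain ⟨m, hm, c, hc, rfl⟩ := sigma_group_trans_a hM hs (hP.pi.of_le hQ) (hQ.trans hPM.le)
    (h.trans hPM.le)
  rw [cj_mul, cj_of_mem_C hc] at h ⊢
  obtain ⟨u, hu, c', hc', rfl⟩ := H26.plength1_Sylow_trans' hp hPM (mmax_plength1 hM hp)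
    (mmax_sol hM) hQ hm h
  exact ⟨u, hu.2, by rw [cj_mul, cj_of_mem_C hc'.2]⟩

/-- 10.7(d) -/
theorem mFT_subnorm_Sylow (hp : p.Prime) (hP : Syl p ⊤ P) (hQ : Q ≤ P) :
    Syl p N[Q] (P ⊓ N[Q]) := by
  obtain ⟨S, hS, hQS⟩ := Sylow_superset hp (hP.pi.of_le hQ) (norm_self Q)
  obtain ⟨x, -, hx⟩ := Sylow_Jsub hp hP hS.pi le_top
  obtain ⟨y, hy, e⟩ := mFT_sub_Sylow_trans hp hP hQ ((cj_mono x hQS).trans hx)
  refine hS.of_card_le inf_le_right (hP.pi.inf_left _) ?_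
  rw [← card_cj (y⁻¹ * x) S]
  refine card_le (le_inf ?_ (cj_le_of_mem hS.le (cj_eq_cj_iff.1 e)))
  rw [cj_mul]
  exact cj_le_of_mem_N hx (inv_mem hy)

/-- 10.7(e) -/
theorem mFT_Sylow_normalJ (hp : p.Prime) (hP : Syl p ⊤ P) (hR : IsPi {p} R) (hQP : Q ≤ P)
    (hQR : Q ≤ R) (hN : N[P] ≤ N[Q]) : N[R] ≤ N[Q] := by
  have key : ∀ g : G, cj g Q ≤ P → g ∈ N[Q] := fun g hg => by
    obtain ⟨y, hy, e⟩ := mFT_sub_Sylow_trans hp hP hQP hg
    rw [mem_N_iff_cj, e, cj_of_mem_N (hN hy)]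
  obtain ⟨z, -, hz⟩ := Sylow_Jsub hp hP hR le_top
  intro x hx
  have h1 := key z ((cj_mono z hQR).trans hz)
  have h2 := key (z * x) (by rw [cj_mul]; exact (cj_mono z (cj_le_of_mem_N hQR hx)).trans hz)
  simpa using mul_mem (inv_mem h1) h2

/-- 10.8(c) -/
theorem beta_max_pdiv (hM : IsCoatom M) (hp : p.Prime) (hb : p ∉ beta M) :
    NCompl {p} ⁅M, M⁆ ∧ NCompl {p} (sigmaCore M) ∧
      ∀ q, q.Prime → q ∣ (O[{p}ᶜ, M]).relIndex M → q ≤ p := by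
  obtain ⟨P, hP⟩ := Sylow_exists hp M
  obtain ⟨h1, h2⟩ := H26.narrow_der1_complement_max_pdiv hp (mFT_odd M) (mmax_sol hM) hP
    (narrow_of_not_beta hM hp hb hP) fun _ => mmax_plength1 hM hp
  exact ⟨h1, h1.of_le (Msigma_der1 hM), h2⟩

/-- 10.8(a) -/
theorem Mbeta_Hall (hM : IsCoatom M) : Hall (beta M) M (betaCore M) := by
  obtain ⟨H, hH⟩ := H26.Hall_exists (beta M) (mmax_sol hM)
  have h1 : H ≤ ⁅M, M⁆ := (sub_Msigma hM (hH.pi.mono (beta_sub_sigma hM)) hH.le).trans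
    (Msigma_der1 hM)
  refine hH.of_ge (betaCore_le M) (betaCore_pi M) (le_trans ?_ ((der1_nml M).pcore_le _))
  exact (hall_pcore_of_forall (mmax_sub_sol hM (der1_le M))
    fun p hp hb _ => (beta_max_pdiv hM hp hb).1).le_pcore hH.pi h1

theorem Mbeta_Hall_G (hM : IsCoatom M) : Hall (beta M) ⊤ (betaCore M) :=
  hall_G_of_sub_sigma (beta_sub_sigma hM) (Mbeta_Hall hM)

theorem sub_Mbeta (hM : IsCoatom M) (hX : IsPi (beta M) X) (hXM : X ≤ M) : X ≤ betaCore M :=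
  (Mbeta_Hall hM).le_pcore hX hXM

/-- 10.8(b) -/
theorem Mbeta_quo_nil (hM : IsCoatom M) : Nil (quo ⁅M, M⁆ (betaCore M)) := by
  have hn := (der1_le M).trans (betaCore_norm M)
  refine nil_of_forall_ncompl fun p hp hd => ((beta_max_pdiv hM hp ?_).1).quo hn
  rw [card_quo hn] at hd
  exact ((Mbeta_Hall hM).of_le (Mbeta_der1 hM) (der1_le M)).idx p hp hd

theorem beta'_der1_nil (hM : IsCoatom M) (hH : IsPi (beta M)ᶜ H) (hle : H ≤ ⁅M, M⁆) : Nil H :=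
  nil_of_quo (hle.trans ((der1_le M).trans (betaCore_norm M))) ((betaCore_pi M).inf_eq_bot hH)
    ((Mbeta_quo_nil hM).of_le (quo_mono _ hle))

/-- Frattini argument for `M_β X`, with `X` a Sylow subgroup of `M'`. -/
theorem Mbeta_Frattini (hM : IsCoatom M) (hq : q.Prime) (hqb : q ∉ beta M) (hX : Syl q ⁅M, M⁆ X) :
    IsProd (betaCore M) (M ⊓ N[X]) M :=
  Frattini_sup hq (betaCore_nml M) ((betaCore_pi M).compl_of_not_mem hqb) hX.pi
    (hX.le.trans (der1_le M)) (norm_sup_of_nil_quo (betaCore_norm M) (der1_nml M).norm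
      ((der1_le M).trans (betaCore_norm M)) (Mbeta_quo_nil hM) hX)

/-- the core of the proof of 10.9(a): `X` centralises a Sylow `p`-subgroup of `M'`. -/
theorem beta'_cent_Sylow_der1 (hM : IsCoatom M) (hp : p.Prime) (hq : q.Prime) (hpb : p ∉ beta M)
    (hqb : q ∉ beta M) (hX : IsPi {q} X) (h : (p ≠ q ∧ X ≤ ⁅M, M⁆) ∨ (p < q ∧ X ≤ M)) :
    ∃ P, Syl p ⁅M, M⁆ P ∧ X ≤ C[P] := by
  have hpq : p ≠ q := h.elim And.left fun h => h.1.ne
  have hXM : X ≤ M := h.elim (fun h => h.2.trans (der1_le M)) And.right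
  have hLM : ⁅M, M⁆ ⊔ X ≤ M := sup_le (der1_le M) hXM
  have hnL : ⁅M, M⁆ ⊴ ⁅M, M⁆ ⊔ X := (der1_nml M).of_le le_sup_left hLM
  obtain ⟨W, hW, hXW⟩ := H26.Hall_superset (π := {p, q}) (mmax_sub_sol hM hLM) le_sup_right
    (hX.of_mem (by simp))
  have hWb : IsPi (beta M)ᶜ W := hW.pi.mono (by rintro r (rfl | rfl) <;> assumption)
  have hnil : Nil (W ⊓ ⁅M, M⁆) := beta'_der1_nil hM (hWb.inf_left _) inf_le_right
  have hW' : Hall {p, q} ⁅M, M⁆ (W ⊓ ⁅M, M⁆) := hW.inf_nml hnL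
  have hP : Syl p ⁅M, M⁆ O[{p}, W ⊓ ⁅M, M⁆] := hW'.trans_syl (hnil.pcore_hall _) (by simp)
  refine ⟨_, hP, ?_⟩
  rcases h with ⟨-, hXM'⟩ | ⟨hlt, -⟩
  · exact cents_symm (hnil.cents_of_pi (pcore_le _ _) (le_inf hXW hXM') (pcore_pi _ _)
      (hX.compl_of_ne hpq.symm))
  have hXO : X ≤ O[{p}ᶜ, M] := by
    refine le_of_idx_compl (π := {q}) (pcore_nml _ M) ((piNat_compl_singleton hq).2 fun hd => ?_)
      hX hXM
    exact absurd ((beta_max_pdiv hM hp hpb).2.2 q hq hd) (not_le.2 hlt)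
  have hWM := hW.le.trans hLM
  have hn1 : O[{p}, W ⊓ ⁅M, M⁆] ⊴ W := ((der1_nml M).inf_left hWM).pcore _
  have hn2 : W ⊓ O[{p}ᶜ, M] ⊴ W := (pcore_nml _ M).inf_left hWM
  refine (le_inf hXW hXO).trans (cents_of_coprime_nml hn2 hn1 ?_)
  exact ((pcore_pi _ M).inf_right W).coprime' (pcore_pi _ _)

/-- 10.9(a) -/
theorem beta'_cent_Sylow (hM : IsCoatom M) (hp : p.Prime) (hq : q.Prime) (hpb : p ∉ beta M)
    (hqb : q ∉ beta M) (hX : IsPi {q} X) (h : (p ≠ q ∧ X ≤ ⁅M, M⁆) ∨ (p < q ∧ X ≤ M)) :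
    (∃ P, Syl p (sigmaCore M) P ∧ X ≤ C[P]) ∧ (p ∈ alpha M → Uniq (M ⊓ C[X])) ∧
      (Syl q ⁅M, M⁆ X → ∃ P, Syl p ⁅M, M⁆ P ∧ P ≤ ⁅M ⊓ N[X], M ⊓ N[X]⁆) := by
  obtain ⟨P, hP, hXP⟩ := beta'_cent_Sylow_der1 hM hp hq hpb hqb hX h
  have hPs : Syl p (sigmaCore M) (P ⊓ sigmaCore M) :=
    hP.inf_nml ((sigmaCore_nml M).of_le (Msigma_der1 hM) (der1_le M))
  have hPC : P ≤ M ⊓ C[X] := le_inf (hP.le.trans (der1_le M)) (cents_symm hXP)
  refine ⟨⟨_, hPs, hXP.trans (C_anti inf_le_left)⟩, fun ha => ?_, fun hXS => ⟨P, hP, ?_⟩⟩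
  · exact (uniq_Sylow_alpha hM ha (Msigma_Sylow hM (alpha_sub_sigma hM ha) hPs)).mono
      (inf_le_left.trans hPC) (sub_mmax_proper hM inf_le_left)
  · have := H26.pprod_focal_coprime (Mbeta_Frattini hM hq hqb hXS) (betaCore_nml M)
      (hPC.trans (inf_le_inf_left _ (C_le_N X))) ((betaCore_pi M).coprime (hP.pi.of_mem hpb))
    rw [inf_eq_left.2 hP.le] at this
    exact this.le.trans inf_le_right

/-- 10.9(b) -/
theorem nonuniq_norm_Sylow_pprod (hM : IsCoatom M) (hH : IsCoatom H) (hne : H ≠ M) (hp : p.Prime)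
    (hS : Syl p ⊤ S) (hN : N[S] ≤ H ⊓ M) :
    IsProd (betaCore M) (H ⊓ M) M ∧ alpha M = beta M := by
  have hSM : Syl p M S := hS.of_le ((norm_self S).trans (hN.trans inf_le_right)) le_top
  have hs : p ∈ sigma M := by
    by_contra h; exact sigma'_Sylow_contra hM hp h hSM (hN.trans inf_le_right)
  have hnu : ∀ X, X ≤ N[S] → ¬ Uniq X := fun X hX =>
    not_uniq_of_two hM hH hne (hX.trans (hN.trans inf_le_right)) (hX.trans (hN.trans inf_le_left))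
  have ha : p ∉ alpha M := fun h => hnu S (norm_self S) (uniq_Sylow_alpha hM h hSM)
  have hb : p ∉ beta M := fun h => ha h.1
  have hS' := sigma_Sylow_sub_der1 hM hs hSM
  refine ⟨(Mbeta_Frattini hM hp hb (hSM.of_le hS' (der1_le M))).mono_right
    (inf_le_right.trans hN) inf_le_right, Set.Subset.antisymm (fun q hqa => ?_) (beta_sub_alpha M)⟩
  by_contra hqb
  refine hnu _ (inf_le_right.trans (C_le_N S)) ((beta'_cent_Sylow hM hqa.1 hp hqb hb hS.pi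
    (Or.inl ⟨?_, hS'⟩)).2.1 hqa)
  rintro rfl
  exact ha hqa

omit [FT G] in
theorem maxInv_cj {π : Set ℕ} (hQ : Q ∈ maxInvSubgroups ⊤ A π) (g : G) :
    cj g Q ∈ maxInvSubgroups ⊤ (cj g A) π := by
  obtain ⟨h1, h2, h3⟩ := mem_maxInv.1 hQ
  refine mem_maxInv.2 ⟨h1.cj g, norm_cj h2 g, fun R hR hn hle => ?_⟩
  rw [← h3 (cj g⁻¹ R) (hR.cj _) (by simpa using norm_cj hn g⁻¹) (cj_le_iff.1 hle), cj_cj_inv]

theorem pmaxElem_normed_constrained (hp : p.Prime) (h1 : A ≠ ⊥) (hA : PmaxElem p ⊤ A) :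
    TransitivityHypothesis A :=
  plength_1_normed_constrained hp h1 hA fun _ hH => mFT_proper_plength1 hp hH

/-- 10.10 -/
theorem max_normed_2Elem_signaliser (hp : p.Prime) (hq : q.Prime) (hpq : p ≠ q)
    (hA : PnElem p 2 ⊤ A) (hAm : PmaxElem p ⊤ A) (hQ : Q ∈ maxInvSubgroups ⊤ A {q})
    (hqC : q ∣ ♯C[A]) :
    ∃ P, Syl p ⊤ P ∧ A ≤ P ∧ IsProd O[{p}ᶜ, C[P]] (N[P] ⊓ N[Q]) N[P] ∧ P ≤ ⁅N[Q], N[Q]⁆ ∧
      (Narrow q Q → P ≤ C[Q]) := by
  have hc := pmaxElem_normed_constrained hp (hA.ne_bot hp two_pos) hAm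
  have htr : ∀ Q₁ ∈ maxInvSubgroups ⊤ A {q}, ∀ Q₂ ∈ maxInvSubgroups ⊤ A {q},
      ∃ k ∈ O[{p}ᶜ, C[A]], Q₂ = cj k Q₁ := fun Q₁ h1 Q₂ h2 =>
    normed_constrained_rank2_trans (hA.isPi hp) hc
      (by rw [hA.abl.center_eq, hA.rank_eq hp]) hq hpq.symm hqC h1 h2
  obtain ⟨P₀, hP₀, hAP₀⟩ := Sylow_superset hp (hA.isPi hp) le_top
  obtain ⟨Q₀, hQ₀, -⟩ := maxInv_exists (A := P₀) (isPi_bot {q}) (by rw [N_bot]; exact le_top)
  obtain ⟨k, hk, rfl⟩ := htr Q₀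
    ((normed_trans_superset hp hc hq hpq.symm hP₀.pi hAP₀ htr).2.2.1 hQ₀) Q hQ
  have hP : Syl p ⊤ (cj k P₀) := hP₀.cj_mem trivial
  have hAP : A ≤ cj k P₀ := by
    rw [← cj_of_mem_C (pcore_le _ _ hk)]; exact cj_mono k hAP₀
  obtain ⟨h1, h2⟩ := (normed_trans_superset hp hc hq hpq.symm hP.pi hAP htr).2.2.2 _
    (maxInv_cj hQ₀ k)
  rw [inf_eq_left.2 (mFT_Sylow_der1 hp hP)] at h1
  refine ⟨_, hP, hAP, h2, h1, fun hn => ?_⟩
  have := H26.der1_Aut_narrow_pgroup hq (mem_maxInv.1 hQ).1 (mFT_odd _) hn le_rfl (mFT_odd _)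
  exact fun x hx => (H26.piNat_relIndex_iff ((der1_le _).trans (N_le_NC _))).1 this x (h1 hx)
    ((hP.pi.piElt hx).mono (singleton_subset_compl hpq))

/-- 10.11(a) -/
theorem sigma'_not_uniq (hM : IsCoatom M) (hKM : K ≤ M) (hK : IsPi (sigma M)ᶜ K) : ¬ Uniq K := by
  intro hU
  obtain ⟨E, hE, hKE⟩ := H26.Hall_superset (mmax_sol hM) hKM hK
  obtain ⟨p, hp, hd, hmax⟩ := exists_max_prime (ne_bot_of_le (uniq_ne_bot hU) hKE)
  have hS := H26.rank2_max_pcore_Sylow (mFT_odd E) (mmax_sub_sol hM hE.le)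
    ((rank_mono (Fitting_le E)).trans (rank_sigma'_le hM hE.pi hE.le)) hmax
  have hs : p ∉ sigma M := hE.pi p hp hd
  refine sigma'_Sylow_contra hM hp hs (hE.trans_syl hS hs) ?_
  exact uniq_le_mmax hU hM hKM (hKE.trans (pcore_nml _ E).norm)
    (mFT_norm_proper (hS.ne_bot' ⟨hp, hd⟩) (mFT_pgroup_proper hS.pi))

theorem der1_nil_of_Malpha (hM : IsCoatom M) (h : alphaCore M = ⊥) : Nil ⁅M, M⁆ :=
  (Fitting_nil M).of_le (H26.rank2_der1_sub_Fitting (mFT_odd M) (mmax_sol hM)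
    ((rank_mono (Fitting_le M)).trans (rank_le_two_of_Malpha hM h)))

theorem Malpha_eq_bot_of_rank (hM : IsCoatom M) (h : rank (alphaCore M) ≤ 2) : alphaCore M = ⊥ := by
  by_contra h1
  obtain ⟨p, hp, hd⟩ := H24.exists_prime_dvd_card h1
  have ha := alphaCore_pi M p hp hd
  have := (mem_alpha.1 ha).2
  rw [← prank_Hall hp (Malpha_Hall hM) ha] at this
  exact absurd ((prank_le_rank hp _).trans h) (not_le.2 this)

/-- 10.11(b) -/
theorem sub'cent_sigma_rank1 (hM : IsCoatom M) (hKM : K ≤ M) (hK : IsPi (sigma M)ᶜ K) :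
    rank (K ⊓ C[sigmaCore M]) ≤ 1 := by
  refine le_of_not_gt fun hr => ?_
  obtain ⟨p, hp, hs, hr⟩ := exists_prank_of_rank (hK.inf_left _) two_pos hr
  obtain ⟨A, hA⟩ := (prank_geP hp).1 hr
  have hAM : A ≤ M := hA.le.trans (inf_le_left.trans hKM)
  have hC : sigmaCore M ≤ C[A] := cents_symm (hA.le.trans inf_le_right)
  have hCA : rank C[A] ≤ 2 := le_of_not_gt fun h => sigma'_not_uniq hM hAM
    ((hA.isPi hp).of_mem hs) (cent_rank3_Uniqueness (by rw [hA.rank_eq hp]; omega) h)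
  have hnil := der1_nil_of_Malpha hM (Malpha_eq_bot_of_rank hM
    ((rank_mono ((Malpha_sub_Msigma hM).trans hC)).trans hCA))
  have hnorm : ∀ r R, r.Prime → Syl r ⊤ R → R ≠ ⊥ → R ≤ ⁅M, M⁆ → N[R] = M := fun r R hr hR h1 hle =>
    mmax_normal hM ⟨hle.trans (der1_le M), hnil.norm_hall (hR.of_le hle le_top)
      (der1_nml M).norm⟩ h1
  obtain ⟨q, hq, hd⟩ := H24.exists_prime_dvd_card (Msigma_neq1 hM)
  have hqs := sigmaCore_pi M q hq hd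
  obtain ⟨Q, hQ⟩ := Sylow_exists hq (sigmaCore M)
  have hQG := Msigma_Sylow_G hM hqs hQ
  have hNQ := hnorm q Q hq hQG (hQ.ne_bot' ⟨hq, hd⟩) (hQ.le.trans (Msigma_der1 hM))
  obtain ⟨P, hP, hAP, -, hle, -⟩ := max_normed_2Elem_signaliser hp hq (by rintro rfl; exact hs hqs)
    hA.top (sigma'_p2Elem_max hM hp hs (hA.of_le hAM)) (maxInv_of_syl hQG (hNQ ▸ hAM))
    (hd.trans (card_dvd hC))
  rw [hNQ] at hle
  exact sigma'_Sylow_contra hM hp hs (hP.of_le (hle.trans (der1_le M)) le_top)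
    (hnorm p P hp hP (ne_bot_of_le (hA.ne_bot hp two_pos) hAP) hle).le

theorem sigma'_Fitting_cent (M : Subgroup G) : O[(sigma M)ᶜ, F[M]] ≤ C[sigmaCore M] :=
  (pcore_Fitting_le _ M).trans (pcore_compl_cent_pcore _ M)

theorem sigma'_Fitting_cyclic (hM : IsCoatom M) : Cyc O[(sigma M)ᶜ, F[M]] := by
  refine odd_nil_rank1_cyclic ((Fitting_nil M).of_le (pcore_le _ _)) (mFT_odd _) ?_
  have := sub'cent_sigma_rank1 hM ((pcore_le _ _).trans (Fitting_le M)) (pcore_pi (sigma M)ᶜ F[M])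
  rwa [inf_eq_left.2 (sigma'_Fitting_cent M)] at this

theorem sub'cent_sigma_le (hM : IsCoatom M) (hY : IsPi (sigma M)ᶜ Y) (hY' : Y ≤ ⁅M, M⁆)
    (hC : Y ≤ C[sigmaCore M]) : Y ≤ O[(sigma M)ᶜ, F[M]] := by
  refine (Fitting_nil M).le_pcore hY (le_Fitting_of_cent (mmax_sol hM) (hY'.trans (der1_le M)) ?_)
  rw [(Fitting_nil M).C_eq (sigma M)]
  exact le_inf (hC.trans (C_anti (pcore_Fitting_le _ M))) (hY'.trans
    (cyc_der1_norm_le_cent (sigma'_Fitting_cyclic hM) (pcore_Fitting_nml _ M).norm))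

/-- 10.11(c) -/
theorem sub'cent_sigma_cyclic (hM : IsCoatom M) (_hKM : K ≤ M) (hK : IsPi (sigma M)ᶜ K) :
    Cyc (K ⊓ C[sigmaCore M] ⊓ ⁅M, M⁆) ∧ K ⊓ C[sigmaCore M] ⊓ ⁅M, M⁆ ⊴ M := by
  have := sub'cent_sigma_le hM ((hK.inf_left C[sigmaCore M]).inf_left ⁅M, M⁆) inf_le_right
    (inf_le_left.trans inf_le_right)
  exact ⟨(sigma'_Fitting_cyclic hM).of_le this,
    (pcore_Fitting_nml _ M).of_cyc (sigma'_Fitting_cyclic hM) this⟩

/-- 10.11(d) -/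
theorem commG_sigma'_1Elem_cyclic (hM : IsCoatom M) (hKM : K ≤ M) (hK : IsPi (sigma M)ᶜ K)
    (hp : p.Prime) (_hs : p ∉ sigma M) (hP : PnElem p 1 (M ⊓ N[K]) P)
    (hreg : sigmaCore M ⊓ C[P] = ⊥) (hKp : IsPi {p}ᶜ K) (hKa : Abl K) :
    ⁅K, P⁆ ≤ C[sigmaCore M] ∧ Cyc ⁅K, P⁆ ∧ ⁅K, P⁆ ⊴ M := by
  have hPM := hP.le.trans inf_le_left
  have hPK := hP.le.trans inf_le_right
  have hle : ⁅K, P⁆ ≤ K := comm_le_left hPK
  have hn := (hle.trans hKM).trans (sigmaCore_norm M)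
  have hnil : Nil (sigmaCore M ⊔ ⁅K, P⁆) := by
    refine prime_Frobenius_sol_kernel_nil (R := P)
      (norm_sup (hPM.trans (sigmaCore_norm M)) (norm_comm_right K P))
      (mmax_sub_sol hM (sup_le (sigmaCore_le M) (hle.trans hKM))) (hP.card_one ▸ hp) ?_
    exact cent_sup_eq_bot hn (hPM.trans (sigmaCore_norm M)) (norm_comm_right K P)
      ((sigmaCore_pi M).inf_eq_bot (hK.of_le hle)) hreg
      (H26.coprime_abel_cent_TI hPK (hKp.coprime' (hP.isPi hp)) hKa)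
  have hC : ⁅K, P⁆ ≤ C[sigmaCore M] := cents_symm
    (hnil.cents_of_pi le_sup_left le_sup_right (sigmaCore_pi M) (hK.of_le hle))
  have := sub'cent_sigma_le hM (hK.of_le hle) (commutator_mono hKM hPM) hC
  exact ⟨hC, (sigma'_Fitting_cyclic hM).of_le this,
    (pcore_Fitting_nml _ M).of_cyc (sigma'_Fitting_cyclic hM) this⟩

theorem sigma_disjoint_aux (hH : IsCoatom H) (hnc : NConj M H)
    (h1 : p ∈ sigma M) (h2 : p ∈ sigma H) (hS : Syl p M S) :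
    ∃ L, IsCoatom L ∧ L ≠ M ∧ N[S] ≤ L := by
  obtain ⟨T, hT⟩ := Sylow_exists h1.1 H
  obtain ⟨g, -, rfl⟩ := Sylow_trans h1.1 (sigma_Sylow_G h2 hT) (sigma_Sylow_G h1 hS)
  refine ⟨cj g H, isCoatom_cj hH g, (hnc.cj_right g).ne, ?_⟩
  rw [← cj_N]
  exact cj_mono g (norm_sigma_Sylow h2 hT)

/-- 10.12(a) -/
theorem sigma_disjoint_alpha (hM : IsCoatom M) (hH : IsCoatom H) (hnc : NConj M H) :
    alphaCore M ⊓ sigmaCore H = ⊥ ∧ Disjoint (alpha M) (sigma H) := by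
  have h : Disjoint (alpha M) (sigma H) := Set.disjoint_left.2 fun p ha hs => by
    obtain ⟨S, hS⟩ := Sylow_exists ha.1 M
    obtain ⟨L, hL, hne, hN⟩ := sigma_disjoint_aux hH hnc (alpha_sub_sigma hM ha) hs hS
    exact not_uniq_of_two hM hL hne hS.le ((norm_self S).trans hN) (uniq_Sylow_alpha hM ha hS)
  exact ⟨inf_eq_bot_of_cop
    ((alphaCore_pi M).piNat.coprime_of_disjoint (sigmaCore_pi H).piNat h), h⟩

/-- 10.12(b) -/
theorem sigma_disjoint_nil (hM : IsCoatom M) (hH : IsCoatom H) (hnc : NConj M H)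
    (hn : Nil (sigmaCore M)) :
    sigmaCore M ⊓ sigmaCore H = ⊥ ∧ Disjoint (sigma M) (sigma H) := by
  have h : Disjoint (sigma M) (sigma H) := Set.disjoint_left.2 fun p ha hs => by
    obtain ⟨S, hS⟩ := Sylow_exists ha.1 M
    obtain ⟨L, hL, hne, hN⟩ := sigma_disjoint_aux hH hnc ha hs hS
    exact hne (eq_mmax hM hL
      ((hn.norm_hall (Sylow_Msigma hM ha hS) (sigmaCore_norm M)).trans hN)).symm
  exact ⟨inf_eq_bot_of_cop
    ((sigmaCore_pi M).piNat.coprime_of_disjoint (sigmaCore_pi H).piNat h), h⟩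

theorem p2maxElem_Sylow_cent (hp : p.Prime) (hA : PnElem p 2 ⊤ A) (hAm : PmaxElem p ⊤ A)
    (hS : Syl p ⊤ S) (hAS : A ≤ S) (hna : ¬ Abl S) :
    ∃ A₁ Y, PnElem p 1 A A₁ ∧ Cyc Y ∧ Y ⊓ Z[S] ≠ ⊥ ∧ DP A₁ Y (S ⊓ C[A]) := by
  have hAmS := hAm.restrict hAS le_top
  have hS1 : S ≠ ⊥ := fun h => hna (h ▸ abl_bot)
  by_cases hr : prank p S ≤ 2
  · obtain ⟨T, C, hT, hTc, hTe, hC, hcp, hO⟩ := mFT_rank2_Sylow_cprod hp hS hr hna
    have hCZ : C ≤ Z[S] := le_inf hcp.right_le (by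
      rw [← hcp.sup]; exact cents_sup hcp.cent hC.abl.le_C)
    have hZT := p3_card_center hp hTc hT
    have hC1 : C ≠ ⊥ := ne_bot_of_le (hO ▸ ne_bot_of_prime (hZT ▸ hp)) (omegaOne_le p C)
    obtain ⟨a, ha, haC⟩ := SetLike.not_le_iff_exists.1
      fun h : A ≤ C => hA.not_cyc hp le_rfl (hC.of_le h)
    have hA₁ := pnElem_zpowers_of_elem hp hA.elem ha (by rintro rfl; exact haC (one_mem _))
    have hi : zpowers a ⊓ C = ⊥ := hA₁.inf_eq_bot hp fun h => haC (h (mem_zpowers a))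
    have hc : C ≤ C[A] := hCZ.trans (inf_le_right.trans (C_anti hAS))
    refine ⟨_, C, hA₁, hC, by rwa [inf_eq_left.2 hCZ], hc.trans (C_anti hA₁.le), hi, ?_⟩
    refine (eq_of_card_between hp (H := S) (sup_le (hA₁.le.trans (le_inf hAS hA.le_cent))
      (le_inf hcp.right_le hc)) (lt_of_le_of_ne inf_le_left fun h => hT ?_) ?_).symm
    · have hO' := hAmS.omegaOne_eq_of_le_cent (inf_eq_left.1 h)
      refine hA.abl.of_le fun x hx => ?_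
      rw [← hO']; exact mem_omegaOne (hcp.left_le hx) (hTe x hx)
    · have h1 := hcp.isProd.card
      have h2 : T ⊓ C = Z[T] := le_antisymm (inf_le_inf_left _ hcp.cent)
        (le_inf inf_le_left (hO ▸ omegaOne_le p C))
      rw [h2, hZT, hTc] at h1
      rw [card_sup_of_inf (norm_of_cent (hc.trans (C_anti hA₁.le))) hi, hA₁.card_one]
      refine Nat.eq_of_mul_eq_mul_right hp.pos ?_
      rw [h1]; ring
  · rw [not_le] at hr
    have hZ := (H26.Ohm1_ucn_p2maxElem hp hS.pi (mFT_odd S) hr (hA.of_le hAS) hAmS).2.1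
    have hZ1 : PnElem p 1 A (omegaOne p Z[S]) :=
      pnElem_one_of_card hp hAmS.omegaOne_center_le hZ
    obtain ⟨A₁, hA₁, hne⟩ := hA.exists_ne hp hZ1
    have e : S ⊓ C[A] = S ⊓ C[A₁] := by
      rw [← hA.sup_eq_of_ne hp hA₁ hZ1 hA₁.le hZ1.le hne]
      exact cent_sup_eq ((omegaOne_le _ _).trans inf_le_right)
    obtain ⟨h1, -, -, h2⟩ := H26.narrow_cent_dprod hp hS.pi (mFT_odd S) hr
      (fun _ => ⟨A, hA.of_le hAS, hAmS⟩) hA₁.card_one (hA₁.le.trans hAS)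
      (by rw [← e, hAmS.prank_cent hp, hA.prank_eq hp])
    refine ⟨A₁, _, hA₁, h1, ?_, e ▸ h2⟩
    refine ne_bot_of_le ((hS.pi.nil hp).center_ne_bot hS1) (le_inf (le_inf (le_inf inf_le_left ?_)
      (inf_le_right.trans (C_anti (hA₁.le.trans hAS)))) le_rfl)
    exact inf_le_right.trans (C_anti ((omegaOne_le _ _).trans (ucn_le 2 S)))

/-- transitivity on the subgroups of order `p` of `A` other than `Z`. -/
theorem p2Elem_trans (hp : p.Prime) {Z N A₀ A₁ : Subgroup G} (hA : PnElem p 2 ⊤ A)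
    (hZ : PnElem p 1 A Z) (hN : IsPi {p} N) (hNA : N ≤ N[A]) (hNZ : N ≤ C[Z]) (hnc : ¬ N ≤ C[A])
    (h0 : PnElem p 1 A A₀) (hne0 : A₀ ≠ Z) (h1 : PnElem p 1 A A₁) (hne1 : A₁ ≠ Z) :
    ∃ x ∈ N, A₁ = cj x A₀ := by
  have hZA : A ≤ N[Z] := hA.abl.norm le_rfl hZ.le
  have hcomm : ⁅A, N⁆ ≤ Z := by
    refine pgroup_comm_le_of_relIndex hp hN hNA (norm_of_cent hNZ) hZA ?_
    have := card_mul_relIndex hZ.le
    rw [hZ.card_one, hA.card, pow_two] at this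
    exact Nat.eq_of_mul_eq_mul_left hp.pos this
  obtain ⟨x, hx, hxC⟩ := SetLike.not_le_iff_exists.1 hnc
  obtain ⟨a, ha, ha1, -, ea⟩ := h0.exists_generator hp
  have hz : ⁅x, a⁆ ∈ Z := hcomm (by rw [commC]; exact commutator_mem_commutator hx (h0.le ha))
  have hz1 : ⁅x, a⁆ ≠ 1 := fun h => hxC (by
    rw [← hA.sup_eq_of_ne hp h0 hZ h0.le hZ.le hne0, C_sup, ← ea, C_zpowers]
    exact ⟨mem_C1.2 (commutatorElement_eq_one_iff_mul_comm.1 h), hNZ hx⟩)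
  have hxz : x * ⁅x, a⁆ = ⁅x, a⁆ * x := (mem_C'.1 (hNZ hx)) _ hz
  have hpow : ∀ k : ℕ, x ^ k * a * (x ^ k)⁻¹ = ⁅x, a⁆ ^ k * a := by
    intro k
    induction k with
    | zero => simp
    | succ k ih =>
      have hc : x * ⁅x, a⁆ ^ k = ⁅x, a⁆ ^ k * x := ((show Commute x ⁅x, a⁆ from hxz).pow_right k).eq
      calc x ^ (k + 1) * a * (x ^ (k + 1))⁻¹ = x * (x ^ k * a * (x ^ k)⁻¹) * x⁻¹ := by group
        _ = x * ⁅x, a⁆ ^ k * a * x⁻¹ := by rw [ih]; group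
        _ = ⁅x, a⁆ ^ k * (x * a * x⁻¹ * a⁻¹) * a := by rw [hc]; group
        _ = ⁅x, a⁆ ^ (k + 1) * a := by rw [pow_succ, commutatorElement_def]
  have ha' : a ∈ Z ⊔ A₁ := by
    rw [hA.sup_eq_of_ne hp hZ h1 hZ.le h1.le hne1.symm]; exact h0.le ha
  obtain ⟨z, hzZ, b, hb, e⟩ := (mem_sup_of_norm (h1.le.trans hZA)).1 ha'
  have hz' : z⁻¹ ∈ Submonoid.powers ⁅x, a⁆ := by
    rw [mem_powers_iff_mem_zpowers, hZ.eq_zpowers hp hz hz1]; exact inv_mem hzZ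
  obtain ⟨k, hk⟩ := hz'
  have hb1 : b ≠ 1 := by
    rintro rfl
    exact hne0 (h0.eq_of_le hZ (by rw [← ea, zpowers_le, e, mul_one]; exact hzZ))
  refine ⟨x ^ k, pow_mem hx k, ?_⟩
  rw [← ea, cj_zpowers, hpow, ← h1.eq_zpowers hp hb hb1]
  congr 1
  simp only at hk
  rw [hk, e]; group

/-- 10.13 -/
theorem basic_p2maxElem_structure (hp : p.Prime) (hA : PnElem p 2 ⊤ A) (hAm : PmaxElem p ⊤ A)
    (hP : IsPi {p} P) (hAP : A ≤ P) (hna : ¬ Abl P) :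
    PnElem p 1 A (omegaOne p Z[P]) ∧
      (∃ Y, Cyc Y ∧ omegaOne p Z[P] ≤ Y ∧
        ∀ A₀, PnElem p 1 A A₀ → A₀ ≠ omegaOne p Z[P] → DP A₀ Y (P ⊓ C[A])) ∧
      ∀ A₀ A₁, PnElem p 1 A A₀ → A₀ ≠ omegaOne p Z[P] → PnElem p 1 A A₁ → A₁ ≠ omegaOne p Z[P] →
        ∃ x ∈ P ⊓ N[A], A₁ = cj x A₀ := by
  obtain ⟨S, hS, hPS⟩ := Sylow_superset hp hP le_top
  obtain ⟨A₁, Y, hA₁, hY, hYZ, hdp⟩ := p2maxElem_Sylow_cent hp hA hAm hS (hAP.trans hPS)
    fun h => hna (h.of_le hPS)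
  have hAC : A ≤ P ⊓ C[A] := le_inf hAP hA.le_cent
  have hdp' := hdp.modl (hA₁.le.trans hAC) (inf_le_inf_right _ hPS)
  have hYc : Cyc (Y ⊓ (P ⊓ C[A])) := hY.of_le inf_le_left
  have hCa : Abl (P ⊓ C[A]) := by
    rw [← hdp'.sup]; exact hA₁.abl.sup hYc.abl (cents_symm hdp'.cent)
  have hlt : P ⊓ C[A] < P := lt_of_le_of_ne inf_le_left fun h => hna (h ▸ hCa)
  have hAmP := hAm.restrict hAP le_top
  have hP1 : P ≠ ⊥ := fun h => hna (h ▸ abl_bot)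
  have hZP : omegaOne p Z[P] ≤ C[P] := (omegaOne_le _ _).trans inf_le_right
  have hZ : PnElem p 1 A (omegaOne p Z[P]) := by
    refine hA.one_of_lt hp hAmP.omegaOne_center_le (fun h => hlt.ne (inf_eq_left.2 ?_))
      (omegaOne_ne_bot_of_pgroup (hP.inf_left _) ((hP.nil hp).center_ne_bot hP1))
    exact cents_symm (h ▸ hZP)
  have hZY : omegaOne p Z[P] ≤ Y ⊓ (P ⊓ C[A]) := by
    refine le_inf ?_ (hZ.le.trans hAC)
    have h1 : omegaOne p (Y ⊓ Z[S]) ≤ A :=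
      (omegaOne_mono p inf_le_right).trans (hAm.restrict (hAP.trans hPS) le_top).omegaOne_center_le
    have h2 : omegaOne p (Y ⊓ Z[S]) ≤ omegaOne p Z[P] :=
      (omegaOne_elem ((abl_center S).of_le inf_le_right)).le_omegaOne (le_inf (h1.trans hAP)
        ((omegaOne_le _ _).trans (inf_le_right.trans (inf_le_right.trans (C_anti hPS)))))
    rw [← hZ.eq_of_le_of_ne_bot hp h2
      (omegaOne_ne_bot_of_pgroup ((hS.pi.inf_left _).inf_right _) hYZ)]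
    exact (omegaOne_le _ _).trans inf_le_left
  refine ⟨hZ, ⟨_, hYc, hZY, fun A₀ h0 hne => ⟨?_, ?_, ?_⟩⟩, fun A₀ A₂ h0 hne0 h2 hne2 => ?_⟩
  · exact inf_le_right.trans (inf_le_right.trans (C_anti h0.le))
  · refine h0.inf_eq_bot hp fun h => hne ?_
    exact cyc_eq_of_card_eq hYc h hZY (h0.card.trans hZ.card.symm)
  · refine le_antisymm (sup_le (h0.le.trans hAC) inf_le_right) (hdp'.sup.ge.trans ?_)
    exact sup_le (hA₁.le.trans ((hA.sup_eq_of_ne hp h0 hZ h0.le hZ.le hne).ge.trans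
      (sup_le_sup_left hZY _))) le_sup_right
  · refine p2Elem_trans hp hA hZ (hP.inf_left _) inf_le_right
      (inf_le_left.trans (cents_symm hZP)) (fun h => ?_) h0 hne0 h2 hne2
    refine ((hP.nil hp).proper_norm hlt).not_ge (le_inf inf_le_left (le_trans ?_ h))
    refine inf_le_inf_left _ ((N_le_N_omegaOne p _).trans ?_)
    rw [hAmP.omegaOne_cent]

/-- 10.14(a) -/
theorem beta_not_narrow (hp : p ∈ betaG G) (hA : PnElem p 2 ⊤ A) : ¬ PmaxElem p ⊤ A :=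
  fun h => not_betaG_of_p2max hp.1 hA h hp

theorem beta_not_narrow_Syl (hp : p ∈ betaG G) (hP : Syl p ⊤ P) (hA : PnElem p 2 P A) :
    ¬ PmaxElem p P A := fun h => not_narrow_ideal hp hP fun _ => ⟨A, hA, h⟩

/-- 10.14(b) -/
theorem beta_noncyclic_uniq (hp : p ∈ betaG G) (hR : IsPi {p} R) (hr : 1 < rank R) : Uniq R := by
  rw [rank_pgroup hp.1 hR] at hr
  obtain ⟨A, hA⟩ := (prank_geP hp.1).1 hr
  exact (nonmaxElem2_Uniqueness hp.1 hA.top (beta_not_narrow hp hA.top)).mono hA.le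
    (mFT_pgroup_proper hR)

/-- 10.14(c) -/
theorem beta_subnorm_uniq (hp : p ∈ betaG G) (hP : Syl p ⊤ P) (hX : X ≤ P) : Uniq (P ⊓ N[X]) := by
  have hQ := hP.pi.inf_left N[X]
  refine beta_noncyclic_uniq hp hQ (lt_of_not_ge fun hr => ?_)
  have hc : Cyc (P ⊓ N[X]) := odd_nil_rank1_cyclic (hQ.nil hp.1) (mFT_odd _) hr
  have e : P ⊓ N[X] = P := (hP.pi.nil hp.1).eq_of_norm_le inf_le_left
    (inf_le_inf_left _ (cyc_N_le hc (le_inf hX (norm_self X))))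
  rw [e, rank_Syl hp.1 hP] at hr
  have := betaG_prank hp
  omega

/-- 10.14(d) -/
theorem beta_norm_sub_mmax (hM : IsCoatom M) (hYM : Y ≤ M) (hY : IsPi (beta M) Y) (hY1 : Y ≠ ⊥) :
    N[Y] ≤ M := by
  obtain ⟨q, hq, h1⟩ := exists_pcore_ne_bot (mmax_sub_sol hM hYM) hY1
  have hb : q ∈ beta M := (pcore_pi _ Y).mem_of_ne_bot (hY.of_le (pcore_le _ _)) h1
  obtain ⟨P, hP, hXP⟩ := Sylow_superset hq (pcore_pi _ Y) ((pcore_le _ _).trans hYM)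
  refine (N_le_N_pcore {q} Y).trans (uniq_le_mmax (beta_subnorm_uniq hb.2
    (sigma_Sylow_G (beta_sub_sigma hM hb) hP) hXP) hM (inf_le_left.trans hP.le) inf_le_right ?_)
  exact mFT_norm_proper h1 (mFT_pgroup_proper (pcore_pi _ Y))

end H25
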