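import Cfsg.Agent.H25.S10a
import Cfsg.Agent.H25.S10b

/-! # Bender–Glauberman §10 (aggregator of `S10a`, `S10b`) -/
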