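import Mathlib
import Cfsg.Agent.H25.S10

/-!
# Bender–Glauberman §11: exceptional maximal subgroups
-/

set_option autoImplicit false
set_option linter.unusedSectionVars false

open Subgroup H24 Cfsg H25
open scoped commutatorElement

namespace H25

universe u

variable {G : Type u} [Group G] [Finite G] [FT G]
variable {M H P P₁ Q₁ Q₂ A A₀ : Subgroup G} {p q : ℕ} {g : G}

theorem mem_of_sq_mem (h : g * g ∈ H) : g ∈ H := by
  obtain ⟨k, hk⟩ := mFT_odd_orderOf g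
  have e : g = (g * g) ^ (k + 1) := by
    rw [← sq, ← pow_mul, show 2 * (k + 1) = orderOf g + 1 by omega, pow_succ, pow_orderOf_eq_one,
      one_mul]
  exact e ▸ H.pow_mem h _

theorem ExcMax.cent0 (h : ExcMax p M A₀ A) : C[A₀] ≤ M := (C_le_N _).trans h.norm
theorem ExcMax.cent (h : ExcMax p M A₀ A) : C[A] ≤ M := (C_anti h.elemA0.le).trans h.cent0
theorem ExcMax.pi (h : ExcMax p M A₀ A) : IsPi {p} A := h.elemA.isPi h.prime
theorem ExcMax.pi' (h : ExcMax p M A₀ A) : IsPi (sigma M)ᶜ A := h.pi.of_mem h.not_sigma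
theorem ExcMax.ne_bot (h : ExcMax p M A₀ A) : A ≠ ⊥ := h.elemA.ne_bot h.prime two_pos
theorem ExcMax.exists_syl (h : ExcMax p M A₀ A) : ∃ P, Syl p M P ∧ A ≤ P :=
  Sylow_superset h.prime h.pi h.elemA.le

theorem p_rank_exceptional (hM : IsCoatom M) (h : ExcMax p M A₀ A) : prank p M = 2 :=
  sigma'_norm_mmax_rank2 hM h.prime h.not_sigma (h.elemA0.isPi h.prime) h.norm

theorem exceptional_pmaxElem (hM : IsCoatom M) (h : ExcMax p M A₀ A) : PmaxElem p ⊤ A :=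
  sigma'_p2Elem_max hM h.prime h.not_sigma h.elemA

/-- 11.1 -/
theorem exceptional_TIsigmaJ (hM : IsCoatom M) (h : ExcMax p M A₀ A) (hg : g ∉ M) (_hA : A ≤ cj g M)
    (hq : q.Prime) (h1 : Syl q (sigmaCore M) Q₁) (hA1 : A ≤ N[Q₁])
    (h2 : Syl q (cj g (sigmaCore M)) Q₂) (hA2 : A ≤ N[Q₂]) :
    Q₁ ⊓ Q₂ = ⊥ ∧ ∀ X, PnElem p 1 A X → Q₁ ⊓ C[X] = ⊥ ∨ Q₂ ⊓ C[X] = ⊥ := by
  by_cases hQ1 : Q₁ = ⊥
  · subst hQ1; simp
  have hsq : q ∈ sigma M := h1.pi.mem_of_ne_bot ((sigmaCore_pi M).of_le h1.le) hQ1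
  have h1M := Msigma_Sylow hM hsq h1
  have h2M : Syl q M (cj g⁻¹ Q₂) := Msigma_Sylow hM hsq (by simpa using h2.cj g⁻¹)
  have h2G : Syl q ⊤ Q₂ := by simpa using (sigma_Sylow_G hsq h2M).cj g
  have hqp : q ≠ p := fun e => h.not_sigma (e ▸ hsq)
  have key : ∀ L : Subgroup G, L ≠ ⊤ → A ≤ L → L ⊓ Q₁ ≠ ⊥ → L ⊓ Q₂ ≠ ⊥ → False := by
    intro L hL hAL hL1 hL2
    obtain ⟨k, hk, e⟩ := normed_constrained_meet_trans h.pi
      (pmaxElem_normed_constrained h.prime h.ne_bot (exceptional_pmaxElem hM h)) hq hqp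
      (maxInv_of_syl (sigma_Sylow_G hsq h1M) hA1) (maxInv_of_syl h2G hA2) hL hAL hL1 hL2
    refine hg (sigma_Sylow_trans hsq h2M ?_)
    rw [cj_cj_inv, e]
    exact cj_le_of_mem h1M.le (h.cent (pcore_le _ _ hk))
  refine ⟨?_, fun X hX => ?_⟩
  · by_contra hne
    refine key M hM.1 h.elemA.le (by rwa [inf_of_le_right h1M.le]) ?_
    exact ne_bot_of_le hne (inf_le_inf_right _ h1M.le)
  · by_contra hne
    push Not at hne
    exact key C[X] (mFT_cent_proper (hX.ne_bot h.prime one_pos))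
      (h.elemA.abl.cents le_rfl hX.le) (by rw [inf_comm]; exact hne.1) (by rw [inf_comm]; exact hne.2)

/-- 11.2 -/
theorem exceptional_TI_MsigmaJ (hM : IsCoatom M) (h : ExcMax p M A₀ A) (hg : g ∉ M) (hA : A ≤ cj g M) :
    sigmaCore M ⊓ cj g M = ⊥ ∧ sigmaCore M ⊓ C[cj g A₀] = ⊥ := by
  suffices h1 : sigmaCore M ⊓ cj g M = ⊥ by
    refine ⟨h1, eq_bot_of_le h1 (inf_le_inf_left _ ?_)⟩
    rw [← cj_C]; exact cj_mono g h.cent0
  by_contra hne
  obtain ⟨q, hq, hd⟩ := H24.exists_prime_dvd_card hne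
  have hnMs : A ≤ N[sigmaCore M] := h.elemA.le.trans (sigmaCore_norm M)
  have hnMsg : A ≤ N[cj g (sigmaCore M)] := hA.trans (norm_cj (sigmaCore_norm M) g)
  have hcop : (♯(sigmaCore M)).Coprime ♯A := (sigmaCore_pi M).coprime h.pi'
  have hsA : Sol A := h.elemA.abl.sol
  have hle : sigmaCore M ⊓ cj g M ≤ cj g (sigmaCore M) := by
    rw [← sigmaCore_cj]
    exact sub_Msigma (isCoatom_cj hM g) (by simpa using (sigmaCore_pi M).inf_left _) inf_le_right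
  obtain ⟨Q₀, hQ₀, hn₀⟩ := H26.sol_coprime_Sylow_exists hq (norm_inf hnMs (norm_of_le hA))
    (hcop.coprime_dvd_left (card_dvd inf_le_left)) (Or.inl hsA)
  obtain ⟨Q₁, hQ₁, hn₁, h01⟩ := H26.sol_coprime_Sylow_subset hq hnMs hcop (Or.inl hsA)
    (hQ₀.le.trans inf_le_left) hQ₀.pi hn₀
  obtain ⟨Q₂, hQ₂, hn₂, h02⟩ := H26.sol_coprime_Sylow_subset hq hnMsg (by simpa using hcop)
    (Or.inl hsA) (hQ₀.le.trans hle) hQ₀.pi hn₀
  exact hQ₀.ne_bot' ⟨hq, hd⟩ (eq_bot_of_le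
    (exceptional_TIsigmaJ hM h hg hA hq hQ₁ hn₁ hQ₂ hn₂).1 (le_inf h01 h02))

theorem ExcMax.exists_norm (hM : IsCoatom M) (h : ExcMax p M A₀ A) (hP : Syl p M P) :
    ∃ g ∈ N[P], g ∉ M :=
  SetLike.not_le_iff_exists.1 (sigma'_Sylow_contra hM h.prime h.not_sigma hP)

/-- 11.3 -/
theorem exceptional_sigma_nil (hM : IsCoatom M) (h : ExcMax p M A₀ A) : Nil (sigmaCore M) := by
  obtain ⟨P, hP, hAP⟩ := h.exists_syl
  obtain ⟨g, hg, hgM⟩ := h.exists_norm hM hP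
  have hPg : P ≤ cj g M := by rw [← cj_of_mem_N hg]; exact cj_mono g hP.le
  refine prime_Frobenius_sol_kernel_nil (R := cj g A₀) ?_ (Msigma_sol hM) ?_
    (exceptional_TI_MsigmaJ hM h hgM (hAP.trans hPg)).2
  · exact (cj_le_of_mem_N (h.elemA0.le.trans hAP) hg).trans (hP.le.trans (sigmaCore_norm M))
  · rw [card_cj, h.elemA0.card_one]; exact h.prime

/-- 11.4 -/
theorem exceptional_sigma_uniq (hM : IsCoatom M) (h : ExcMax p M A₀ A) (hH : IsCoatom H) (hAH : A ≤ H)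
    (hne : sigmaCore H ⊓ sigmaCore M ≠ ⊥) : H = M := by
  rw [inf_comm] at hne
  obtain ⟨g, rfl⟩ := not_nconj.1 fun hnc =>
    hne (sigma_disjoint_nil hM hH hnc (exceptional_sigma_nil hM h)).1
  refine cj_of_mem ?_
  by_contra hg
  exact hne (eq_bot_of_le (exceptional_TI_MsigmaJ hM h hg hAH).1
    (inf_le_inf_left _ (sigmaCore_le _)))

omit [FT G] in
/-- a rank two elementary abelian group acting coprimely on a nontrivial group -/
theorem H24.PnElem.exists_cent_ne_bot {K Q : Subgroup G} (hA : PnElem p 2 K A) (hp : p.Prime)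
    (hQ : Q ≠ ⊥) (hn : A ≤ N[Q]) (hc : (♯Q).Coprime ♯A) : ∃ X, PnElem p 1 A X ∧ Q ⊓ C[X] ≠ ⊥ := by
  by_contra hno
  push Not at hno
  refine hQ (le_bot_iff.1 (H26.coprime_abelian_gen_cent1 hA.abl (hA.not_cyc hp le_rfl) hn hc ?_))
  intro a ha h1
  rw [← C_zpowers, hno _ (pnElem_zpowers_of_elem hp hA.elem ha h1)]

omit [FT G] in
/-- generation by the centralisers of the subgroups of order `p` -/
theorem H24.PnElem.gen_cent {K Q L : Subgroup G} (hA : PnElem p 2 K A) (hp : p.Prime)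
    (hn : A ≤ N[Q]) (hc : (♯Q).Coprime ♯A) (h : ∀ X, PnElem p 1 A X → Q ⊓ C[X] ≤ L) : Q ≤ L := by
  refine H26.coprime_abelian_gen_cent1 hA.abl (hA.not_cyc hp le_rfl) hn hc ?_
  intro a ha h1
  rw [← C_zpowers]
  exact h _ (pnElem_zpowers_of_elem hp hA.elem ha h1)

omit [Finite G] [FT G] in
theorem inf_C_cj_eq_bot {Q X : Subgroup G} : cj g Q ⊓ C[cj g X] = ⊥ ↔ Q ⊓ C[X] = ⊥ := by
  rw [← cj_C, ← cj_inf, cj_eq_bot]

/-- 11.5 -/
theorem exceptional_Sylow_abelian (hM : IsCoatom M) (h : ExcMax p M A₀ A) (hP : Syl p M P) :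
    Abl P := by
  have hp := h.prime
  obtain ⟨P₀, hP₀, hAP⟩ := h.exists_syl
  suffices Abl P₀ by
    obtain ⟨m, -, rfl⟩ := Sylow_trans hp hP₀ hP
    exact this.cj m
  obtain ⟨g, hg, hgM⟩ := h.exists_norm hM hP₀
  obtain ⟨q, hq, hd⟩ := H24.exists_prime_dvd_card (Msigma_neq1 hM)
  have hcop : (♯(sigmaCore M)).Coprime ♯P₀ := (sigmaCore_pi M).coprime (hP₀.pi.of_mem h.not_sigma)
  obtain ⟨Q₁, hQ₁, hn₁⟩ := H26.sol_coprime_Sylow_exists hq (hP₀.le.trans (sigmaCore_norm M)) hcop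
    (Or.inl (hP₀.pi.sol hp))
  have hne₁ : Q₁ ≠ ⊥ := hQ₁.ne_bot' ⟨hq, hd⟩
  have hc₁ : (♯Q₁).Coprime ♯A :=
    (hcop.coprime_dvd_left (card_dvd hQ₁.le)).coprime_dvd_right (card_dvd hAP)
  have hn₂ : P₀ ≤ N[cj g Q₁] := by
    have := norm_cj hn₁ g
    rwa [cj_of_mem_N hg] at this
  obtain ⟨X₁, hX₁, hr₁⟩ := H24.PnElem.exists_cent_ne_bot h.elemA hp hne₁ (hAP.trans hn₁) hc₁
  obtain ⟨X₂, hX₂, hr₂⟩ := H24.PnElem.exists_cent_ne_bot (Q := cj g Q₁) h.elemA hp (by simpa)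
    (hAP.trans hn₂) (by simpa)
  have hPg : P₀ ≤ cj g M := by rw [← cj_of_mem_N hg]; exact cj_mono g hP₀.le
  have hreg := (exceptional_TIsigmaJ hM h hgM (hAP.trans hPg) hq hQ₁ (hAP.trans hn₁) (hQ₁.cj g)
    (hAP.trans hn₂)).2
  have h21 := (hreg X₂ hX₂).resolve_right hr₂
  have h12 := (hreg X₁ hX₁).resolve_left hr₁
  by_contra hna
  obtain ⟨-, -, htr⟩ := basic_p2maxElem_structure hp h.elemA.top (exceptional_pmaxElem hM h)
    hP₀.pi hAP hna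
  have hZ : cj g (omegaOne p Z[P₀]) = omegaOne p Z[P₀] :=
    cj_of_mem_N (norm_omegaOne p (norm_Z le_rfl) hg)
  by_cases e1 : X₁ = omegaOne p Z[P₀]
  · rw [e1] at hr₁ h12
    rw [← hZ, inf_C_cj_eq_bot] at h12
    exact hr₁ h12
  by_cases e2 : X₂ = omegaOne p Z[P₀]
  · rw [e2] at hr₂ h21
    rw [← hZ, Ne, inf_C_cj_eq_bot] at hr₂
    exact hr₂ h21
  obtain ⟨x, hx, rfl⟩ := htr X₁ X₂ hX₁ e1 hX₂ e2
  rw [← cj_of_mem_N (hn₁ hx.1), inf_C_cj_eq_bot] at h21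
  exact hr₁ h21

/-- 11.6 -/
theorem exceptional_structure (hM : IsCoatom M) (h : ExcMax p M A₀ A) :
    (∀ P, Syl p M P → A ≤ P → omegaOne p P = A) ∧ sigmaCore M ⊓ C[A] = ⊥ ∧
      ∃ A₁ A₂, PnElem p 1 A A₁ ∧ PnElem p 1 A A₂ ∧ A₁ ≠ A₂ ∧ sigmaCore M ⊓ C[A₁] = ⊥ ∧
        sigmaCore M ⊓ C[A₂] = ⊥ := by
  have ha : ∀ P, Syl p M P → A ≤ P → omegaOne p P = A := fun P hP hAP =>
    ((exceptional_pmaxElem hM h).restrict hAP le_top).omegaOne_eq_of_abl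
      (exceptional_Sylow_abelian hM h hP)
  obtain ⟨P, hP, hAP⟩ := h.exists_syl
  obtain ⟨g, hg, hgM⟩ := h.exists_norm hM hP
  have hgA : g ∈ N[A] := ha P hP hAP ▸ N_le_N_omegaOne p P hg
  have key : ∀ g ∈ N[A], g ∉ M → PnElem p 1 A (cj g A₀) ∧ sigmaCore M ⊓ C[cj g A₀] = ⊥ := by
    intro g hg hgM
    refine ⟨by simpa [cj_of_mem_N hg] using h.elemA0.cj g, (exceptional_TI_MsigmaJ hM h hgM ?_).2⟩
    rw [← cj_of_mem_N hg]; exact cj_mono g h.elemA.le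
  obtain ⟨h1, r1⟩ := key g hgA hgM
  obtain ⟨h2, r2⟩ := key g⁻¹ (inv_mem hgA) (by simpa)
  refine ⟨ha, eq_bot_of_le r1 (inf_le_inf_left _ (C_anti h1.le)), _, _, h1, h2, fun e => ?_, r1, r2⟩
  rw [cj_eq_cj_iff, inv_inv] at e
  exact hgM (mem_of_sq_mem (h.norm e))

/-- 11.7 -/
theorem exceptional_mul_sigma_normal (hM : IsCoatom M) (h : ExcMax p M A₀ A) :
    sigmaCore M ⊔ A ⊴ M := by
  have hp := h.prime
  have hs := mmax_sol hM
  obtain ⟨P, hP, hAP⟩ := h.exists_syl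
  obtain ⟨E, hE, hPE⟩ := H26.Hall_superset hs hP.le (hP.pi.of_mem (π := (sigma M)ᶜ) h.not_sigma)
  have hsE : Sol E := hs.of_le hE.le
  have hPE' : Syl p E P := hP.of_le hPE hE.le
  have hrE : rank F[E] ≤ 2 := (rank_mono (Fitting_le E)).trans (rank_sigma'_le hM hE.pi hE.le)
  obtain ⟨hdefA, -, A₁, A₂, hA₁, hA₂, hne, hr₁, hr₂⟩ := exceptional_structure hM h
  set K := O[{q | p + 1 ≤ q}, E] with hKdef
  have hK : Hall {q | p + 1 ≤ q} E K := H26.rank2_ge_pcore_Hall (mFT_odd E) hsE hrE (p + 1)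
  have hKE : K ⊴ E := pcore_nml _ _
  have hKp : IsPi {p}ᶜ K := hK.pi.compl_of_not_mem (by simp)
  have hAK : A ≤ N[K] := (hAP.trans hPE).trans hKE.norm
  have hcop : (♯K).Coprime ♯A := hKp.coprime' h.pi
  by_cases hc : A ≤ C[K]
  · -- `A` is normal in `E`
    have hL := H26.rank2_ge_pcore_Hall (mFT_odd E) hsE hrE p
    set L := O[{q | p ≤ q}, E]
    have hLE : L ⊴ E := pcore_nml _ _
    have hPL : P ≤ L := hL.le_pcore (hP.pi.of_mem (by simp)) hPE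
    have hKL : K ≤ L := pcore_mono E fun q (hq : p + 1 ≤ q) => show p ≤ q by omega
    have hprod : IsProd K P L := by
      refine (hPE'.of_le hPL hLE.le).isProd_of_idx hKL ?_ |>.symm
      intro r hr hd
      have h1 : p ≤ r := hL.pi.mem hr (hd.trans (relIndex_dvd_card _ _))
      have h2 : ¬ p + 1 ≤ r := (hK.of_le hKL hLE.le).idx r hr hd
      exact show r = p by omega
    have hPA : P ≤ N[A] := by
      have := (omegaOne_nml p P).norm
      rwa [hdefA P hP hAP] at this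
    have hAL : A ⊴ L := ⟨hAP.trans hPL, hprod.sup_eq.ge.trans
      (sup_le (norm_of_cent (cents_symm hc)) hPA)⟩
    have hA : omegaOne p O[{p}, L] = A := le_antisymm
      ((omegaOne_mono p (pcore_le_Hall (hPE'.of_le hPL hLE.le))).trans (hdefA P hP hAP).le)
      (h.elemA.elem.le_omegaOne (pcore_max h.pi hAL))
    have hAE : E ≤ N[A] := by
      have := ((hLE.pcore {p}).omegaOne p).norm
      rwa [hA] at this
    refine ⟨sup_le (sigmaCore_le M) h.elemA.le, ?_⟩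
    exact ((Msigma_Hall hM).isProd hE).sup_eq.ge.trans
      (sup_le (norm_of_le le_sup_left) (norm_sup (hE.le.trans (sigmaCore_norm M)) hAE))
  exfalso
  obtain ⟨q, hq, hd⟩ : ∃ q, q.Prime ∧ q ∣ (C[A]).relIndex K :=
    Nat.exists_prime_and_dvd fun e => hc (cents_symm (relIndex_eq_one.1 e))
  obtain ⟨Q, hQ, hAQ⟩ := H26.sol_coprime_Sylow_exists hq hAK hcop (Or.inl h.elemA.abl.sol)
  have hnc : ¬ Q ≤ C[A] := fun hc' => by
    refine hQ.not_dvd hq (hd.trans ?_)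
    rw [← inf_relIndex_left]
    exact relIndex_dvd_of_le_left _ (le_inf hQ.le hc')
  have hQ1 : Q ≠ ⊥ := fun e => hnc (e.le.trans bot_le)
  have hqK : q ∣ ♯K := hd.trans (relIndex_dvd_card _ _)
  have hqs : q ∉ sigma M := (hE.pi.of_le hK.le).mem hq hqK
  have hpq : p < q := hK.pi.mem hq hqK
  have hQM : Syl q M Q := hE.trans_syl (hK.trans_syl hQ hpq) hqs
  have hcQ : (♯Q).Coprime ♯A := hcop.coprime_dvd_left (card_dvd hQ.le)
  by_cases hreg : Q ⊓ C[A] ≠ ⊥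
  · have hncyc : ¬ Cyc Q := fun hcyc => by
      refine hnc (cents_symm (H26.coprime_odd_faithful_Ohm1 hq hQ.pi hAQ hcQ (mFT_odd Q)
        (cents_symm ?_)))
      exact (cyc_omegaOne_le hcyc inf_le_left hq ((hQ.pi.inf_left _).dvd_card hreg)).trans
        inf_le_right
    obtain ⟨B, hB⟩ := (prank_geP hq).1 (odd_pgroup_two_le_prank hq hQ.pi (mFT_odd Q) hncyc)
    have hBm := sigma'_p2Elem_max hM hq hqs (hB.mono hQM.le)
    obtain ⟨Qs, hQs, hle⟩ := maxInv_exists hQ.pi hAQ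
    obtain ⟨Pm, -, hAPm, -, -, hnar⟩ := max_normed_2Elem_signaliser hp hq hpq.ne h.elemA.top
      (exceptional_pmaxElem hM h) hQs
      (((hQ.pi.inf_left _).dvd_card hreg).trans (card_dvd inf_le_right))
    refine hnc (cents_symm (hAPm.trans ((hnar fun _ => ⟨B, hB.mono hle, ?_⟩).trans (C_anti hle))))
    exact hBm.restrict (hB.le.trans hle) le_top
  rw [not_not] at hreg
  have hAZ : A ≤ N[Z[Q]] := norm_Z hAQ
  have hZ : ⁅Z[Q], A⁆ = Z[Q] := by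
    have := (H26.coprime_abelian_cent_dprod hAZ (hcQ.coprime_dvd_left (card_dvd inf_le_left))
      (abl_center Q)).sup
    rwa [eq_bot_of_le hreg (inf_le_inf_right _ inf_le_left), sup_bot_eq] at this
  have hdp := h.elemA.dp_of_ne hp hA₁ hA₂ hA₁.le hA₂.le hne
  have hn : ∀ X, PnElem p 1 A X → sigmaCore M ⊓ C[X] = ⊥ → ⁅Z[Q], X⁆ ⊴ M := fun X hX hr =>
    (commG_sigma'_1Elem_cyclic hM (inf_le_left.trans hQM.le)
      ((hQ.pi.inf_left _).of_mem hqs) hp h.not_sigma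
      (hX.mono (le_inf h.elemA.le hAZ)) hr ((hQ.pi.inf_left _).compl_of_ne hpq.ne')
      (abl_center Q)).2.2
  have hZM : Z[Q] ⊴ M := by
    rw [← hZ, hdp.isProd.comm_right ((hA₁.le.trans h.elemA.le).trans (hn A₂ hA₂ hr₂).norm)]
    exact (hn A₁ hA₁ hr₁).sup (hn A₂ hA₂ hr₂)
  refine sigma'_Sylow_contra hM hq hqs hQM ?_
  rw [← mmax_normal hM hZM ((hQ.pi.nil hq).center_ne_bot hQ1)]
  exact norm_Z le_rfl

end H25
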