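import Mathlib
import Cfsg.Agent.H25.S11

/-!
# Bender–Glauberman §12, first part (12.1 – 12.6)
-/

set_option autoImplicit false
set_option linter.unusedSectionVars false

open Subgroup H24 Cfsg H25
open scoped commutatorElement

namespace H25

universe u

variable {G : Type u} [Group G] [Finite G] [FT G]
variable {M Mst H E E₁ E₂ E₃ F K N P Q S U X Y A A₀ : Subgroup G} {p q : ℕ} {g x : G}

theorem ex_sigma_compl (hM : IsCoatom M) (hFM : F ≤ M) (hF : IsPi (sigma M)ᶜ F) :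
    ∃ E, Hall (sigma M)ᶜ M E ∧ F ≤ E := H26.Hall_superset (mmax_sol hM) hFM hF

theorem exists_sigma_compl (hM : IsCoatom M) : ∃ E, Hall (sigma M)ᶜ M E :=
  H26.Hall_exists _ (mmax_sol hM)

theorem sigma_compl_sol (hM : IsCoatom M) (hE : Hall (sigma M)ᶜ M E) : Sol E :=
  mmax_sub_sol hM hE.le

theorem ex_tau2_compl (hM : IsCoatom M) (hE : Hall (sigma M)ᶜ M E) (h1 : Hall (tau1 M) E E₁)
    (h3 : Hall (tau3 M) E E₃) : ∃ E₂, SigmaCompl M E E₁ E₂ E₃ := by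
  have hs := sigma_compl_sol hM hE
  obtain ⟨L, hL, h1L⟩ := H26.Hall_superset (π := tau1 M ∪ tau2 M) hs h1.le
    (h1.pi.mono Set.subset_union_left)
  obtain ⟨E₂, h2⟩ := H26.Hall_exists (tau2 M) (hs.of_le hL.le)
  have hp : IsProd E₂ E₁ L := h2.isProd ((h1.of_le h1L hL.le).congr fun p hp hd =>
    ⟨fun h => tau2'1 M h, fun h => (hL.pi.mem hp hd).resolve_right h⟩)
  exact ⟨E₂, hE, h1, hL.trans h2 Set.subset_union_right, h3, by rwa [hp.sup_eq]⟩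

theorem ex_sigmaCompl (hM : IsCoatom M) (hE : Hall (sigma M)ᶜ M E) :
    ∃ E₁ E₂ E₃, SigmaCompl M E E₁ E₂ E₃ := by
  obtain ⟨E₁, h1⟩ := H26.Hall_exists (tau1 M) (sigma_compl_sol hM hE)
  obtain ⟨E₃, h3⟩ := H26.Hall_exists (tau3 M) (sigma_compl_sol hM hE)
  obtain ⟨E₂, h⟩ := ex_tau2_compl hM hE h1 h3
  exact ⟨_, _, _, h⟩

theorem coprime_sigma_compl (_hM : IsCoatom M) (hE : Hall (sigma M)ᶜ M E) :
    (♯(sigmaCore M)).Coprime ♯E := (sigmaCore_pi M).coprime hE.pi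

theorem sdprod_sigma (hM : IsCoatom M) (hE : Hall (sigma M)ᶜ M E) : SD (sigmaCore M) E M :=
  (Msigma_Hall hM).sd hE (sigmaCore_norm M)

theorem hall_of_isComplIn (hM : IsCoatom M) (hE : IsComplIn E (sigmaCore M) M) :
    Hall (sigma M)ᶜ M E :=
  (SD.of_isComplIn (isComplIn_symm hE) (sigmaCore_norm M)).hall_compl_right (Msigma_Hall hM)

theorem p_rank_sigma_compl (hE : Hall (sigma M)ᶜ M E) (hp : p.Prime) (hs : p ∉ sigma M) :
    prank p E = prank p M := prank_Hall hp hE hs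

theorem rank_sigma_compl (hM : IsCoatom M) (hE : Hall (sigma M)ᶜ M E) : rank E ≤ 2 :=
  rank_sigma'_le hM hE.pi hE.le

theorem der1_sigma_compl (hM : IsCoatom M) (hE : Hall (sigma M)ᶜ M E) : ⁅M, M⁆ ⊓ E = ⁅E, E⁆ := by
  rw [inf_comm, H26.pprod_focal_coprime (sdprod_sigma hM hE).isProd (sigmaCore_nml M) le_rfl
    (coprime_sigma_compl hM hE), inf_of_le_right (der1_le E)]

theorem hall_der1_sigma_compl (hM : IsCoatom M) (hE : Hall (sigma M)ᶜ M E) :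
    Hall (sigma M)ᶜ ⁅M, M⁆ ⁅E, E⁆ := der1_sigma_compl hM hE ▸ hE.inf_nml' (der1_nml M)

theorem dsigma_der1 (hM : IsCoatom M) (hE : Hall (sigma M)ᶜ M E) (hp : p.Prime) (hs : p ∉ sigma M) :
    p ∣ ♯⁅E, E⁆ ↔ p ∣ ♯⁅M, M⁆ :=
  ⟨fun h => h.trans (card_dvd (der1_mono hE.le)), (hall_der1_sigma_compl hM hE).prime_dvd hp hs⟩

theorem partition_pi_mmax (hM : IsCoatom M) :
    p ∈ primesOf M ↔ p ∈ tau1 M ∨ p ∈ tau2 M ∨ p ∈ tau3 M ∨ p ∈ sigma M := by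
  constructor
  · rintro ⟨hp, hd⟩
    by_cases hs : p ∈ sigma M
    · exact Or.inr (Or.inr (Or.inr hs))
    have h1 := sigma'_prank_le hM hp hs
    have h2 := (prank_pos_iff hp).2 hd
    rw [mem_tau1, mem_tau2, mem_tau3]
    by_cases h3 : p ∣ ♯⁅M, M⁆
    · by_cases h4 : prank p M = 2
      · exact Or.inr (Or.inl ⟨hp, hs, h4⟩)
      · exact Or.inr (Or.inr (Or.inl ⟨hp, hs, by omega, h3⟩))
    · by_cases h4 : prank p M = 2
      · exact Or.inr (Or.inl ⟨hp, hs, h4⟩)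
      · exact Or.inl ⟨hp, hs, by omega, h3⟩
  · rintro (h | h | h | h)
    exacts [⟨tau1_prime h, tau1_dvd h⟩, ⟨tau2_prime h, tau2_dvd h⟩, ⟨tau3_prime h, tau3_dvd h⟩,
      sigma_sub_pi M h]

theorem partition_pi_sigma_compl (hM : IsCoatom M) (hE : Hall (sigma M)ᶜ M E) :
    p ∈ primesOf E ↔ p ∈ tau1 M ∨ p ∈ tau2 M ∨ p ∈ tau3 M := by
  rw [hE.mem_primesOf, partition_pi_mmax hM]
  constructor
  · rintro ⟨h, h1 | h1 | h1 | h1⟩
    exacts [Or.inl h1, Or.inr (Or.inl h1), Or.inr (Or.inr h1), (h h1).elim]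
  · rintro (h | h | h)
    exacts [⟨tau1_not_sigma h, Or.inl h⟩, ⟨tau2_not_sigma h, Or.inr (Or.inl h)⟩,
      ⟨tau3_not_sigma h, Or.inr (Or.inr (Or.inl h))⟩]

theorem sigma'_partition (hM : IsCoatom M) (hp : p.Prime) (hd : p ∣ ♯M) (hs : p ∉ sigma M) :
    p ∈ tau1 M ∨ p ∈ tau2 M ∨ p ∈ tau3 M := by
  rcases (partition_pi_mmax hM).1 ⟨hp, hd⟩ with h | h | h | h
  exacts [Or.inl h, Or.inr (Or.inl h), Or.inr (Or.inr h), (hs h).elim]

theorem not_sigma_of_prank_pos (hE : Hall (sigma M)ᶜ M E) (hp : p.Prime) (h : 0 < prank p E) :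
    p ∉ sigma M := hE.pi.mem hp ((prank_pos_iff hp).1 h)

theorem tau1E (hM : IsCoatom M) (hE : Hall (sigma M)ᶜ M E) :
    p ∈ tau1 M ↔ p.Prime ∧ prank p E = 1 ∧ ¬ p ∣ ♯⁅E, E⁆ := by
  rw [mem_tau1]
  constructor
  · rintro ⟨hp, hs, h1, h2⟩
    exact ⟨hp, by rwa [p_rank_sigma_compl hE hp hs], by rwa [dsigma_der1 hM hE hp hs]⟩
  · rintro ⟨hp, h1, h2⟩
    have hs := not_sigma_of_prank_pos hE hp (by omega)
    exact ⟨hp, hs, by rwa [← p_rank_sigma_compl hE hp hs], by rwa [← dsigma_der1 hM hE hp hs]⟩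

theorem tau2E (_hM : IsCoatom M) (hE : Hall (sigma M)ᶜ M E) :
    p ∈ tau2 M ↔ p.Prime ∧ prank p E = 2 := by
  rw [mem_tau2]
  constructor
  · rintro ⟨hp, hs, h1⟩
    exact ⟨hp, by rwa [p_rank_sigma_compl hE hp hs]⟩
  · rintro ⟨hp, h1⟩
    have hs := not_sigma_of_prank_pos hE hp (by omega)
    exact ⟨hp, hs, by rwa [← p_rank_sigma_compl hE hp hs]⟩

theorem tau3E (hM : IsCoatom M) (hE : Hall (sigma M)ᶜ M E) :
    p ∈ tau3 M ↔ p.Prime ∧ prank p E = 1 ∧ p ∣ ♯⁅E, E⁆ := by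
  rw [mem_tau3]
  constructor
  · rintro ⟨hp, hs, h1, h2⟩
    exact ⟨hp, by rwa [p_rank_sigma_compl hE hp hs], by rwa [dsigma_der1 hM hE hp hs]⟩
  · rintro ⟨hp, h1, h2⟩
    have hs := not_sigma_of_prank_pos hE hp (by omega)
    exact ⟨hp, hs, by rwa [← p_rank_sigma_compl hE hp hs], by rwa [← dsigma_der1 hM hE hp hs]⟩

theorem ex_tau2Elem (hE : Hall (sigma M)ᶜ M E) (hp : p ∈ tau2 M) : ∃ A, PnElem p 2 E A :=
  (prank_geP (tau2_prime hp)).1 (by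
    rw [p_rank_sigma_compl hE (tau2_prime hp) (tau2_not_sigma hp), tau2_prank hp])

theorem sigma'2Elem_tau2 (hM : IsCoatom M) (hE : Hall (sigma M)ᶜ M E) (hp : p.Prime)
    (hA : PnElem p 2 E A) : p ∈ tau2 M :=
  (tau2E hM hE).2 ⟨hp, le_antisymm ((prank_le_rank hp E).trans (rank_sigma_compl hM hE))
    (hA.le_prank hp)⟩

theorem tau2_of_p2Elem (hM : IsCoatom M) (hp : p.Prime) (hs : p ∉ sigma M) (hA : PnElem p 2 M A) :
    p ∈ tau2 M := mem_tau2.2 ⟨hp, hs, le_antisymm (sigma'_prank_le hM hp hs) (hA.le_prank hp)⟩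

/-- a `σ(M)'`-subgroup of `M'` is nilpotent -/
theorem sigma'_der1_nil (hM : IsCoatom M) (hX : IsPi (sigma M)ᶜ X) (hle : X ≤ ⁅M, M⁆) : Nil X :=
  beta'_der1_nil hM (hX.mono (Set.compl_subset_compl.2 (beta_sub_sigma hM))) hle

/-- 12.1(a) -/
theorem der1_sigma_compl_nil (hM : IsCoatom M) (hE : Hall (sigma M)ᶜ M E) : Nil ⁅E, E⁆ :=
  sigma'_der1_nil hM (hE.pi.of_le (der1_le E)) (der1_mono hE.le)

/-- 12.1(g) -/
theorem tau2_not_beta (hM : IsCoatom M) (hp : p ∈ tau2 M) :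
    p ∉ betaG G ∧ ∀ A, PnElem p 2 M A → PmaxElem p ⊤ A :=
  ⟨sigma'_rank2_beta' hM (tau2_prime hp) (tau2_not_sigma hp) (tau2_prank hp),
    fun _ hA => sigma'_p2Elem_max hM (tau2_prime hp) (tau2_not_sigma hp) hA⟩

theorem tau13_prank_le (hp : p ∈ tau1 M ∨ p ∈ tau3 M) (hX : X ≤ M) : prank p X ≤ 1 := by
  rcases hp with hp | hp
  · exact (prank_mono (tau1_prime hp) hX).trans (tau1_prank hp).le
  · exact (prank_mono (tau3_prime hp) hX).trans (tau3_prank hp).le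

theorem tau13_rank_le (hX : IsPi (tau1 M ∪ tau3 M) X) (hXM : X ≤ M) : rank X ≤ 1 :=
  rank_le_of_isPi hX fun _ _ hp => tau13_prank_le hp hXM

theorem tau13_pgroup_cyc (hp : p ∈ tau1 M ∨ p ∈ tau3 M) (hP : IsPi {p} P) (hPM : P ≤ M) : Cyc P :=
  odd_pgroup_cyc (hp.elim tau1_prime tau3_prime) hP (mFT_odd P) (tau13_prank_le hp hPM)

theorem tau1_inf_der1 (hX : IsPi (tau1 M) X) : X ⊓ ⁅M, M⁆ = ⊥ :=
  hX.inf_eq_bot fun _ _ hd h => tau1_not_dvd_der h hd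

theorem der1_tau1' (M : Subgroup G) : IsPi (tau1 M)ᶜ ⁅M, M⁆ := fun _ _ hd h => tau1_not_dvd_der h hd

/-- a `τ₁(M)`-subgroup of `M` is cyclic -/
theorem tau1_group_cyc (hX : IsPi (tau1 M) X) (hXM : X ≤ M) : Cyc X :=
  (abelian_rank1_cyclic (der1_eq_bot.1 (eq_bot_of_le (tau1_inf_der1 hX)
    (le_inf (der1_le X) (der1_mono hXM))))).2 (tau13_rank_le (hX.mono Set.subset_union_left) hXM)

/-- a `τ₃(M)`-subgroup of `M` lies in `M'` -/
theorem tau3_le_der1 (hX : IsPi (tau3 M) X) (hXM : X ≤ M) : X ≤ ⁅M, M⁆ := by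
  refine le_of_forall_syl_le fun p P hp hd hP => ?_
  have h3 := hX.mem hp hd
  obtain ⟨S, hS, hPS⟩ := Sylow_superset hp hP.pi (hP.le.trans hXM)
  refine hPS.trans ((H26.cyclic_Sylow_tiVsub_der1 hp hS
    (tau13_pgroup_cyc (Or.inr h3) hS.pi hS.le)).resolve_left ?_)
  exact Syl.ne_bot' (hS.inf_nml (der1_nml M)) ⟨hp, tau3_dvd_der h3⟩

theorem tau3_group_cyc (hM : IsCoatom M) (hX : IsPi (tau3 M) X) (hXM : X ≤ M) : Cyc X :=
  odd_nil_rank1_cyclic (sigma'_der1_nil hM (hX.mono (tau3_sub_sigma' M)) (tau3_le_der1 hX hXM))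
    (mFT_odd X) (tau13_rank_le (hX.mono Set.subset_union_right) hXM)

/-- 12.1(d) -/
theorem tau1_cyclic (_hM : IsCoatom M) (hE : Hall (sigma M)ᶜ M E) (h1 : Hall (tau1 M) E E₁) :
    Cyc E₁ := tau1_group_cyc h1.pi (h1.le.trans hE.le)

theorem tau3_cyclic (hM : IsCoatom M) (hE : Hall (sigma M)ᶜ M E) (h3 : Hall (tau3 M) E E₃) :
    Cyc E₃ := tau3_group_cyc hM h3.pi (h3.le.trans hE.le)

/-- 12.1(b) -/
theorem tau3_der1 (hM : IsCoatom M) (hE : Hall (sigma M)ᶜ M E) (h3 : Hall (tau3 M) E E₃) :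
    E₃ ≤ ⁅E, E⁆ ∧ E₃ ⊴ E := by
  have h : E₃ ≤ ⁅E, E⁆ :=
    (le_inf (tau3_le_der1 h3.pi (h3.le.trans hE.le)) h3.le).trans (der1_sigma_compl hM hE).le
  exact ⟨h, h3.le, (der1_sigma_compl_nil hM hE).norm_hall (h3.of_le h (der1_le E))
    (der1_nml E).norm⟩

theorem SigmaCompl.hall21 (hM : IsCoatom M) (h : SigmaCompl M E E₁ E₂ E₃) :
    Hall (tau3 M)ᶜ E (E₂ ⊔ E₁) :=
  (h.hall2.union h.hall1 h.prod (sup_le h.hall2.le h.hall1.le)).congr fun p hp hd =>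
    ⟨fun hq => hq.elim (fun h => tau3'2 M h) (fun h => tau3'1 M h), fun hq => by
      rcases (partition_pi_sigma_compl hM h.hallE).1 ⟨hp, hd⟩ with h | h | h
      exacts [Or.inr h, Or.inl h, (hq h).elim]⟩

theorem SigmaCompl.hall32 (hM : IsCoatom M) (h : SigmaCompl M E E₁ E₂ E₃) :
    Hall (tau1 M)ᶜ E (E₃ ⊔ E₂) :=
  (h.hall3.union h.hall2 ((tau3_der1 hM h.hallE h.hall3).2.isProd_sup h.hall2.le)
    (sup_le h.hall3.le h.hall2.le)).congr fun p hp hd =>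
    ⟨fun hq => hq.elim (fun h => tau1'3 M h) (fun h => tau1'2 M h), fun hq => by
      rcases (partition_pi_sigma_compl hM h.hallE).1 ⟨hp, hd⟩ with h | h | h
      exacts [(hq h).elim, Or.inr h, Or.inl h]⟩

theorem SigmaCompl.hall31 (hM : IsCoatom M) (h : SigmaCompl M E E₁ E₂ E₃) :
    Hall (tau2 M)ᶜ E (E₃ ⊔ E₁) :=
  (h.hall3.union h.hall1 ((tau3_der1 hM h.hallE h.hall3).2.isProd_sup h.hall1.le)
    (sup_le h.hall3.le h.hall1.le)).congr fun p hp hd =>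
    ⟨fun hq => hq.elim (fun h => tau2'3 M h) (fun h => tau2'1 M h), fun hq => by
      rcases (partition_pi_sigma_compl hM h.hallE).1 ⟨hp, hd⟩ with h | h | h
      exacts [Or.inr h, (hq h).elim, Or.inl h]⟩

theorem sigma_compl_neq1 (hM : IsCoatom M) (hE : Hall (sigma M)ᶜ M E) : E ≠ ⊥ := by
  rintro rfl
  exact (mmax_der1_lt hM).not_ge ((sdprod_sigma hM hE).eq_of_right_bot.ge.trans (Msigma_der1 hM))

/-- 12.1(b-f) -/
theorem sigma_compl_context (hM : IsCoatom M) (h : SigmaCompl M E E₁ E₂ E₃) :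
    (E₃ ≤ ⁅E, E⁆ ∧ E₃ ⊴ E) ∧ (E₂ = ⊥ → E₁ ≠ ⊥) ∧ (Cyc E₁ ∧ Cyc E₃) ∧
      (SD E₂ E₁ (E₂ ⊔ E₁) ∧ SD E₃ (E₂ ⊔ E₁) E ∧ SD E₃ E₂ (E₃ ⊔ E₂) ∧ SD (E₃ ⊔ E₂) E₁ E) ∧
      E₃ ⊓ C[E] = ⊥ := by
  have hE := h.hallE
  have h3 := tau3_der1 hM hE h.hall3
  have hc3 := tau3_cyclic hM hE h.hall3
  have hd : IsPi (tau1 M)ᶜ ⁅E, E⁆ := (der1_tau1' M).of_le (der1_mono hE.le)
  have h21 := h.hall21 hM
  have h32 := h.hall32 hM
  have hsd := h.hall3.sd h21 h3.2.norm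
  have hn2 : E₂ ⊔ E₁ ≤ N[E₂] := by
    refine norm_of_der1_le ?_ le_sup_left
    exact (h.prod.hall_left (h.hall2.pi.mono (tau1'2 M)) (by simpa using h.hall1.pi)).nml_le
      (hd.of_le (der1_mono h21.le)) (der1_nml _)
  refine ⟨h3, fun e2 e1 => ?_, ⟨tau1_cyclic hM hE h.hall1, hc3⟩,
    ⟨SD.mk_sup (le_sup_right.trans hn2) (h.hall2.pi.inf_eq_bot (h.hall1.pi.mono (tau2'1 M))), hsd,
      SD.mk_sup (h.hall2.le.trans h3.2.norm) (h.hall3.pi.inf_eq_bot (h.hall2.pi.mono (tau3'2 M))),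
      h32.sd' h.hall1 (norm_of_der1_le (h32.nml_le hd (der1_nml E)) h32.le)⟩, ?_⟩
  · rw [e1, e2, sup_bot_eq] at hsd
    exact ((sigma_compl_sol hM hE).der1_lt (sigma_compl_neq1 hM hE)).not_ge
      (hsd.eq_of_right_bot.ge.trans h3.1)
  · refine eq_bot_of_le (der1_eq_bot.2 hc3.abl) ((inf_le_inf_left _ (C_anti h21.le)).trans ?_)
    exact (H26.coprime_der1_sdprod hsd (h.hall3.pi.coprime h21.pi) hc3.sol h3.1).2

/-- 12.2(a) -/
theorem prime_class_mmax_norm (hM : IsCoatom M) (hp : p.Prime) (hX : IsPi {p} X) (hN : N[X] ≤ M) :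
    p ∈ sigma M ∨ p ∈ tau2 M := by
  by_cases hs : p ∈ sigma M
  · exact Or.inl hs
  · exact Or.inr (mem_tau2.2 ⟨hp, hs, sigma'_norm_mmax_rank2 hM hp hs hX hN⟩)

/-- 12.2(b) -/
theorem mmax_norm_notJ (hM : IsCoatom M) (hMst : IsCoatom Mst) (hX : IsPi {p} X) (hXM : X ≤ M)
    (hN : N[X] ≤ Mst) (h : (p ∈ sigma M ∧ M ≠ Mst) ∨ p ∈ tau1 M ∨ p ∈ tau3 M) : NConj M Mst := by
  rintro g rfl
  rcases h with ⟨hs, hne⟩ | h
  · obtain ⟨c, hc, e⟩ := sigma_group_trans_b hM hs hX (g := g) (h := 1) ((norm_self X).trans hN)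
      (by simpa)
    rw [cj_one, cj_of_mem (hN (C_le_N X hc))] at e
    exact hne e
  · rcases prime_class_mmax_norm hMst (h.elim tau1_prime tau3_prime) hX hN with h' | h'
    · exact h.elim tau1_not_sigma tau3_not_sigma (by simpa using h')
    · exact h.elim (fun h => tau2'1 M h) (fun h => tau2'3 M h) (by simpa using h')

/-- 12.3 -/
theorem nonuniq_p2Elem_cent_sigma (hM : IsCoatom M) (hMst : IsCoatom Mst) (hne : Mst ≠ M) (hp : p.Prime)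
    (hA : PnElem p 2 M A) (hA₀ : PnElem p 1 A A₀) (hN : N[A₀] ≤ Mst) :
    (p ∉ sigma M → A ≤ C[sigmaCore M ⊓ Mst]) ∧ (p ∉ alpha M → A ≤ C[alphaCore M ⊓ Mst]) := by
  have hAH : A ≤ Mst := (hA.abl.norm le_rfl hA₀.le).trans hN
  have hpA := hA.isPi hp
  have hexc : p ∉ sigma Mst → ExcMax p Mst A₀ A := fun hs => ⟨hp, hs, hA.of_le hAH, hA₀, hN⟩
  have hnml : sigmaCore Mst ⊔ A ⊴ Mst := by
    by_cases hs : p ∈ sigma Mst
    · rw [sup_of_le_left (sub_Msigma hMst (hpA.of_mem hs) hAH)]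
      exact sigmaCore_nml Mst
    · exact exceptional_mul_sigma_normal hMst (hexc hs)
  have key : ∀ K : Subgroup G, IsPi {p}ᶜ K → A ≤ N[K] → K ≤ Mst → ⁅K, A⁆ ≤ K ⊓ sigmaCore Mst := by
    intro K hK hAK hKH
    refine le_inf (comm_le_left hAK) ?_
    have h1 := hKH.trans (sigmaCore_norm Mst)
    have h2 := hAH.trans (sigmaCore_norm Mst)
    refine (quo_cents h1 h2).1 (cents_of_inf_eq_bot ?_ (quo_norm _ hAK)
      ((hK.quo _).inf_eq_bot' (hpA.quo _)))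
    rw [← quo_sup_left h2]
    exact quo_norm _ (hKH.trans hnml.norm)
  have hnA : ∀ K : Subgroup G, K ⊴ M → A ≤ N[K ⊓ Mst] := fun K hK =>
    norm_inf (hA.le.trans hK.norm) (norm_of_le hAH)
  by_cases hs : p ∈ sigma M
  · refine ⟨fun h => (h hs).elim, fun ha => cents_symm (comm_eq_bot.1 ?_)⟩
    have hnc := mmax_norm_notJ hM hMst (hA₀.isPi hp) (hA₀.le.trans hA.le) hN (Or.inl ⟨hs, hne.symm⟩)
    refine eq_bot_of_le (sigma_disjoint_alpha hM hMst hnc).1 ((key _ ?_ (hnA _ (alphaCore_nml M))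
      inf_le_right).trans (inf_le_inf_right _ inf_le_left))
    exact ((alphaCore_pi M).inf_left _).compl_of_not_mem ha
  suffices h : A ≤ C[sigmaCore M ⊓ Mst] from
    ⟨fun _ => h, fun _ => h.trans (C_anti (inf_le_inf_right _ (Malpha_sub_Msigma hM)))⟩
  have hK : IsPi {p}ᶜ (sigmaCore M ⊓ Mst) := ((sigmaCore_pi M).inf_left _).compl_of_not_mem hs
  have hk := key _ hK (hnA _ (sigmaCore_nml M)) inf_le_right
  by_cases hsH : p ∉ sigma Mst
  · refine cents_symm (comm_eq_bot.1 ?_)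
    by_contra hc
    exact hne (exceptional_sigma_uniq hMst (hexc hsH) hM hA.le
      (ne_bot_of_le hc (hk.trans (inf_le_inf_right _ inf_le_left)))).symm
  rw [not_not] at hsH
  have hnc : NConj Mst M := fun g e => hs (by rw [e]; simpa)
  refine H26.coprime_commGG1P (hnA _ (sigmaCore_nml M)) (hK.coprime' hpA)
    ((Msigma_sol hM).of_le inf_le_left) ?_
  set L := ⁅sigmaCore M ⊓ Mst, A⁆
  have hL : L ≤ ⁅Mst, Mst⁆ := hk.trans (inf_le_right.trans (Msigma_der1 hMst))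
  have hA' : A ≤ ⁅Mst, Mst⁆ := (sub_Msigma hMst (hpA.of_mem hsH) hAH).trans (Msigma_der1 hMst)
  have hn := (der1_le Mst).trans (alphaCore_norm Mst)
  have h1 : ⁅L, A⁆ ≤ alphaCore Mst := (quo_cents (hL.trans hn) (hA'.trans hn)).1
    ((Malpha_quo_nil hMst).cents_of_coprime (quo_mono _ hL) (quo_mono _ hA')
      (((hK.of_le (hk.trans inf_le_left)).quo _).coprime' (hpA.quo _)))
  exact eq_bot_of_le (sigma_disjoint_alpha hMst hM hnc).1 (le_inf h1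
    ((comm_le_left (norm_comm_right _ _)).trans (hk.trans (inf_le_left.trans inf_le_left))))

theorem p2Elem_mmax_aux (hM : IsCoatom M) (hp : p.Prime) (hA : PnElem p 2 M A)
    (h : ∀ A₀, PnElem p 1 A A₀ → ¬ UniqMax N[A₀] M) :
    p ∈ sigma M ∧ alphaCore M = ⊥ ∧ Nil (sigmaCore M) ∧ C[A] ≤ M := by
  have hpA := hA.isPi hp
  have hprop : ∀ Y, PnElem p 1 A Y → N[Y] ≠ ⊤ := fun Y hY =>
    mFT_norm_proper (hY.ne_bot hp one_pos) (mFT_pgroup_proper (hY.isPi hp))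
  have key : ∀ Y, PnElem p 1 A Y → (p ∉ sigma M → sigmaCore M ⊓ C[Y] ≤ C[A]) ∧
      (p ∉ alpha M → alphaCore M ⊓ C[Y] ≤ C[A]) := by
    intro Y hY
    obtain ⟨H, hH, hN, hne⟩ := exists_ne_of_not_uniqMax' (hprop Y hY) (h Y hY)
    obtain ⟨h1, h2⟩ := nonuniq_p2Elem_cent_sigma hM hH hne hp hA hY hN
    exact ⟨fun hs => (inf_le_inf_left _ ((C_le_N Y).trans hN)).trans (cents_symm (h1 hs)),
      fun hs => (inf_le_inf_left _ ((C_le_N Y).trans hN)).trans (cents_symm (h2 hs))⟩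
  have hnu : ∀ X Y, PnElem p 1 A Y → X ≤ M → X ≤ N[Y] → ¬ Uniq X := fun X Y hY hXM hX hU =>
    h Y hY ((hU.uniqMax hM hXM).mono' hX (hprop Y hY))
  have hr : rank C[A] ≤ 2 := by
    by_contra hr
    obtain ⟨Y, hY⟩ := hA.exists_le hp one_le_two
    exact hnu A Y hY hA.le (hA.abl.norm le_rfl hY.le)
      (cent_rank3_Uniqueness (by rw [hA.rank_eq hp]; norm_num) (by omega))
  have hs : p ∈ sigma M := by
    by_contra hs
    have h1 := sub'cent_sigma_rank1 hM hA.le (hpA.of_mem hs)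
    rw [inf_of_le_left (cents_symm (H24.PnElem.gen_cent hA hp (hA.le.trans (sigmaCore_norm M))
      ((sigmaCore_pi M).coprime (hpA.of_mem hs)) fun X hX => (key X hX).1 hs)), hA.rank_eq hp] at h1
    omega
  obtain ⟨P, hP, hAP⟩ := Sylow_superset hp hpA hA.le
  have hmax : PmaxElem p P A := (hA.of_le hAP).pmaxElem_of_prank_cent hp
    ((prank_le_rank hp _).trans ((rank_mono inf_le_right).trans hr))
  have hZA := hmax.omegaOne_center_le
  have hZ1 : omegaOne p Z[P] ≠ ⊥ := omegaOne_ne_bot_of_pgroup (hP.pi.inf_left _)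
    ((hP.pi.nil hp).center_ne_bot (ne_bot_of_le (hA.ne_bot hp two_pos) hAP))
  have ha : p ∉ alpha M := fun ha => by
    obtain ⟨z, hz, hz1⟩ := exists_ne_one hZ1
    refine hnu P _ (pnElem_zpowers_of_elem hp hA.elem (hZA hz) hz1) hP.le
      (norm_of_cent (cents_symm ?_)) (uniq_Sylow_alpha hM ha hP)
    exact (zpowers_le.2 hz).trans ((omegaOne_le _ _).trans inf_le_right)
  have hMa : alphaCore M = ⊥ := Malpha_eq_bot_of_rank hM ((rank_mono (H24.PnElem.gen_cent hA hp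
    (hA.le.trans (alphaCore_norm M)) ((alphaCore_pi M).coprime (hpA.of_mem ha))
    fun X hX => (key X hX).2 ha)).trans hr)
  have hnil : Nil (sigmaCore M) := (der1_nil_of_Malpha hM hMa).of_le (Msigma_der1 hM)
  refine ⟨hs, hMa, hnil, ?_⟩
  have hPM : P ⊴ M := ⟨hP.le, hnil.norm_hall (Sylow_Msigma hM hs hP) (sigmaCore_norm M)⟩
  rw [← mmax_normal hM (hPM.center.omegaOne p) hZ1]
  exact (C_anti hZA).trans (C_le_N _)

/-- 12.4(a) -/
theorem p2Elem_mmax (hM : IsCoatom M) (hp : p.Prime) (hA : PnElem p 2 M A) : C[A] ≤ M := by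
  by_cases h : ∀ A₀, PnElem p 1 A A₀ → ¬ UniqMax N[A₀] M
  · exact (p2Elem_mmax_aux hM hp hA h).2.2.2
  · push Not at h
    obtain ⟨A₀, h0, hu⟩ := h
    exact (C_anti h0.le).trans ((C_le_N _).trans hu.le)

/-- 12.4(b) -/
theorem p2Elem_mmax_b (hM : IsCoatom M) (hp : p.Prime) (hA : PnElem p 2 M A)
    (h : ∀ A₀, PnElem p 1 A A₀ → ¬ UniqMax N[A₀] M) :
    p ∈ sigma M ∧ alphaCore M = ⊥ ∧ Nil (sigmaCore M) :=
  have := p2Elem_mmax_aux hM hp hA h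
  ⟨this.1, this.2.1, this.2.2.1⟩

theorem sigma'_p2Elem_uniq (hM : IsCoatom M) (hp : p.Prime) (hs : p ∉ sigma M)
    (hA : PnElem p 2 M A) : ∃ A₀, PnElem p 1 A A₀ ∧ UniqMax N[A₀] M := by
  by_contra h
  push Not at h
  exact hs (p2Elem_mmax_b hM hp hA h).1

theorem tau2_exceptional (hM : IsCoatom M) (hp : p ∈ tau2 M) (hA : PnElem p 2 M A) :
    ∃ A₀, ExcMax p M A₀ A := by
  obtain ⟨A₀, h0, hu⟩ := sigma'_p2Elem_uniq hM (tau2_prime hp) (tau2_not_sigma hp) hA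
  exact ⟨A₀, tau2_prime hp, tau2_not_sigma hp, hA, h0, hu.le⟩

/-- 12.5(a) -/
theorem tau2_Msigma_nil (hM : IsCoatom M) (hp : p ∈ tau2 M) : Nil (sigmaCore M) := by
  obtain ⟨A, hA⟩ := (prank_geP (tau2_prime hp)).1 (tau2_prank hp).ge
  obtain ⟨A₀, h⟩ := tau2_exceptional hM hp hA
  exact exceptional_sigma_nil hM h

/-- 12.5(b-f) -/
theorem tau2_context (hM : IsCoatom M) (hp : p ∈ tau2 M) (hA : PnElem p 2 M A) :
    (∀ P, Syl p M P → Abl P ∧ (A ≤ P → omegaOne p P = A ∧ ¬ N[P] ≤ M)) ∧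
      sigmaCore M ⊔ A ⊴ M ∧ sigmaCore M ⊓ C[A] = ⊥ ∧
      (∀ Mst, IsCoatom Mst → A ≤ Mst → Mst ≠ M → sigmaCore M ⊓ Mst = ⊥) ∧
      ∃ A₁, PnElem p 1 A A₁ ∧ sigmaCore M ⊓ C[A₁] = ⊥ := by
  obtain ⟨A₀, h⟩ := tau2_exceptional hM hp hA
  have hpr := h.prime
  obtain ⟨ha, hreg, A₁, -, h1, -, -, hr1, -⟩ := exceptional_structure hM h
  refine ⟨fun P hP => ⟨exceptional_Sylow_abelian hM h hP, fun hAP =>
    ⟨ha P hP hAP, sigma'_Sylow_contra hM hpr h.not_sigma hP⟩⟩, exceptional_mul_sigma_normal hM h,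
    hreg, fun H hH hAH hne => eq_bot_of_le hreg (le_inf inf_le_left ?_), A₁, h1, hr1⟩
  by_cases hu : ∀ A₀, PnElem p 1 A A₀ → ¬ UniqMax N[A₀] H
  · obtain ⟨hs, -, hn⟩ := p2Elem_mmax_b hH hpr (hA.of_le hAH) hu
    have hAS : A ≤ O[{p}, sigmaCore H] := hn.le_pcore h.pi (sub_Msigma hH (h.pi.of_mem hs) hAH)
    refine comm_eq_bot.1 (eq_bot_of_le ((((sigmaCore_pi M).inf_left H).compl_of_not_mem
      h.not_sigma).inf_eq_bot' (pcore_pi {p} (sigmaCore H))) (le_inf (comm_le_left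
        (norm_inf (hA.le.trans (sigmaCore_norm M)) (norm_of_le hAH))) ?_))
    exact (comm_mono_right hAS).trans
      (comm_le_right (inf_le_right.trans ((sigmaCore_nml H).pcore {p}).norm))
  · push Not at hu
    obtain ⟨A₀, h0, hu⟩ := hu
    exact cents_symm ((nonuniq_p2Elem_cent_sigma hM hH hne hpr hA h0 hu.le).1 h.not_sigma)

theorem tau2_Sylow_abelian (hM : IsCoatom M) (hp : p ∈ tau2 M) (hP : IsPi {p} P) (hPM : P ≤ M) :
    Abl P := by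
  obtain ⟨A, hA⟩ := (prank_geP (tau2_prime hp)).1 (tau2_prank hp).ge
  obtain ⟨S, hS, hPS⟩ := Sylow_superset (tau2_prime hp) hP hPM
  exact ((tau2_context hM hp hA).1 S hS).1.of_le hPS

/-- 12.6(a,b,c,f) -/
theorem tau2_compl_context (hM : IsCoatom M) (hE : Hall (sigma M)ᶜ M E) (hp : p ∈ tau2 M)
    (hA : PnElem p 2 E A) :
    (A ⊴ E ∧ ∀ X, PnElem p 1 E X → X ≤ A) ∧ (C[A] ≤ E ∧ M ⊓ N[A] = E ∧ ¬ N[A] ≤ M) ∧
      (∀ X, PnElem p 1 E X → sigmaCore M ⊓ C[X] ≠ ⊥ → UniqMax C[X] M) ∧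
      ∀ Mst, IsCoatom Mst → NConj M Mst →
        sigmaCore M ⊓ sigmaCore Mst = ⊥ ∧ Disjoint (sigma M) (sigma Mst) := by
  have hpr := tau2_prime hp
  have hs := tau2_not_sigma hp
  have hpA := hA.isPi hpr
  have hsd := sdprod_sigma hM hE
  obtain ⟨hsyl, hnml, hreg, hti, -⟩ := tau2_context hM hp (hA.mono hE.le)
  have hAE : A ⊴ E := by
    have := hnml.inf_right hE.le
    rwa [← group_modr (hA.le.trans hsd.norm) hA.le, hsd.inf, bot_sup_eq] at this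
  have hsylE : ∀ P, Syl p E P → omegaOne p P = A ∧ ¬ N[P] ≤ M := fun P hP =>
    (hsyl P (hE.trans_syl hP hs)).2 (hP.nml_le hpA hAE)
  have hX : ∀ X, PnElem p 1 E X → X ≤ A := fun X hX => by
    obtain ⟨P, hP, hXP⟩ := Sylow_superset hpr (hX.isPi hpr) hX.le
    exact (hX.elem.le_omegaOne hXP).trans (hsylE P hP).1.le
  have hN : M ⊓ N[A] = E := by
    rw [← hsd.isProd.modr hAE.norm, hsd.left_inf_N hA.le, hreg, bot_sup_eq]
  refine ⟨⟨hAE, hX⟩, ⟨(le_inf (p2Elem_mmax hM hpr (hA.mono hE.le)) (C_le_N A)).trans hN.le, hN,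
    fun h => ?_⟩, fun X hXE hne => ?_,
    fun H hH hnc => sigma_disjoint_nil hM hH hnc (tau2_Msigma_nil hM hp)⟩
  · obtain ⟨P, hP⟩ := Sylow_exists hpr E
    exact (hsylE P hP).2 ((N_le_N_omegaOne p P).trans (by rwa [(hsylE P hP).1]))
  · refine uniqMax_of_forall (mFT_cent_proper (hXE.ne_bot hpr one_pos)) fun L hL hCL => ?_
    by_contra hLM
    exact hne (eq_bot_of_le (hti L hL ((hA.abl.cents le_rfl (hX X hXE)).trans hCL) hLM)
      (inf_le_inf_left _ hCL))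

/-- the common part of 12.6 (d) and (e) -/
theorem tau2_reg_tau13 (hM : IsCoatom M) (hp : p ∈ tau2 M) (hA : PnElem p 2 M A)
    (hX : IsPi (tau1 M ∪ tau3 M) X) (hXM : X ≤ M) (hc : X ≤ C[A]) : Semireg (sigmaCore M) X := by
  refine semireg_of_forall_prime fun Y hY hq => ?_
  have hYq : IsPi {♯Y} Y := isPi_of_card_prime hq rfl
  obtain ⟨H, hH, hN⟩ := exists_mmax_norm (ne_bot_of_prime hq) (mFT_pgroup_proper hYq)
  have hnc := mmax_norm_notJ hM hH hYq (hY.trans hXM) hN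
    (Or.inr ((hX.of_le hY).mem hq dvd_rfl))
  exact eq_bot_of_le ((tau2_context hM hp hA).2.2.2.1 H hH
    ((norm_of_cent (cents_symm (hY.trans hc))).trans hN) hnc.ne)
    (inf_le_inf_left _ ((C_le_N Y).trans hN))

/-- 12.6(d,e) -/
theorem tau2_regular (hM : IsCoatom M) (h : SigmaCompl M E E₁ E₂ E₃) (hp : p ∈ tau2 M)
    (hA : PnElem p 2 E A) :
    Semireg (sigmaCore M) E₃ ∧ Semireg (sigmaCore M) (E₁ ⊓ C[A]) ∧ PnElem p 2 E₂ A := by
  have hE := h.hallE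
  have hAE := (tau2_compl_context hM hE hp hA).1.1
  have hA2 := (hA.isPi (tau2_prime hp)).of_mem hp
  refine ⟨tau2_reg_tau13 hM hp (hA.mono hE.le) (h.hall3.pi.mono Set.subset_union_right)
    (h.hall3.le.trans hE.le) (cents_of_coprime_nml (tau3_der1 hM hE h.hall3).2 hAE
      (h.hall3.pi.coprime (hA2.mono (tau3'2 M)))),
    tau2_reg_tau13 hM hp (hA.mono hE.le) ((h.hall1.pi.inf_left _).mono Set.subset_union_left)
      (inf_le_left.trans (h.hall1.le.trans hE.le)) inf_le_right,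
    hA.of_le (h.hall2.nml_le hA2 hAE)⟩

end H25
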