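import Cfsg.Agent.H25.S12a
import Cfsg.Agent.H3.S12d

/-! # Bender–Glauberman §12 (aggregator of `H25.S12a` and `H3.S12b`, `H3.S12c`, `H3.S12d`) -/
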