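import Mathlib
import Cfsg.Agent.H25.S12

/-!
# Bender–Glauberman §13: prime action
-/

set_option autoImplicit false
set_option linter.unusedSectionVars false

open Subgroup H24 Cfsg H25
open scoped commutatorElement

namespace H25

universe u

variable {G : Type u} [Group G] [Finite G] [FT G]
variable {M Mst H L E E₁ E₂ E₃ P Q Qst R S X A : Subgroup G} {p q qst r : ℕ}

/-- 13.1, in the form of the book -/
theorem Msigma_setI_mmax_central' (hM : IsCoatom M) (hE : Hall (sigma M)ᶜ M E) (hH : IsCoatom H)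
    (hpE : p ∈ primesOf E) (hpH : p ∣ ♯H) (hp1 : p ∉ tau1 H)
    (hne : ⁅sigmaCore M ⊓ H, M ⊓ H⁆ ≠ ⊥) (hnc : NConj M H) :
    (∀ P, P ≤ M ⊓ H → IsPi {p} P → P ≤ C[sigmaCore M ⊓ H]) ∧ p ∉ tau2 H ∧
      (p ∈ tau1 M → p ∈ betaG G) := by
  have hp := hpE.1
  have hps : p ∉ sigma M := hE.pi.mem hp hpE.2
  have hnml : sigmaCore M ⊓ H ⊴ M ⊓ H := ⟨inf_le_inf_right _ (sigmaCore_le M),
    norm_inf (inf_le_left.trans (sigmaCore_norm M)) (norm_of_le inf_le_right)⟩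
  obtain ⟨q, hq, hd⟩ := H24.exists_prime_dvd_card hne
  have hqs : q ∈ sigma M :=
    ((sigmaCore_pi M).of_le ((comm_le_left hnml.norm).trans inf_le_left)).mem hq hd
  have hdis := (sigma_disjoint_alpha hH hM hnc.symm).2
  obtain ⟨Y, hY⟩ := Sylow_exists hq ⁅H, H⁆
  have hY1 : Y ≠ ⊥ := hY.ne_bot' ⟨hq, hd.trans (card_dvd (commutator_mono inf_le_right inf_le_right))⟩
  have hprod := Mbeta_Frattini hH hq
    (fun h => Set.disjoint_left.1 hdis (beta_sub_alpha H h) hqs) hY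
  have key := fun hb => sigma_Jsub_rank hM (hY.pi.of_mem hqs) hY1 hE hpE hb hH
    (hY.le.trans (der1_le H)) hnc
  have hb' : p ∉ betaG G → IsPi {p}ᶜ (betaCore H) := fun hb =>
    (betaCore_pi H).compl_of_not_mem fun h => hb (beta_sub_betaG H h)
  have h2 : p ∉ tau2 H := fun h => by
    have hb := (tau2_not_beta hH h).1
    have := (key hb).1
    rw [prank_eq_of_not_dvd_relIndex hp inf_le_left fun h =>
      (isPi_compl_iff hp).1 (hb' hb) (h.trans hprod.symm.relIndex_dvd), tau2_prank h] at this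
    omega
  have hS : ∀ S, Syl p H S → S ≤ ⁅H, H⁆ := fun S hS => by
    rcases (partition_pi_mmax hH).1 ⟨hp, hpH⟩ with h | h | h | h
    exacts [(hp1 h).elim, (h2 h).elim, tau3_le_der1 (hS.pi.of_mem h) hS.le,
      sigma_Sylow_sub_der1 hH h hS]
  refine ⟨fun P hPle hP => ?_, h2, fun h1 => ?_⟩
  · obtain ⟨S, hSyl, hPS⟩ := Sylow_superset hp hP (hPle.trans inf_le_right)
    have hn : H ≤ N[alphaCore H ⊔ S] := norm_sup_of_nil_quo (alphaCore_norm H) (der1_nml H).norm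
      ((der1_le H).trans (alphaCore_norm H)) (Malpha_quo_nil hH) (hSyl.of_le (hS S hSyl) (der1_le H))
    have hpi : IsPi (sigma M)ᶜ (alphaCore H ⊔ S) :=
      ((alphaCore_pi H).mono fun r hr => Set.disjoint_left.1 hdis hr).sup (hSyl.pi.of_mem hps)
        (hSyl.le.trans (alphaCore_norm H))
    refine comm_eq_bot.1 (eq_bot_of_le (((sigmaCore_pi M).inf_left H).inf_eq_bot hpi)
      (le_inf (comm_le_right (hPle.trans hnml.norm)) ?_))
    exact (comm_mono_left (hPS.trans le_sup_right)).trans (comm_le_left (inf_le_right.trans hn))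
  · by_contra hb
    obtain ⟨S, hSyl⟩ := Sylow_exists hp H
    obtain ⟨R, hR⟩ := Sylow_exists hp (H ⊓ N[Y])
    have hRH : Syl p H R := hR.of_idx inf_le_left ((hb' hb).piNat.dvd hprod.symm.relIndex_dvd)
    have := H26.pprod_focal_coprime hprod (betaCore_nml H) hR.le ((hb' hb).coprime' hR.pi)
    rw [inf_of_le_left (hS R hRH)] at this
    exact (key hb).2 h1 ((hR.pi.dvd_card (hRH.ne_bot' ⟨hp, hpH⟩)).trans
      (card_dvd (this.le.trans inf_le_right)))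

/-- 13.1 -/
theorem Msigma_setI_mmax_central (hM : IsCoatom M) (hE : Hall (sigma M)ᶜ M E) (hH : IsCoatom H)
    (hpE : p ∈ primesOf E) (hpH : p ∣ ♯⁅H, H⁆) (hne : ⁅sigmaCore M ⊓ H, M ⊓ H⁆ ≠ ⊥) (hnc : NConj M H) :
    (∀ P, P ≤ M ⊓ H → IsPi {p} P → P ≤ C[sigmaCore M ⊓ H]) ∧ p ∉ tau2 H ∧
      (p ∈ tau1 M → p ∈ betaG G) :=
  Msigma_setI_mmax_central' hM hE hH hpE (hpH.trans (card_dvd (der1_le H)))
    (fun h => tau1_not_dvd_der h hpH) hne hnc

/-- 13.2 -/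
theorem cent_norm_tau13_mmax (hM : IsCoatom M) (hE : Hall (sigma M)ᶜ M E) (hp : p ∈ tau1 M ∨ p ∈ tau3 M)
    (hPM : P ≤ M) (hP : IsPi {p} P) (hH : IsCoatom H) (hN : N[P] ≤ H) :
    (∀ P₁, P₁ ≤ M ⊓ H → IsPi {p} P₁ → P₁ ≤ C[sigmaCore M ⊓ H]) ∧
      (∀ X, X ≤ E ⊓ H → IsPi (tau1 H)ᶜ X → X ≤ C[sigmaCore M ⊓ H]) ∧
      (⁅sigmaCore M ⊓ H, M ⊓ H⁆ ≠ ⊥ → p ∈ sigma H ∧ (p ∈ tau1 M → p ∈ beta H)) := by
  by_cases hne : ⁅sigmaCore M ⊓ H, M ⊓ H⁆ = ⊥
  · have h := comm_eq_bot'.1 hne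
    exact ⟨fun _ h1 _ => h1.trans h, fun _ h1 _ => (h1.trans (inf_le_inf_right _ hE.le)).trans h,
      fun h => (h hne).elim⟩
  have hpp : p.Prime := hp.elim tau1_prime tau3_prime
  have hnc := mmax_norm_notJ hM hH hP hPM hN (Or.inr hp)
  have hst := prime_class_mmax_norm hH hpp hP hN
  obtain ⟨ha, hb, hc⟩ := Msigma_setI_mmax_central' hM hE hH
    ((partition_pi_sigma_compl hM hE).2 (hp.elim Or.inl fun h => Or.inr (Or.inr h)))
    (hst.elim sigma_dvd tau2_dvd) (fun h => hst.elim (tau1_not_sigma h) (tau2'1 H h)) hne hnc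
  refine ⟨ha, fun X hX hX1 => le_of_forall_syl_le fun q Q hq hd hQ => ?_, fun _ =>
    ⟨hst.resolve_right hb, fun h => (predI_sigma_beta hH).2 ⟨hst.resolve_right hb, hc h⟩⟩⟩
  exact (Msigma_setI_mmax_central' hM hE hH ⟨hq, hd.trans (card_dvd (hX.trans inf_le_left))⟩
    (hd.trans (card_dvd (hX.trans inf_le_right))) (hX1.mem hq hd) hne hnc).1 Q
    (hQ.le.trans (hX.trans (inf_le_inf_right _ hE.le))) hQ.pi

theorem tau13_norm_setI (hM : IsCoatom M) (hp : p ∈ tau1 M ∨ p ∈ tau3 M)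
    (hPM : P ≤ M) (hP : IsPi {p} P) (hH : IsCoatom H) (hN : N[P] ≤ H) :
    sigmaCore M ⊓ H = sigmaCore M ⊓ C[P] := by
  obtain ⟨E, hE⟩ := exists_sigma_compl hM
  exact le_antisymm (le_inf inf_le_left (cents_symm ((cent_norm_tau13_mmax hM hE hp hPM hP hH hN).1 P
    (le_inf hPM ((norm_self P).trans hN)) hP))) (inf_le_inf_left _ ((C_le_N P).trans hN))

/-- any `p`-subgroup of `M` for `p ∈ τ₁(M) ∪ τ₃(M)` acts in a prime manner -/
theorem tau13_pgroup_primact (hM : IsCoatom M) (hp : p ∈ tau1 M ∨ p ∈ tau3 M) (hP : IsPi {p} P)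
    (hPM : P ≤ M) : Semiprime (sigmaCore M) P := by
  refine semiprime_of_forall_prime fun X hX hXp => ?_
  obtain ⟨E, hE⟩ := exists_sigma_compl hM
  obtain ⟨H, hH, hN⟩ := exists_mmax_norm (ne_bot_of_prime hXp) (mFT_pgroup_proper (hP.of_le hX))
  refine (inf_le_inf_left _ ((C_le_N X).trans hN)).trans (cents_symm
    ((cent_norm_tau13_mmax hM hE hp (hX.trans hPM) (hP.of_le hX) hH hN).1 P (le_inf hPM ?_) hP))
  exact ((tau13_pgroup_cyc hp hP hPM).abl.norm le_rfl hX).trans hN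

/-- 13.3(a) -/
theorem cyclic_primact_Msigma (hM : IsCoatom M) (hE : Hall (sigma M)ᶜ M E) (hp : p.Prime)
    (hP : Syl p E P) (hc : Cyc P) : Semiprime (sigmaCore M) P := by
  by_cases hP1 : P = ⊥
  · subst hP1; exact (semireg_bot_right _).semiprime
  refine tau13_pgroup_primact (p := p) hM ?_ hP.pi (hP.le.trans hE.le)
  rcases (partition_pi_sigma_compl hM hE).1 (hP.pi.mem_primesOf hP1 hP.le) with h | h | h
  · exact Or.inl h
  · have h1 := cyc_prank_le_one hp hc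
    rw [prank_Syl hp hP, ((tau2E hM hE).1 h).2] at h1
    omega
  · exact Or.inr h

/-- 13.3(b) -/
theorem tau3_primact_Msigma (hM : IsCoatom M) (hE : Hall (sigma M)ᶜ M E) (h3 : Hall (tau3 M) E E₃) :
    Semiprime (sigmaCore M) E₃ := by
  refine semiprime_of_forall_prime fun X hX hXp => ?_
  have hXq : IsPi {♯X} X := isPi_of_card_prime hXp rfl
  obtain ⟨H, hH, hN⟩ := exists_mmax_norm (ne_bot_of_prime hXp) (mFT_pgroup_proper hXq)
  obtain ⟨h1, h2⟩ := tau3_der1 hM hE h3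
  have hEH : E ≤ H := (h2.of_cyc (tau3_cyclic hM hE h3) hX).norm.trans hN
  refine (inf_le_inf_left _ ((C_le_N X).trans hN)).trans (cents_symm
    ((cent_norm_tau13_mmax hM hE (Or.inr ((h3.pi.of_le hX).mem hXp dvd_rfl))
      (hX.trans (h3.le.trans hE.le)) hXq hH hN).2.1 E₃ (le_inf h3.le (h3.le.trans hEH)) ?_))
  exact (der1_tau1' H).of_le (h1.trans (der1_mono hEH))

theorem cent_tau1Elem_Msigma_aux (hM : IsCoatom M) (hE : Hall (sigma M)ᶜ M E) (hp : p ∈ tau1 M)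
    (hr : r.Prime) (hP : PnElem p 1 E P) (hR : PnElem r 1 (E ⊓ C[P]) R) (hq : q.Prime)
    (hS : Syl q (sigmaCore M ⊓ C[P]) S) (hRS : R ≤ N[S]) (hnc : ¬ S ≤ C[R]) :
    r ∈ tau1 M ∧ q ∉ alpha M ∧ alphaCore M ⊓ C[R] ≠ ⊥ ∧ alphaCore M ⊓ C[⁅S, R⁆ ⊔ R] = ⊥ := by
  have hpp := tau1_prime hp
  have hPp := hP.isPi hpp
  have hRr := hR.isPi hr
  have hPM := hP.le.trans hE.le
  have hRE : R ≤ E := hR.le.trans inf_le_left
  have hRM := hRE.trans hE.le
  obtain ⟨H, hH, hN⟩ := exists_mmax_norm (hP.ne_bot hpp one_pos) (mFT_pgroup_proper hPp)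
  have hCH : C[P] ≤ H := (C_le_N P).trans hN
  have hRH : R ≤ H := (hR.le.trans inf_le_right).trans hCH
  obtain ⟨-, hb, hc⟩ := cent_norm_tau13_mmax hM hE (Or.inl hp) hPM hPp hH hN
  have e := tau13_norm_setI hM (Or.inl hp) hPM hPp hH hN
  have hSle : S ≤ sigmaCore M ⊓ H := e ▸ hS.le
  have hSM : S ≤ M := hSle.trans (inf_le_left.trans (sigmaCore_le M))
  have hSH : S ≤ H := hSle.trans inf_le_right
  have hr1 : r ∈ tau1 H := by
    by_contra h
    exact hnc (hSle.trans (cents_symm (hb R (le_inf hRE hRH) (hRr.of_mem h))))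
  have hQ1 : ⁅S, R⁆ ≠ ⊥ := fun h => hnc (comm_eq_bot.1 h)
  have hpb : p ∈ beta H := (hc (ne_bot_of_le hQ1 (commutator_mono hSle (le_inf hRM hRH)))).2 hp
  have hnj := mmax_norm_notJ hM hH hPp hPM hN (Or.inr (Or.inl hp))
  have hQS : ⁅S, R⁆ ≤ S := comm_le_left hRS
  have hQq : IsPi {q} ⁅S, R⁆ := hS.pi.of_le hQS
  have hqs : q ∈ sigma M := hQq.mem_of_ne_bot ((sigmaCore_pi M).of_le (hQS.trans
    (hSle.trans inf_le_left))) hQ1
  have hrs : r ∉ sigma M := hRr.mem_of_ne_bot (hE.pi.of_le hRE) (hR.ne_bot hr one_pos)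
  have hqr : q ≠ r := fun h => hrs (h ▸ hqs)
  have hSa : Abl S := by
    by_contra h
    exact not_uniq_of_two hM hH hnj.ne hSM hSH (nonabelian_Uniqueness hq hS.pi h)
  have hreg := H26.coprime_abel_cent_TI hRS (hS.pi.coprime_of_ne hRr hqr) hSa
  have hu : UniqMax N[⁅S, R⁆] H := by
    by_contra hu
    refine hP.ne_bot hpp one_pos (eq_bot_of_le (cent_Malpha_reg_tau1_a hH hr1 hq hqr (hR.of_le hRH)
      hQ1 (norm_comm_right S R) hreg hu (Malpha_ne_bot hH (beta_sub_alpha H hpb))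
      (fun h => Set.disjoint_left.1 (sigma_disjoint_alpha hH hM hnj.symm).2 h hqs) hQq
      (hQS.trans hSH)).2 (le_inf ?_ (cents_symm ?_)))
    · exact sub_Malpha hH (hPp.of_mem (beta_sub_alpha H hpb)) ((norm_self P).trans hN)
    · exact sup_le (hQS.trans (hS.le.trans inf_le_right)) (hR.le.trans inf_le_right)
  obtain ⟨-, -, hd, he⟩ := sigma_subgroup_embedding hM hqs (hQS.trans hSM) hQq hQ1 hH hu.le hnj.ne
  have hqH : q ∈ sigma H := by
    by_contra h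
    exact hPp.mem_of_ne_bot ((he h).2.2.pi.of_le (le_inf hPM ((norm_self P).trans hN)))
      (hP.ne_bot hpp one_pos) (beta_sub_sigma hH hpb)
  obtain ⟨-, h1, -, h2⟩ := hd hqH
  have hr1M : r ∈ tau1 M := (h1 hr1).resolve_right fun h => hrs (alpha_sub_sigma hM h)
  have hqa : q ∉ alpha M := fun h => Set.disjoint_left.1 (sigma_disjoint_alpha hM hH hnj).2 h hqH
  exact ⟨hr1M, hqa, cent_Malpha_reg_tau1_a hM hr1M hq hqr (hR.of_le hRM) hQ1 (norm_comm_right S R)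
    hreg (fun h => hnj.ne (h.eq hu)) h2 hqa hQq (hQS.trans hSM)⟩

theorem cent_tau1Elem_exists_Sylow (hM : IsCoatom M) (hE : Hall (sigma M)ᶜ M E)
    (hR : R ≤ E ⊓ C[P]) (hq : q.Prime) : ∃ S, Syl q (sigmaCore M ⊓ C[P]) S ∧ R ≤ N[S] :=
  H26.sol_coprime_Sylow_exists hq (norm_inf ((hR.trans inf_le_left).trans (hE.le.trans
    (sigmaCore_norm M))) (norm_of_le (hR.trans inf_le_right)))
    (((sigmaCore_pi M).inf_left _).coprime (hE.pi.of_le (hR.trans inf_le_left)))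
    (Or.inr ((Msigma_sol hM).of_le inf_le_left))

theorem cent_tau1Elem_Malpha (hM : IsCoatom M) (hE : Hall (sigma M)ᶜ M E) (hp : p ∈ tau1 M)
    (hr : r.Prime) (hP : PnElem p 1 E P) (hR : PnElem r 1 (E ⊓ C[P]) R) :
    alphaCore M ⊓ C[P] ≤ C[R] := by
  refine le_of_syl_le fun q hq hd => ?_
  obtain ⟨S, hS, hRS⟩ := cent_tau1Elem_exists_Sylow hM hE hR.le hq
  have ha : q ∈ alpha M := ((alphaCore_pi M).inf_left _).mem hq hd
  refine ⟨S, hS.of_le (le_inf (sub_Malpha hM (hS.pi.of_mem ha)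
    (hS.le.trans (inf_le_left.trans (sigmaCore_le M)))) (hS.le.trans inf_le_right))
    (inf_le_inf_right _ (Malpha_sub_Msigma hM)), ?_⟩
  by_contra hnc
  exact (cent_tau1Elem_Msigma_aux hM hE hp hr hP hR hq hS hRS hnc).2.1 ha

/-- 13.4 -/
theorem cent_tau1Elem_Msigma (hM : IsCoatom M) (hE : Hall (sigma M)ᶜ M E) (hp : p ∈ tau1 M)
    (hr : r.Prime) (hP : PnElem p 1 E P) (hR : PnElem r 1 (E ⊓ C[P]) R) :
    sigmaCore M ⊓ C[P] ≤ C[R] := by
  refine le_of_syl_le fun q hq hd => ?_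
  obtain ⟨S, hS, hRS⟩ := cent_tau1Elem_exists_Sylow hM hE hR.le hq
  refine ⟨S, hS, ?_⟩
  by_contra hnc
  obtain ⟨hr1, -, h1, h2⟩ := cent_tau1Elem_Msigma_aux hM hE hp hr hP hR hq hS hRS hnc
  have e : alphaCore M ⊓ C[R] = alphaCore M ⊓ C[P] := le_antisymm
    (le_inf inf_le_left (cent_tau1Elem_Malpha hM hE hr1 (tau1_prime hp) (hR.mono inf_le_left)
      (hP.of_le (le_inf hP.le (cents_symm (hR.le.trans inf_le_right))))))
    (le_inf inf_le_left (cent_tau1Elem_Malpha hM hE hp hr hP hR))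
  refine h1 (eq_bot_of_le h2 (le_inf inf_le_left (cents_sup (cents_symm ?_) inf_le_right)))
  refine (comm_mono_right (cents_symm inf_le_right : R ≤ C[alphaCore M ⊓ C[R]])).trans
    (comm_le_right (norm_C ?_))
  rw [e]
  exact norm_inf (hS.le.trans (inf_le_left.trans ((sigmaCore_le M).trans (alphaCore_norm M))))
    (norm_of_le (hS.le.trans inf_le_right))

/-- any `τ₁(M)`-subgroup of `M` acts in a prime manner -/
theorem tau1_group_primact (hM : IsCoatom M) (hX : IsPi (tau1 M) X) (hXM : X ≤ M) :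
    Semiprime (sigmaCore M) X := by
  obtain ⟨E, hE, hXE⟩ := ex_sigma_compl hM hXM (hX.mono (tau1_sub_sigma' M))
  have hc := tau1_group_cyc hX hXM
  refine semiprime_of_forall_prime fun R hR hr => cents_symm (le_of_forall_syl_le ?_)
  intro p P hp hd hP
  obtain ⟨Y, hY⟩ := exists_pnElem_one hp (hP.pi.dvd_card (hP.ne_bot' ⟨hp, hd⟩))
  refine cents_symm ((le_inf inf_le_left (cent_tau1Elem_Msigma hM hE ((hX.of_le hR).mem hr dvd_rfl) hp
    (pnElem_one_of_card hr (hR.trans hXE) rfl) (hY.of_le (le_inf (hY.le.trans (hP.le.trans hXE))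
      (hc.abl.cents (hY.le.trans hP.le) hR))))).trans ?_)
  rw [(tau13_pgroup_primact hM (Or.inl (hX.mem hp hd)) hP.pi (hP.le.trans hXM)).inf_C hY.le
    (hY.ne_bot hp one_pos)]
  exact inf_le_right

/-- 13.5 -/
theorem tau1_primact_Msigma (hM : IsCoatom M) (hE : Hall (sigma M)ᶜ M E) (h1 : Hall (tau1 M) E E₁) :
    Semiprime (sigmaCore M) E₁ := tau1_group_primact hM h1.pi (h1.le.trans hE.le)

theorem cent_cent_Msigma_tau1_aux (hM : IsCoatom M) (hE : Hall (sigma M)ᶜ M E)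
    (h1 : Hall (tau1 M) E E₁) (hE1 : E₁ ≠ ⊥) (hX : X ≤ sigmaCore M ⊓ C[E₁]) (hX1 : X ≠ ⊥)
    (hc : X ≤ C[⁅E, E⁆]) : X ≤ ⁅sigmaCore M, sigmaCore M⁆ := by
  obtain ⟨E₃, h3⟩ := H26.Hall_exists (tau3 M) (sigma_compl_sol hM hE)
  obtain ⟨E₂, h⟩ := ex_tau2_compl hM hE h1 h3
  by_cases h2 : E₂ = ⊥
  · obtain ⟨⟨h3', -⟩, -, -, ⟨-, hsd, -⟩, -⟩ := sigma_compl_context hM h
    refine le_trans (le_inf (hX.trans inf_le_left) ?_) (sigma_compl_embedding hM hE).1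
    rw [← hsd.sup, h2, bot_sup_eq]
    exact cents_sup (hc.trans (C_anti h3')) (hX.trans inf_le_right)
  exfalso
  obtain ⟨p, hp, hd⟩ := H24.exists_prime_dvd_card h2
  have hp2 := h.hall2.pi.mem hp hd
  obtain ⟨A, hA⟩ := ex_tau2Elem hE hp2
  have hAE := (tau2_compl_context hM hE hp2 hA).1.1
  refine hX1 (eq_bot_of_le (tau2_context hM hp2 (hA.mono hE.le)).2.2.1
    (le_inf (hX.trans inf_le_left) ?_))
  have hdp := H26.coprime_abelian_cent_dprod (h1.le.trans hAE.norm)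
    (((hA.isPi hp).of_mem hp2).coprime (h1.pi.mono (tau2'1 M))) hA.abl
  rw [← hdp.sup]
  refine cents_sup (hc.trans (C_anti (commutator_mono hA.le h1.le))) (cents_symm fun a ha => ?_)
  by_cases ha1 : a = 1
  · exact ha1 ▸ one_mem _
  obtain ⟨q, hq, hd⟩ := H24.exists_prime_dvd_card hE1
  obtain ⟨P, hP⟩ := exists_pnElem_one hq hd
  have hR := pnElem_zpowers_of_elem hp hA.elem ha.1 ha1
  have := cent_tau1Elem_Msigma hM hE (h1.pi.mem hq hd) hp (hP.mono h1.le)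
    (hR.of_le (le_inf (hR.le.trans hA.le) (zpowers_le.2 (C_anti hP.le ha.2))))
  exact cents_symm ((hX.trans (inf_le_inf_left _ (C_anti hP.le))).trans this) (mem_zpowers a)

/-- 13.6 -/
theorem cent_cent_Msigma_tau1_uniq (hM : IsCoatom M) (hE : Hall (sigma M)ᶜ M E)
    (h1 : Hall (tau1 M) E E₁) (hP : P ≤ E₁) (hP1 : P ≠ ⊥) (hq : q.Prime)
    (hX : PnElem q 1 (sigmaCore M ⊓ C[P]) X) :
    UniqMax C[X] M ∧ ∀ S, Syl q (sigmaCore M) S → UniqMax S M := by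
  rw [(tau1_primact_Msigma hM hE h1).inf_C hP hP1] at hX
  refine cent_der_sigma_uniq hM hq (hX.mono (inf_le_left.trans (sigmaCore_le M))) ?_
  by_cases hb : q ∈ beta M
  · exact Or.inl hb
  right
  have hn : E ≤ N[sigmaCore M] := hE.le.trans (sigmaCore_norm M)
  have hcop : (♯(sigmaCore M)).Coprime ♯E₁ :=
    (coprime_sigma_compl hM hE).coprime_dvd_right (card_dvd h1.le)
  have hs := Msigma_sol hM
  obtain ⟨T, hT, hTc⟩ := der_compl_cent_beta' hM hE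
  obtain ⟨S, hS, hSn⟩ := H26.sol_coprime_Sylow_exists (K := sigmaCore M ⊓ C[⁅E, E⁆]) hq
    (h1.le.trans (norm_inf hn (norm_C (der1_nml E).norm))) (hcop.coprime_dvd_left (card_dvd inf_le_left))
    (Or.inr (hs.of_le inf_le_left))
  have hS' : Syl q (sigmaCore M) S :=
    hS.of_idx inf_le_left ((hT.idx_of_ge (le_inf hT.le (cents_symm hTc))).compl_of_mem hb)
  obtain ⟨S₁, hS₁, hS₁n, hXS⟩ := H26.sol_coprime_Sylow_subset hq (h1.le.trans hn) hcop (Or.inr hs)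
    (hX.le.trans inf_le_left) (hX.isPi hq) (norm_of_cent (cents_symm (hX.le.trans inf_le_right)))
  obtain ⟨c, hc, rfl⟩ := H26.sol_coprime_Sylow_trans hq (h1.le.trans hn) hcop (Or.inr hs) hS' hSn
    hS₁ hS₁n
  refine cent_cent_Msigma_tau1_aux hM (hE.cj_mem (sigmaCore_le M hc.1)) (E₁ := E₁)
    (by simpa [cj_of_mem_C hc.2] using h1.cj c) (ne_bot_of_le hP1 hP) hX.le (hX.ne_bot hq one_pos) ?_
  rw [← cj_comm]
  exact hXS.trans (cent_cj (hS.le.trans inf_le_right) c)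

/-- 13.6 for an arbitrary `τ₁(M)`-subgroup -/
theorem cent_cent_Msigma_tau1_uniq' (hM : IsCoatom M) (hP : IsPi (tau1 M) P) (hPM : P ≤ M)
    (hP1 : P ≠ ⊥) (hq : q.Prime) (hX : PnElem q 1 (sigmaCore M ⊓ C[P]) X) :
    UniqMax C[X] M ∧ ∀ S, Syl q (sigmaCore M) S → UniqMax S M := by
  obtain ⟨E, hE, hPE⟩ := ex_sigma_compl hM hPM (hP.mono (tau1_sub_sigma' M))
  obtain ⟨E₁, h1, hP1'⟩ := H26.Hall_superset (sigma_compl_sol hM hE) hPE hP
  exact cent_cent_Msigma_tau1_uniq hM hE h1 hP1' hP1 hq hX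

/-- 13.7 -/
theorem tau13_primact_Msigma (hM : IsCoatom M) (h : SigmaCompl M E E₁ E₂ E₃) (hnr : ¬ Semireg E₃ E₁) :
    Semiprime (sigmaCore M) (E₃ ⊔ E₁) := by
  have hE := h.hallE
  obtain ⟨⟨-, hn3⟩, -, ⟨hc1, hc3⟩, ⟨-, hsd, -⟩, hf⟩ := sigma_compl_context hM h
  obtain ⟨P, hPE, hp, hne⟩ : ∃ P ≤ E₁, (♯P).Prime ∧ E₃ ⊓ C[P] ≠ ⊥ := by
    by_contra hno
    push Not at hno
    exact hnr (semireg_of_forall_prime hno)
  obtain ⟨R, hRle, hr⟩ := exists_card_isPrime hne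
  have hR3 : R ≤ E₃ := hRle.trans inf_le_left
  have hp1 := (h.hall1.pi.of_le hPE).mem hp dvd_rfl
  have hr3 := (h.hall3.pi.of_le hR3).mem hr dvd_rfl
  have pr1 := tau1_primact_Msigma hM hE h.hall1
  have pr3 := tau3_primact_Msigma hM hE h.hall3
  have e1 := pr1.inf_C hPE (ne_bot_of_prime hp)
  have e3 := pr3.inf_C hR3 (ne_bot_of_prime hr)
  have hle : sigmaCore M ⊓ C[E₁] ≤ C[E₃] := by
    rw [← e1]
    exact (le_inf inf_le_left (cent_tau1Elem_Msigma hM hE hp1 hr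
      (pnElem_one_of_card hp (hPE.trans h.hall1.le) rfl) (pnElem_one_of_card hr
        (hRle.trans (inf_le_inf_right _ h.hall3.le)) rfl))).trans (e3.le.trans inf_le_right)
  by_cases hge : sigmaCore M ⊓ C[E₃] ≤ C[E₁]
  · refine semiprime_of_forall_prime fun X hX hXp => ?_
    have hsd' : SD E₃ E₁ (E₃ ⊔ E₁) := SD.mk_sup (h.hall1.le.trans hn3.norm)
      (h.hall3.pi.inf_eq_bot (h.hall1.pi.mono (tau3'1 M)))
    have hXq : IsPi {♯X} X := isPi_of_card_prime hXp rfl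
    by_cases h3 : ♯X ∈ tau3 M
    · rw [pr3.inf_C ((h.hall3.of_le le_sup_left (sup_le h.hall3.le h.hall1.le)).le_of_nml
        hsd'.nml.norm (hXq.of_mem h3) hX) (ne_bot_of_prime hXp)]
      exact cents_sup inf_le_right hge
    · obtain ⟨g, hg, hXg⟩ := H26.Hall_subJ ((sigma_compl_sol hM hE).of_le
        (sup_le h.hall3.le h.hall1.le)) (hsd'.hall_compl_right
          (h.hall3.of_le le_sup_left (sup_le h.hall3.le h.hall1.le))) hX (hXq.of_mem h3)
      have := (pr1.cj g).inf_C hXg (ne_bot_of_prime hXp)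
      rw [cj_of_mem_N (sigmaCore_norm M (hE.le (sup_le h.hall3.le h.hall1.le hg)))] at this
      rw [this, ← cj_of_mem hg, ← cj_C, ← cj_C,
        ← cj_of_mem_N (sigmaCore_norm M (hE.le (sup_le h.hall3.le h.hall1.le hg))), ← cj_inf]
      exact cj_mono g (cents_sup hle inf_le_right)
  exfalso
  have h2 : E₂ = ⊥ := by
    by_contra h2
    obtain ⟨q, hq, hd⟩ := H24.exists_prime_dvd_card h2
    obtain ⟨A, hA⟩ := ex_tau2Elem hE (h.hall2.pi.mem hq hd)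
    exact hge (((tau2_regular hM h (h.hall2.pi.mem hq hd) hA).1.inf_C le_rfl
      (ne_bot_of_le (ne_bot_of_prime hr) hR3)).le.trans bot_le)
  rw [h2, bot_sup_eq] at hsd
  have hRr : IsPi {♯R} R := isPi_of_card_prime hr rfl
  have hRM : R ≤ M := hR3.trans (h.hall3.le.trans hE.le)
  obtain ⟨L, hL, hN⟩ := exists_mmax_norm (ne_bot_of_prime hr) (mFT_pgroup_proper hRr)
  have hEL : E ≤ L := (hn3.of_cyc hc3 hR3).norm.trans hN
  obtain ⟨-, hb, hc⟩ := cent_norm_tau13_mmax hM hE (Or.inr hr3) hRM hRr hL hN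
  rw [tau13_norm_setI hM (Or.inr hr3) hRM hRr hL hN, e3] at hb hc
  have hs : ♯R ∈ sigma L := (hc fun h' => hge ((comm_eq_bot.1 h').trans
    (C_anti (le_inf (h.hall1.le.trans hE.le) (h.hall1.le.trans hEL))))).1
  have h1L : IsPi (tau1 L) E₁ := fun q hq hd => by
    by_contra hq1
    obtain ⟨X, hX⟩ := exists_pnElem_one hq hd
    refine hge ((le_inf inf_le_left (cents_symm (hb X (hX.le.trans (le_inf h.hall1.le
      (h.hall1.le.trans hEL))) ((hX.isPi hq).of_mem hq1)))).trans ?_)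
    rw [pr1.inf_C hX.le (hX.ne_bot hq one_pos)]
    exact inf_le_right
  have hR1 : R ≤ C[E₁] := (le_inf (sub_Msigma hL (hRr.of_mem hs) ((norm_self R).trans hN))
    (hRle.trans inf_le_right)).trans (((tau1_group_primact hL h1L (h.hall1.le.trans hEL)).inf_C hPE
      (ne_bot_of_prime hp)).le.trans inf_le_right)
  refine ne_bot_of_prime hr (eq_bot_of_le hf (le_inf hR3 ?_))
  rw [← hsd.sup]
  exact cents_sup (hc3.abl.cents hR3 le_rfl) hR1

theorem tau1_mmaxI_props (hM : IsCoatom M) (hL : IsCoatom L) (hne : L ≠ M) (hp : p ∈ tau1 M)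
    (hP : PnElem p 1 M P) (hq : q.Prime) (hQ : Syl q (M ⊓ L) Q) (hPQ : P ≤ N[Q])
    (hPL : P ≤ L) (hreg : Q ⊓ C[P] = ⊥) (hNQ : N[Q] ≤ L) :
    Syl q M Q ∧ Q = ⁅Q, P⁆ ∧ alpha M = beta M ∧ q ∉ alpha M ∧ alphaCore M ⊓ C[P] ≠ ⊥ ∧
      alphaCore M ⊓ C[Q ⊔ P] = ⊥ := by
  have hpp := tau1_prime hp
  have hQM : Syl q M Q := hQ.of_norm_le hq inf_le_left (inf_le_inf_left _ hNQ)
  have hQ1 : Q ≠ ⊥ := by
    rintro rfl
    exact hL.1 (top_le_iff.1 (N_bot.ge.trans hNQ))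
  have hqp : q ≠ p := by
    rintro rfl
    exact hQ1 (TI_center_nil (hQ.pi.nil hq) (Nml.refl Q) (eq_bot_of_le hreg (inf_le_right.trans
      (inf_le_inf_left _ (C_anti (hQ.le_of_norm (hP.isPi hq) (le_inf hP.le hPL) hPQ))))))
  obtain ⟨h1, -, h2, h3, h4⟩ := cent_Malpha_reg_tau1_b hM hp hq hqp hP hQ1 hPQ hreg
    (fun h => hne (h.uniq L hL hNQ)) hQM
  exact ⟨hQM, (H1.comm_eq_of_regular hPQ (hP.ne_bot hpp one_pos)
    (semireg_of_prime (hP.card_one ▸ hpp) hreg)).symm, h1, h2, h3, h4⟩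

theorem tau1_mmaxI_aux (hM : IsCoatom M) (hL : IsCoatom L) (hnc : NConj M L)
    (hp : p ∈ tau1 M) (hP : PnElem p 1 (M ⊓ L) P) (hq : q.Prime) (hQ : Syl q (M ⊓ L) Q)
    (hPQ : P ≤ N[Q]) (hreg : Q ⊓ C[P] = ⊥) (hNQ : N[Q] ≤ L) (hLb : betaCore L ⊓ C[P] ≠ ⊥)
    (hH : Hall (beta M ∪ beta L) C[P] H) (hr : r ∈ beta M) (hO : O[{r}, H] ≠ ⊥) : False := by
  have hpp := tau1_prime hp
  have hPM : P ≤ M := hP.le.trans inf_le_left
  have hPL : P ≤ L := hP.le.trans inf_le_right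
  have hPp := hP.isPi hpp
  obtain ⟨hQM, hQP, hab, hqa, h1, h2⟩ :=
    tau1_mmaxI_props hM hL hnc.ne hp (hP.of_le hPM) hq hQ hPQ hPL hreg hNQ
  obtain ⟨c, hcP, hc⟩ := H26.Hall_subJ (mFT_sol_cent (hP.ne_bot hpp one_pos)) hH inf_le_right
    (((alphaCore_pi M).inf_left C[P]).mono (hab.subset.trans Set.subset_union_left))
  have hH' := hH.cj_mem hcP
  have hO' : O[{r}, cj c H] ≠ ⊥ := by rwa [pcore_cj, Ne, cj_eq_bot]
  generalize cj c H = K at hc hH' hO'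
  have hKM : K ≤ M := by
    obtain ⟨S, hS⟩ := Sylow_exists (beta_prime hr) M
    obtain ⟨g, -, hg⟩ := Sylow_subJ (beta_prime hr) (sigma_Sylow_G (beta_sub_sigma hM hr) hS)
      (pcore_pi {r} K) le_top
    have hKg : K ≤ cj g M := (pcore_nml _ _).norm.trans (beta_norm_sub_mmax (isCoatom_cj hM g)
      (hg.trans (cj_mono g hS.le)) ((pcore_pi _ _).of_mem (by simpa)) hO')
    obtain ⟨t, ht, hd⟩ := H24.exists_prime_dvd_card h1
    obtain ⟨Y, hY⟩ := exists_pnElem_one ht hd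
    have htb : t ∈ beta M := hab ▸ ((alphaCore_pi M).inf_left _).mem ht hd
    rwa [(cent_der_sigma_uniq hM ht (hY.mono (inf_le_left.trans (alphaCore_le M))) (Or.inl htb)).1.eq
      (cent_der_sigma_uniq (isCoatom_cj hM g) ht (hY.mono (hc.trans hKg))
        (Or.inl (by simpa))).1] at hKg
  obtain ⟨s, hs, hd⟩ := H24.exists_prime_dvd_card hLb
  have hsb : s ∈ beta L := ((betaCore_pi L).inf_left _).mem hs hd
  have hss : s ∉ sigma M :=
    Set.disjoint_left.1 (sigma_disjoint_alpha hL hM hnc.symm).2 (beta_sub_alpha L hsb)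
  have hQ' : ∀ N : Subgroup G, Q ≤ N → P ≤ N → Q ≤ ⁅N, N⁆ := fun N h1 h2 =>
    hQP.le.trans (commutator_mono h1 h2)
  have hprod := H26.coprime_cent_mulG (Mbeta_Frattini hM hq (hab ▸ hqa)
    (hQM.of_le (hQ' M hQM.le hPM) (der1_le M))) (hPM.trans (betaCore_norm M))
    (norm_of_le (le_inf hPM hPQ)) (((betaCore_pi M).inf_left _).coprime
      (hPp.of_mem fun h => tau1_not_sigma hp (beta_sub_sigma hM h))) (Or.inr (hPp.sol hpp))
  have hd' : s ∣ ♯(M ⊓ N[Q] ⊓ C[P]) := by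
    refine ((hs.dvd_mul.1 (((hH'.prime_dvd hs (Or.inr hsb) (hd.trans (card_dvd inf_le_right))).trans
      (card_dvd (le_inf hKM hH'.le))).trans hprod.card_dvd)).resolve_left ?_)
    exact ((betaCore_pi M).inf_left _).not_dvd hs fun h => hss (beta_sub_sigma hM h)
  obtain ⟨R, hR⟩ := exists_pnElem_one hs hd'
  have hRM : R ≤ M := hR.le.trans (inf_le_left.trans inf_le_left)
  have hRP : R ≤ C[P] := hR.le.trans inf_le_right
  have hNR : N[R] ≤ L := beta_norm_sub_mmax hL (hR.le.trans (inf_le_left.trans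
    (inf_le_right.trans hNQ))) ((hR.isPi hs).of_mem hsb) (hR.ne_bot hs one_pos)
  obtain ⟨E, hE, hle⟩ := ex_sigma_compl hM (sup_le hPM hRM) ((hPp.of_mem (tau1_not_sigma hp)).sup
    ((hR.isPi hs).of_mem hss) (norm_of_cent hRP))
  have hX : alphaCore M ⊓ C[P] ≤ L := (inf_le_inf_right _ (Malpha_sub_Msigma hM)).trans
    ((cent_tau1Elem_Msigma hM hE hp hs (hP.of_le (le_sup_left.trans hle))
      (hR.of_le (le_inf (le_sup_right.trans hle) hRP))).trans ((C_le_N R).trans hNR))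
  have hQL : Q ≤ L := hQ.le.trans inf_le_right
  have hnK : Q ≤ N[alphaCore M ⊓ L] := norm_inf (hQM.le.trans (alphaCore_norm M)) (norm_of_le hQL)
  have hcop : (♯(alphaCore M ⊓ L)).Coprime ♯Q :=
    ((alphaCore_pi M).inf_left _).coprime (hQ.pi.of_mem hqa)
  have hcent : Q ≤ C[alphaCore M ⊓ L] := by
    refine H26.coprime_commGG1P hnK hcop ((Malpha_sol hM).of_le inf_le_left) ?_
    have hD : ⁅alphaCore M ⊓ L, Q⁆ ≤ ⁅L, L⁆ := commutator_mono inf_le_right hQL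
    have hn := (der1_le L).trans (betaCore_norm L)
    have h3 : ⁅⁅alphaCore M ⊓ L, Q⁆, Q⁆ ≤ betaCore L :=
      (quo_cents (hD.trans hn) (hQL.trans (betaCore_norm L))).1
        ((Mbeta_quo_nil hL).cents_of_coprime (quo_mono _ hD) (quo_mono _ (hQ' L hQL hPL))
          (coprime_quo (hcop.coprime_dvd_left (card_dvd (comm_le_left hnK))) _))
    exact eq_bot_of_le (sigma_disjoint_alpha hM hL hnc).1 (le_inf
      ((comm_le_left (norm_comm_right _ _)).trans ((comm_le_left hnK).trans inf_le_left))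
      (h3.trans (Mbeta_sub_Msigma hL)))
  exact h1 (eq_bot_of_le h2 (le_inf inf_le_left
    (cents_sup ((le_inf inf_le_left hX).trans (cents_symm hcent)) inf_le_right)))

/-- 13.8 -/
theorem tau1_mmaxI_asymmetry (hM : IsCoatom M) (hMst : IsCoatom Mst) (hnc : NConj M Mst)
    (hp : p ∈ tau1 M) (hpst : p ∈ tau1 Mst) (hP : PnElem p 1 (M ⊓ Mst) P) (hq : q.Prime)
    (hqst : qst.Prime) (hQ : Syl q (M ⊓ Mst) Q) (hQst : Syl qst (M ⊓ Mst) Qst) (hPQ : P ≤ N[Q])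
    (hPQst : P ≤ N[Qst]) (hreg : Q ⊓ C[P] = ⊥) (hregst : Qst ⊓ C[P] = ⊥) (hNQ : N[Q] ≤ Mst)
    (hNQst : N[Qst] ≤ M) : False := by
  have hpp := tau1_prime hp
  have hs := mFT_sol_cent (hP.ne_bot hpp one_pos)
  rw [inf_comm] at hQst
  obtain ⟨-, -, hab, -, h1, -⟩ := tau1_mmaxI_props hM hMst hnc.ne hp (hP.mono inf_le_left) hq hQ hPQ
    (hP.le.trans inf_le_right) hreg hNQ
  obtain ⟨-, -, hab', -, h1', -⟩ := tau1_mmaxI_props hMst hM hnc.ne' hpst (hP.mono inf_le_right) hqst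
    hQst hPQst (hP.le.trans inf_le_left) hregst hNQst
  rw [alphaCore_def, hab] at h1
  rw [alphaCore_def, hab'] at h1'
  obtain ⟨H, hH, hle⟩ := H26.Hall_superset hs inf_le_right
    (((betaCore_pi M).inf_left C[P]).mono (Set.subset_union_left (t := beta Mst)))
  obtain ⟨r, hr, hO⟩ := exists_pcore_ne_bot (hs.of_le hH.le) (ne_bot_of_le h1 hle)
  rcases (pcore_pi {r} H).mem_of_ne_bot (hH.pi.of_le (pcore_le _ _)) hO with h | h
  · exact tau1_mmaxI_aux hM hMst hnc hp hP hq hQ hPQ hreg hNQ h1' hH h hO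
  · exact tau1_mmaxI_aux hMst hM hnc.symm hpst (by rwa [inf_comm]) hqst hQst hPQst hregst hNQst h1
      (by rwa [Set.union_comm]) h hO

/-- 13.9 -/
theorem sigma_partition (hM : IsCoatom M) (hMst : IsCoatom Mst) (hnc : NConj M Mst) :
    Disjoint (sigma M) (sigma Mst) := by
  refine Set.disjoint_left.2 fun q hqM hqL => ?_
  have hq := sigma_prime hqM
  obtain ⟨E, hE⟩ := exists_sigma_compl hM
  obtain ⟨S, hS, hES⟩ := H26.sol_coprime_Sylow_exists hq (hE.le.trans (sigmaCore_norm M))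
    (coprime_sigma_compl hM hE) (Or.inr (Msigma_sol hM))
  have hSM := Msigma_Sylow hM hqM hS
  obtain ⟨T, hT⟩ := Sylow_exists hq Mst
  obtain ⟨g, -, rfl⟩ := Sylow_trans hq (sigma_Sylow_G hqL hT) (sigma_Sylow_G hqM hSM)
  have hL := isCoatom_cj hMst g
  have hnc' := hnc.cj_right g
  have hSL := hT.cj g
  have hqL' : q ∈ sigma (cj g Mst) := by simpa
  generalize cj g T = S at *
  generalize cj g Mst = L at *
  have hNM := norm_sigma_Sylow hqM hSM
  have hNL := norm_sigma_Sylow hqL' hSL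
  obtain ⟨E₁, E₂, E₃, h⟩ := ex_sigmaCompl hM hE
  have h2 : E₂ = ⊥ := by
    by_contra h2
    obtain ⟨p, hp, hd⟩ := H24.exists_prime_dvd_card h2
    exact Set.disjoint_left.1 (sigma_disjoint_nil hM hL hnc'
      (tau2_Msigma_nil hM (h.hall2.pi.mem hp hd))).2 hqM hqL'
  obtain ⟨p, hp, hd⟩ := H24.exists_prime_dvd_card ((sigma_compl_context hM h).2.1 h2)
  obtain ⟨P, hP⟩ := exists_pnElem_one hp hd
  have hp1 := h.hall1.pi.mem hp hd
  have hPE : P ≤ E := hP.le.trans h.hall1.le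
  have hPML : P ≤ M ⊓ L := le_inf (hPE.trans hE.le) (hPE.trans (hES.trans hNL))
  have hreg : S ⊓ C[P] = ⊥ := by
    by_contra hne
    obtain ⟨X, hX⟩ := exists_pnElem_one hq ((hS.pi.inf_left _).dvd_card hne)
    exact hnc'.ne (((cent_cent_Msigma_tau1_uniq hM hE h.hall1 hP.le (hP.ne_bot hp one_pos) hq
      (hX.mono (inf_le_inf_right _ hS.le))).2 S hS).uniq L hL hSL.le)
  have hnc2 : ¬ P ≤ C[sigmaCore M ⊓ L] := fun hc => sigma_Sylow_neq1 hqM hSM
    (eq_bot_of_le hreg (le_inf le_rfl ((le_inf hS.le hSL.le).trans (cents_symm hc))))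
  have hpL : p ∈ tau1 L := by
    by_contra h1
    exact hnc2 ((Msigma_setI_mmax_central' hM hE hL ⟨hp, (hP.mono h.hall1.le).prime_dvd_card one_pos⟩
      ((hP.of_le (hPML.trans inf_le_right)).prime_dvd_card one_pos) h1
      (fun e => hnc2 (hPML.trans (comm_eq_bot'.1 e))) hnc').1 P hPML (hP.isPi hp))
  have hS' : Syl q (M ⊓ L) S := hSM.of_le (le_inf hSM.le hSL.le) inf_le_left
  exact tau1_mmaxI_asymmetry hM hL hnc' hp1 hpL (hP.of_le hPML) hq hq hS' hS' (hPE.trans hES)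
    (hPE.trans hES) hreg hreg hNL hNM

/-- 13.10 -/
theorem tau13_regular (hM : IsCoatom M) (h : SigmaCompl M E E₁ E₂ E₃) (hP : P ≤ E₁) (hPp : (♯P).Prime)
    (hnc : ¬ P ≤ C[E₃]) :
    Semireg E₃ E₁ ∧ Semireg (sigmaCore M) E₃ ∧ sigmaCore M ⊓ C[P] ≠ ⊥ := by
  have hE := h.hallE
  obtain ⟨⟨h3', hn3⟩, -, ⟨-, hc3⟩, -⟩ := sigma_compl_context hM h
  have hPE : P ≤ E := hP.trans h.hall1.le
  have hPM : P ≤ M := hPE.trans hE.le
  have hp1 := (h.hall1.pi.of_le hP).mem hPp dvd_rfl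
  have hPq : IsPi {♯P} P := isPi_of_card_prime hPp rfl
  obtain ⟨q, Q, hq, hd, hQ, hQc⟩ : ∃ q Q, q.Prime ∧ q ∣ ♯E₃ ∧ Syl q E₃ Q ∧ ¬ Q ≤ C[P] := by
    by_contra hno
    push Not at hno
    exact hnc (cents_symm (le_of_forall_syl_le fun q Q hq hd hQ => hno q Q hq hd hQ))
  have hq3 := h.hall3.pi.mem hq hd
  have hQE : Q ⊴ E := hn3.of_cyc hc3 hQ.le
  have hQM : Syl q M Q := hE.trans_syl (h.hall3.trans_syl hQ hq3) (tau3_not_sigma hq3)
  have hQ1 : Q ≠ ⊥ := hQ.ne_bot' ⟨hq, hd⟩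
  have hqp : q ≠ ♯P := fun e => tau3'1 M hp1 (e ▸ hq3)
  have hPQ : P ≤ N[Q] := hPE.trans hQE.norm
  have hreg : Q ⊓ C[P] = ⊥ := by
    by_contra hne
    refine hQc (cents_symm (H26.coprime_odd_faithful_Ohm1 hq hQ.pi hPQ (hQ.pi.coprime_of_ne hPq hqp)
      (mFT_odd Q) (cents_symm ?_)))
    exact (cyc_omegaOne_le (hc3.of_le hQ.le) inf_le_left hq ((hQ.pi.inf_left _).dvd_card hne)).trans
      inf_le_right
  obtain ⟨L, hL, hN⟩ := exists_mmax_norm hQ1 (mFT_pgroup_proper hQ.pi)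
  have hnj := mmax_norm_notJ hM hL hQ.pi hQM.le hN (Or.inr (Or.inr hq3))
  have hP1 := pnElem_one_of_card hPp hPM rfl
  obtain ⟨hab, -, -, h1, h2⟩ := cent_Malpha_reg_tau1_b hM hp1 hq hqp hP1 hQ1 hPQ hreg
    (fun h => hnj.ne (h.uniq L hL hN)) hQM
  refine ⟨?_, ?_, ne_bot_of_le h1 (inf_le_inf_right _ (Malpha_sub_Msigma hM))⟩
  · by_contra hnr
    refine h1 (eq_bot_of_le h2 (le_inf inf_le_left ?_))
    refine (inf_le_inf_right _ (Malpha_sub_Msigma hM)).trans ?_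
    rw [(tau13_primact_Msigma hM h hnr).inf_C (hP.trans le_sup_right) (ne_bot_of_prime hPp)]
    exact inf_le_right.trans (C_anti (sup_le_sup hQ.le hP))
  have pr3 := tau3_primact_Msigma hM hE h.hall3
  refine pr3.semireg ?_
  rw [← pr3.inf_C hQ.le hQ1]
  by_contra hne
  obtain ⟨u, hu, hd⟩ := H24.exists_prime_dvd_card hne
  have hus : u ∈ sigma M := ((sigmaCore_pi M).inf_left _).mem hu hd
  obtain ⟨U, hU, hPU⟩ := H26.sol_coprime_Sylow_exists (K := sigmaCore M ⊓ C[Q]) hu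
    (norm_inf (hPM.trans (sigmaCore_norm M)) (norm_C hPQ))
    (((sigmaCore_pi M).inf_left _).coprime (hE.pi.of_le hPE)) (Or.inl (hPq.sol hPp))
  have hU1 : U ≠ ⊥ := hU.ne_bot' ⟨hu, hd⟩
  have e := tau13_norm_setI hM (Or.inr hq3) hQM.le hQ.pi hL hN
  have hUL : U ≤ L := (hU.le.trans e.ge).trans inf_le_right
  have hUM : U ≤ M := hU.le.trans (inf_le_left.trans (sigmaCore_le M))
  have hUML : Syl u (M ⊓ L) U := by
    have := (Msigma_Hall hM).nml_inf (sigmaCore_norm M) (inf_le_left : M ⊓ L ≤ M)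
    rw [← inf_assoc, inf_of_le_left (sigmaCore_le M), e] at this
    exact this.trans_syl hU hus
  have key : U ⊓ C[P] = ⊥ ∧ N[U] ≤ M := by
    by_cases hb : u ∈ beta M
    · exact ⟨eq_bot_of_le h2 (le_inf (inf_le_left.trans (sub_Malpha hM (hU.pi.of_mem
        (beta_sub_alpha M hb)) hUM)) (cents_sup (inf_le_left.trans (hU.le.trans inf_le_right))
          inf_le_right)), beta_norm_sub_mmax hM hUM (hU.pi.of_mem hb) hU1⟩
    · obtain ⟨T, hT, hTc⟩ := der_compl_cent_beta' hM hE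
      have hUs : Syl u (sigmaCore M) U := hU.of_idx inf_le_left ((hT.idx_of_ge (le_inf hT.le
        (cents_symm ((hQ.le.trans h3').trans hTc)))).compl_of_mem hb)
      refine ⟨?_, norm_sigma_Sylow hus (Msigma_Sylow hM hus hUs)⟩
      by_contra hne
      obtain ⟨X, hX⟩ := exists_pnElem_one hu ((hU.pi.inf_left _).dvd_card hne)
      exact hnj.ne (((cent_cent_Msigma_tau1_uniq hM hE h.hall1 hP (ne_bot_of_prime hPp) hu
        (hX.mono (inf_le_inf_right _ hUs.le))).2 U hUs).uniq L hL hUL)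
  have hpL : ♯P ∈ tau1 L := by
    by_contra hpL
    refine hU1 (eq_bot_of_le key.1 (le_inf le_rfl ((hU.le.trans e.ge).trans (cents_symm ?_))))
    exact (cent_norm_tau13_mmax hM hE (Or.inr hq3) hQM.le hQ.pi hL hN).2.1 P
      (le_inf hPE (hPQ.trans hN)) (hPq.of_mem hpL)
  exact tau1_mmaxI_asymmetry hM hL hnj hp1 hpL (hP1.of_le (le_inf hPM (hPQ.trans hN))) hq hu
    (hQM.of_le (le_inf hQM.le ((norm_self Q).trans hN)) inf_le_left) hUML hPQ hPU hreg key.1 hN key.2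

/-- 13.11 -/
theorem tau13_nonregular (hM : IsCoatom M) (h : SigmaCompl M E E₁ E₂ E₃)
    (hnr : ¬ Semireg (sigmaCore M) E₃) :
    E₁ ≠ ⊥ ∧ SD E₃ E₁ E ∧ Semiprime (sigmaCore M) E ∧ ∀ X, X ≤ E → (♯X).Prime → X ⊴ E := by
  have hE := h.hallE
  obtain ⟨⟨-, hn3⟩, h1, ⟨hc1, hc3⟩, ⟨-, hsd, -⟩, -⟩ := sigma_compl_context hM h
  have h2 : E₂ = ⊥ := by
    by_contra h2
    obtain ⟨q, hq, hd⟩ := H24.exists_prime_dvd_card h2
    obtain ⟨A, hA⟩ := ex_tau2Elem hE (h.hall2.pi.mem hq hd)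
    exact hnr (tau2_regular hM h (h.hall2.pi.mem hq hd) hA).1
  rw [h2, bot_sup_eq] at hsd
  have hc : ∀ P ≤ E₁, (♯P).Prime → P ≤ C[E₃] := fun P hP hp => by
    by_contra hnc
    exact hnr (tau13_regular hM h hP hp hnc).2.1
  refine ⟨h1 h2, hsd, ?_, fun X hX hXp => ?_⟩
  · rw [← hsd.sup]
    refine tau13_primact_Msigma hM h fun hr => hnr ?_
    obtain ⟨P, hP, hp⟩ := exists_card_isPrime (h1 h2)
    have := hr.inf_C hP (ne_bot_of_prime hp)
    rw [inf_of_le_left (cents_symm (hc P hP hp))] at this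
    exact this ▸ semireg_bot_right _
  have hXq : IsPi {♯X} X := isPi_of_card_prime hXp rfl
  by_cases h3 : ♯X ∈ tau3 M
  · exact hn3.of_cyc hc3 (h.hall3.le_of_nml hn3.norm (hXq.of_mem h3) hX)
  · obtain ⟨g, hg, hXg⟩ := H26.Hall_Jsub (sigma_compl_sol hM hE) (hsd.hall_compl_right h.hall3) hX
      (hXq.of_mem h3)
    have : cj g X ⊴ E := ⟨hXg.trans h.hall1.le, hsd.sup.ge.trans (sup_le
      (norm_of_cent (cents_symm (hc _ hXg (by simpa)))) (hc1.abl.norm le_rfl hXg))⟩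
    rwa [← cj_of_mem hg, nml_cj_iff] at this

/-- 13.12 -/
theorem tau12_regular (hM : IsCoatom M) (hE : Hall (sigma M)ᶜ M E) (hp : p ∈ tau1 M) (hq : q ∈ tau2 M)
    (hP : PnElem p 1 E P) (hA : PnElem q 2 E A) (hne : A ⊓ C[P] ≠ ⊥) : sigmaCore M ⊓ C[P] = ⊥ := by
  by_contra hnreg
  have hpp := tau1_prime hp
  have hqq := tau2_prime hq
  have hPp := hP.isPi hpp
  have hP1 := hP.ne_bot hpp one_pos
  obtain ⟨⟨hAE, -⟩, ⟨-, -, hNA⟩, hu, -⟩ := tau2_compl_context hM hE hq hA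
  have hnc : ¬ P ≤ C[A] := fun hc => hnreg ((tau2_reg_tau13 hM hq (hA.mono hE.le)
    (hPp.of_mem (Or.inl hp)) (hP.le.trans hE.le) hc).inf_C le_rfl hP1)
  obtain ⟨Y, hY⟩ := exists_pnElem_one hqq (((hA.isPi hqq).inf_left _).dvd_card hne)
  have hYE := hY.mono (inf_le_inf_right _ hA.le)
  have huY := hu Y (hYE.mono inf_le_left) (ne_bot_of_le hnreg
    (le_inf inf_le_left (cent_tau1Elem_Msigma hM hE hp hqq hP hYE)))
  obtain ⟨L, hL, hN⟩ := exists_mmax_norm (hA.ne_bot hqq two_pos) (mFT_pgroup_proper (hA.isPi hqq))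
  have hLM : L ≠ M := fun e => hNA (e ▸ hN)
  obtain ⟨h1, h2, -⟩ := primes_norm_tau2Elem hM hE hq hA hL hN
  have hAL : A ≤ L := (norm_self A).trans hN
  have hPL : P ≤ L := hP.le.trans (hAE.norm.trans hN)
  have hYL : Y ≤ sigmaCore L ⊓ C[P] :=
    hY.le.trans (inf_le_inf_right _ (sub_Msigma hL ((hA.isPi hqq).of_mem (h1 q hq).1) hAL))
  have hd : p ∣ (E ⊓ C[A]).relIndex E := by
    by_contra hd
    exact hnc ((le_of_idx_compl hAE.infC ((piNat_compl_singleton hpp).2 hd) hPp hP.le).trans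
      inf_le_right)
  rcases h2 p hpp hd with h | h
  · exact hLM (huY.eq (cent_cent_Msigma_tau1_uniq' hL (hPp.of_mem h) hPL hP1 hqq (hY.of_le hYL)).1)
  · obtain ⟨F, hF, hPF⟩ := ex_sigma_compl hL hPL (hPp.of_mem (tau2_not_sigma h))
    obtain ⟨B, hB⟩ := ex_tau2Elem hF h
    have := (tau2_compl_context hL hF h hB).2.2.1 P (hP.of_le hPF)
      (ne_bot_of_le (hY.ne_bot hqq one_pos) hYL)
    exact hnreg (eq_bot_of_le ((tau2_context hM hq (hA.mono hE.le)).2.2.2.1 L hL hAL hLM)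
      (inf_le_inf_left _ this.le))

/-- the uniqueness statement of 13.6, also for `τ₃(M)` -/
theorem cent_cent_Msigma_tau13_uniq (hM : IsCoatom M) (hp : p ∈ tau1 M ∨ p ∈ tau3 M)
    (hP : IsPi {p} P) (hPM : P ≤ M) (hP1 : P ≠ ⊥) (hq : q.Prime)
    (hX : PnElem q 1 (sigmaCore M ⊓ C[P]) X) :
    UniqMax C[X] M ∧ ∀ S, Syl q (sigmaCore M) S → UniqMax S M := by
  rcases hp with hp | hp
  · exact cent_cent_Msigma_tau1_uniq' hM (hP.of_mem hp) hPM hP1 hq hX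
  obtain ⟨E, hE, hPE⟩ := ex_sigma_compl hM hPM (hP.of_mem (tau3_not_sigma hp))
  obtain ⟨E₁, E₂, E₃, h⟩ := ex_sigmaCompl hM hE
  obtain ⟨h1, -, hpr, -⟩ := tau13_nonregular hM h fun hr => hX.ne_bot hq one_pos (eq_bot_of_le
    (hr.inf_C (h.hall3.le_of_nml (tau3_der1 hM hE h.hall3).2.norm (hP.of_mem hp) hPE) hP1) hX.le)
  rw [hpr.inf_C hPE hP1, ← hpr.inf_C h.hall1.le h1] at hX
  exact cent_cent_Msigma_tau1_uniq hM hE h.hall1 le_rfl h1 hq hX

/-- 13.13 -/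
theorem tau13_nonregular_sigma (hM : IsCoatom M) (hP : PnElem p 1 M P) (hp : p ∈ tau1 M ∨ p ∈ tau3 M)
    (hne : sigmaCore M ⊓ C[P] ≠ ⊥) (hMst : IsCoatom Mst) (hN : N[P] ≤ Mst) : p ∈ sigma Mst := by
  have hpp : p.Prime := hp.elim tau1_prime tau3_prime
  have hPp := hP.isPi hpp
  have hP1 := hP.ne_bot hpp one_pos
  refine (prime_class_mmax_norm hMst hpp hPp hN).resolve_right fun h2 => ?_
  obtain ⟨q, hq, hd⟩ := H24.exists_prime_dvd_card hne
  obtain ⟨Q, hQ⟩ := exists_pnElem_one hq hd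
  have hqs : q ∉ sigma Mst := Set.disjoint_left.1 (sigma_partition hM hMst
    (mmax_norm_notJ hM hMst hPp hP.le hN (Or.inr hp))) (((sigmaCore_pi M).inf_left _).mem hq hd)
  have hQP : Q ≤ C[P] := hQ.le.trans inf_le_right
  obtain ⟨F, hF, hle⟩ := ex_sigma_compl hMst (sup_le ((norm_self P).trans hN)
    (hQP.trans ((C_le_N P).trans hN))) ((hPp.of_mem (tau2_not_sigma h2)).sup
      ((hQ.isPi hq).of_mem hqs) (norm_of_cent hQP))
  obtain ⟨A, hA⟩ := ex_tau2Elem hF h2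
  obtain ⟨⟨hAF, hPA⟩, -⟩ := tau2_compl_context hMst hF h2 hA
  have hPA := hPA P (hP.of_le (le_sup_left.trans hle))
  have hQF := hQ.of_le (le_sup_right.trans hle)
  have hnc : ¬ A ≤ C[Q] := fun hc => by
    have := tau13_prank_le hp (hc.trans
      (cent_cent_Msigma_tau13_uniq hM hp hPp hP.le hP1 hq hQ).1.le)
    rw [hA.prank_eq hpp] at this
    omega
  have hq1 : q ∈ tau1 Mst := by
    by_contra hq1
    exact hnc (cents_symm ((le_of_idx_compl' hAF.infC (tau1_cent_tau2Elem_factor hMst hF h2 hA)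
      ((hQ.isPi hq).of_mem hq1) hQF.le).trans inf_le_right))
  have hPAQ : P ≤ A ⊓ C[Q] := le_inf hPA (cents_symm hQP)
  obtain ⟨-, -, h3, h4⟩ := tau1_act_tau2 hMst hF h2 hA hq1 hQF
    (tau12_regular hMst hF hq1 h2 hQF hA (ne_bot_of_le hP1 hPAQ)) fun h => hnc (comm_eq_bot.1 h)
  exact h4 ((C_anti hPAQ).trans ((C_le_N P).trans hN))

end H25
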