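import Mathlib
import Cfsg.Agent.H25.Bender
import Cfsg.Agent.H7.DihQuat
import Cfsg.Agent.H3.PGroup

/-!
# Thompson's dihedral lemma
-/

set_option autoImplicit false
set_option linter.unusedSectionVars false

namespace H25.Bd

open Cfsg Subgroup H23
open scoped commutatorElement

variable {G : Type*} [Group G] [Finite G]

theorem exists_weight {A B : Subgroup G} (hA : IsElementaryAbelian 2 A) (hB : IsMulCommutative B)
    (hAB : A ≤ normalizer (B : Set G)) (hB1 : B ≠ ⊥) :
    ∃ b ∈ B, b ≠ 1 ∧ ∀ c ∈ A, c * b * c⁻¹ = b ∨ c * b * c⁻¹ = b⁻¹ := by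
  obtain ⟨M, ⟨h1, h2, h3⟩, hmin⟩ := wellFounded_lt.has_min
    {M : Subgroup G | M ≤ B ∧ M ≠ ⊥ ∧ A ≤ normalizer (M : Set G)} ⟨B, le_rfl, hB1, hAB⟩
  obtain ⟨⟨b, hb⟩, hb1⟩ := ne_bot_iff_exists_ne_one.mp h2
  refine ⟨b, h1 hb, fun e => hb1 (Subtype.ext e), fun c hc => ?_⟩
  by_cases h : M ⊓ centralizer {c} = ⊥
  · right
    have h4 : b * (c * b * c⁻¹) ∈ M ⊓ centralizer {c} := by
      refine ⟨mul_mem hb (conj_mem h3 hc hb), mem_centralizer_singleton_iff.mpr ?_⟩
      have h5 : c * c = 1 := by rw [← pow_two]; exact hA.2 c hc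
      have h6 := H13.isMulCommutative_iff_forall_mem.mp hB _ (h1 hb) _ (h1 (conj_mem h3 hc hb))
      calc b * (c * b * c⁻¹) * c = (c * c) * b * (c * b) := by rw [h5]; group
        _ = c * ((c * b * c⁻¹) * ((c * c) * b)) := by group
        _ = _ := by rw [h5, one_mul, ← h6]
    rw [h, mem_bot] at h4
    exact eq_inv_of_mul_eq_one_right h4
  · left
    have h4 : M ⊓ centralizer {c} = M := by
      by_contra h5
      exact hmin _ ⟨inf_le_left.trans h1, h, le_normalizer_inf h3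
        (le_normalizer_of_le (IsElementaryAbelian.le_centralizer_singleton hA hc))⟩
        (lt_of_le_of_ne inf_le_left h5)
    rw [mul_inv_eq_iff_eq_mul]
    exact (mem_centralizer_singleton_iff.mp (h4.ge hb).2).symm

theorem exists_selfcent_top {A F : Subgroup G} [F.Normal] (hF : Group.IsNilpotent F)
    (hA : IsElementaryAbelian 2 A) (hgen : F ⊔ A = ⊤) :
    ∃ B : Subgroup G, B ≤ F ∧ B.Normal ∧ IsMulCommutative B ∧
      F ⊓ centralizer (B : Set G) ≤ B := by
  obtain ⟨B, ⟨h1, h2, h3⟩, hmax⟩ := wellFounded_gt.has_min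
    {B : Subgroup G | B ≤ F ∧ B.Normal ∧ IsMulCommutative B}
    ⟨⊥, bot_le, inferInstance, H3.isMulCommutative_bot⟩
  refine ⟨B, h1, h2, h3, ?_⟩
  by_contra hne
  set f := QuotientGroup.mk' B with hf
  set Z := (F ⊓ centralizer (B : Set G)).map f ⊓ centralizer ((F.map f : Subgroup _) : Set _)
    with hZ
  have hZ1 : Z ≠ ⊥ := by
    obtain ⟨x, hx, hxB, h⟩ := H13.exists_not_mem_commutator_mem hF
      (inf_le_left : F ⊓ centralizer (B : Set G) ≤ F) le_normalizer_of_normal hne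
    intro e
    have : f x ∈ Z := ⟨⟨x, hx, rfl⟩, by
      rintro _ ⟨k, hk, rfl⟩
      symm
      rw [← commutatorElement_eq_one_iff_mul_comm, ← map_commutatorElement]
      exact (QuotientGroup.eq_one_iff _).mpr (h k hk).1⟩
    rw [e, mem_bot] at this
    exact hxB ((QuotientGroup.eq_one_iff _).mp this)
  haveI : (F.map f).Normal := Normal.map inferInstance _ (QuotientGroup.mk'_surjective B)
  haveI : ((F ⊓ centralizer (B : Set G)).map f).Normal :=
    Normal.map inferInstance _ (QuotientGroup.mk'_surjective B)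
  obtain ⟨y, hy, hy1, hw⟩ := exists_weight (B := Z) (IsElementaryAbelian.map hA f)
    (H13.isMulCommutative_iff_forall_mem.mpr fun a ha b hb => hb.2 a (map_mono inf_le_left ha.1))
    le_normalizer_of_normal hZ1
  obtain ⟨⟨x, hx, rfl⟩, hy2⟩ := hy
  have hxB : x ∉ B := fun h => hy1 ((QuotientGroup.eq_one_iff _).mpr h)
  have key : ∀ g, f g * f x * (f g)⁻¹ = f x ∨ f g * f x * (f g)⁻¹ = (f x)⁻¹ →
      g ∈ normalizer ((zpowers x ⊔ B : Subgroup G) : Set G) := by
    intro g hg
    have h4 : g * x * g⁻¹ ∈ zpowers x ⊔ B := by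
      rw [← H2.comap_map_mk', mem_comap, MonoidHom.map_zpowers, map_mul, map_mul, map_inv]
      rcases hg with h | h
      · rw [h]; exact mem_zpowers _
      · rw [h]; exact inv_mem (mem_zpowers _)
    have h5 : (zpowers x ⊔ B).map (MulAut.conj g).toMonoidHom ≤ zpowers x ⊔ B := by
      rw [Subgroup.map_sup, MonoidHom.map_zpowers,
        mem_normalizer_iff_map_conj.mp (le_normalizer_of_normal (mem_top g))]
      exact sup_le (zpowers_le.mpr h4) le_sup_right
    exact H13.mem_normalizer_of_finite fun y hy => h5 ⟨y, hy, rfl⟩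
  refine hmax (zpowers x ⊔ B) ⟨sup_le (zpowers_le.mpr hx.1) h1, ?_,
    H3.isMulCommutative_zpowers_sup h3 hx.2⟩
    (lt_of_le_of_ne le_sup_right fun e => hxB (e.ge (mem_sup_left (mem_zpowers x))))
  rw [← normalizer_eq_top_iff, eq_top_iff, ← hgen]
  refine sup_le (fun g hg => key g (Or.inl ?_)) fun g hg => key g (hw _ ⟨g, hg, rfl⟩)
  rw [hy2 _ ⟨g, hg, rfl⟩, mul_inv_cancel_right]

theorem exists_selfcent {A F : Subgroup G} (hF : Group.IsNilpotent F)
    (hA : IsElementaryAbelian 2 A) (hAF : A ≤ normalizer (F : Set G)) :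
    ∃ B : Subgroup G, B ≤ F ∧ F ≤ normalizer (B : Set G) ∧ A ≤ normalizer (B : Set G) ∧
      IsMulCommutative B ∧ F ⊓ centralizer (B : Set G) ≤ B := by
  haveI : (F.subgroupOf (F ⊔ A)).Normal :=
    (normal_subgroupOf_iff_le_normalizer le_sup_left).mpr (sup_le le_normalizer hAF)
  obtain ⟨B, h1, h2, h3, h4⟩ := exists_selfcent_top (F := F.subgroupOf (F ⊔ A))
    (H2.isNilpotent_subgroupOf hF _) (IsElementaryAbelian.subgroupOf hA (F ⊔ A))
    (by rw [← subgroupOf_sup le_sup_left le_sup_right, subgroupOf_self])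
  have h5 := le_normalizer_map_subtype_of_normal B
  refine ⟨B.map (F ⊔ A).subtype, ?_, le_sup_left.trans h5, le_sup_right.trans h5, inferInstance,
    fun x hx => ⟨⟨x, mem_sup_left hx.1⟩, h4 ⟨hx.1, fun b hb => Subtype.ext (hx.2 b ⟨b, hb, rfl⟩)⟩,
      rfl⟩⟩
  rintro _ ⟨b, hb, rfl⟩
  exact h1 hb

theorem exists_abelian_faithful {L A : Subgroup G} (hLs : Group.IsSolvable L)
    (hLodd : Odd (Nat.card L)) (hA : IsElementaryAbelian 2 A) (hAL : A ≤ normalizer (L : Set G))
    (hfaith : A ⊓ centralizer (L : Set G) = ⊥) :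
    ∃ B : Subgroup G, B ≤ L ∧ A ≤ normalizer (B : Set G) ∧ IsMulCommutative B ∧
      A ⊓ centralizer (B : Set G) = ⊥ := by
  haveI : Fact (Nat.Prime 2) := ⟨Nat.prime_two⟩
  have hAF : A ≤ normalizer ((fit L : Subgroup G) : Set G) :=
    hAL.trans (normalizer_le_normalizer_map_subtype _)
  obtain ⟨B, h1, h2, h3, h4, h5⟩ := exists_selfcent (fit_isNilpotent L) hA hAF
  refine ⟨B, h1.trans (map_subtype_le _), h3, h4, ?_⟩
  set A0 := A ⊓ centralizer (B : Set G) with hA0
  have hA02 : IsPGroup 2 A0 := (IsElementaryAbelian.isPGroup hA).to_le inf_le_left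
  have hL2 := cop_two_iff_odd.mpr hLodd
  have h6 : fit L ≤ centralizer (A0 : Set G) :=
    H1.le_centralizer_of_commutator_le_centralizer A0 _ (inf_le_left.trans hAF)
      (cop_card_of_isPGroup hA02 (cop_of_le hL2 (map_subtype_le _))) (Or.inl (solv_of_isPGroup hA02))
      ((le_inf (commutator_le_left_of (inf_le_left.trans hAF))
        ((commutator_mono le_rfl inf_le_right).trans
          (commutator_le_right_of (le_normalizer_centralizer h2)))).trans
        (h5.trans (le_centralizer_iff.mp inf_le_right)))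
  have h7 : L ⊓ centralizer ((fit L : Subgroup G) : Set G) ≤ fit L := by
    have := inf_centralizer_fs_le L
    rwa [fs, fstar_eq_fitting_of_layer_eq_bot layer_eq_bot_of_solvable] at this
  have h8 : L ≤ centralizer (A0 : Set G) :=
    H1.le_centralizer_of_commutator_le_centralizer A0 _ (inf_le_left.trans hAL)
      (cop_card_of_isPGroup hA02 hL2) (Or.inl (solv_of_isPGroup hA02))
      ((le_inf (commutator_le_left_of (inf_le_left.trans hAL))
        ((commutator_mono le_rfl (le_centralizer_iff.mp h6)).trans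
          (commutator_le_right_of (le_normalizer_centralizer (le_normalizer_fit L))))).trans
        (h7.trans h6))
  exact le_bot_iff.mp (hfaith ▸ le_inf inf_le_left (le_centralizer_iff.mp h8))

theorem ne_inv_of_odd {B : Subgroup G} (hodd : Odd (Nat.card B)) {b : G} (hb : b ∈ B)
    (hb1 : b ≠ 1) : b⁻¹ ≠ b := fun e => hb1 (by
  have h1 : b ^ 2 ^ 1 = 1 := by rw [pow_one, pow_two]; nth_rewrite 1 [← e]; exact inv_mul_cancel b
  exact H13.eq_one_of_pow_eq_one_of_coprime h1
    (H13.orderOf_coprime_of_mem (cop_two_iff_odd.mpr hodd) hb))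

theorem dual_basis {A B : Subgroup G} (hA : IsElementaryAbelian 2 A) (hB : IsMulCommutative B)
    (hodd : Odd (Nat.card B)) (hAB : A ≤ normalizer (B : Set G))
    (hfaith : A ⊓ centralizer (B : Set G) = ⊥) (d : ℕ) :
    ∀ A0 : Subgroup G, A0 ≤ A → Nat.card A0 = 2 ^ d → ∃ a b : Fin d → G,
      (∀ i, a i ∈ A0 ∧ b i ∈ B ∧ b i ≠ 1 ∧
        (∀ c ∈ A, c * b i * c⁻¹ = b i ∨ c * b i * c⁻¹ = (b i)⁻¹) ∧
        a i * b i * (a i)⁻¹ = (b i)⁻¹) ∧
      (∀ i j, i ≠ j → a j * b i * (a j)⁻¹ = b i) ∧ A0 ≤ ⨆ i, zpowers (a i) := by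
  haveI : Fact (Nat.Prime 2) := ⟨Nat.prime_two⟩
  have hBc := H13.isMulCommutative_iff_forall_mem.mp hB
  induction d with
  | zero =>
    intro A0 _ h
    exact ⟨Fin.elim0, Fin.elim0, fun i => i.elim0, fun i => i.elim0,
      by rw [card_eq_one.mp h]; exact bot_le⟩
  | succ d ih =>
    intro A0 hA0 h
    obtain ⟨c, hc, hc1⟩ := exists_ne_one_of_one_lt_card (A := A0)
      (by rw [h]; exact Nat.one_lt_two_pow (by omega))
    have hcc : c * c = 1 := by rw [← pow_two]; exact hA.2 c (hA0 hc)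
    let I : Subgroup G :=
      { carrier := {b | b ∈ B ∧ c * b * c⁻¹ = b⁻¹}
        one_mem' := ⟨one_mem _, by simp⟩
        mul_mem' := fun {x y} hx hy => ⟨mul_mem hx.1 hy.1, by
          rw [hBc x hx.1 y hy.1, mul_inv_rev, ← hx.2, ← hy.2, ← hBc x hx.1 y hy.1]; group⟩
        inv_mem' := fun {x} hx => ⟨inv_mem hx.1, by
          calc c * x⁻¹ * c⁻¹ = (c * x * c⁻¹)⁻¹ := by group
            _ = _ := by rw [hx.2]⟩ }
    have hI : I ≠ ⊥ := by
      intro e
      apply hc1
      rw [← mem_bot, ← hfaith]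
      refine ⟨hA0 hc, fun x hx => ?_⟩
      have h1 : x⁻¹ * (c * x * c⁻¹) ∈ I := ⟨mul_mem (inv_mem hx) (conj_mem hAB (hA0 hc) hx), by
        calc c * (x⁻¹ * (c * x * c⁻¹)) * c⁻¹ = (c * x * c⁻¹)⁻¹ * ((c * c) * x * (c * c)⁻¹) := by
              group
          _ = _ := by rw [hcc]; group⟩
      rw [e, mem_bot, inv_mul_eq_one, eq_mul_inv_iff_mul_eq] at h1
      exact h1
    obtain ⟨b, hb, hb1, hw⟩ := exists_weight (B := I) hA
      (H13.isMulCommutative_of_le hB fun x hx => hx.1)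
      (fun g hg => H13.mem_normalizer_of_finite fun x hx => ⟨conj_mem hAB hg hx.1, by
        have h1 := IsElementaryAbelian.comm hA hg (hA0 hc)
        calc c * (g * x * g⁻¹) * c⁻¹ = (c * g) * x * (c * g)⁻¹ := by group
          _ = g * (c * x * c⁻¹) * g⁻¹ := by rw [← h1]; group
          _ = _ := by rw [hx.2]; group⟩) hI
    set A1 := A0 ⊓ centralizer {b} with hA1
    have hmem : ∀ x ∈ A0, x * b * x⁻¹ = b → x ∈ A1 := fun x hx e =>
      ⟨hx, mem_centralizer_singleton_iff.mpr (mul_inv_eq_iff_eq_mul.mp e)⟩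
    have hmem' : ∀ x ∈ A1, x * b * x⁻¹ = b := fun x hx =>
      mul_inv_eq_iff_eq_mul.mpr (mem_centralizer_singleton_iff.mp hx.2)
    have hcA1 : c ∉ A1 := fun h1 => ne_inv_of_odd hodd hb.1 hb1 (hb.2.symm.trans (hmem' c h1))
    have hle : A0 ≤ A1 ⊔ zpowers c := by
      intro x hx
      rcases hw x (hA0 hx) with h1 | h1
      · exact mem_sup_left (hmem x hx h1)
      · have h2 : x * c ∈ A1 := hmem _ (mul_mem hx hc) (by
          calc x * c * b * (x * c)⁻¹ = (x * (c * b * c⁻¹)⁻¹ * x⁻¹)⁻¹ := by group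
            _ = b := by rw [hb.2, inv_inv, h1, inv_inv])
        have : x = x * c * c⁻¹ := by group
        rw [this]
        exact mul_mem (mem_sup_left h2) (mem_sup_right (inv_mem (mem_zpowers c)))
    have hcard : Nat.card A1 = 2 ^ d := by
      have h1 := H3.mul_card_le_of_lt ((IsElementaryAbelian.isPGroup hA).to_le hA0)
        (lt_of_le_of_ne inf_le_left fun e => hcA1 (e.ge hc) : A1 < A0)
      have h2 : Nat.card A0 ≤ Nat.card A1 * 2 := by
        refine (card_le_of_le hle).trans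
          (Nat.le_of_dvd (by have := Nat.card_pos (α := A1); omega) ?_)
        rw [← IsElementaryAbelian.orderOf_eq hA (hA0 hc) hc1, ← Nat.card_zpowers]
        refine H2.card_sup_dvd_of_le_normalizer (le_normalizer_of_comm_bot (comm_bot_iff.mpr ?_))
        exact fun x hx y hy => IsElementaryAbelian.comm hA (hA0 hx.1)
          (hA0 (zpowers_le.mpr hc hy))
      rw [h, pow_succ] at h1 h2
      omega
    obtain ⟨a', b', h1, h2, h3⟩ := ih A1 (inf_le_left.trans hA0) hcard
    have hex : ∀ s : Finset (Fin d), ∃ e ∈ A1, (∀ i ∈ s, c * e * b' i * (c * e)⁻¹ = b' i) ∧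
        ∀ i ∉ s, e * b' i * e⁻¹ = b' i := by
      intro s
      induction s using Finset.induction_on with
      | empty => exact ⟨1, one_mem _, by simp, by simp⟩
      | insert i s hi ihs =>
        obtain ⟨e, he, h4, h5⟩ := ihs
        rcases (h1 i).2.2.2.1 c (hA0 hc) with h6 | h6
        · refine ⟨e, he, fun j hj => ?_, fun j hj => h5 j fun hj' => hj (Finset.mem_insert_of_mem hj')⟩
          rcases Finset.mem_insert.mp hj with rfl | hj
          · calc c * e * b' j * (c * e)⁻¹ = c * (e * b' j * e⁻¹) * c⁻¹ := by group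
              _ = _ := by rw [h5 j hi, h6]
          · exact h4 j hj
        · refine ⟨e * a' i, mul_mem he (h1 i).1, fun j hj => ?_, fun j hj => ?_⟩
          · rcases Finset.mem_insert.mp hj with rfl | hj
            · calc c * (e * a' j) * b' j * (c * (e * a' j))⁻¹
                  = (c * (e * (a' j * b' j * (a' j)⁻¹)⁻¹ * e⁻¹) * c⁻¹)⁻¹ := by group
                _ = _ := by rw [(h1 j).2.2.2.2, inv_inv, h5 j hi, h6, inv_inv]
            · calc c * (e * a' i) * b' j * (c * (e * a' i))⁻¹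
                  = c * e * (a' i * b' j * (a' i)⁻¹) * (c * e)⁻¹ := by group
                _ = _ := by rw [h2 j i fun e => hi (e ▸ hj), h4 j hj]
          · rw [Finset.mem_insert, not_or] at hj
            calc e * a' i * b' j * (e * a' i)⁻¹ = e * (a' i * b' j * (a' i)⁻¹) * e⁻¹ := by group
              _ = _ := by rw [h2 j i hj.1, h5 j hj.2]
    obtain ⟨e, he, h4, -⟩ := hex Finset.univ
    have h5 : A1 ≤ ⨆ i, zpowers ((Fin.cons (c * e) a' : Fin (d + 1) → G) i) :=
      h3.trans (iSup_le fun i => le_iSup_of_le i.succ (by simp))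
    refine ⟨Fin.cons (c * e) a', Fin.cons b b', fun i => ?_, fun i j hij => ?_, hle.trans ?_⟩
    · refine Fin.cases ?_ (fun i => ?_) i
      · refine ⟨mul_mem hc he.1, hb.1, hb1, hw, ?_⟩
        calc c * e * b * (c * e)⁻¹ = c * (e * b * e⁻¹) * c⁻¹ := by group
          _ = _ := by rw [hmem' e he, hb.2]; rfl
      · exact ⟨(h1 i).1.1, (h1 i).2⟩
    · revert hij
      refine Fin.cases ?_ (fun i => ?_) i <;> refine Fin.cases ?_ (fun j => ?_) j
      · exact fun h => absurd rfl h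
      · exact fun _ => hmem' _ (h1 j).1
      · exact fun _ => h4 i (Finset.mem_univ i)
      · exact fun h => h2 i j fun e => h (e ▸ rfl)
    · refine sup_le h5 (zpowers_le.mpr ?_)
      exact (mul_mem_cancel_right (h5 he)).mp
        (le_iSup (fun i => zpowers ((Fin.cons (c * e) a' : Fin (d + 1) → G) i)) 0 (mem_zpowers _))

theorem dihedral_lemma {L A : Subgroup G} (hLs : Group.IsSolvable L) (hLodd : Odd (Nat.card L))
    (hA : IsElementaryAbelian 2 A) {d : ℕ} (hAd : Nat.card A = 2 ^ d)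
    (hAL : A ≤ normalizer (L : Set G)) (hfaith : A ⊓ centralizer (L : Set G) = ⊥) :
    ∃ (Ai : Fin d → Subgroup G) (Li : Fin d → Subgroup G) (n : Fin d → ℕ),
      (∀ i, Ai i ≤ A ∧ Nat.card (Ai i) = 2 ∧ Li i ≤ L ∧ Odd (n i) ∧ 3 ≤ n i ∧
        Nonempty (↥(Ai i ⊔ Li i) ≃* DihedralGroup (n i))) ∧ (⨆ i, Ai i) = A ∧
      ∀ i j, i ≠ j → ∀ x ∈ Ai i ⊔ Li i, ∀ y ∈ Ai j ⊔ Li j, x * y = y * x := by
  haveI : Fact (Nat.Prime 2) := ⟨Nat.prime_two⟩
  obtain ⟨B, hBL, hAB, hB, hf⟩ := exists_abelian_faithful hLs hLodd hA hAL hfaith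
  have hBodd : Odd (Nat.card B) := hLodd.of_dvd_nat (card_dvd_of_le hBL)
  obtain ⟨a, b, h1, h2, h3⟩ := dual_basis hA hB hBodd hAB hf d A le_rfl hAd
  refine ⟨fun i => zpowers (a i), fun i => zpowers (b i), fun i => orderOf (b i), fun i => ?_,
    le_antisymm (iSup_le fun i => zpowers_le.mpr (h1 i).1) h3, fun i j hij => ?_⟩
  · obtain ⟨ha, hb, hb1, -, hab⟩ := h1 i
    have hne := ne_inv_of_odd hBodd hb hb1
    have ha1 : a i ≠ 1 := fun e => hne (by rw [← hab, e]; group)
    have ho : Odd (orderOf (b i)) := hBodd.of_dvd_nat (orderOf_dvd_natCard B hb)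
    refine ⟨zpowers_le.mpr ha, by rw [Nat.card_zpowers, IsElementaryAbelian.orderOf_eq hA ha ha1],
      zpowers_le.mpr (hBL hb), ho, ?_, ?_⟩
    · have h4 : orderOf (b i) ≠ 1 := fun e => hb1 (orderOf_eq_one_iff.mp e)
      obtain ⟨k, hk⟩ := ho
      change 3 ≤ orderOf (b i)
      omega
    · obtain ⟨D, hD1, hD2, hD3, ⟨e⟩⟩ := H7.exists_subgroup_equiv_dihedral (orderOf (b i)) (b i)
        (a i) rfl (by rw [← pow_two]; exact hA.2 _ ha) hab (fun h => hne (by
          obtain ⟨k, hk⟩ := mem_zpowers_iff.mp h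
          rw [← hab, ← hk]; group))
      refine ⟨(MulEquiv.subgroupCongr (le_antisymm
        (sup_le (zpowers_le.mpr hD2) (zpowers_le.mpr hD1)) fun g hg => ?_)).trans e⟩
      obtain ⟨k, rfl | rfl⟩ := hD3 g hg
      · exact mem_sup_right (zpow_mem_zpowers _ k)
      · exact mul_mem_sup (mem_zpowers _) (zpow_mem_zpowers _ k)
  · have hz : ∀ x y : G, x * y = y * x → ⁅zpowers x, zpowers y⁆ = ⊥ := fun x y h =>
      comm_bot_of_le_centralizer (by
        rw [centralizer_zpowers, zpowers_le, mem_centralizer_singleton_iff]; exact h)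
    refine comm_bot_iff.mp (comm_sup_bot (comm_bot_symm (comm_sup_bot (hz _ _ ?_) (hz _ _ ?_)))
      (comm_bot_symm (comm_sup_bot (hz _ _ ?_) (hz _ _ ?_))))
    · exact IsElementaryAbelian.comm hA (h1 j).1 (h1 i).1
    · exact (mul_inv_eq_iff_eq_mul.mp (h2 j i hij.symm)).symm
    · exact mul_inv_eq_iff_eq_mul.mp (h2 i j hij)
    · exact H13.isMulCommutative_iff_forall_mem.mp hB _ (h1 j).2.1 _ (h1 i).2.1

end H25.Bd
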