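import Mathlib
import Cfsg.Agent.H25.Flat

/-!
# Goldschmidt's generation lemma
-/

set_option autoImplicit false
set_option linter.unusedSectionVars false

open Cfsg Subgroup H23
open scoped commutatorElement

namespace H25.Sg

variable {G : Type*} [Group G] [Finite G] {p : ℕ} [hp : Fact p.Prime]

theorem le_normalizer_of_commutator_le {M L : Subgroup G} (h : ⁅M, L⁆ ≤ L) :
    M ≤ normalizer (L : Set G) := by
  intro g hg
  refine H13.mem_normalizer_of_finite fun x hx => ?_
  have : g * x * g⁻¹ = ⁅g, x⁆ * x := by simp only [commutatorElement_def]; group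
  rw [this]
  exact mul_mem (h (commutator_mem_commutator hg hx)) hx

theorem commutator_inf_cent_le {K B : Subgroup G} (hB : IsPGroup p B)
    (hK : (Nat.card K).Coprime p) (hn : B ≤ normalizer (K : Set G)) :
    ⁅K, B⁆ ⊓ centralizer (B : Set G) ≤ ⁅K, K⁆ := by
  set H := K ⊔ B with hH
  have hHn : H ≤ normalizer ((⁅K, K⁆ : Subgroup G) : Set G) :=
    sup_le (normalizer_commutator_ge_left K K) (le_normalizer_commutator hn hn)
  have hD : ⁅K, K⁆ ≤ H := (commutator_le_self K).trans le_sup_left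
  haveI : ((⁅K, K⁆ : Subgroup G).subgroupOf H).Normal :=
    (normal_subgroupOf_iff_le_normalizer hD).2 hHn
  set π := QuotientGroup.mk' ((⁅K, K⁆ : Subgroup G).subgroupOf H) with hπ
  haveI : IsMulCommutative ((K.subgroupOf H).map π) := by
    rw [← Subgroup.commutator_self_eq_bot_iff, ← comm_le_ker_iff, hπ, QuotientGroup.ker_mk']
    exact map_le_iff_le_comap.1 (LB.map_subgroupOf_comm le_sup_left le_sup_left).le
  have h1 := H1.centralizer_inf_commutator_eq_bot ((B.subgroupOf H).map π) ((K.subgroupOf H).map π)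
    (map_le_normalizer_map (comap_le_normalizer_comap hn H.subtype) π)
    (cop_card_of_isPGroup ((hB.comap_subtype).map π) (cop_map (cop_subgroupOf hK H) π))
  rintro x ⟨hx, hc⟩
  have hxK : x ∈ K := commutator_le_left_of hn hx
  have h2 : π ⟨x, mem_sup_left hxK⟩ ∈ (⊥ : Subgroup _) := by
    rw [← h1]
    refine ⟨⟨mem_map_of_mem _ hxK, H13.map_centralizer_le π _ (mem_map_of_mem _ ?_)⟩, ?_⟩
    · intro b hb
      exact Subtype.ext (hc b hb)
    · rw [← LB.map_subgroupOf_comm (H := H) le_sup_left le_sup_right] at hx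
      obtain ⟨y, hy, e⟩ := hx
      have : (⟨x, mem_sup_left hxK⟩ : H) = y := Subtype.ext e.symm
      rw [this, ← map_commutator]
      exact mem_map_of_mem _ hy
  rwa [mem_bot, hπ, QuotientGroup.mk'_apply, QuotientGroup.eq_one_iff, mem_subgroupOf] at h2

/-- fixed points on an abelian section generated by invariant pieces. -/
theorem inf_cent_le_of_pieces {ι : Sort*} {M D B R : Subgroup G} (U : ι → Subgroup G)
    (hB : IsPGroup p B) (hM : (Nat.card M).Coprime p) (hDM : D ≤ M) (hMM : ⁅M, M⁆ ≤ D)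
    (hBD : B ≤ normalizer (D : Set G)) (hU : ∀ i, U i ≤ M)
    (hBU : ∀ i, B ≤ normalizer (U i : Set G)) (hgen : M ≤ (⨆ i, U i) ⊔ D)
    (hR : ∀ i, U i ⊓ centralizer (B : Set G) ≤ R) (hD : D ⊓ centralizer (B : Set G) ≤ R) :
    M ⊓ centralizer (B : Set G) ≤ R := by
  have hn : ∀ V, D ≤ V → V ≤ M → M ≤ normalizer (V : Set G) := fun V h1 h2 =>
    le_normalizer_of_commutator_le ((commutator_mono le_rfl h2).trans (hMM.trans h1))
  have h1 := H2.sSup_mem_of_sup_closed {V : Subgroup G | V ≤ M ∧ B ≤ normalizer (V : Set G) ∧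
    (V ⊔ D) ⊓ centralizer (B : Set G) ≤ R} ⟨bot_le, by simp, by rwa [bot_sup_eq]⟩
    (by
      rintro U ⟨h1, h2, h3⟩ V ⟨h4, h5, h6⟩
      refine ⟨sup_le h1 h4, le_normalizer_sup h2 h5, ?_⟩
      have e : U ⊔ V ⊔ D = (U ⊔ D) ⊔ (V ⊔ D) := by rw [sup_sup_sup_comm, sup_idem]
      rw [e]
      exact (sup_inf_cent_le hB (cop_of_le hM (sup_le h4 hDM)) (le_normalizer_sup h2 hBD)
        (le_normalizer_sup h5 hBD) ((sup_le h1 hDM).trans
          (hn _ le_sup_right (sup_le h4 hDM)))).trans (sup_le h3 h6))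
  refine le_trans (inf_le_inf_right _ (hgen.trans (sup_le_sup_right ?_ _))) h1.2.2
  exact iSup_le fun i => le_sSup ⟨hU i, hBU i, (sup_inf_cent_le hB (cop_of_le hM hDM) (hBU i) hBD
    ((hU i).trans (hn D le_rfl hDM))).trans (sup_le (hR i) hD)⟩

theorem comm_comm_eq {x b : G} (k : G) (hbx : b * x = x * b) :
    ⁅x, ⁅k, b⁆⁆ = (k * ⁅b, ⁅k⁻¹, x⁆⁆ * k⁻¹)⁻¹ := by
  simp only [commutatorElement_def]
  have e1 : b⁻¹ * x * b = x := by rw [mul_assoc, ← hbx]; group
  have e2 : x⁻¹ * b * x = b := by rw [mul_assoc, hbx]; group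
  calc x * (k * b * k⁻¹ * b⁻¹) * x⁻¹ * (k * b * k⁻¹ * b⁻¹)⁻¹
      = x * k * b * k⁻¹ * (b⁻¹ * x * b)⁻¹ * k * b⁻¹ * k⁻¹ := by group
    _ = x * k * (x⁻¹ * b * x) * k⁻¹ * x⁻¹ * k * b⁻¹ * k⁻¹ := by rw [e1, e2]
    _ = _ := by group

set_option maxHeartbeats 1000000 in
theorem goldschmidt_gen {A B Y R : Subgroup G} (hA : IsMulCommutative A) (hAp : IsPGroup p A)
    (hBA : B ≤ A) (hY : (Nat.card Y).Coprime p) (hs : Group.IsSolvable Y)
    (hAY : A ≤ normalizer (Y : Set G)) (hYA : ⁅Y, A⁆ = Y)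
    (hR : ∀ B₀ : Subgroup G, Coc B B₀ → Y ⊓ centralizer (B : Set G) ⊓ ⁅Y ⊓ centralizer (B₀ : Set G), A⁆ ≤ R) :
    Y ⊓ centralizer (B : Set G) ≤ R := by
  have hBp := hAp.to_le hBA
  have hBc := H13.isMulCommutative_of_le hA hBA
  have hAc : ∀ B₀ : Subgroup G, B₀ ≤ A → A ≤ centralizer (B₀ : Set G) := fun B₀ h a ha b hb =>
    H13.isMulCommutative_iff_forall_mem.1 hA b (h hb) a ha
  have hAC : ∀ K : Subgroup G, A ≤ normalizer (K : Set G) → ∀ B₀ : Subgroup G, B₀ ≤ A →
      A ≤ normalizer ((K ⊓ centralizer (B₀ : Set G) : Subgroup G) : Set G) := fun K hK B₀ h =>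
    le_normalizer_inf hK ((hAc B₀ h).trans le_normalizer)
  set P : Subgroup G → Subgroup G := fun B₀ => ⁅Y ⊓ centralizer (B₀ : Set G), A⁆ with hP
  have hPle : ∀ B₀ : Subgroup G, B₀ ≤ A → P B₀ ≤ Y ⊓ centralizer (B₀ : Set G) := fun B₀ h =>
    commutator_le_left_of (hAC Y hAY B₀ h)
  have hAP : ∀ B₀ : Subgroup G, A ≤ normalizer (P B₀ : Set G) := fun B₀ => normalizer_commutator_ge_right _ _
  have hCP : ∀ B₀ : Subgroup G, Y ⊓ centralizer (B₀ : Set G) ≤ normalizer (P B₀ : Set G) := fun B₀ =>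
    normalizer_commutator_ge_left _ _
  have hdec : ∀ B₀ : Subgroup G, B₀ ≤ A → Y ⊓ centralizer (B₀ : Set G) ≤ P B₀ ⊔ (Y ⊓ centralizer (A : Set G)) :=
    fun B₀ h => (H1.commutator_sup_centralizer A _ (hAC Y hAY B₀ h)
      (cop_card_of_isPGroup hAp (cop_of_le hY inf_le_left))
      (Or.inl (solv_of_isPGroup hAp))).ge.trans
        (sup_le_sup_left (inf_le_inf_right _ inf_le_left) _)
  have hdec' : ∀ K : Subgroup G, K ≤ Y → A ≤ normalizer (K : Set G) →
      ∀ B₀ : Subgroup G, B₀ ≤ A → ∀ k ∈ K,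
      ∃ n ∈ ⁅K, B₀⁆, ∃ c ∈ K ⊓ centralizer (B₀ : Set G), k = n * c := fun K hK hn B₀ h k hk =>
    H1.exists_commutator_mul_centralizer B₀ K (h.trans hn)
      (cop_card_of_isPGroup (hAp.to_le h) (cop_of_le hY hK))
      (Or.inl (solv_of_isPGroup (hAp.to_le h))) k hk
  set Ca := Y ⊓ centralizer (A : Set G) with hCa
  set Cb := Y ⊓ centralizer (B : Set G) with hCb
  have hCab : ∀ B₀ : Subgroup G, B₀ ≤ A → Ca ≤ Y ⊓ centralizer (B₀ : Set G) := fun B₀ h =>
    inf_le_inf_left _ (centralizer_le h)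
  set X := ⨆ B₀ : {B₀ // Coc B B₀}, Cb ⊓ P B₀ with hX
  have hleX : ∀ B₀ : Subgroup G, Coc B B₀ → Cb ⊓ P B₀ ≤ X := fun B₀ h =>
    le_iSup (fun B₀ : {B₀ // Coc B B₀} => Cb ⊓ P B₀) ⟨B₀, h⟩
  have hleX' : ∀ B₀ : Subgroup G, Coc B B₀ → P B₀ ⊓ centralizer (B : Set G) ≤ X := fun B₀ h =>
    le_trans (le_inf (inf_le_inf_right _ ((hPle B₀ (h.1.trans hBA)).trans inf_le_left))
      inf_le_left) (hleX B₀ h)
  -- `Y` is generated by the pieces
  have hgen : Y ≤ ⨆ B₀ : {B₀ // Coc B B₀}, P B₀ := by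
    set L := ⨆ B₀ : {B₀ // Coc B B₀}, P B₀ with hL
    have h1 : Y ≤ L ⊔ Ca := le_of_coc hBc hBp (hBA.trans hAY) hY fun B₀ h =>
      (hdec B₀ (h.1.trans hBA)).trans (sup_le_sup_right
        (le_iSup (fun B₀ : {B₀ // Coc B B₀} => P B₀) ⟨B₀, h⟩) _)
    have h2 : Ca ≤ normalizer (L : Set G) := le_normalizer_iSup fun B₀ =>
      (hCab B₀ (B₀.2.1.trans hBA)).trans (hCP B₀)
    have h3 : A ≤ normalizer (L : Set G) := le_normalizer_iSup fun B₀ => hAP B₀
    rw [← hYA, commutator_comm]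
    refine (commutator_mono le_rfl h1).trans (LB.comm_sup_le (commutator_le_right_of h3) ?_
      le_normalizer h2)
    rw [comm_bot_symm (comm_bot_of_le_centralizer (inf_le_right : Ca ≤ _))]
    exact bot_le
  set R' := X ⊔ ⁅Ca, Ca⁆ with hR'
  -- type two steps
  have t2 : ∀ K : Subgroup G, K ≤ Y → Y ≤ normalizer (K : Set G) → A ≤ normalizer (K : Set G) →
      ⁅K, Y⁆ ⊓ centralizer (B : Set G) ≤ R' ⊔ (⁅K, K⁆ ⊓ centralizer (B : Set G)) := by
    intro K hKY hYK hAK
    set U : Option {B₀ // Coc B B₀} → Subgroup G := fun i => i.elim ⁅K, B⁆ fun B₀ => K ⊓ P B₀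
      with hU
    set L := (⨆ i, U i) ⊔ ⁅K, K⁆ with hL
    have hUK : ∀ i, U i ≤ K := by
      rintro (_ | B₀)
      · exact commutator_le_left_of (hBA.trans hAK)
      · exact inf_le_left
    have hLK : L ≤ K := sup_le (iSup_le hUK) (commutator_le_self K)
    have hKL : K ≤ normalizer (L : Set G) :=
      le_normalizer_of_commutator_le ((commutator_mono le_rfl hLK).trans le_sup_right)
    have h1 : ⁅K, Y⁆ ≤ L := by
      refine LB.comm_le_of_le_cmod (hgen.trans (iSup_le fun B₀ => ?_))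
      have h0 := B₀.2.1.trans hBA
      have h2 : ⁅K, P B₀⁆ ≤ L := by
        rw [commutator_le]
        intro k hk y hy
        obtain ⟨n, hn, c, hc, rfl⟩ := hdec' K hKY hAK B₀ h0 k hk
        have e : ⁅n * c, y⁆ = n * ⁅c, y⁆ * n⁻¹ * ⁅n, y⁆ := by
          simp only [commutatorElement_def]; group
        rw [e]
        have hy' := hPle B₀ h0 hy
        refine mul_mem (conj_mem hKL (commutator_le_left_of (h0.trans hAK) hn)
          (mem_sup_left (le_iSup U (some B₀) ⟨?_, ?_⟩))) (mem_sup_left (le_iSup U none ?_))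
        · exact commutator_le_left_of hYK (commutator_mem_commutator hc.1 hy'.1)
        · exact commutator_le_right_of (hCP B₀)
            (commutator_mem_commutator (⟨hKY hc.1, hc.2⟩ : c ∈ Y ⊓ centralizer (B₀ : Set G)) hy)
        · refine commutator_mono le_rfl B₀.2.1 ?_
          refine commutator_le_left_of (K := Y ⊓ centralizer (B₀ : Set G)) ?_
            (commutator_mem_commutator hn hy')
          exact le_normalizer_commutator (inf_le_left.trans hYK)
            (inf_le_right.trans (Subgroup.centralizer_le_normalizer _))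
      refine LB.le_cmod h2 (le_normalizer_of_commutator_le ?_)
      rw [commutator_comm]
      exact (commutator_mono hLK le_rfl).trans h2
    refine le_trans (inf_le_inf_right _ h1) (inf_cent_le_of_pieces U hBp (cop_of_le hY
      (hLK.trans hKY)) le_sup_right (commutator_mono hLK hLK)
      (le_normalizer_commutator (hBA.trans hAK) (hBA.trans hAK))
      (fun i => (le_iSup U i).trans le_sup_left) ?_ le_rfl ?_ le_sup_right)
    · rintro (_ | B₀)
      · exact normalizer_commutator_ge_right _ _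
      · exact hBA.trans (le_normalizer_inf hAK (hAP B₀))
    · rintro (_ | B₀)
      · exact (le_inf (commutator_inf_cent_le hBp (cop_of_le hY hKY) (hBA.trans hAK))
          inf_le_right).trans le_sup_right
      · exact ((inf_le_inf_right _ inf_le_right).trans (hleX' B₀ B₀.2)).trans
          (le_sup_left.trans le_sup_left)
  -- type one steps
  have t1 : ∀ H : Subgroup G, H ≤ Y → Y ≤ normalizer (H : Set G) → A ≤ normalizer (H : Set G) →
      ⁅H, H⁆ ⊓ centralizer (B : Set G) ≤ R' ⊔ (⁅⁅H, H⁆, Y⁆ ⊓ centralizer (B : Set G)) := by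
    intro H hHY hYH hAH
    set M := ⁅H, H⁆ with hM
    have hMY : M ≤ Y := (commutator_le_self H).trans hHY
    have hYM : Y ≤ normalizer (M : Set G) := le_normalizer_commutator hYH hYH
    have hAM : A ≤ normalizer (M : Set G) := le_normalizer_commutator hAH hAH
    set U : Option {B₀ // Coc B B₀} → Subgroup G :=
      fun i => i.elim ⁅M, B⁆ fun B₀ => M ⊓ (⁅Ca, Ca⁆ ⊔ P B₀) with hU
    set L := (⨆ i, U i) ⊔ ⁅M, Y⁆ with hL
    have hUM : ∀ i, U i ≤ M := by
      rintro (_ | B₀)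
      · exact commutator_le_left_of (hBA.trans hAM)
      · exact inf_le_left
    have hLM : L ≤ M := sup_le (iSup_le hUM) (commutator_le_left_of hYM)
    have hYL : Y ≤ normalizer (L : Set G) := le_normalizer_of_commutator_le (by
      rw [commutator_comm]
      exact (commutator_mono hLM le_rfl).trans le_sup_right)
    have h1 : M ≤ L := by
      refine LB.comm_le_of_le_cmod (le_of_coc hBc hBp (hBA.trans hAH) (cop_of_le hY hHY)
        fun B₀ hB₀ h hh => ⟨hYL (hHY hh.1), fun k hk => ?_⟩)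
      have h0 := hB₀.1.trans hBA
      obtain ⟨n, hn, c, hc, rfl⟩ := hdec' H hHY hAH B₀ h0 k hk
      have e : ⁅n * c, h⁆ = n * ⁅c, h⁆ * n⁻¹ * ⁅n, h⁆ := by
        simp only [commutatorElement_def]; group
      rw [e]
      refine mul_mem (conj_mem hYL (hHY (commutator_le_left_of (h0.trans hAH) hn))
        (mem_sup_left (le_iSup U (some ⟨B₀, hB₀⟩) ⟨commutator_mem_commutator hc.1 hh.1, ?_⟩))) ?_
      · have hn' : Ca ≤ normalizer (P B₀ : Set G) := (hCab B₀ h0).trans (hCP B₀)
        have hn2 : P B₀ ≤ normalizer ((⁅Ca, Ca⁆ ⊔ P B₀ : Subgroup G) : Set G) :=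
          le_normalizer_of_le le_sup_right
        have hn3 : Ca ≤ normalizer ((⁅Ca, Ca⁆ ⊔ P B₀ : Subgroup G) : Set G) :=
          le_normalizer_sup (normalizer_commutator_ge_left _ _) hn'
        have h2 : ⁅P B₀ ⊔ Ca, P B₀ ⊔ Ca⁆ ≤ ⁅Ca, Ca⁆ ⊔ P B₀ := by
          refine LB.comm_sup_le ((commutator_le_right_of (sup_le le_normalizer hn')).trans
            le_sup_right) ?_ hn2 hn3
          rw [commutator_comm]
          exact LB.comm_sup_le ((commutator_le_right_of hn').trans le_sup_right) le_sup_left hn2 hn3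
        exact h2 (commutator_mem_commutator (hdec B₀ h0 ⟨hHY hc.1, hc.2⟩)
          (hdec B₀ h0 ⟨hHY hh.1, hh.2⟩))
      · have h2 : ⁅H, B₀⁆ ≤ LB.cmod (zpowers h) L := by
          rw [commutator_le]
          intro k hk b hb
          refine ⟨hYL (hHY (commutator_le_left_of (h0.trans hAH)
            (commutator_mem_commutator hk hb))), fun x hx => ?_⟩
          have hxH : x ∈ H ⊓ centralizer (B₀ : Set G) := zpowers_le.2 hh hx
          have hbx : b * x = x * b := hxH.2 b hb
          rw [comm_comm_eq k hbx]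
          refine inv_mem (conj_mem hYL (hHY hk) (mem_sup_left (le_iSup U none ?_)))
          change _ ∈ ⁅M, B⁆
          rw [commutator_comm]
          exact commutator_mem_commutator (hB₀.1 hb) (commutator_mem_commutator (inv_mem hk) hxH.1)
        rw [← inv_mem_iff, commutatorElement_inv]
        exact (h2 hn).2 h (mem_zpowers h)
    refine inf_cent_le_of_pieces U hBp (cop_of_le hY hMY) (commutator_le_left_of hYM)
      (commutator_mono le_rfl hMY) (le_normalizer_commutator (hBA.trans hAM) (hBA.trans hAY))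
      hUM ?_ h1 ?_ le_sup_right
    · rintro (_ | B₀)
      · exact normalizer_commutator_ge_right _ _
      · refine hBA.trans (le_normalizer_inf hAM (le_normalizer_sup ?_ (hAP B₀)))
        exact le_normalizer_commutator (hAC Y hAY A le_rfl) (hAC Y hAY A le_rfl)
    · rintro (_ | B₀)
      · exact (le_inf ((commutator_inf_cent_le hBp (cop_of_le hY hMY) (hBA.trans hAM)).trans
          (commutator_mono le_rfl hMY)) inf_le_right).trans le_sup_right
      · have h0 := B₀.2.1.trans hBA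
        refine le_trans (inf_le_inf_right _ inf_le_right) (le_trans (sup_inf_cent_le hBp
          (cop_of_le hY ((hPle B₀ h0).trans inf_le_left)) (hBA.trans (le_normalizer_commutator
            (hAC Y hAY A le_rfl) (hAC Y hAY A le_rfl))) (hBA.trans (hAP B₀))
          ((commutator_le_self Ca).trans ((hCab B₀ h0).trans (hCP B₀)))) ?_)
        exact sup_le (inf_le_left.trans (le_sup_right.trans le_sup_left))
          ((hleX' B₀ B₀.2).trans (le_sup_left.trans le_sup_left))
  obtain ⟨K, ⟨hKY, hYK, hAK, hK⟩, hmin⟩ := (Set.toFinite {K : Subgroup G | K ≤ Y ∧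
    Y ≤ normalizer (K : Set G) ∧ A ≤ normalizer (K : Set G) ∧
    Cb ≤ R' ⊔ (⁅K, K⁆ ⊓ centralizer (B : Set G))}).exists_minimal
    ⟨Y, le_rfl, le_normalizer, hAY, inf_cent_le_of_pieces (fun B₀ : {B₀ // Coc B B₀} => P B₀) hBp hY
      (commutator_le_self Y) le_rfl (le_normalizer_commutator (hBA.trans hAY) (hBA.trans hAY))
      (fun B₀ => (hPle B₀ (B₀.2.1.trans hBA)).trans inf_le_left) (fun B₀ => hBA.trans (hAP B₀))
      (hgen.trans le_sup_left)
      (fun B₀ => (hleX' B₀ B₀.2).trans (le_sup_left.trans le_sup_left)) le_sup_right⟩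
  have hK' := hmin (y := ⁅K, K⁆) ⟨(commutator_le_self K).trans hKY, le_normalizer_commutator hYK hYK,
    le_normalizer_commutator hAK hAK, hK.trans (sup_le le_sup_left ((t1 K hKY hYK hAK).trans
      (sup_le le_sup_left (t2 _ ((commutator_le_self K).trans hKY)
        (le_normalizer_commutator hYK hYK) (le_normalizer_commutator hAK hAK)))))⟩
    (commutator_le_self K)
  have hK0 : K = ⊥ := eq_bot_of_perfect_of_solvable (le_antisymm (commutator_le_self K) hK')
    (solvable_of_le hKY hs)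
  rw [hK0, commutator_bot_left, bot_inf_eq, sup_bot_eq] at hK
  have hCX : Cb ≤ normalizer (X : Set G) :=
    le_normalizer_iSup fun B₀ : {B₀ // Coc B B₀} => le_normalizer_inf le_normalizer
      ((inf_le_inf_left _ (centralizer_le B₀.2.1)).trans (hCP B₀))
  have hCX' : Cb ≤ X := le_of_le_commutator_sup (solvable_of_le inf_le_left hs) hCX
    (hK.trans (sup_le le_sup_right
      ((commutator_mono (hCab B hBA) (hCab B hBA)).trans le_sup_left)))
  exact hCX'.trans (iSup_le fun B₀ : {B₀ // Coc B B₀} => hR B₀ B₀.2)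

theorem Coc.isCyclic {B B₀ : Subgroup G} (h : Coc B B₀) [(B₀.subgroupOf B).Normal] :
    IsCyclic (B ⧸ B₀.subgroupOf B) := by
  obtain ⟨h1, a, ha, h2⟩ := h
  rw [isCyclic_iff_exists_zpowers_eq_top]
  refine ⟨QuotientGroup.mk' _ ⟨a, ha⟩, eq_top_iff.2 fun x _ => ?_⟩
  obtain ⟨b, rfl⟩ := QuotientGroup.mk'_surjective _ x
  obtain ⟨c, hc, _, ⟨k, rfl⟩, e⟩ := mem_sup_of_le_normalizer_left
    ((zpowers_le.2 ha).trans ((normal_subgroupOf_iff_le_normalizer h1).1 inferInstance)) (h2 b.2)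
  refine ⟨k, ?_⟩
  have : b = ⟨c, h1 hc⟩ * (⟨a, ha⟩ : B) ^ k := Subtype.ext e.symm
  rw [this, map_mul, map_zpow]
  have h3 : QuotientGroup.mk' (B₀.subgroupOf B) ⟨c, h1 hc⟩ = 1 := by
    rw [QuotientGroup.mk'_apply, QuotientGroup.eq_one_iff]; exact hc
  rw [h3, one_mul]

end H25.Sg
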