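import Mathlib
import Cfsg.Agent.H25.Gold
import Cfsg.Agent.H25.Four
import Cfsg.Agent.S0205

/-!
# The signalizer functor of a core-separated pair of four-groups
-/

set_option autoImplicit false
set_option linter.unusedSectionVars false

open Cfsg Subgroup H23
open scoped commutatorElement

namespace H25.Sg

variable {G : Type*} [Group G] [Finite G] {p : ℕ} [hp : Fact p.Prime]

/-- the image of `X ∩ C` in `C / O_{p'}(C)`. -/
abbrev bar (p : ℕ) (C X : Subgroup G) : Subgroup (C ⧸ pPrimeCore p C) :=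
  (X.subgroupOf C).map (piO p C)

theorem bar_mono (C : Subgroup G) {X Y : Subgroup G} (h : X ≤ Y) : bar p C X ≤ bar p C Y :=
  map_mono (comap_mono h)

theorem subgroupOf_commutator {C X Y : Subgroup G} (hX : X ≤ C) (hY : Y ≤ C) :
    (⁅X, Y⁆ : Subgroup G).subgroupOf C = ⁅X.subgroupOf C, Y.subgroupOf C⁆ := by
  rw [← LB.map_subgroupOf_comm hX hY, comap_map_subtype]

theorem bar_commutator {C X Y : Subgroup G} (hX : X ≤ C) (hY : Y ≤ C) :
    bar p C ⁅X, Y⁆ = ⁅bar p C X, bar p C Y⁆ := by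
  rw [bar, subgroupOf_commutator hX hY, map_commutator]

theorem bar_sup {C X Y : Subgroup G} (hX : X ≤ C) (hY : Y ≤ C) :
    bar p C (X ⊔ Y) = bar p C X ⊔ bar p C Y := by
  rw [bar, subgroupOf_sup hX hY, Subgroup.map_sup]

theorem bar_opp_centralizer {C T : Subgroup G} (hT : T ≤ C) (hTp : IsPGroup p T) :
    bar p C (opp p (centralizer (T : Set G))) ≤
      opp p (centralizer ((bar p C T : Subgroup _) : Set (C ⧸ pPrimeCore p C))) := by
  rw [← map_centralizer_of_cop_ker (P := T.subgroupOf C) (piO_surj p C) (cop_ker_piO p C)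
    hTp.comap_subtype, subgroupOf_centralizer hT]
  exact (map_mono (comap_opp_le _ (cop_ker_of_injective C.subtype_injective))).trans
    (map_opp_le _ _ _)

theorem pPrimeCore_bar (C : Subgroup G) : pPrimeCore p (C ⧸ pPrimeCore p C) = ⊥ := by
  rw [← map_pPrimeCore_of_cop_ker (piO_surj p C) (cop_ker_piO p C), Subgroup.map_eq_bot_iff,
    ker_piO]

theorem comm_eq_bot_of_components (hO : pPrimeCore p G = ⊥) {x : G} (hx : x ^ p = 1)
    {W T : Subgroup G} (hW : W ≤ centralizerPPrimeCore p x) (hT : ⁅W, T⁆ ≤ W)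
    (h : ∀ L : Subgroup G, IsComponent L → T ≤ zpowers x ⊔ centralizer (L : Set G) ∨
      ⁅L, zpowers x⁆ = ⊥) : ⁅W, T⁆ = ⊥ := by
  have hxp := isPGroup_zpowers_of_pow hx
  refine eq_bot_of_comm_layer hO (cop_of_le (cpp_cop p x) (hT.trans hW))
    ((hT.trans hW).trans (cpp_le_centralizer_pCore hxp)) fun L hL => ?_
  by_cases hne : ⁅L, zpowers x⁆ = L
  · rcases h L hL with h1 | h1
    · refine comm_bot_symm (comm_bot_of_le_centralizer ((commutator_mono le_rfl h1).trans
        (LB.comm_sup_le ?_ (commutator_le_right_of (le_normalizer_centralizer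
          (hW.trans (cpp_le_normalizer_component hO hxp hL))))
          (le_normalizer_centralizer (zpowers_le.2 (mem_normalizer_of_comm_eq hne))) le_normalizer)))
      rw [comm_bot_of_le_centralizer (K := zpowers x)
        (by rw [centralizer_zpowers]; exact hW.trans (cpp_le p x))]
      exact bot_le
    · exact absurd (hne.symm.trans h1) (IsComponent.ne_bot hL)
  · exact comm_bot_mono (component_comm_cpp hO hx hL hne) le_rfl (hT.trans hW)

theorem eq_bot_of_components (hO : pPrimeCore p G = ⊥) {x : G} (hx : x ^ p = 1)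
    {X : Subgroup G} (hX : X ≤ centralizerPPrimeCore p x)
    (h : ∀ L : Subgroup G, IsComponent L → ∃ T : Subgroup G, ⁅L, T⁆ = ⊥ ∧
      X ≤ ⁅X, T⁆ ⊔ opp p (centralizer (T : Set G))) : X = ⊥ := by
  have hxp := isPGroup_zpowers_of_pow hx
  refine eq_bot_of_comm_layer hO (cop_of_le (cpp_cop p x) hX)
    (hX.trans (cpp_le_centralizer_pCore hxp)) fun L hL => ?_
  obtain ⟨T, h1, h2⟩ := h L hL
  refine comm_bot_symm (comm_bot_of_le_centralizer (h2.trans (sup_le ?_ ?_)))
  · exact (commutator_mono le_rfl (le_centralizer_of_comm_bot (comm_bot_symm h1))).trans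
      (commutator_le_right_of (le_normalizer_centralizer
        (hX.trans (cpp_le_normalizer_component hO hxp hL))))
  · rcases IsComponent.le_or_comm_of_le_normalizer hL (X := opp p (centralizer (T : Set G)))
      (le_normalizer_opp p (le_normalizer_of_le (le_centralizer_of_comm_bot h1))) with h3 | h3
    · exact absurd (IsComponent.dvd_card hO hL) (cop_iff_not_dvd.1 (cop_of_le (opp_cop p _) h3))
    · exact le_centralizer_of_comm_bot (comm_bot_symm h3)

section
variable {A₁ A₂ : Subgroup G}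

theorem cs_symm (h : IsCoreSeparated A₁ A₂) : IsCoreSeparated A₂ A₁ := by
  obtain ⟨h1, h2, h3, h4, h5, h6, h7, h8⟩ := h
  refine ⟨h2, h1, h4, h3, h5.symm, by rw [inf_comm, h6], fun x hx y hy => (h7 y hy x hx).symm,
    fun a ha ha1 E hE => (h8 a (by rwa [sup_comm]) ha1 E hE).symm⟩

theorem cs_ea (h : IsCoreSeparated A₁ A₂) : IsElementaryAbelian 2 (A₁ ⊔ A₂) :=
  haveI : Fact (Nat.Prime 2) := ⟨Nat.prime_two⟩
  elem_sup h.1 h.2.1 (le_centralizer_of_comm_bot (comm_bot_iff.2 h.2.2.2.2.2.2.1))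

theorem cs_bar (h : IsCoreSeparated A₁ A₂) {c : G} (hc : c ∈ A₁ ⊔ A₂) (hc1 : c ≠ 1)
    (L : Subgroup (centralizer ({c} : Set G) ⧸ pPrimeCore 2 (centralizer ({c} : Set G))))
    (hL : IsComponent L) :
    ⁅L, bar 2 (centralizer {c}) A₁⁆ = ⊥ ∨ ⁅L, bar 2 (centralizer {c}) A₂⁆ = ⊥ := by
  haveI : Fact (Nat.Prime 2) := ⟨Nat.prime_two⟩
  obtain ⟨K, hK, rfl⟩ := exists_isPComponent hL
  have hA := IsElementaryAbelian.le_centralizer_singleton (cs_ea h) hc
  have key : ∀ B : Subgroup G, B ≤ centralizer {c} →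
      ⁅K.map (centralizer ({c} : Set G)).subtype, B⁆ ≤ centralizerPPrimeCore 2 c →
      ⁅K.map (piO 2 _), bar 2 (centralizer {c}) B⁆ = ⊥ := by
    intro B hB h1
    rw [← comm_le_ker_iff, ker_piO]
    have h2 := comap_mono (f := (centralizer ({c} : Set G)).subtype) h1
    change (⁅K.map (centralizer ({c} : Set G)).subtype, B⁆ : Subgroup G).subgroupOf _ ≤
      (opp 2 _).subgroupOf _ at h2
    rwa [subgroupOf_commutator (map_subtype_le _) hB, comap_map_subtype, comap_map_subtype] at h2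
  exact (h.2.2.2.2.2.2.2 c hc hc1 K hK).imp (key _ (le_sup_left.trans hA))
    (key _ (le_sup_right.trans hA))

theorem cs_comm_le (h : IsCoreSeparated A₁ A₂) {a c : G} (ha : a ∈ A₁ ⊔ A₂) (hc : c ∈ A₁)
    (hc1 : c ≠ 1) {W : Subgroup G} (hW : W ≤ centralizerPPrimeCore 2 a)
    (hWc : W ≤ centralizer {c}) (hn : A₁ ≤ normalizer (W : Set G)) :
    ⁅W, A₁⁆ ≤ centralizerPPrimeCore 2 c := by
  haveI : Fact (Nat.Prime 2) := ⟨Nat.prime_two⟩
  have hA := cs_ea h
  set C := centralizer ({c} : Set G) with hC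
  have hAC : A₁ ⊔ A₂ ≤ C := IsElementaryAbelian.le_centralizer_singleton hA (mem_sup_left hc)
  have h1 : A₁ ≤ C := le_sup_left.trans hAC
  have ha2 : a ^ 2 = 1 := (isElementaryAbelian_iff.1 hA).2 a ha
  refine le_opp_of_map_piO_eq_bot ((commutator_le_left_of hn).trans hWc) ?_
  change bar 2 C _ = ⊥
  rw [bar_commutator hWc h1]
  refine comm_eq_bot_of_components (pPrimeCore_bar C) (x := piO 2 C ⟨a, hAC ha⟩) ?_
    ((bar_mono C hW).trans (map_subgroupOf_cpp_le (a := ⟨a, hAC ha⟩)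
      (isPGroup_zpowers_of_pow ha2))) ?_ fun L hL => ?_
  · rw [← map_pow]
    have : (⟨a, hAC ha⟩ : C) ^ 2 = 1 := Subtype.ext ha2
    rw [this, map_one]
  · rw [← bar_commutator hWc h1]
    exact bar_mono C (commutator_le_left_of hn)
  rcases cs_bar h (mem_sup_left hc) hc1 L hL with h2 | h2
  · exact Or.inl ((le_centralizer_of_comm_bot (comm_bot_symm h2)).trans le_sup_right)
  obtain ⟨a₁, ha₁, a₂, ha₂, rfl⟩ := mem_sup_of_le_normalizer_right
    (le_normalizer_of_comm_bot (comm_bot_iff.2 h.2.2.2.2.2.2.1)) ha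
  have hcL : piO 2 C ⟨c, h1 hc⟩ ∈ centralizer (L : Set _) := by
    intro l _
    obtain ⟨l, rfl⟩ := piO_surj 2 C l
    rw [← map_mul, ← map_mul]
    congr 1
    exact Subtype.ext (mem_centralizer_singleton_iff.1 l.2)
  have ha2L : piO 2 C ⟨a₂, hAC (mem_sup_right ha₂)⟩ ∈ centralizer (L : Set _) :=
    le_centralizer_of_comm_bot (comm_bot_symm h2) (mem_map_of_mem _ ha₂)
  have e : piO 2 C ⟨a₁ * a₂, hAC ha⟩ =
      piO 2 C ⟨a₁, h1 ha₁⟩ * piO 2 C ⟨a₂, hAC (mem_sup_right ha₂)⟩ := by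
    rw [← map_mul]; rfl
  have hc2 : c * c = 1 := by rw [← sq]; exact (isElementaryAbelian_iff.1 h.1).2 c hc
  by_cases hm : a₁ ∈ zpowers c
  · refine Or.inr (comm_bot_symm (comm_bot_of_le_centralizer (zpowers_le.2 ?_)))
    rw [e]
    refine mul_mem ?_ ha2L
    rcases (mem_zpowers_two hc2).1 hm with rfl | rfl
    · exact (congrArg (· ∈ centralizer (L : Set _)) (map_one (piO 2 C))).mpr (one_mem _)
    · exact hcL
  · left
    have hne : a₁ ≠ c := fun e => hm (e ▸ mem_zpowers _)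
    have hne1 : a₁ ≠ 1 := fun e => hm (e ▸ one_mem _)
    have h4 : four c a₁ = A₁ := eq_of_le_of_card_ge (four_le hc ha₁) (by
      rw [h.2.2.1]
      exact four_le_card (IsElementaryAbelian.orderOf_eq h.1 hc hc1)
        (IsElementaryAbelian.orderOf_eq h.1 ha₁ hne1) (IsElementaryAbelian.comm h.1 hc ha₁) hne)
    have h5 : bar 2 C A₁ ≤ zpowers (piO 2 C ⟨c, h1 hc⟩) ⊔ zpowers (piO 2 C ⟨a₁, h1 ha₁⟩) := by
      rw [← MonoidHom.map_zpowers, ← MonoidHom.map_zpowers, ← Subgroup.map_sup]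
      refine map_mono fun y hy => ?_
      have h6 : (zpowers (⟨c, h1 hc⟩ : C) ⊔ zpowers (⟨a₁, h1 ha₁⟩ : C)).map C.subtype = A₁ := by
        rw [Subgroup.map_sup, MonoidHom.map_zpowers, MonoidHom.map_zpowers]; exact h4
      rw [← h6, comap_map_subtype] at hy
      exact hy
    refine h5.trans (sup_le ((zpowers_le.2 hcL).trans le_sup_right) (zpowers_le.2 ?_))
    rw [eq_mul_inv_of_mul_eq e.symm]
    exact mul_mem (mem_sup_left (mem_zpowers _)) (mem_sup_right (inv_mem ha2L))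

theorem cs_le_normalizer (h : IsCoreSeparated A₁ A₂) {a : G} (ha : a ∈ A₁ ⊔ A₂) :
    A₁ ⊔ A₂ ≤ normalizer ((centralizerPPrimeCore 2 a : Subgroup G) : Set G) :=
  (IsElementaryAbelian.le_centralizer_singleton (cs_ea h) ha).trans (centralizer_le_normalizer_cpp 2 a)

theorem cs_cent_le (h : IsCoreSeparated A₁ A₂) {a : G} (ha : a ∈ A₁ ⊔ A₂) :
    ⁅centralizerPPrimeCore 2 a, A₁⁆ ⊓ centralizer (A₁ : Set G) ≤
      opp 2 (centralizer (A₁ : Set G)) := by
  haveI : Fact (Nat.Prime 2) := ⟨Nat.prime_two⟩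
  have hn := le_sup_left.trans (cs_le_normalizer h ha)
  have hp1 := IsElementaryAbelian.isPGroup h.1
  have hYO := commutator_le_left_of hn
  have hY := cop_of_le (cpp_cop 2 a) hYO
  refine goldschmidt_gen (p := 2) (H13.isMulCommutative_iff_forall_mem.2 (isElementaryAbelian_iff.1 h.1).1)
    hp1 le_rfl hY (Cfsg.Agent.S0205.result (cop_two_iff_odd.1 hY))
    (normalizer_commutator_ge_right _ _) ?_ fun B hB => ?_
  · exact H1.commutator_commutator_eq A₁ _ hn (cop_card_of_isPGroup hp1 (cpp_cop 2 a))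
      (Or.inl (solv_of_isPGroup hp1))
  have h2 : 2 ^ 1 ≤ Nat.card ↥(B ⊓ A₁) := hB.le_card_inf h.1 le_rfl (by rw [h.2.2.1]; norm_num)
  obtain ⟨c, hc, hc1⟩ := exists_ne_one_of_one_lt_card (A := B ⊓ A₁) (by omega)
  have h3 := cs_comm_le h ha hc.2 hc1 (W := ⁅centralizerPPrimeCore 2 a, A₁⁆ ⊓ centralizer (B : Set G))
    (inf_le_left.trans hYO) (inf_le_right.trans (centralizer_le_centralizer_singleton hc.1))
    (le_normalizer_inf (normalizer_commutator_ge_right _ _)
      (((IsElementaryAbelian.le_centralizer h.1).trans (centralizer_le hB.1)).trans le_normalizer))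
  exact le_opp_of_le_opp (inf_le_right.trans h3) (inf_le_left.trans inf_le_right)
    (centralizer_le_centralizer_singleton hc.2)

/-- one half of the functor. -/
abbrev csTheta (A : Subgroup G) (a : G) : Subgroup G :=
  ⁅centralizerPPrimeCore 2 a, A⁆ ⊔ (centralizerPPrimeCore 2 a ⊓ opp 2 (centralizer (A : Set G)))

theorem cs_theta_le (h : IsCoreSeparated A₁ A₂) {a : G} (ha : a ∈ A₁ ⊔ A₂) :
    csTheta A₁ a ≤ centralizerPPrimeCore 2 a :=
  sup_le (commutator_le_left_of (le_sup_left.trans (cs_le_normalizer h ha))) inf_le_left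

theorem cs_normalizer_theta (h : IsCoreSeparated A₁ A₂) {a : G} (ha : a ∈ A₁ ⊔ A₂) :
    A₁ ⊔ A₂ ≤ normalizer ((csTheta A₁ a : Subgroup G) : Set G) := by
  have h1 : A₁ ⊔ A₂ ≤ centralizer (A₁ : Set G) :=
    (IsElementaryAbelian.le_centralizer (cs_ea h)).trans (centralizer_le (le_sup_left : A₁ ≤ A₁ ⊔ A₂))
  exact le_normalizer_sup (le_normalizer_commutator (cs_le_normalizer h ha)
    (h1.trans (Subgroup.centralizer_le_normalizer _)))
    (le_normalizer_inf (cs_le_normalizer h ha) (le_normalizer_opp 2 (le_normalizer_of_le h1)))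

theorem cs_theta_cent_le (h : IsCoreSeparated A₁ A₂) {a : G} (ha : a ∈ A₁ ⊔ A₂) :
    csTheta A₁ a ⊓ centralizer (A₁ : Set G) ≤ opp 2 (centralizer (A₁ : Set G)) := by
  rintro x ⟨hx, hc⟩
  obtain ⟨y, hy, z, hz, rfl⟩ := mem_sup_of_le_normalizer_left
    (inf_le_left.trans (normalizer_commutator_ge_left _ _)) hx
  refine mul_mem (cs_cent_le h ha ⟨hy, ?_⟩) hz.2
  exact (mul_mem_cancel_right (opp_le 2 _ hz.2)).1 hc

theorem cs_decomp (h : IsCoreSeparated A₁ A₂) {a : G} (ha : a ∈ A₁ ⊔ A₂) {X : Subgroup G}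
    (hX : X ≤ csTheta A₁ a) (hn : A₁ ≤ normalizer (X : Set G)) :
    X ≤ ⁅X, A₁⁆ ⊔ (X ⊓ opp 2 (centralizer (A₁ : Set G))) := by
  haveI : Fact (Nat.Prime 2) := ⟨Nat.prime_two⟩
  have hp1 := IsElementaryAbelian.isPGroup h.1
  refine (H1.commutator_sup_centralizer A₁ X hn (cop_card_of_isPGroup hp1
    (cop_of_le (cpp_cop 2 a) (hX.trans (cs_theta_le h ha)))) (Or.inl (solv_of_isPGroup hp1))).ge.trans
    (sup_le_sup_left (le_inf inf_le_left ?_) _)
  exact (inf_le_inf_right _ hX).trans (cs_theta_cent_le h ha)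

theorem cs_functor (h : IsCoreSeparated A₁ A₂) :
    IsSignalizerFunctor 2 (A₁ ⊔ A₂) (fun a => csTheta A₁ a ⊓ csTheta A₂ a) := by
  haveI : Fact (Nat.Prime 2) := ⟨Nat.prime_two⟩
  have h' := cs_symm h
  have hA := cs_ea h
  have hN : ∀ a ∈ A₁ ⊔ A₂, A₁ ⊔ A₂ ≤
      normalizer ((csTheta A₁ a ⊓ csTheta A₂ a : Subgroup G) : Set G) := fun a ha =>
    le_normalizer_inf (cs_normalizer_theta h ha)
      (by rw [sup_comm] at ha ⊢; exact cs_normalizer_theta h' ha)
  refine ⟨fun a ha _ => (inf_le_left.trans (cs_theta_le h ha)).trans (cpp_le 2 a),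
    fun a ha _ => cop_iff_not_dvd.1 (cop_of_le (cpp_cop 2 a) (inf_le_left.trans (cs_theta_le h ha))),
    fun a ha _ b hb x hx => conj_mem (hN a ha) hb hx, fun a ha _ b hb hb1 => ?_⟩
  set C := centralizer ({b} : Set G) with hC
  have hAC : A₁ ⊔ A₂ ≤ C := IsElementaryAbelian.le_centralizer_singleton hA hb
  set X := csTheta A₁ a ⊓ csTheta A₂ a ⊓ C with hX
  have hXn : A₁ ⊔ A₂ ≤ normalizer (X : Set G) := le_normalizer_inf (hN a ha) (le_normalizer_of_le hAC)
  have hXC : X ≤ C := inf_le_right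
  have d1 := cs_decomp h ha (X := X) (inf_le_left.trans inf_le_left) (le_sup_left.trans hXn)
  have d2 := cs_decomp h' (by rwa [sup_comm]) (X := X) (inf_le_left.trans inf_le_right)
    (le_sup_right.trans hXn)
  have ha2 : a ^ 2 = 1 := (isElementaryAbelian_iff.1 hA).2 a ha
  have hXb : X ≤ centralizerPPrimeCore 2 b := by
    refine le_opp_of_map_piO_eq_bot hXC ?_
    have key : ∀ T : Subgroup G, T ≤ C → IsPGroup 2 T → T ≤ normalizer (X : Set G) →
        X ≤ ⁅X, T⁆ ⊔ (X ⊓ opp 2 (centralizer (T : Set G))) →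
        bar 2 C X ≤ ⁅bar 2 C X, bar 2 C T⁆ ⊔
          opp 2 (centralizer ((bar 2 C T : Subgroup _) : Set (C ⧸ pPrimeCore 2 C))) := by
      intro T hT hTp hn hd
      refine (bar_mono C hd).trans ?_
      rw [bar_sup ((commutator_le_left_of hn).trans hXC) (inf_le_left.trans hXC),
        bar_commutator hXC hT]
      exact sup_le_sup_left ((bar_mono C inf_le_right).trans (bar_opp_centralizer hT hTp)) _
    refine eq_bot_of_components (pPrimeCore_bar C) (x := piO 2 C ⟨a, hAC ha⟩) ?_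
      ((bar_mono C ((inf_le_left.trans inf_le_left).trans (cs_theta_le h ha))).trans
        (map_subgroupOf_cpp_le (a := ⟨a, hAC ha⟩) (isPGroup_zpowers_of_pow ha2))) fun L hL => ?_
    · rw [← map_pow]
      have : (⟨a, hAC ha⟩ : C) ^ 2 = 1 := Subtype.ext ha2
      rw [this, map_one]
    rcases cs_bar h hb hb1 L hL with h2 | h2
    · exact ⟨_, h2, key A₁ (le_sup_left.trans hAC) (IsElementaryAbelian.isPGroup h.1)
        (le_sup_left.trans hXn) d1⟩
    · exact ⟨_, h2, key A₂ (le_sup_right.trans hAC) (IsElementaryAbelian.isPGroup h.2.1)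
        (le_sup_right.trans hXn) d2⟩
  exact le_inf (d1.trans (sup_le_sup (commutator_mono hXb le_rfl) (inf_le_inf_right _ hXb)))
    (d2.trans (sup_le_sup (commutator_mono hXb le_rfl) (inf_le_inf_right _ hXb)))

end

end H25.Sg
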