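import Mathlib
import Cfsg.Agent.H25.TwM0
import Cfsg.Agent.H25.TwG

/-!
# Subgroups and involutions of the model
-/

set_option autoImplicit false
set_option maxRecDepth 100000
set_option synthInstance.maxSize 4000

open H24 Subgroup

namespace H25.Tw

def x0 : S0 := el 1
def y0 : S0 := el 4
def t0 : S0 := el 16
def e0 : S0 := el 32
def u0 : S0 := el 2
def v0 : S0 := el 8
def z0 : S0 := el 10
def t1 : S0 := el 21
def t2 : S0 := el 17
def t3 : S0 := el 20
def f0 : S0 := el 48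

/-- the subgroup given by a bit mask. -/
def mk (m : ℕ) (h : m.testBit 0 = true ∧ (∀ a : S0, m.testBit a.n = true → m.testBit a⁻¹.n = true) ∧
    ∀ a : S0, m.testBit a.n = true → ∀ b : S0, m.testBit b.n = true → m.testBit (a * b).n = true) :
    Subgroup S0 where
  carrier := {s | m.testBit s.n = true}
  one_mem' := h.1
  inv_mem' ha := h.2.1 _ ha
  mul_mem' ha hb := h.2.2 _ ha _ hb

instance (m : ℕ) (h) (s : S0) : Decidable (s ∈ mk m h) :=
  inferInstanceAs (Decidable (m.testBit s.n = true))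

abbrev U0 : Subgroup S0 := mk 0x505 (by decide +kernel)
abbrev A0 : Subgroup S0 := mk 0xffff (by decide +kernel)
abbrev R0 : Subgroup S0 := mk 0xffffffff (by decide +kernel)
abbrev Q0 : Subgroup S0 := mk 0xa5a5a5a5a5a5a5a5 (by decide +kernel)
abbrev E0 : Subgroup S0 := mk 0xa0a00505 (by decide +kernel)
abbrev T0 : Subgroup S0 := mk 0x505050505050505 (by decide +kernel)
abbrev Ma : Subgroup S0 := mk 0xffff0000ffff (by decide +kernel)
abbrev Mb : Subgroup S0 := mk 0xffff00000000ffff (by decide +kernel)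
abbrev Mc : Subgroup S0 := mk 0x5a5a5a5aa5a5a5a5 (by decide +kernel)
abbrev F0 : Subgroup S0 := mk 0x5050505 (by decide +kernel)
abbrev D0 : Subgroup S0 := mk 0x50500000505 (by decide +kernel)

theorem card_of (K : Subgroup S0) [DecidablePred (· ∈ K)] :
    ♯K = (Finset.univ.filter (· ∈ K)).card := by
  rw [Nat.card_eq_fintype_card, Fintype.card_subtype]

theorem card_U0 : ♯U0 = 4 := (card_of _).trans (by decide +kernel)
theorem card_R0 : ♯R0 = 32 := (card_of _).trans (by decide +kernel)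
theorem card_Q0 : ♯Q0 = 32 := (card_of _).trans (by decide +kernel)
theorem card_E0 : ♯E0 = 8 := (card_of _).trans (by decide +kernel)
theorem card_T0 : ♯T0 = 16 := (card_of _).trans (by decide +kernel)
theorem card_Ma : ♯Ma = 32 := (card_of _).trans (by decide +kernel)
theorem card_Mb : ♯Mb = 32 := (card_of _).trans (by decide +kernel)
theorem card_Mc : ♯Mc = 32 := (card_of _).trans (by decide +kernel)
theorem card_F0 : ♯F0 = 8 := (card_of _).trans (by decide +kernel)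
theorem card_D0 : ♯D0 = 8 := (card_of _).trans (by decide +kernel)

/-- the order of the centralizer. -/
def cc (s : S0) : ℕ := (Finset.univ.filter fun w => w * s = s * w).card

theorem card_C (s : S0) : ♯C{s} = cc s := by
  classical
  rw [card_of, cc]
  congr 1
  ext w
  simp only [Finset.mem_filter, mem_C1]

/-- the type of an involution. -/
def ty (s : S0) : ℕ := (lk
  0x1c00000070000001c0000007000180006000180000000006105105143143105105143143000000001002000000002000 s.n).val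

def rep (n : ℕ) : S0 := [1, z0, u0, t0, t1, t2, e0, f0].getD n 1

theorem ty_conj : ∀ s : S0, s * s = 1 → ∃ w : S0, w * rep (ty s) * w⁻¹ = s := by decide +kernel

theorem ty_cases : ∀ s : S0, s * s = 1 → s ≠ 1 → ty s = 1 ∨ ty s = 2 ∨ ty s = 3 ∨ ty s = 4 ∨ ty s = 5 ∨
    ty s = 6 ∨ ty s = 7 := by decide +kernel

theorem sq_of_ty : ∀ s : S0, ty s ≠ 0 → s * s = 1 ∧ s ≠ 1 := by decide +kernel

theorem ty_Ma : ∀ s ∈ Ma, s * s = 1 → s ≠ 1 → ty s = 1 ∨ ty s = 2 ∨ ty s = 6 := by decide +kernel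
theorem ty_Mb : ∀ s ∈ Mb, s * s = 1 → s ≠ 1 → ty s = 1 ∨ ty s = 2 ∨ ty s = 7 := by decide +kernel
theorem ty_Mc : ∀ s ∈ Mc, s * s = 1 → s ≠ 1 → ty s = 1 ∨ ty s = 2 ∨ ty s = 3 ∨ ty s = 4 := by
  decide +kernel

theorem cc_le : ∀ s : S0, s * s = 1 → s ≠ 1 → ty s = 1 ∨ ty s = 2 ∨ cc s ≤ 16 := by decide +kernel

theorem sq_cases : ∀ w : S0, w * w ≠ 1 → w * w * (w * w) = 1 → w * w = z0 ∨ ty (w * w) = 2 := by
  decide +kernel

theorem exists_sq : ∀ s : S0, s * s = 1 → ty s = 2 ∨ ty s = 5 ∨ ∃ w : S0, w * s = s * w ∧ w * w = z0 := by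
  decide +kernel

/-- the homomorphism on `R0` with given images of the generators. -/
def gam (x y t s : S0) : S0 := x ^ (s.n % 4) * y ^ (s.n / 4 % 4) * t ^ (s.n / 16 % 2)

theorem gam_self : ∀ s ∈ R0, gam x0 y0 t0 s = s := by decide +kernel

theorem h_A : ∀ x : S0, x * x = z0 → ∀ y : S0, x * y = y * x → y * y ≠ 1 → y * y ≠ z0 →
    y * y * (y * y) = 1 → x * y * (x * y) ≠ 1 → x * y * (x * y) ≠ z0 →
    x ∈ A0 ∧ y ∈ A0 ∧ (y * y = u0 ∨ e0 * x * e0⁻¹ * (e0 * x * e0⁻¹) = z0 ∧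
      e0 * y * e0⁻¹ * (e0 * y * e0⁻¹) = u0) := by decide +kernel

theorem h_R : ∀ x ∈ A0, x * x = z0 → ∀ y ∈ A0, y * y = u0 → ∀ t : S0, t * x * t⁻¹ = x⁻¹ →
    t * y * t⁻¹ = y⁻¹ → (∀ s ∈ R0, e0 * gam x y t s * e0⁻¹ ∈ R0 ∧
      (s ∈ U0 → e0 * gam x y t (e0 * gam x y t s * e0⁻¹) * e0⁻¹ = s) ∧
      (s ∈ A0 → e0 * gam x y t (e0 * gam x y t s * e0⁻¹) * e0⁻¹ ∈ A0)) ∧
    (e0 * gam x y t (e0 * t * e0⁻¹) * e0⁻¹ * t0 ∈ U0 → t * t0 ∈ U0 ∨ x * y * t * t1 ∈ U0) := by
  decide +kernel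

/-- the automorphism with `t ↦ x y t`. -/
def alp : S0 →* S0 := MonoidHom.mk' (fun s => gam x0 y0 t1 s * e0 ^ (s.n / 32)) (by decide +kernel)

theorem alp_inj : Function.Injective alp := by
  have : ∀ a b : S0, gam x0 y0 t1 a * e0 ^ (a.n / 32) = gam x0 y0 t1 b * e0 ^ (b.n / 32) → a = b := by
    decide +kernel
  exact this

theorem alp_A : ∀ s ∈ A0, alp s = s := by
  have : ∀ s ∈ A0, gam x0 y0 t1 s * e0 ^ (s.n / 32) = s := by decide +kernel
  exact this

theorem alp_t : alp t0 = x0 * y0 * t0 := by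
  have : gam x0 y0 t1 t0 * e0 ^ (t0.n / 32) = x0 * y0 * t0 := by decide +kernel
  exact this

end H25.Tw
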