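import Mathlib
import Cfsg.Agent.H25.TwM1

/-!
# Fusion of involutions in a simple group with a Sylow `2`-subgroup `4² : 2²`
-/

set_option autoImplicit false
set_option linter.unusedSectionVars false
set_option maxRecDepth 100000
set_option synthInstance.maxSize 4000

open Cfsg H24 H26 H26.Gold Subgroup
open scoped commutatorElement

namespace H25.Tw

universe u

variable {G : Type u} [Group G] [Finite G] {φ : S0 →* G} {K L P : Subgroup G} {a b g k r w : G}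
  {c s s' : S0} {X Y : Subgroup S0}

theorem odd_fix (hr : OddE r) (hw : TwoE w) (hc : r * w = w * r) (h : r * a * r⁻¹ = a * w) :
    r * a * r⁻¹ = a := by
  have key : ∀ n : ℕ, r ^ n * a * (r ^ n)⁻¹ = a * w ^ n := fun n => by
    induction n with
    | zero => simp
    | succ n ih =>
      have e : r * w ^ n * r⁻¹ = w ^ n := by rw [((Commute.pow_right hc n)).eq]; group
      calc _ = r * (r ^ n * a * (r ^ n)⁻¹) * r⁻¹ := by rw [pow_succ']; group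
        _ = r * a * r⁻¹ * (r * w ^ n * r⁻¹) := by rw [ih]; group
        _ = _ := by rw [h, e, pow_succ']; group
  have h1 := key (orderOf r)
  rw [pow_orderOf_eq_one, one_mul, inv_one, mul_one, left_eq_mul] at h1
  rw [h, hw.eq_one (piElt_of_pow_eq_one hr h1), mul_one]

structure Emb (φ : S0 →* G) : Prop where
  inj : Function.Injective φ
  syl : Syl 2 ⊤ φ.range
  simple : IsSimpleGroup G

namespace Emb

variable (h : Emb φ)
include h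

theorem eq : φ s = φ s' ↔ s = s' := h.inj.eq_iff

theorem ne_one (h1 : s ≠ 1) : φ s ≠ 1 := fun e => h1 (h.inj (e.trans φ.map_one.symm))

theorem mem : φ s ∈ X.map φ ↔ s ∈ X := mem_map_iff_mem h.inj

theorem card (X : Subgroup S0) : ♯(X.map φ) = ♯X := card_map_of_injective h.inj

theorem two (X : Subgroup S0) : TwoG (X.map φ) := h.syl.pi.of_le (map_le_range _ _)

theorem twoE (s : S0) : TwoE (φ s) := h.syl.pi.piElt ⟨s, rfl⟩

theorem card_range : ♯φ.range = 64 := by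
  rw [φ.range_eq_map, h.card, card_top, card_S0]

theorem nab : ¬ Abl φ.range := fun e =>
  absurd (h.inj (by simpa only [map_mul] using e.comm ⟨x0, rfl⟩ ⟨t0, rfl⟩ : φ (x0 * t0) = φ (t0 * x0)))
    (by decide +kernel)

theorem pull (hK : φ.range ≤ K) (hP : TwoG P) (hPK : P ≤ K) :
    ∃ k ∈ K, ∀ p ∈ P, ∃ s, φ s = k * p * k⁻¹ := by
  obtain ⟨k, hk, e⟩ := Sylow_Jsub Nat.prime_two (h.syl.of_le hK le_top) hP hPK
  exact ⟨k, hk, fun p hp => e (conj_mem_cj k hp)⟩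

theorem pull1 (hK : φ.range ≤ K) (hw : w * w = 1) (hwK : w ∈ K) : ∃ k ∈ K, ∃ s, φ s = k * w * k⁻¹ := by
  obtain ⟨k, hk, e⟩ := h.pull hK (twoE_of_sq hw).isPi (zpowers_le.2 hwK)
  exact ⟨k, hk, e w (mem_zpowers w)⟩

theorem inv_of (e : IsConj w (φ s)) (hw : w * w = 1) (w1 : w ≠ 1) : s * s = 1 ∧ s ≠ 1 := by
  obtain ⟨g, e⟩ := isConj_iff.1 e
  refine ⟨h.inj (by rw [map_mul, ← e, conj_sq hw, map_one]), fun e1 => w1 ?_⟩
  rwa [e1, map_one, conj_eq_one_iff'] at e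

omit h in
theorem sq (hs : s * s = 1) : φ s * φ s = 1 := by rw [← map_mul, hs, map_one]

omit h in
theorem rep_conj (hs : s * s = 1) {n : ℕ} (hn : ty s = n) : IsConj (φ (rep n)) (φ s) := by
  obtain ⟨w, e⟩ := ty_conj s hs
  exact isConj_iff.2 ⟨φ w, by rw [← hn, ← map_inv, ← map_mul, ← map_mul, e]⟩

theorem into (hX : ♯X = 32) (hw : w * w = 1) (w1 : w ≠ 1) :
    ∃ s ∈ X, IsConj (φ s) w ∧ s * s = 1 ∧ s ≠ 1 := by
  have := h.simple
  have h2 := card_mul_relIndex (map_le_range φ X)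
  rw [h.card, hX, h.card_range] at h2
  obtain ⟨g, s, hs, e⟩ := tt_simple h.syl h.nab (map_le_range φ X) (by omega) hw
  have := isConj_iff.2 ⟨g, e.symm⟩
  exact ⟨s, hs, this.symm, h.inv_of this hw w1⟩

theorem mem_C : φ s ∈ C{φ c} ↔ s * c = c * s := by
  rw [mem_C1, ← map_mul, ← map_mul, h.eq]

theorem syl_c (hm : ∀ s, IsConj (φ c) (φ s) → cc s ≤ cc c) : Syl 2 C{φ c} (C{c}.map φ) := by
  have hl : C{c}.map φ ≤ C{φ c} := by
    rintro _ ⟨s, hs, rfl⟩; exact h.mem_C.2 (mem_C1.1 hs)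
  obtain ⟨P, hP, hle⟩ := Sylow_superset Nat.prime_two (h.two _) hl
  obtain ⟨k, -, e⟩ := h.pull le_top hP.pi le_top
  obtain ⟨s, hs⟩ := e _ (hle ⟨c, self_mem_C1 c, rfl⟩)
  refine hP.of_card_le hl (h.two _) ?_
  rw [h.card, card_C, ← card_cj k P]
  refine le_trans ?_ (hm s (isConj_iff.2 ⟨k, hs.symm⟩))
  rw [← card_C, ← h.card]
  refine card_le fun p hp => ?_
  obtain ⟨q, hq, rfl⟩ := mem_cj'.1 hp
  obtain ⟨s', hs'⟩ := e q hq
  refine ⟨s', mem_C1.2 (h.mem_C.1 ?_), hs'⟩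
  rw [hs, hs', ← cj_C1]
  exact conj_mem_cj k (hP.le hq)

theorem ext (hS : Syl 2 C{φ c} (C{c}.map φ)) (hc : IsConj (φ s) (φ c)) :
    ∃ g, g * φ s * g⁻¹ = φ c ∧ ∀ w, w * s = s * w → ∃ w', w' * c = c * w' ∧ φ w' = g * φ w * g⁻¹ := by
  obtain ⟨g, e⟩ := isConj_iff.1 hc
  obtain ⟨k, hk, e'⟩ := Sylow_Jsub Nat.prime_two hS ((h.two C{s}).cj g) (by
    rw [← e, ← cj_C1, cj_le_cj]
    rintro _ ⟨s, hs, rfl⟩; exact h.mem_C.2 (mem_C1.1 hs))
  refine ⟨k * g, ?_, fun w hw => ?_⟩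
  · rw [← mem_C1_iff_conj.1 hk, ← e]; group
  · obtain ⟨w', hw', e2⟩ := e' (conj_mem_cj k (conj_mem_cj g ⟨w, mem_C1.2 hw, rfl⟩))
    exact ⟨w', mem_C1.1 hw', by rw [e2]; group⟩

theorem syl_z : Syl 2 C{φ z0} (C{z0}.map φ) :=
  h.syl_c fun s _ => (show ∀ s, cc s ≤ cc z0 by decide +kernel) s

theorem le_Cz : φ.range ≤ C{φ z0} := by
  rintro _ ⟨s, rfl⟩
  exact h.mem_C.2 ((show ∀ s, s * z0 = z0 * s by decide +kernel) s)

omit h in
theorem conj_mul' (g a b : G) : g * (a * b) * g⁻¹ = g * a * g⁻¹ * (g * b * g⁻¹) := by group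

/-- transport of a product relation. -/
theorem rel {s1 s2 s3 r1 r2 r3 : S0} (e1 : φ r1 = g * φ s1 * g⁻¹) (e2 : φ r2 = g * φ s2 * g⁻¹)
    (e3 : φ r3 = g * φ s3 * g⁻¹) : r1 * r2 = r3 ↔ s1 * s2 = s3 := by
  rw [← h.eq, map_mul, e1, e2, e3, ← conj_mul', mul_left_inj, mul_right_inj, ← map_mul, h.eq]

omit h in
theorem mul {s1 s2 r1 r2 : S0} (e1 : φ r1 = g * φ s1 * g⁻¹) (e2 : φ r2 = g * φ s2 * g⁻¹) :
    φ (r1 * r2) = g * φ (s1 * s2) * g⁻¹ := by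
  rw [map_mul, map_mul, e1, e2, conj_mul']

theorem eq' {s1 s2 r1 r2 : S0} (e1 : φ r1 = g * φ s1 * g⁻¹) (e2 : φ r2 = g * φ s2 * g⁻¹) :
    r1 = r2 ↔ s1 = s2 := by
  rw [← h.eq, e1, e2, mul_left_inj, mul_right_inj, h.eq]

omit h in
theorem one (g : G) : φ 1 = g * φ 1 * g⁻¹ := by simp

theorem fuse_zu : IsConj (φ z0) (φ u0) := by
  by_contra hn
  have z2 : z0 * z0 = 1 := by decide +kernel
  have z1 : z0 ≠ 1 := by decide +kernel
  have h2 : ∀ s, IsConj (φ z0) (φ s) → ty s ≠ 2 := fun s hs e =>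
    hn (hs.trans (rep_conj (h.inv_of hs (sq z2) (h.ne_one z1)).1 e).symm)
  have h5 : ∀ s, IsConj (φ z0) (φ s) → s ≠ z0 → ty s = 5 := fun s hs hz => by
    have hi := h.inv_of hs (sq z2) (h.ne_one z1)
    refine ((exists_sq s hi.1).resolve_left (h2 s hs)).resolve_right fun ⟨w, hw, e⟩ => ?_
    obtain ⟨g, e1, e2⟩ := h.ext h.syl_z hs.symm
    obtain ⟨w', -, e3⟩ := e2 w hw
    have e4 := mul e3 e3
    rw [e] at e4
    have hc : IsConj (φ z0) (φ (w' * w')) := isConj_iff.2 ⟨g, e4.symm⟩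
    have hj := h.inv_of hc (sq z2) (h.ne_one z1)
    exact (sq_cases w' hj.2 hj.1).elim (fun e5 => hz ((h.eq' e1.symm e4).1 e5.symm)) (h2 _ hc)
  have hs : ∃ s, IsConj (φ z0) (φ s) ∧ s ≠ z0 := by
    by_contra hne
    push Not at hne
    have := h.simple
    have h1 := zstar_sub h.syl ⟨z0, rfl⟩ (h.ne_one z1) (sq z2) fun g _ ⟨s, e⟩ => by
      rw [← e, hne s (isConj_iff.2 ⟨g, e.symm⟩)]
    have h3 : Od[(⊤ : Subgroup G)] = ⊥ := (nml_top_iff.1 (pcore_nml _ _)).eq_bot_or_eq_top.resolve_right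
      fun e => h.ne_one z1 (eq_one_of_odd_sq ((Od_odd ⊤).piElt (e.ge (mem_top _))) (sq z2))
    rw [h3, le_bot_iff, comm_eq_bot'] at h1
    rcases (nml_top_iff.1 ⟨le_top, norm_of_cent h1⟩).eq_bot_or_eq_top with e | e
    · exact h.ne_one z1 (zpowers_eq_bot.1 e)
    · exact h.nab ((abl_zpowers _).of_le (le_top.trans e.ge))
  obtain ⟨s, hs, hz⟩ := hs
  have e5 := h5 s hs hz
  obtain ⟨g, e1, e2⟩ := h.ext h.syl_z hs.symm
  have f1 : ∀ s, ty s = 5 → u0 * s = s * u0 ∧ ty (s * u0) = 5 ∧ s * u0 ≠ s ∧ ty (z0 * s) = 5 := by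
    decide +kernel
  have f2 : ∀ s, ty s = 5 → IsConj (φ z0) (φ s) := fun s' e => hs.trans
    ((rep_conj (sq_of_ty s (by omega)).1 e5).symm.trans (rep_conj (sq_of_ty s' (by omega)).1 e))
  obtain ⟨a, -, e3⟩ := e2 u0 (f1 s e5).1
  have e4 := mul e1.symm e3
  have e6 := h5 _ ((f2 _ (f1 s e5).2.1).trans (isConj_iff.2 ⟨g, e4.symm⟩)) fun e =>
    (f1 s e5).2.2.1 ((h.eq' e4 e1.symm).1 e)
  have e7 := (f1 _ e6).2.2.2
  rw [← mul_assoc, z2, one_mul] at e7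
  exact hn ((f2 a e7).trans (isConj_iff.2 ⟨g, e3.symm⟩).symm)

theorem syl_N (hX : ∀ g s, s ∈ X → g * s * g⁻¹ ∈ X) : φ.range ≤ N[X.map φ] := by
  rintro _ ⟨g, rfl⟩
  refine mem_N_of_finite ?_
  rintro _ ⟨s, hs, rfl⟩
  exact ⟨_, hX g s hs, by simp only [map_mul, map_inv]⟩

theorem syl_R : Syl 2 C[U0.map φ] (R0.map φ) := by
  have h1 := (h.syl.of_le (h.syl_N (X := U0) (by decide +kernel)) le_top).inf_nml (C_nml_N _)
  convert h1 using 1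
  refine le_antisymm (le_inf (map_le_range _ _) (cent_map (le_C_iff.2 (by decide +kernel)) φ)) ?_
  rintro _ ⟨⟨s, rfl⟩, hs⟩
  exact h.mem.2 ((show ∀ s, s * u0 = u0 * s → s ∈ R0 by decide +kernel) s
    (h.mem_C.1 (C_le_C1 (h.mem.2 (by decide +kernel)) hs)))

theorem k1 (hU : k ∈ C[U0.map φ]) (hA : k ∈ N[A0.map φ]) (hR : k ∈ N[R0.map φ])
    (e : φ s = k * φ t0 * k⁻¹) : s * t0 ∈ U0 := by
  obtain ⟨y, r, hy, hr, hyk, hrk, e1⟩ := exists_piElt_decomp {2} k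
  obtain ⟨s1, hs1, rfl⟩ := h.syl_R.le_of_norm hy.isPi (zpowers_le.2 (zpowers_le.2 hU hyk))
    (zpowers_le.2 (zpowers_le.2 hR hyk)) (mem_zpowers y)
  have rU := zpowers_le.2 hU hrk
  have rA := zpowers_le.2 hA hrk
  have hcA : ∀ a ∈ A0, r * φ a * r⁻¹ = φ a := fun a ha => by
    obtain ⟨b, hb, e2⟩ := conj_mem rA (h.mem.2 ha)
    have f : ∀ a ∈ A0, a * a ∈ U0 ∧ ∀ b ∈ A0, b * b = a * a → a⁻¹ * b ∈ U0 := by decide +kernel
    have e3 := mul e2 e2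
    rw [conj_eq_of_mem_C rU (h.mem.2 (f a ha).1), h.eq] at e3
    exact odd_fix hr (h.twoE (a⁻¹ * b)) (mem_C'.1 rU _ (h.mem.2 ((f a ha).2 b hb e3))) (by
      rw [← e2, ← map_mul, mul_inv_cancel_left])
  obtain ⟨b, hb, e2⟩ := conj_mem (zpowers_le.2 hR hrk) (h.mem.2 (show t0 ∈ R0 by decide +kernel))
  have hbA : b ∉ A0 := fun hb => absurd ((h.eq' e2 (hcA b hb).symm).1 rfl ▸ hb) (by decide +kernel)
  have f : ∀ b ∈ R0, b ∉ A0 → t0⁻¹ * b ∈ A0 := by decide +kernel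
  have e3 := odd_fix (a := φ t0) hr (h.twoE (t0⁻¹ * b)) (mul_inv_eq_iff_eq_mul.1 (hcA _ (f b hb hbA))) (by
    rw [← e2, ← map_mul, mul_inv_cancel_left])
  have e4 : φ s = φ (s1 * t0 * s1⁻¹) := by
    rw [e, e1, map_mul, map_mul, map_inv]
    conv_rhs => rw [← e3]
    group
  rw [h.eq.1 e4]
  exact (show ∀ s ∈ R0, s * t0 * s⁻¹ * t0 ∈ U0 by decide +kernel) s1 hs1

omit h in
theorem gam_conj {x y t : S0} (ex : φ x = g * φ x0 * g⁻¹) (ey : φ y = g * φ y0 * g⁻¹)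
    (et : φ t = g * φ t0 * g⁻¹) (hs : s ∈ R0) : φ (gam x y t s) = g * φ s * g⁻¹ := by
  conv_rhs => rw [← gam_self s hs]
  simp only [gam, map_mul, map_pow, ex, ey, et, conj_pow]
  group

omit h in
theorem conj_conj (e : φ s' = g * φ s * g⁻¹) (c : S0) :
    φ (c * s' * c⁻¹) = φ c * g * φ s * (φ c * g)⁻¹ := by
  rw [map_mul, map_mul, map_inv, e]; group

theorem exists_h0 : ∃ g x y t, φ x = g * φ x0 * g⁻¹ ∧ φ y = g * φ y0 * g⁻¹ ∧ φ t = g * φ t0 * g⁻¹ ∧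
    x ∈ A0 ∧ y ∈ A0 ∧ x * x = z0 ∧ y * y = u0 := by
  obtain ⟨g, e1, e2⟩ := h.ext h.syl_z h.fuse_zu.symm
  obtain ⟨x, -, ex⟩ := e2 x0 (by decide +kernel)
  obtain ⟨y, -, ey⟩ := e2 y0 (by decide +kernel)
  obtain ⟨t, -, et⟩ := e2 t0 (by decide +kernel)
  have hx : x * x = z0 := (h.rel ex ex e1.symm).2 (by decide +kernel)
  obtain ⟨h1, h2, h3⟩ := h_A x hx y ((h.rel ex ey (mul ey ex)).2 (by decide +kernel))
    (mt (h.rel ey ey (one g)).1 (by decide +kernel)) (mt (h.rel ey ey e1.symm).1 (by decide +kernel))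
    ((h.rel (mul ey ey) (mul ey ey) (one g)).2 (by decide +kernel))
    (mt (h.rel (mul ex ey) (mul ex ey) (one g)).1 (by decide +kernel))
    (mt (h.rel (mul ex ey) (mul ex ey) e1.symm).1 (by decide +kernel))
  rcases h3 with h3 | h3
  · exact ⟨g, x, y, t, ex, ey, et, h1, h2, hx, h3⟩
  · have f : ∀ a ∈ A0, e0 * a * e0⁻¹ ∈ A0 := by decide +kernel
    exact ⟨φ e0 * g, _, _, _, conj_conj ex e0, conj_conj ey e0, conj_conj et e0, f x h1, f y h2, h3⟩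

theorem exists_h1 : ∃ g x y t, φ x = g * φ x0 * g⁻¹ ∧ φ y = g * φ y0 * g⁻¹ ∧ φ t = g * φ t0 * g⁻¹ ∧
    x ∈ A0 ∧ y ∈ A0 ∧ x * x = z0 ∧ y * y = u0 ∧ (t * t0 ∈ U0 ∨ x * y * t * t1 ∈ U0) := by
  obtain ⟨g, x, y, t, ex, ey, et, h1, h2, h3, h4⟩ := h.exists_h0
  refine ⟨g, x, y, t, ex, ey, et, h1, h2, h3, h4, ?_⟩
  have inv : ∀ {a b : S0}, φ a = g * φ b * g⁻¹ → φ a⁻¹ = g * φ b⁻¹ * g⁻¹ := fun e => by
    rw [map_inv, map_inv, e]; group
  obtain ⟨f1, f2⟩ := h_R x h1 h3 y h2 h4 t ((h.rel (mul et ex) (inv et) (inv ex)).2 (by decide +kernel))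
    ((h.rel (mul et ey) (inv et) (inv ey)).2 (by decide +kernel))
  have key : ∀ s ∈ R0, φ (e0 * gam x y t (e0 * gam x y t s * e0⁻¹) * e0⁻¹) =
      φ e0 * g * (φ e0 * g) * φ s * (φ e0 * g * (φ e0 * g))⁻¹ := fun s hs => by
    rw [conj_conj (gam_conj ex ey et (f1 s hs).1), conj_conj (gam_conj ex ey et hs)]; group
  have hUR : U0 ≤ R0 := by intro s; revert s; decide +kernel
  have hAR : A0 ≤ R0 := by intro s; revert s; decide +kernel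
  have e5 : gam x y t t0 = t := by simp [gam, show t0.n = 16 from rfl]
  refine f2 (h.k1 (k := φ e0 * g * (φ e0 * g)) (mem_C'.2 ?_) (mem_N_of_finite ?_) (mem_N_of_finite ?_)
    (by rw [← key t0 (by decide +kernel), e5]))
  · rintro _ ⟨s, hs, rfl⟩
    rw [← mul_inv_eq_iff_eq_mul, ← key s (hUR hs), (f1 s (hUR hs)).2.1 hs]
  · rintro _ ⟨s, hs, rfl⟩
    exact ⟨_, (f1 s (hAR hs)).2.2 hs, key s (hAR hs)⟩
  · rintro _ ⟨s, hs, rfl⟩
    exact ⟨_, (f1 _ (f1 s hs).1).1, key s hs⟩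

theorem alp : Emb (φ.comp alp) := by
  refine ⟨h.inj.comp alp_inj, ?_, h.simple⟩
  rw [MonoidHom.range_comp, MonoidHom.range_eq_top.2 (Finite.surjective_of_injective alp_inj),
    ← φ.range_eq_map]
  exact h.syl

end Emb

/-- the element of order three modulo `C(U)` which centralizes `t`. -/
structure Fr (φ : S0 →* G) (g : G) : Prop extends Emb φ where
  hu : φ z0 = g * φ u0 * g⁻¹
  hv : φ u0 = g * φ v0 * g⁻¹
  ht : φ t0 = g * φ t0 * g⁻¹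
  h2 : ∃ s, ty s = 4 ∧ φ s = g * φ t2 * g⁻¹
  h3 : ∃ s, ty s = 5 ∧ φ s = g * φ t3 * g⁻¹

theorem Emb.fr0 (h : Emb φ) {x y t : S0} (ex : φ x = g * φ x0 * g⁻¹) (ey : φ y = g * φ y0 * g⁻¹)
    (et : φ t = g * φ t0 * g⁻¹) (h1 : x ∈ A0) (h2 : y ∈ A0) (h3 : x * x = z0) (h4 : y * y = u0)
    (h5 : t * t0 ∈ U0) : ∃ g, Fr φ g := by
  have f : ∀ t, t * t0 ∈ U0 → ∃ a, a * t * a⁻¹ = t0 ∧ ∀ x ∈ A0, a * x * a⁻¹ = x := by decide +kernel
  obtain ⟨a, ha, ha'⟩ := f t h5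
  have ex' := Emb.conj_conj ex a
  have ey' := Emb.conj_conj ey a
  have et' := Emb.conj_conj et a
  rw [ha' x h1] at ex'
  rw [ha' y h2] at ey'
  rw [ha] at et'
  have f2 : ∀ x ∈ A0, (x * x = z0 → ty (x * t0) = 4) ∧ (x * x = u0 → ty (x * t0) = 5) := by
    decide +kernel
  refine ⟨φ a * g, h, ?_, ?_, et', ⟨_, (f2 x h1).1 h3, ?_⟩, ⟨_, (f2 y h2).2 h4, ?_⟩⟩
  · rw [← h3, Emb.mul ex' ex', show x0 * x0 = u0 by decide +kernel]
  · rw [← h4, Emb.mul ey' ey', show y0 * y0 = v0 by decide +kernel]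
  · rw [Emb.mul ex' et', show x0 * t0 = t2 by decide +kernel]
  · rw [Emb.mul ey' et', show y0 * t0 = t3 by decide +kernel]

theorem Emb.fr (h : Emb φ) : ∃ (ψ : S0 →* G) (g : G), Fr ψ g := by
  obtain ⟨g, x, y, t, ex, ey, et, h1, h2, h3, h4, h5 | h5⟩ := h.exists_h1
  · exact ⟨φ, h.fr0 ex ey et h1 h2 h3 h4 h5⟩
  · have f : ∀ s, s * t1 ∈ U0 → ∃ s', s' * t0 ∈ U0 ∧ gam x0 y0 t1 s' * e0 ^ (s'.n / 32) = s := by
      decide +kernel
    obtain ⟨s, hs, e⟩ := f _ h5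
    refine ⟨_, h.alp.fr0 (g := g) (t := s) ?_ ?_ ?_ h1 h2 h3 h4 hs⟩
    · rw [φ.comp_apply, φ.comp_apply, alp_A x h1, alp_A x0 (by decide +kernel), ex]
    · rw [φ.comp_apply, φ.comp_apply, alp_A y h2, alp_A y0 (by decide +kernel), ey]
    · rw [φ.comp_apply, φ.comp_apply, alp_t, ← Emb.mul (Emb.mul ex ey) et, ← e]; rfl

end H25.Tw
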