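import Mathlib
import Cfsg.Agent.H25.TwF

/-!
# The fusion pattern in the case of two classes
-/

set_option autoImplicit false
set_option linter.unusedSectionVars false
set_option maxRecDepth 100000
set_option synthInstance.maxSize 4000

open Cfsg H24 H26 H26.Gold Subgroup
open scoped commutatorElement

namespace H25.Tw

universe u

variable {G : Type u} [Group G] [Finite G] {φ : S0 →* G} {K L P : Subgroup G} {a b g k r w : G}
  {c s s' : S0} {X Y : Subgroup S0}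

def H1169 (G : Type u) [Group G] : Prop := ∀ S A : Subgroup G, Syl 2 ⊤ S → A ≠ ⊥ → Abl A →
  IsStronglyClosed A S → Abl S ∨ ∃ H : Subgroup G, IsStronglyEmbedded H

theorem Abl.of_le_C (h : ∀ a ∈ X, ∀ b ∈ X, a * b = b * a) : Abl X := H24.abl_iff.2 (le_C_iff.2 h)

theorem z2 : z0 * z0 = 1 := by decide +kernel
theorem z1 : z0 ≠ 1 := by decide +kernel

theorem ord2 (h2 : w * w = 1) (h1 : w ≠ 1) : orderOf w = 2 :=
  orderOf_eq_prime (by rw [pow_two, h2]) h1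

theorem Emb.conj12 (h : Emb φ) (e : ty s = 1 ∨ ty s = 2) : IsConj (φ z0) (φ s) :=
  e.elim (fun e => Emb.rep_conj (sq_of_ty s (by omega)).1 e) fun e =>
    h.fuse_zu.trans (Emb.rep_conj (sq_of_ty s (by omega)).1 e)

theorem Emb.syl16 (h : Emb φ) (hn : ¬ IsConj (φ z0) (φ c)) (h1 : ty c ≠ 0) (hc : cc c = 16) :
    Syl 2 C{φ c} (C{c}.map φ) := h.syl_c fun s hs => by
  have hi := h.inv_of hs (Emb.sq (sq_of_ty c h1).1) (h.ne_one (sq_of_ty c h1).2)
  rcases cc_le s hi.1 hi.2 with e | e | e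
  · exact absurd ((h.conj12 (Or.inl e)).trans hs.symm) hn
  · exact absurd ((h.conj12 (Or.inr e)).trans hs.symm) hn
  · omega

theorem Fr.t12 (h : Fr φ g) : IsConj (φ t1) (φ t2) := by
  obtain ⟨s, e, e'⟩ := h.h2
  exact (Emb.rep_conj (sq_of_ty s (by omega)).1 e).trans (isConj_iff.2 ⟨g, e'.symm⟩).symm

structure Pat (φ : S0 →* G) (g : G) : Prop extends Fr φ g where
  nzt : ¬ IsConj (φ z0) (φ t0)
  zt1 : IsConj (φ z0) (φ t1)
  te : IsConj (φ t0) (φ e0)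
  tf : IsConj (φ t0) (φ f0)

theorem Fr.pat (h : Fr φ g) (hG : H1169 G)
    (h2 : ∃ x y : G, orderOf x = 2 ∧ orderOf y = 2 ∧ ¬ IsConj x y) : Pat φ g := by
  obtain ⟨a, b, ha, hb, hab⟩ := h2
  have nall : ¬ ∀ w : G, w * w = 1 → w ≠ 1 → IsConj (φ z0) w := fun e => hab
    ((e a (H6.mul_self_of_orderOf_two ha) (H6.ne_one_of_orderOf_two ha)).symm.trans
      (e b (H6.mul_self_of_orderOf_two hb) (H6.ne_one_of_orderOf_two hb)))
  have allE : ∀ w : G, w * w = 1 → w ≠ 1 → IsConj (φ z0) w ∨ IsConj (φ e0) w := fun w w2 w1 => by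
    obtain ⟨s, hs, e, s2, s1⟩ := h.into card_Ma w2 w1
    rcases ty_Ma s hs s2 s1 with e1 | e1 | e1
    · exact Or.inl ((h.conj12 (Or.inl e1)).trans e)
    · exact Or.inl ((h.conj12 (Or.inr e1)).trans e)
    · exact Or.inr ((Emb.rep_conj s2 e1).trans e)
  have allF : ∀ w : G, w * w = 1 → w ≠ 1 → IsConj (φ z0) w ∨ IsConj (φ f0) w := fun w w2 w1 => by
    obtain ⟨s, hs, e, s2, s1⟩ := h.into card_Mb w2 w1
    rcases ty_Mb s hs s2 s1 with e1 | e1 | e1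
    · exact Or.inl ((h.conj12 (Or.inl e1)).trans e)
    · exact Or.inl ((h.conj12 (Or.inr e1)).trans e)
    · exact Or.inr ((Emb.rep_conj s2 e1).trans e)
  have allT : ∀ w : G, w * w = 1 → w ≠ 1 → IsConj (φ z0) w ∨ IsConj (φ t0) w ∨ IsConj (φ t1) w :=
    fun w w2 w1 => by
    obtain ⟨s, hs, e, s2, s1⟩ := h.into card_Mc w2 w1
    rcases ty_Mc s hs s2 s1 with e1 | e1 | e1 | e1
    · exact Or.inl ((h.conj12 (Or.inl e1)).trans e)
    · exact Or.inl ((h.conj12 (Or.inr e1)).trans e)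
    · exact Or.inr (Or.inl ((Emb.rep_conj s2 e1).trans e))
    · exact Or.inr (Or.inr ((Emb.rep_conj s2 e1).trans e))
  have ze : ¬ IsConj (φ z0) (φ e0) := fun e => nall fun w w2 w1 => (allE w w2 w1).elim id e.trans
  have zf : ¬ IsConj (φ z0) (φ f0) := fun e => nall fun w w2 w1 => (allF w w2 w1).elim id e.trans
  have oth : ∀ s, ty s ≠ 0 → ¬ IsConj (φ z0) (φ s) → IsConj (φ e0) (φ s) := fun s hs hn =>
    (allE _ (Emb.sq (sq_of_ty s hs).1) (h.ne_one (sq_of_ty s hs).2)).resolve_left hn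
  have low : ¬ IsConj (φ z0) (φ t1) → ∀ s, IsConj (φ z0) (φ s) → ty s = 1 ∨ ty s = 2 ∨ ty s = 3 :=
    fun hn s hs => by
    have hi := h.inv_of hs (Emb.sq z2) (h.ne_one z1)
    rcases ty_cases s hi.1 hi.2 with e | e | e | e | e | e | e
    · exact Or.inl e
    · exact Or.inr (Or.inl e)
    · exact Or.inr (Or.inr e)
    · exact absurd (hs.trans (Emb.rep_conj hi.1 e).symm) hn
    · exact absurd ((hs.trans (Emb.rep_conj hi.1 e).symm).trans h.t12.symm) hn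
    · exact absurd (hs.trans (Emb.rep_conj hi.1 e).symm) ze
    · exact absurd (hs.trans (Emb.rep_conj hi.1 e).symm) zf
  by_cases zt : IsConj (φ z0) (φ t0)
  · exfalso
    have zt1 : ¬ IsConj (φ z0) (φ t1) := fun e => nall fun w w2 w1 =>
      (allT w w2 w1).elim id fun e' => e'.elim zt.trans e.trans
    have f : ∀ s, (s ∈ F0 ↔ s = 1 ∨ ty s = 1 ∨ ty s = 2 ∨ ty s = 3) ∧
        (s ∈ F0 → ∀ s' ∈ F0, s * s' = s' * s) := by decide +kernel
    refine (hG _ (F0.map φ) h.syl (ne_bot_of_mem (h.mem.2 (show z0 ∈ F0 by decide +kernel)) (h.ne_one z1))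
      (Abl.map (Abl.of_le_C fun s hs => (f s).2 hs) φ) ⟨map_le_range _ _, ?_⟩).elim h.nab
      fun ⟨H, hH⟩ => hab (isConj_iff.2 (H26.BR.conj_of_se hH ha hb))
    rintro _ ⟨s, hs, rfl⟩ k ⟨s', e⟩
    rw [← e]
    refine h.mem.2 ((f s').1.2 ?_)
    have hc : IsConj (φ s) (φ s') := isConj_iff.2 ⟨k, e.symm⟩
    rcases (f s).1.1 hs with e1 | e1 | e1 | e1
    · rw [e1, map_one, isConj_one_right] at hc
      exact Or.inl (h.inj (hc.trans φ.map_one.symm))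
    · exact Or.inr (low zt1 _ ((h.conj12 (Or.inl e1)).trans hc))
    · exact Or.inr (low zt1 _ ((h.conj12 (Or.inr e1)).trans hc))
    · exact Or.inr (low zt1 _ ((zt.trans (Emb.rep_conj (sq_of_ty s (by omega)).1 e1)).trans hc))
  have te := (oth t0 (by decide +kernel) zt).symm
  refine ⟨h, zt, by_contra fun zt1 => ?_, te, te.trans (oth f0 (by decide +kernel) zf)⟩
  obtain ⟨k, -, e⟩ := h.ext (h.syl16 ze (by decide +kernel) (by decide +kernel)) te
  have f : ∀ w, w * t0 = t0 * w → ty w = 2 → φ z0 = k * φ w * k⁻¹ := fun w hw hty => by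
    obtain ⟨w', h1, h2⟩ := e w hw
    have h3 := (h.conj12 (Or.inr hty)).trans (isConj_iff.2 ⟨k, h2.symm⟩)
    rcases low zt1 _ h3 with e1 | e1 | e1
    · rw [← h2, (show ∀ s, ty s = 1 → s = z0 by decide +kernel) w' e1]
    · exact absurd h1 ((show ∀ s, ty s = 2 → s * e0 ≠ e0 * s by decide +kernel) w' e1)
    · exact absurd (h3.trans (Emb.rep_conj (sq_of_ty w' (by omega)).1 e1).symm) zt
  exact absurd ((h.eq' (f u0 (by decide +kernel) (by decide +kernel))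
    (f v0 (by decide +kernel) (by decide +kernel))).1 rfl) (by decide +kernel)

abbrev ze (s : S0) : Prop := ty s = 1 ∨ ty s = 2 ∨ ty s = 4 ∨ ty s = 5
abbrev ta (s : S0) : Prop := ty s = 3 ∨ ty s = 6 ∨ ty s = 7

namespace Pat

variable (h : Pat φ g)
include h

theorem of_ze (e : ze s) : IsConj (φ z0) (φ s) := by
  have s2 := (sq_of_ty s (by omega)).1
  rcases e with e | e | e | e
  · exact h.conj12 (Or.inl e)
  · exact h.conj12 (Or.inr e)
  · exact h.zt1.trans (Emb.rep_conj s2 e)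
  · exact (h.zt1.trans h.t12).trans (Emb.rep_conj s2 e)

theorem of_ta (e : ta s) : IsConj (φ t0) (φ s) := by
  have s2 := (sq_of_ty s (by omega)).1
  rcases e with e | e | e
  · exact Emb.rep_conj s2 e
  · exact h.te.trans (Emb.rep_conj s2 e)
  · exact h.tf.trans (Emb.rep_conj s2 e)

theorem ze_iff : IsConj (φ z0) (φ s) ↔ ze s := by
  refine ⟨fun e => by_contra fun hn => ?_, h.of_ze⟩
  have hi := h.inv_of e (Emb.sq z2) (h.ne_one z1)
  have := ty_cases s hi.1 hi.2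
  exact h.nzt (e.trans (h.of_ta (by omega)).symm)

theorem ta_iff : IsConj (φ t0) (φ s) ↔ ta s := by
  refine ⟨fun e => by_contra fun hn => ?_, h.of_ta⟩
  have hi := h.inv_of e (Emb.sq (by decide +kernel)) (h.ne_one (by decide +kernel))
  have := ty_cases s hi.1 hi.2
  exact h.nzt ((h.of_ze (by omega)).trans e.symm)

theorem ze_conj (hs : ze s) (e : φ s' = k * φ s * k⁻¹) : ze s' :=
  h.ze_iff.1 ((h.of_ze hs).trans (isConj_iff.2 ⟨k, e.symm⟩))

theorem ta_conj (hs : ta s) (e : φ s' = k * φ s * k⁻¹) : ta s' :=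
  h.ta_iff.1 ((h.of_ta hs).trans (isConj_iff.2 ⟨k, e.symm⟩))

theorem two_classes (w2 : w * w = 1) (w1 : w ≠ 1) : IsConj (φ z0) w ∨ IsConj (φ t0) w := by
  obtain ⟨k, -, s, e⟩ := h.pull1 le_top w2 (mem_top w)
  have hc : IsConj w (φ s) := isConj_iff.2 ⟨k, e.symm⟩
  have hi := h.inv_of hc w2 w1
  have := ty_cases s hi.1 hi.2
  by_cases e1 : ze s
  · exact Or.inl ((h.of_ze e1).trans hc.symm)
  · exact Or.inr ((h.of_ta (by omega)).trans hc.symm)

theorem syl_ta (hc : ta c) : Syl 2 C{φ c} (C{c}.map φ) :=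
  h.syl16 (fun e => h.nzt (e.trans (h.of_ta hc).symm)) (by omega)
    ((show ∀ c, ta c → cc c = 16 by decide +kernel) c hc)

/-- the involutions of `S` in the second class are conjugate in `C(z)`. -/
theorem conj_C (hc : ta c) : ∃ k ∈ C{φ z0}, φ c = k * φ t0 * k⁻¹ := by
  obtain ⟨k, e1, e⟩ := h.ext (h.syl_ta hc) (h.of_ta hc)
  obtain ⟨w, h1, h2⟩ := e (u0 * e0) (by decide +kernel)
  have h3 := Emb.mul h2 h2
  rw [show u0 * e0 * (u0 * e0) = z0 by decide +kernel] at h3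
  refine ⟨k, mem_C1_iff_conj.2 ?_, e1.symm⟩
  rw [← h3, (show ∀ c, ta c → ∀ w, w * c = c * w → w * w ≠ 1 → w * w = z0 by decide +kernel) c hc w h1
    (mt (h.eq' h3 (Emb.one k)).1 z1)]

theorem Q_le (hK : ∀ s, ta s → φ s ∈ K) : Q0.map φ ≤ K := by
  rintro _ ⟨q, hq, rfl⟩
  obtain ⟨i, -, j, -, a, -, b, -, e⟩ := (show ∀ q ∈ Q0, ∃ i < 4, ∃ j < 2, ∃ a < 2, ∃ b < 2,
    q = (el 45 * e0) ^ i * (el 24 * t0) ^ j * t0 ^ a * e0 ^ b by decide +kernel) q hq
  have h1 := hK t0 (by decide +kernel)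
  have h2 := hK e0 (by decide +kernel)
  rw [e]
  simp only [map_mul, map_pow]
  exact mul_mem (mul_mem (mul_mem (pow_mem (mul_mem (hK _ (by decide +kernel)) h2) _)
    (pow_mem (mul_mem (hK _ (by decide +kernel)) h1) _)) (pow_mem h1 _)) (pow_mem h2 _)

/-- `Q` is weakly closed. -/
theorem mem_NQ (hk : ∀ p ∈ Q0.map φ, ∃ s, φ s = k * p * k⁻¹) : k ∈ N[Q0.map φ] := by
  have f : ∀ s, ta s → s ∈ Q0 := by decide +kernel
  refine mem_N_of_cj_le (cj_le_iff.2 (h.Q_le fun s hs => ?_))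
  obtain ⟨s', e⟩ := hk _ (h.mem.2 (f s hs))
  rw [mem_cj, inv_inv, ← e]
  exact h.mem.2 (f s' (h.ta_conj hs e))

theorem NQ_le : N[Q0.map φ] ≤ C{φ z0} := fun k hk => by
  obtain ⟨w, hw, e⟩ := conj_mem hk (h.mem.2 (show u0 * e0 ∈ Q0 by decide +kernel))
  have h3 := Emb.mul e e
  rw [show u0 * e0 * (u0 * e0) = z0 by decide +kernel] at h3
  rw [mem_C1_iff_conj, ← h3, (show ∀ w ∈ Q0, w * w ≠ 1 → w * w = z0 by decide +kernel) w hw
    (mt (h.eq' h3 (Emb.one k)).1 z1)]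

theorem le_NQ : φ.range ≤ N[Q0.map φ] := h.syl_N (by decide +kernel)

theorem NQ_E : N[Q0.map φ] ≤ N[E0.map φ] := fun k hk => mem_N_of_finite (by
  rintro _ ⟨s, hs, rfl⟩
  have f : ∀ s, s ∈ E0 ↔ s ∈ Q0 ∧ (s = 1 ∨ ze s) := by decide +kernel
  obtain ⟨s', hs', e⟩ := conj_mem hk (h.mem.2 ((f s).1 hs).1)
  exact ⟨s', (f s').2 ⟨hs', ((f s).1 hs).2.imp (h.eq' e (Emb.one k)).2 fun e1 => h.ze_conj e1 e⟩, e⟩)

/-- `t₂` is not conjugate into `Q` in `C(z)`. -/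
theorem not_Q (hk : k ∈ C{φ z0}) (hs : ty s = 5) : k * φ s * k⁻¹ ∉ Q0.map φ := by
  rintro ⟨c, hc, e⟩
  obtain ⟨b, hb, eb⟩ := (show ∀ s, ty s = 5 → ∃ b, ze b ∧ s * b * (s * b) = z0 by decide +kernel) s hs
  have f : ∀ c ∈ Q0, ∀ q ∈ Q0, q * c * q⁻¹ = c ∨ q * c * q⁻¹ = c * z0 := by decide +kernel
  have hV : ∀ n ∈ C{φ z0}, n * φ c * n⁻¹ = φ c ∨ n * φ c * n⁻¹ = φ c * φ z0 →
      n ∈ N[zpowers (φ z0) ⊔ zpowers (φ c)] := fun n hn e => mem_N_of_cj_le (by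
    rw [cj_sup, cj_zpowers, cj_zpowers, mem_C1_iff_conj.1 hn]
    refine sup_le le_sup_left (zpowers_le.2 ?_)
    rcases e with e | e <;> rw [e]
    · exact mem_sup_right (mem_zpowers _)
    · exact mul_mem (mem_sup_right (mem_zpowers _)) (mem_sup_left (mem_zpowers _)))
  obtain ⟨P, hP, hQ⟩ := Sylow_superset Nat.prime_two (M := C{φ z0} ⊓ N[zpowers (φ z0) ⊔ zpowers (φ c)])
    (h.two Q0) (by
      rintro _ ⟨q, hq, rfl⟩
      refine ⟨h.le_Cz ⟨q, rfl⟩, hV _ (h.le_Cz ⟨q, rfl⟩) ?_⟩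
      simpa only [← h.eq, map_mul, map_inv] using f c hc q hq)
  have s2 := (sq_of_ty s (by omega)).1
  have b2 := (sq_of_ty b (by omega)).1
  have hb' : k * φ b * k⁻¹ ∈ C{φ z0} := mul_mem (mul_mem hk (h.le_Cz ⟨b, rfl⟩)) (inv_mem hk)
  obtain ⟨n, hn, e1⟩ := Sylow_Jsub Nat.prime_two hP ((h.twoE b).conj k).isPi (zpowers_le.2 ⟨hb', hV _ hb'
    (Or.inr (by
      have : φ b * φ s * (φ b)⁻¹ = φ s * φ z0 := by
        rw [← eb, ← map_mul, ← map_inv, ← map_mul, ← map_mul, H6.inv_eq_of_mul_self b2, ← mul_assoc,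
          ← mul_assoc, ← mul_assoc, s2, one_mul]
      rw [e, ← mem_C1_iff_conj.1 hk, ← Emb.conj_mul' k (φ s), ← this]; group))⟩)
  obtain ⟨d, -, e2⟩ := h.pull le_top hP.pi le_top
  have hd := h.mem_NQ fun p hp => e2 p (hQ hp)
  obtain ⟨b', e3⟩ := e2 _ (e1 (conj_mem_cj n (mem_zpowers _)))
  obtain ⟨c', hc', e4⟩ := conj_mem hd ((sup_le (zpowers_le.2 (h.mem.2 (show z0 ∈ Q0 by decide +kernel)))
    (zpowers_le.2 (h.mem.2 hc))) (conj_mem hn.2 (mem_sup_right (mem_zpowers _))))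
  have e5 : φ b' = d * n * k * φ b * (d * n * k)⁻¹ := by rw [e3]; group
  have e6 : φ c' = d * n * k * φ s * (d * n * k)⁻¹ := by rw [e4, e]; group
  exact (show ∀ c ∈ Q0, ze c → ∀ b, ze b → c * b * (c * b) ≠ z0 by decide +kernel) c' hc'
    (h.ze_conj (by omega) e6) b' (h.ze_conj hb e5) ((h.rel (Emb.mul e6 e5) (Emb.mul e6 e5)
      (mem_C1_iff_conj.1 (mul_mem (mul_mem (h.NQ_le hd) hn.1) hk)).symm).2 eb)

end Pat

end H25.Tw
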