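import Mathlib
import Cfsg.Agent.H25.TwP

/-!
# The centralizer of the central involution
-/

set_option autoImplicit false
set_option linter.unusedSectionVars false
set_option maxRecDepth 100000
set_option synthInstance.maxSize 4000

open Cfsg H24 H26 H26.Gold Subgroup
open scoped commutatorElement

namespace H25.Tw

universe u

variable {G : Type u} [Group G] [Finite G] {φ : S0 →* G} {K L P : Subgroup G} {a b g k r w x : G}
  {c s s' : S0} {X Y : Subgroup S0}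

def H1175 (G : Type u) [Group G] : Prop := ∀ (M S : Subgroup G) (z : G), M ≠ ⊤ → z * z = 1 → z ≠ 1 → z ∈ M →
  Syl 2 ⊤ S → z ∈ S → S ≤ C{z} → (∀ g : G, g * z * g⁻¹ ∈ M → g ∈ M) →
  (∀ g : G, z * (g * z * g⁻¹) = g * z * g⁻¹ * z → g * z * g⁻¹ ≠ z → C{z * (g * z * g⁻¹)} ≤ M) →
  ∃ H : Subgroup G, IsStronglyEmbedded H

theorem mem_zpowers_sq (hx : x * x = 1) (hy : a ∈ zpowers x) : a = 1 ∨ a = x := by
  obtain ⟨n, rfl⟩ := (mem_powers_iff_mem_zpowers.2 hy : a ∈ Submonoid.powers x)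
  show x ^ n = 1 ∨ x ^ n = x
  rcases Nat.even_or_odd' n with ⟨m, rfl | rfl⟩
  · left; rw [pow_mul, pow_two, hx, one_pow]
  · right; rw [pow_succ, pow_mul, pow_two, hx, one_pow, one_mul]

namespace Pat

variable (h : Pat φ g)
include h

theorem odd_cent (hr : OddE r) (hn : r ∈ N[Q0.map φ]) (hs : s ∈ Q0) (h1 : s ≠ 1) (hz : s ≠ z0)
    (e : r * φ s * r⁻¹ = φ s ∨ r * φ s * r⁻¹ = φ s * φ z0) : r ∈ C[Q0.map φ] := by
  have rz := mem_C1.1 (h.NQ_le hn)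
  have e1 : φ s = r * φ s * r⁻¹ := (e.elim id (odd_fix hr (h.twoE _) rz)).symm
  obtain ⟨a, ha, f1, f2, f3⟩ := (show ∀ s ∈ Q0, s ≠ 1 → s ≠ z0 → ∃ a ∈ E0, (a ≠ 1 ∧ a ≠ z0 ∧ a * s = s * a) ∧
    (s = a ∨ ∀ b ∈ E0, b * s = s * b → b = 1 ∨ b = z0 ∨ b = a ∨ b = a * z0) ∧
    ∀ b ∈ E0, b = 1 ∨ b = z0 ∨ b = a ∨ b = a * z0 ∨ ∀ d ∈ E0, d = 1 ∨ d = z0 ∨ d = a ∨ d = a * z0 ∨
      b⁻¹ * d = 1 ∨ b⁻¹ * d = z0 ∨ b⁻¹ * d = a ∨ b⁻¹ * d = a * z0 by decide +kernel) s hs h1 hz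
  have ez : φ z0 = r * φ z0 * r⁻¹ := (mul_inv_eq_iff_eq_mul.2 rz).symm
  have ea : φ a = r * φ a * r⁻¹ := by
    rcases f2 with rfl | f2
    · exact e1
    obtain ⟨b, hb, e2⟩ := conj_mem (h.NQ_E hn) (h.mem.2 ha)
    rcases f2 b hb ((h.rel e2 e1 (Emb.mul e1 e2)).2 f1.2.2) with e3 | e3 | e3 | e3
    · exact absurd ((h.eq' e2 (Emb.one r)).1 e3) f1.1
    · exact absurd ((h.eq' e2 ez).1 e3) f1.2.1
    · rwa [e3] at e2
    · exact (odd_fix hr (h.twoE _) rz (by rw [← e2, e3, map_mul])).symm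
  have eV : ∀ b, b = 1 ∨ b = z0 ∨ b = a ∨ b = a * z0 → φ b = r * φ b * r⁻¹ := by
    rintro _ (rfl | rfl | rfl | rfl)
    exacts [Emb.one r, ez, ea, Emb.mul ea ez]
  have hE : E0.map φ ≤ C[zpowers r] := by
    rintro _ ⟨b, hb, rfl⟩
    rw [C_zpowers, mem_C1_comm, mem_C1_iff_conj]
    obtain ⟨d, hd, e2⟩ := conj_mem (h.NQ_E hn) (h.mem.2 hb)
    rcases or_assoc.2 (or_assoc.2 (or_assoc.2 (f3 b hb))) with e3 | e3
    · exact (eV b (or_assoc.1 (or_assoc.1 e3))).symm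
    rcases or_assoc.2 (or_assoc.2 (or_assoc.2 (e3 d hd))) with e4 | e4
    · have e5 := eV d (or_assoc.1 (or_assoc.1 e4))
      rw [← e2, (h.eq' e2 e5).1 rfl]
    · exact odd_fix hr (h.twoE (b⁻¹ * d)) (mul_inv_eq_iff_eq_mul.1 (eV _ e4).symm) (by
        rw [← e2, ← map_mul, mul_inv_cancel_left])
  have hEQ : E0.map φ ≤ Q0.map φ := map_mono (by intro s; revert s; decide +kernel)
  refine coprime_nil_faithful_cent_stab (zpowers_le.2 hn) (cop hr.isPi (h.two _)).symm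
    ((h.two _).nil Nat.prime_two) ((inf_le_inf_left _ (C_anti (le_inf hEQ hE))).trans
      (le_trans ?_ (le_inf hEQ hE))) (mem_zpowers r)
  rintro _ ⟨⟨q, hq, rfl⟩, hc⟩
  exact h.mem.2 ((show ∀ q ∈ Q0, q * u0 = u0 * q → q * t1 = t1 * q → q ∈ E0 by decide +kernel) q hq
    (h.mem_C.1 (C_le_C1 (h.mem.2 (by decide +kernel)) hc))
    (h.mem_C.1 (C_le_C1 (h.mem.2 (by decide +kernel)) hc)))

theorem card_z : ♯(zpowers (φ z0)) = 2 := by
  rw [card_zpowers', ord2 (Emb.sq z2) (h.ne_one z1)]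

theorem z_le_Q : zpowers (φ z0) ≤ Q0.map φ := zpowers_le.2 (h.mem.2 (by decide +kernel))

theorem C_le : C{φ z0} ≤ N[Q0.map φ] ⊔ Od[C{φ z0}] := by
  have h2 := card_mul_relIndex (map_le_range φ Q0)
  rw [h.card, card_Q0, h.card_range] at h2
  have hS := h.syl.of_le h.le_Cz le_top
  have hφ : ∀ s, φ s ∈ C{φ z0} := fun s => h.le_Cz ⟨s, rfl⟩
  obtain ⟨κ, hκ, h3⟩ := tt hS (map_le_range φ Q0) (by omega) (hφ t2) (Emb.sq (by decide +kernel))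
    fun k hk => h.not_Q hk (by decide +kernel)
  have h4 : ∀ s, ta s → (κ (φ s) ↔ κ (φ t0)) := fun s hs => by
    obtain ⟨k, hk, e⟩ := h.conj_C hs
    rw [e, hκ.conj hk (hφ _)]
  have h5 : κ (φ t0) := by
    have := hκ _ (hφ t0) _ (hφ e0)
    rw [← map_mul, h4 _ (by decide +kernel), h4 e0 (by decide +kernel)] at this
    tauto
  have hQ : Q0.map φ ≤ hκ.sub := h.Q_le fun s hs => ⟨hφ s, (h4 s hs).2 h5⟩
  have hQS : Syl 2 hκ.sub (Q0.map φ) := by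
    convert hS.inf_nml hκ.nml using 1
    refine le_antisymm (le_inf (map_le_range _ _) hQ) ?_
    rintro _ ⟨⟨s, rfl⟩, -, hs⟩
    by_contra hn
    have := (hQ (h.mem.2 ((show ∀ s, s ∉ Q0 → s * t2 ∈ Q0 by decide +kernel) s (mt h.mem.2 hn)))).2
    rw [map_mul, hκ _ (hφ _) _ (hφ _)] at this
    exact h3 (this.1 hs)
  have hc : hκ.sub ≤ C[zpowers (φ z0)] := by rw [C_zpowers]; exact hκ.nml.1
  obtain ⟨Y, _, _, f, hf⟩ := H8.PC.exists_quo ⟨h.z_le_Q.trans hQ, norm_of_cent hc⟩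
  have hE : EA (img f (Q0.map φ)) := ea_of_sq fun b hb => by
    obtain ⟨_, ⟨q, hq, rfl⟩, rfl⟩ := (mem_img_of_le hQ).1 hb
    rw [← ap_mul f (hQ (h.mem.2 hq)) (hQ (h.mem.2 hq)), ← map_mul]
    rcases (show ∀ q ∈ Q0, q * q = 1 ∨ q * q = z0 by decide +kernel) q hq with e | e <;> rw [e]
    · rw [map_one, ap_one]
    · exact hf.ap_ker (mem_zpowers _)
  have h8 : 8 ≤ ♯(img f (Q0.map φ)) := by
    have := card_img_mul f hQ
    rw [hf.ker, inf_eq_left.2 h.z_le_Q, h.card_z, h.card, card_Q0] at this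
    omega
  have hm : ∀ q ∈ Q0, ∀ m ∈ hκ.sub, ap f m = ap f (φ q) → m = φ q ∨ m = φ q * φ z0 := fun q hq m hm e =>
    (mem_zpowers_sq (Emb.sq z2) ((hf.eq_iff (hQ (h.mem.2 hq)) hm).1 e.symm)).imp
      (fun e => (inv_mul_eq_one.1 e).symm) fun e => by rw [← e, mul_inv_cancel_left]
  have ne1 : ∀ q ∈ Q0, q ≠ 1 → q ≠ z0 → ap f (φ q) ≠ 1 := fun q hq h1 h2 e =>
    (mem_zpowers_sq (Emb.sq z2) ((hf.eq_one (hQ (h.mem.2 hq))).1 e)).elim (h.ne_one h1) (mt h.eq.1 h2)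
  have hN : pre f N[img f (Q0.map φ)] ≤ N[Q0.map φ] :=
    norm_of_img (pre_le _ _) hQ (hf.ker.le.trans h.z_le_Q) (img_pre_le _ _)
  have key := lemN (hf.img_top ▸ hQS.img f le_rfl) hE h8 (a := ap f (φ u0)) (b := ap f (φ t0)) ?_
    (ap_mem_img f (h.mem.2 (by decide +kernel)) (hQ (h.mem.2 (by decide +kernel))))
    (ne1 _ (by decide +kernel) (by decide +kernel) (by decide +kernel))
    (ap_mem_img f (h.mem.2 (by decide +kernel)) (hQ (h.mem.2 (by decide +kernel))))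
    (ne1 _ (by decide +kernel) (by decide +kernel) (by decide +kernel)) ?_
  · refine (hκ.le_sup (hφ t2) h3).trans (sup_le ?_ ((zpowers_le.2 (h.le_NQ ⟨t2, rfl⟩)).trans le_sup_left))
    have := pre_mono f key
    rw [pre_top, pre_sup (le_top.trans hf.range.ge) (le_top.trans hf.range.ge), ← hf.img_top] at this
    exact this.trans (sup_le ((hf.pre_Od_le ((h.two _).of_le h.z_le_Q) le_rfl (h.z_le_Q.trans hQ) hc).trans
      (sup_le ((h.z_le_Q.trans (norm_self _)).trans le_sup_left)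
        ((hκ.nml.pcore_le _).trans le_sup_right))) (hN.trans le_sup_left))
  · intro b hb b1 n hn
    obtain ⟨_, ⟨q, hq, rfl⟩, rfl⟩ := (mem_img_of_le hQ).1 hb
    obtain ⟨m, hm', rfl⟩ := hf.exists_ap n
    have mN := hN (mem_pre.2 ⟨hm', hn.1⟩)
    obtain ⟨y, r, hy, hr, hyk, hrk, e1⟩ := exists_piElt_decomp {2} m
    have yQ := hQS.le_of_norm hy.isPi (zpowers_le.2 (zpowers_le.2 hm' hyk))
      (zpowers_le.2 (zpowers_le.2 mN hyk)) (mem_zpowers y)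
    have rK := zpowers_le.2 hm' hrk
    have qK := hQ (h.mem.2 hq)
    rw [e1, ap_mul f (hQ yQ) rK]
    refine mul_mem (hE.le_C (ap_mem_img f yQ (hQ yQ))) (ap_mem_C f (h.odd_cent hr (zpowers_le.2 mN hrk) hq
      (fun e => b1 (by rw [e, map_one, ap_one])) (fun e => b1 (by rw [e]; exact hf.ap_ker (mem_zpowers _)))
      (hm q hq _ (mul_mem (mul_mem rK qK) (inv_mem rK)) ?_)) rK)
    rw [ap_conj f rK qK, ← mem_C1_iff_conj]
    exact zpowers_le.2 hn.2 (img_zpowers f hm' ▸ ap_mem_img f hrk rK)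
  · intro n e
    obtain ⟨m, hm', rfl⟩ := hf.exists_ap n
    have uK := hQ (h.mem.2 (show u0 ∈ Q0 by decide +kernel))
    rw [← ap_conj f hm' uK] at e
    rcases hm t0 (by decide +kernel) _ (mul_mem (mul_mem hm' uK) (inv_mem hm')) e with e1 | e1
    · exact absurd (h.ze_conj (by decide +kernel) e1.symm) (by decide +kernel)
    · rw [← map_mul] at e1
      exact absurd (h.ze_conj (by decide +kernel) e1.symm) (by decide +kernel)

theorem split (hk : k ∈ C{φ z0}) : ∃ n ∈ N[Q0.map φ], ∃ o ∈ Od[C{φ z0}], k = n * o :=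
  (mem_sup_of_norm' (h.NQ_le.trans (pcore_nml _ _).2)).1 (h.C_le hk)

theorem exists_n : ∃ n ∈ N[Q0.map φ], ∃ s, ty s = 4 ∧ φ s = n * φ u0 * n⁻¹ := by
  obtain ⟨k, hk, e⟩ := h.conj_C (show ta e0 by decide +kernel)
  obtain ⟨n, hn, o, ho, rfl⟩ := h.split hk
  have tQ := h.mem.2 (show t0 ∈ Q0 by decide +kernel)
  have e1 : o * φ t0 * o⁻¹ * (φ t0)⁻¹ = 1 := by
    refine PiElt.eq_one ((h.two Q0).piElt (mul_mem ?_ (inv_mem tQ))) ((Od_odd C{φ z0}).piElt ?_)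
    · refine (conj_mem_iff hn).1 ?_
      convert h.mem.2 (show e0 ∈ Q0 by decide +kernel) using 1
      rw [e]; group
    · rw [mul_assoc, mul_assoc, ← mul_assoc (φ t0)]
      exact mul_mem ho ((pcore_nml _ _).conj_mem (h.le_Cz ⟨t0, rfl⟩) (inv_mem ho))
  have e2 : φ e0 = n * φ t0 * n⁻¹ := by
    rw [e, ← mul_inv_eq_one.1 e1]
    conv_lhs => rw [mul_inv_eq_one.1 e1]
    group
  obtain ⟨s, hs, e3⟩ := conj_mem (h.NQ_E hn) (h.mem.2 (show u0 ∈ E0 by decide +kernel))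
  exact ⟨n, hn, s, (show ∀ s ∈ E0, s ≠ 1 → s ≠ z0 → s * e0 = e0 * s → ty s = 4 by decide +kernel) s hs
    (mt (h.eq' e3 (Emb.one n)).1 (by decide +kernel))
    (mt (h.eq' e3 (mem_C1_iff_conj.1 (h.NQ_le hn)).symm).1 (by decide +kernel))
    ((h.rel e3 e2 (Emb.mul e2 e3)).2 (by decide +kernel)), e3⟩

theorem CQ_le : C[Q0.map φ] ≤ zpowers (φ z0) ⊔ Od[C{φ z0}] := by
  have h1 := (h.syl.of_le h.le_NQ le_top).inf_nml (C_nml_N _)
  have h2 : φ.range ⊓ C[Q0.map φ] = zpowers (φ z0) := by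
    refine le_antisymm ?_ (le_inf (zpowers_le.2 ⟨_, rfl⟩) (cents_symm (by
      rw [C_zpowers]; exact (map_le_range _ _).trans h.le_Cz)))
    rintro _ ⟨⟨s, rfl⟩, hs⟩
    rcases (show ∀ s, s * u0 = u0 * s → s * t0 = t0 * s → s * e0 = e0 * s → s * t1 = t1 * s →
      s = 1 ∨ s = z0 by decide +kernel) s (h.mem_C.1 (C_le_C1 (h.mem.2 (by decide +kernel)) hs))
      (h.mem_C.1 (C_le_C1 (h.mem.2 (by decide +kernel)) hs))
      (h.mem_C.1 (C_le_C1 (h.mem.2 (by decide +kernel)) hs))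
      (h.mem_C.1 (C_le_C1 (h.mem.2 (by decide +kernel)) hs)) with rfl | rfl
    · rw [map_one]; exact one_mem _
    · exact mem_zpowers _
  rw [h2] at h1
  refine (H8.PC.le_sup_Od_of_cent h1.pi h1.le (C_anti h.z_le_Q) h1.idx).trans (sup_le_sup_left ?_ _)
  have h3 : Od[C[Q0.map φ]] ≤ C{φ z0} := (pcore_le _ _).trans ((C_le_N _).trans h.NQ_le)
  refine le_sup_left.trans (pcore_max' (K := Od[C[Q0.map φ]] ⊔ Od[C{φ z0}])
    ((Od_odd _).sup' (Od_odd _) (h3.trans (pcore_nml _ _).2)) (sup_le h3 (pcore_le _ _))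
    (h.C_le.trans (sup_le (norm_sup (norm_pcore _ (N_le_NC _)) (h.NQ_le.trans (pcore_nml _ _).2))
      (norm_of_le le_sup_right))))

theorem odd_mem (hx : OddE x) (hz : x ∈ C{φ z0}) (hc : x ∈ C{φ s}) (s2 : s * s = 1) (s1 : s ≠ 1)
    (sz : s ≠ z0) : x ∈ Od[C{φ z0}] := by
  obtain ⟨n, hn, o, ho, e⟩ := h.split hz
  obtain ⟨Y, _, _, f, hf⟩ := H8.PC.exists_quo (pcore_nml {2}ᶜ C{φ z0})
  have nC := h.NQ_le hn
  have sC := h.le_Cz ⟨s, rfl⟩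
  have e1 : ap f x = ap f n := by rw [e, ap_mul f nC (hf.le ho), hf.ap_ker ho, mul_one]
  have hn' : OddE n := by
    have : n ^ orderOf x ∈ Od[C{φ z0}] := (hf.eq_one (pow_mem nC _)).1 (by
      rw [ap_pow f nC, ← e1, ← ap_pow f hz, pow_orderOf_eq_one, ap_one])
    exact piElt_of_pow_eq_one (PiNat.mul hx ((Od_odd _).piElt this)) (by rw [pow_mul, pow_orderOf_eq_one])
  have e2 : (φ s)⁻¹ * (n * φ s * n⁻¹) ∈ Od[C{φ z0}] :=
    (hf.eq_iff sC (mul_mem (mul_mem nC sC) (inv_mem nC))).1 (by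
      rw [ap_conj f nC sC, ← e1, ← ap_conj f hz sC, mem_C1_iff_conj.1 hc])
  have key : n ∈ C[Q0.map φ] := by
    rcases (show ∀ s, s * s = 1 → s ∈ Q0 ∨ ty s = 5 by decide +kernel) s s2 with hs | hs
    · have := PiElt.eq_one ((h.two Q0).piElt (mul_mem (inv_mem (h.mem.2 hs)) (conj_mem hn (h.mem.2 hs))))
        ((Od_odd _).piElt e2)
      exact h.odd_cent hn' hn hs s1 sz (Or.inl (inv_mul_eq_one.1 this).symm)
    have sN := h.le_NQ ⟨s, rfl⟩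
    have e3 := ((coprime_norm_cent (((map_le_range φ Q0).trans h.le_Cz).trans (pcore_nml _ _).2)
      (cop (Od_odd _) (h.two _))).le (mem_inf.2
        ⟨e2, mul_mem (inv_mem sN) (mul_mem (mul_mem hn sN) (inv_mem hn))⟩)).2
    obtain ⟨a, ha, e4⟩ := conj_mem (h.NQ_E hn) (h.mem.2 (show u0 ∈ E0 by decide +kernel))
    have f1 : ∀ s, ty s = 5 → s * u0 = u0 * s ∧ ∀ a ∈ E0, a ∈ Q0 ∧
        (a ≠ 1 → a ≠ z0 → s * a = a * s → a = u0 ∨ a = u0 * z0) := by decide +kernel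
    have e5 : n * φ s * n⁻¹ ∈ C{φ a} := by
      rw [e4, ← cj_C1]; exact conj_mem_cj n (h.mem_C.2 (f1 s hs).1)
    have e6 := mul_mem e5 (inv_mem (C_le_C1 (h.mem.2 ((f1 s hs).2 a ha).1) e3))
    rw [mul_inv_rev, inv_inv, mul_inv_cancel_left] at e6
    refine h.odd_cent hn' hn (s := u0) (by decide +kernel) (by decide +kernel) (by decide +kernel) ?_
    rw [← e4, ← map_mul, h.eq, h.eq]
    exact ((f1 s hs).2 a ha).2 (mt (h.eq' e4 (Emb.one n)).1 (by decide +kernel))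
      (mt (h.eq' e4 (mem_C1_iff_conj.1 nC).symm).1 (by decide +kernel)) (h.mem_C.1 e6)
  refine (hf.eq_one hz).1 (PiElt.eq_one ?_ (hx.ap f hz))
  rw [e1]
  exact (((h.two _).of_le h.z_le_Q).img f).piElt
    ((hf.mem_iff nC (zpowers_le.2 (self_mem_C1 _))).2 (h.CQ_le key))

theorem odd_mem2 (hb : IsConj (φ z0) b) (a2 : a * a = 1) (a1 : a ≠ 1) (hab : a ≠ b) (hc : a ∈ C{b})
    (hx : OddE x) (xa : x ∈ C{a}) (xb : x ∈ C{b}) : x ∈ Od[C{b}] := by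
  obtain ⟨k, rfl⟩ := isConj_iff.1 hb
  rw [← cj_C1, mem_cj] at hc xb
  obtain ⟨c, hc', s, e⟩ := h.pull1 h.le_Cz (by simpa using conj_sq a2 k⁻¹) hc
  have e' : φ s = c * k⁻¹ * a * (c * k⁻¹)⁻¹ := by rw [e]; group
  have hi := h.inv_of (isConj_iff.2 ⟨_, e'.symm⟩) a2 a1
  have := h.odd_mem (x := c * k⁻¹ * x * (c * k⁻¹)⁻¹) (hx.conj _) (by
    convert mul_mem (mul_mem hc' xb) (inv_mem hc') using 1; group)
    (by rw [e', ← cj_C1]; exact conj_mem_cj _ xa) hi.1 hi.2 fun e1 => hab (by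
      rw [← mem_C1_iff_conj.1 (inv_mem hc'), ← e1, e']; group)
  rw [← cj_C1, pcore_cj, mem_cj, ← conj_mem_iff ((pcore_nml _ _).2 hc')]
  convert this using 1; group

theorem not_se : ¬ ∃ H : Subgroup G, IsStronglyEmbedded H := fun ⟨_, hH⟩ =>
  h.nzt (isConj_iff.2 (H26.BR.conj_of_se hH (ord2 (Emb.sq z2) (h.ne_one z1))
    (ord2 (Emb.sq (by decide +kernel)) (h.ne_one (by decide +kernel)))))

theorem g_NU : g ∈ N[U0.map φ] := mem_N_of_finite (by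
  rintro _ ⟨s, hs, rfl⟩
  rcases (show ∀ s ∈ U0, s = 1 ∨ s = u0 ∨ s = v0 ∨ s = u0 * v0 by decide +kernel) s hs with
    rfl | rfl | rfl | rfl
  · exact ⟨1, one_mem _, Emb.one g⟩
  · exact ⟨_, show z0 ∈ U0 by decide +kernel, h.hu⟩
  · exact ⟨_, show u0 ∈ U0 by decide +kernel, h.hv⟩
  · exact ⟨_, show z0 * u0 ∈ U0 by decide +kernel, Emb.mul h.hu h.hv⟩)

theorem Od_eq (hG : H1175 G) : Od[C{φ z0}] = ⊥ := by
  have := h.simple
  have fE : ∀ s ∈ E0, s * s = 1 ∧ (s ≠ 1 → ze s) := by decide +kernel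
  have hE : EA (E0.map φ) := ea_of_sq (by rintro _ ⟨s, hs, rfl⟩; exact Emb.sq (fE s hs).1)
  obtain ⟨W, hW, h1, h2⟩ := sigW hE (by rw [h.card, card_E0]) fun a ha a1 b hb b1 x hx => by
    by_cases hab : a = b
    · exact hab ▸ hx.1
    obtain ⟨s, hs, rfl⟩ := hb
    exact h.odd_mem2 (h.of_ze ((fE s hs).2 fun e => b1 (by rw [e, map_one]))) (hE.sq ha) a1 hab
      (mem_C1.2 (hE.comm ha (h.mem.2 hs))) ((Od_odd _).piElt hx.1) (pcore_le _ _ hx.1) hx.2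
  have hO := h1 _ (h.mem.2 (show z0 ∈ E0 by decide +kernel)) (h.ne_one z1)
  have hQ := h.NQ_E.trans (h2 _ le_rfl (by rw [h.card, card_E0]; omega))
  have hC := h.C_le.trans (sup_le hQ (hO.trans (norm_self W)))
  have hg := h2 _ (map_mono (by intro s; revert s; decide +kernel)) (by rw [h.card, card_U0]) h.g_NU
  have hS := h.le_Cz.trans hC
  by_contra hne
  have hM : N[W] ≠ ⊤ := fun e =>
    (nml_top_iff.1 ⟨le_top, e.ge⟩).eq_bot_or_eq_top.elim (fun e => hne (eq_bot_of_le e hO))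
      fun e => h.ne_one z1 (eq_one_of_odd_sq (hW.piElt (e.ge (mem_top _))) (Emb.sq z2))
  have key : ∀ k : G, k * φ z0 * k⁻¹ ∈ N[W] → k ∈ N[W] := fun k hk => by
    obtain ⟨m, hm, s, e⟩ := h.pull1 hS (conj_sq (Emb.sq z2) k) hk
    have hs : ze s := h.ze_conj (s := z0) (k := m * k) (by decide +kernel) (by rw [e]; group)
    have f1 : ∀ a b : G, (∃ m ∈ N[W], b = m * a * m⁻¹) → ∀ c : G, (∃ m ∈ N[W], c = m * b * m⁻¹) →
        ∃ m ∈ N[W], c = m * a * m⁻¹ := by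
      rintro a _ ⟨m, hm, rfl⟩ _ ⟨m', hm', rfl⟩
      exact ⟨m' * m, mul_mem hm' hm, by group⟩
    have f2 : ∀ a b : G, (∃ m ∈ N[W], b = m * a * m⁻¹) → ∃ m ∈ N[W], a = m * b * m⁻¹ := by
      rintro a _ ⟨m, hm, rfl⟩
      exact ⟨m⁻¹, inv_mem hm, by group⟩
    have f3 : ∀ s n, ty s = n → n ≠ 0 → ∃ m ∈ N[W], φ s = m * φ (rep n) * m⁻¹ := fun s n e e0 => by
      obtain ⟨w, e1⟩ := ty_conj s (sq_of_ty s (by omega)).1
      exact ⟨φ w, hS ⟨w, rfl⟩, by rw [← e, ← map_inv, ← map_mul, ← map_mul, e1]⟩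
    have g2 := f2 _ _ ⟨g, hg, h.hu⟩
    obtain ⟨n, hn, s4, e4, e5⟩ := h.exists_n
    have g4 := f1 _ _ (f1 _ _ g2 _ ⟨n, hQ hn, e5⟩) _ (f2 _ _ (f3 s4 4 e4 (by omega)))
    obtain ⟨s5, e6, e7⟩ := h.h2
    have g5 := f1 _ _ (f1 _ _ g4 _ (f3 s5 4 e6 (by omega))) _ (f2 _ _ ⟨g, hg, e7⟩)
    obtain ⟨m', hm', e8⟩ : ∃ m ∈ N[W], φ s = m * φ z0 * m⁻¹ := by
      rcases hs with e | e | e | e
      · exact f3 s 1 e (by omega)
      · exact f1 _ _ g2 _ (f3 s 2 e (by omega))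
      · exact f1 _ _ g4 _ (f3 s 4 e (by omega))
      · exact f1 _ _ g5 _ (f3 s 5 e (by omega))
    have : m'⁻¹ * (m * k) ∈ C{φ z0} := mem_C1_iff_conj.2 (by
      calc _ = m'⁻¹ * (m * (k * φ z0 * k⁻¹) * m⁻¹) * m' := by group
        _ = _ := by rw [← e, e8]; group)
    exact (mul_mem_cancel_left hm).1 ((mul_mem_cancel_left (inv_mem hm')).1 (hC this))
  refine h.not_se (hG N[W] _ (φ z0) hM (Emb.sq z2) (h.ne_one z1) (hS ⟨_, rfl⟩) h.syl ⟨_, rfl⟩ h.le_Cz key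
    fun k hk hne => ?_)
  obtain ⟨c, hc, s, e⟩ := h.pull1 h.le_Cz (conj_sq (Emb.sq z2) k) (mem_C1.2 hk.symm)
  have hs : ze s := h.ze_conj (s := z0) (k := c * k) (by decide +kernel) (by rw [e]; group)
  have ez := mem_C1_iff_conj.1 hc
  obtain ⟨d, e1⟩ := isConj_iff.1 (h.of_ze ((show ∀ s, ze s → s ≠ z0 → ze (z0 * s) by decide +kernel) s hs
    fun e1 => hne (mul_left_cancel (mul_right_cancel (e.symm.trans (e1 ▸ ez.symm))))))
  have e2 : φ z0 * (k * φ z0 * k⁻¹) = c⁻¹ * d * φ z0 * (c⁻¹ * d)⁻¹ := by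
    calc _ = c⁻¹ * (c * φ z0 * c⁻¹ * (c * (k * φ z0 * k⁻¹) * c⁻¹)) * c := by group
      _ = c⁻¹ * (d * φ z0 * d⁻¹) * c := by rw [ez, ← e, e1, map_mul]
      _ = _ := by group
  rw [e2, ← cj_C1]
  exact cj_le_of_mem hC (key _ (e2 ▸ hC (mul_mem (self_mem_C1 _) (mem_C1.2 hk.symm))))

end Pat

end H25.Tw
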