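import Mathlib
import Cfsg.Agent.H25.TwC
import Cfsg.Agent.S0213

/-!
# The order of the group
-/

set_option autoImplicit false
set_option linter.unusedSectionVars false
set_option maxRecDepth 100000
set_option synthInstance.maxSize 4000

open Cfsg H24 H26 H26.Gold Subgroup
open scoped commutatorElement

namespace H25.Tw

universe u

variable {G : Type u} [Group G] [Finite G] {φ : S0 →* G} {K L P : Subgroup G} {a b g k r w x : G}
  {c s s' : S0} {X Y : Subgroup S0} {κ μ : G → Prop}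

theorem ncard_S0 (p : S0 → Prop) [DecidablePred p] : {s | p s}.ncard = (Finset.univ.filter p).card := by
  rw [← Set.ncard_coe_finset]; congr 1; ext; simp

theorem comm_of_mem (a2 : a * a = 1) (b2 : b * b = 1) (hw : w ∈ zpowers (a * b)) (w2 : w * w = 1) :
    a ∈ C{w} ∧ b ∈ C{w} := by
  have h1 : a ∈ C{w} := by
    obtain ⟨k, e⟩ := hw
    have e1 : a * (a * b) * a⁻¹ = (a * b)⁻¹ := by
      rw [← mul_assoc, a2, one_mul, mul_inv_rev, H6.inv_eq_of_mul_self b2]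
    rw [mem_C1_iff_conj]
    conv_rhs => rw [← H6.inv_eq_of_mul_self w2]
    rw [← e, ← conj_zpow, e1, inv_zpow]
  have := mul_mem h1 (C1_le_C1_of_mem_zpowers hw (self_mem_C1 _))
  rw [← mul_assoc, a2, one_mul] at this
  exact ⟨h1, this⟩

theorem mem_zp {M : Type*} [Group M] {x y : M} {n : ℕ} (hn : 0 < n) (h : x ^ n = 1) (hy : y ∈ zpowers x) :
    ∃ i < n, x ^ i = y := by
  obtain ⟨i, rfl⟩ := (isOfFinOrder_iff_pow_eq_one.2 ⟨n, hn, h⟩).mem_powers_iff_mem_zpowers.2 hy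
  exact ⟨i % n, Nat.mod_lt _ hn, (pow_eq_pow_mod i h).symm⟩

theorem conj_inv' (h : IsConj a b) (a2 : a * a = 1) (a1 : a ≠ 1) : b * b = 1 ∧ b ≠ 1 := by
  obtain ⟨g, rfl⟩ := isConj_iff.1 h
  exact ⟨conj_sq a2 g, by rwa [Ne, conj_eq_one_iff']⟩

theorem mem_zp_conj (k : G) : k * w * k⁻¹ ∈ zpowers (k * a * k⁻¹ * (k * b * k⁻¹)) ↔ w ∈ zpowers (a * b) := by
  rw [← Emb.conj_mul', ← cj_zpowers, conj_mem_cj_iff]

theorem t2' : t0 * t0 = 1 := by decide +kernel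
theorem t1' : t0 ≠ 1 := by decide +kernel

namespace Pat

variable (h : Pat φ g)
include h

theorem ch_U (hκ : Ch C{φ t0} κ) (hs : s ∈ U0) : κ (φ s) := by
  have hg := mem_C1_iff_conj.2 h.ht.symm
  have m : ∀ s ∈ U0, φ s ∈ C{φ t0} := fun s hs =>
    h.mem_C.2 ((show ∀ s ∈ U0, s * t0 = t0 * s by decide +kernel) s hs)
  have h1 := hκ.conj hg (m u0 (by decide +kernel))
  have h2 := hκ.conj hg (m v0 (by decide +kernel))
  have h3 := hκ _ (m u0 (by decide +kernel)) _ (m v0 (by decide +kernel))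
  rw [← map_mul, show u0 * v0 = z0 by decide +kernel] at h3
  rw [← h.hu] at h1
  rw [← h.hv] at h2
  rcases (show ∀ s ∈ U0, s = 1 ∨ s = u0 ∨ s = v0 ∨ s = z0 by decide +kernel) s hs with
    rfl | rfl | rfl | rfl
  · rw [map_one]; exact hκ.one
  all_goals tauto

theorem exists_ch : ∃ κ μ : G → Prop, Ch C{φ t0} κ ∧ Ch C{φ t0} μ ∧ ¬ κ (φ t0) ∧ κ (φ e0) ∧
    ¬ μ (φ t0) ∧ μ (φ f0) := by
  have hT := h.syl_ta (show ta t0 by decide +kernel)
  have idx : ∀ X : Subgroup S0, X ≤ C{t0} → ♯X = 8 → (X.map φ).relIndex (C{t0}.map φ) = 2 := fun X h1 h2 => by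
    have := card_mul_relIndex (map_mono (f := φ) h1)
    rw [h.card, h.card, h2, card_C, show cc t0 = 16 by decide +kernel] at this
    omega
  have hF : F0 ≤ C{t0} := fun s hs => mem_C1.2 ((show ∀ s ∈ F0, s * t0 = t0 * s by decide +kernel) s hs)
  have hD : D0 ≤ C{t0} := fun s hs => mem_C1.2 ((show ∀ s ∈ D0, s * t0 = t0 * s by decide +kernel) s hs)
  have key : ∀ c, ta c → ta (c * t0) → c * t0 = t0 * c → ∃ κ : G → Prop, Ch C{φ t0} κ ∧ ¬ κ (φ c) :=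
    fun c h1 h2 h3 => tt hT (map_mono hF) (idx _ hF card_F0) (h.mem_C.2 h3)
      (Emb.sq (sq_of_ty c (by omega)).1) fun k hk ⟨s, hs, e⟩ =>
        (show ∀ s ∈ F0, ta s → ¬ ta (s * t0) by decide +kernel) s hs (h.ta_conj h1 e)
          (h.ta_conj h2 (Emb.mul e (mem_C1_iff_conj.1 hk).symm))
  obtain ⟨κ1, a1, b1⟩ := key e0 (by decide +kernel) (by decide +kernel) (by decide +kernel)
  obtain ⟨κ3, a3, b3⟩ := key f0 (by decide +kernel) (by decide +kernel) (by decide +kernel)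
  obtain ⟨κ2, a2, b2⟩ := tt hT (map_mono hD) (idx _ hD card_D0) (self_mem_C1 _) (Emb.sq t2') fun k hk => by
    rw [mem_C1_iff_conj.1 hk, h.mem]; decide +kernel
  have f : ∀ κ : G → Prop, Ch C{φ t0} κ → (κ (φ f0) ↔ (κ (φ t0) ↔ κ (φ e0))) := fun κ hκ => by
    rw [← hκ _ (self_mem_C1 _) _ (h.mem_C.2 (by decide +kernel)), ← map_mul,
      show t0 * e0 = f0 by decide +kernel]
  have f1 := f _ a1
  have f2 := f _ a2
  have f3 := f _ a3
  by_cases c1 : κ1 (φ t0)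
  · by_cases c2 : κ2 (φ e0)
    · exact ⟨_, _, a2, a1.iff a2, by tauto⟩
    · exact ⟨_, _, a1.iff a2, a2, by tauto⟩
  · by_cases c3 : κ3 (φ t0)
    · exact ⟨_, _, a1.iff a3, a1, by tauto⟩
    · exact ⟨_, _, a3, a1, by tauto⟩

variable (hO : Od[C{φ z0}] = ⊥)
include hO

theorem le_N : C{φ z0} ≤ N[Q0.map φ] := by simpa [hO] using h.C_le

theorem two_c (s2 : s * s = 1) (s1 : s ≠ 1) (sz : s ≠ z0) : TwoG (C{φ z0} ⊓ C{φ s}) :=
  isPi_iff_piElt.2 fun x hx => by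
    obtain ⟨y, r, hy, hr, -, hrk, e⟩ := exists_piElt_decomp {2} x
    have := zpowers_le.2 hx hrk
    have := h.odd_mem hr this.1 this.2 s2 s1 sz
    rw [hO, mem_bot] at this
    rwa [e, this, mul_one]

theorem CT : C{φ t0} ⊓ C{φ z0} = C{t0}.map φ := by
  have hT := h.syl_ta (show ta t0 by decide +kernel)
  rw [inf_comm]
  exact hT.eq_of_le (h.two_c hO t2' t1' (by decide +kernel))
    (le_inf ((map_le_range _ _).trans h.le_Cz) hT.le) inf_le_right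

theorem card_T : ♯(C{φ t0} ⊓ C{φ z0}) = 16 := by
  rw [h.CT hO, h.card, card_C]; decide +kernel

theorem ta_of (hb : IsConj (φ t0) b) (hc : b ∈ C{φ z0}) : ∃ s, ta s ∧ φ s = b := by
  obtain ⟨k, hk, s, e⟩ := h.pull1 h.le_Cz (conj_inv' hb (Emb.sq t2') (h.ne_one t1')).1 hc
  have hs := h.ta_iff.1 (hb.trans (isConj_iff.2 ⟨k, e.symm⟩))
  obtain ⟨s', -, e'⟩ := (conj_mem_iff (h.le_N hO hk)).1 (e ▸ h.mem.2
    ((show ∀ s, ta s → s ∈ Q0 by decide +kernel) s hs))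
  exact ⟨s', h.ta_iff.1 (e' ▸ hb), e'⟩

theorem card_Cz : ♯C{φ z0} = 192 := by
  have e : cls C{φ z0} (φ t0) = φ '' {s | ta s} := by
    ext b
    constructor
    · rintro ⟨k, hk, rfl⟩
      exact h.ta_of hO (isConj_iff.2 ⟨k, rfl⟩) (mul_mem (mul_mem hk (h.le_Cz ⟨_, rfl⟩)) (inv_mem hk))
    · rintro ⟨s, hs, rfl⟩
      exact h.conj_C hs
  rw [← cls_card _ (φ t0), e, Set.ncard_image_of_injective _ h.inj, ncard_S0, inf_comm, h.card_T hO]
  decide +kernel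

theorem card_5 (hs : ty s = 5) : ♯(C{φ z0} ⊓ C{φ s}) = 8 := by
  have f : ∀ s, (ty s = 5 → cc s = 8 ∧ s ≠ z0) ∧ (ze s → s ∉ Q0 → ty s = 5) := by decide +kernel
  have hi := sq_of_ty s (by omega)
  have sC := h.le_Cz ⟨s, rfl⟩
  refine le_antisymm ?_ ?_
  · obtain ⟨k, hk, e⟩ := h.pull h.le_Cz (h.two_c hO hi.1 hi.2 ((f s).1 hs).2) inf_le_left
    obtain ⟨s', e1⟩ := e _ ⟨sC, self_mem_C1 _⟩
    rw [← card_cj k, ← ((f s').1 ((f s').2 (h.ze_conj (by omega) e1) fun hq =>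
      h.not_Q hk hs (e1 ▸ h.mem.2 hq))).1, ← card_C, ← h.card]
    refine card_le fun p hp => ?_
    obtain ⟨q, hq, rfl⟩ := mem_cj'.1 hp
    obtain ⟨c, e2⟩ := e q hq
    refine ⟨c, mem_C1.2 (h.mem_C.1 ?_), e2⟩
    rw [e1, e2, ← cj_C1]
    exact conj_mem_cj k hq.2
  · rw [← ((f s).1 hs).1, ← card_C, ← h.card]
    refine card_le (le_inf ((map_le_range _ _).trans h.le_Cz) ?_)
    rintro _ ⟨c, hc, rfl⟩
    exact h.mem_C.2 (mem_C1.1 hc)

theorem card_ze : {a | IsConj (φ z0) a ∧ a ∈ C{φ z0} ∧ a ≠ φ z0}.ncard = 30 := by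
  have f : ∀ s, ze s → s ≠ z0 → ty s = 5 ∨ s ∈ Q0 := by decide +kernel
  have e : {a | IsConj (φ z0) a ∧ a ∈ C{φ z0} ∧ a ≠ φ z0} =
      φ '' {s | ze s ∧ s ≠ z0 ∧ s ∈ Q0} ∪ cls C{φ z0} (φ t2) := by
    ext a
    constructor
    · rintro ⟨h1, h2, h3⟩
      obtain ⟨k, hk, s, e⟩ := h.pull1 h.le_Cz (conj_inv' h1 (Emb.sq z2) (h.ne_one z1)).1 h2
      have hs := h.ze_iff.1 (h1.trans (isConj_iff.2 ⟨k, e.symm⟩))
      rcases f s hs fun e1 => h3 (mul_left_cancel (mul_right_cancel (e.symm.trans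
        (e1 ▸ (mem_C1_iff_conj.1 hk).symm)))) with e1 | e1
      · obtain ⟨w, e2⟩ := ty_conj s (sq_of_ty s (by omega)).1
        rw [e1] at e2
        refine Or.inr ⟨k⁻¹ * φ w, mul_mem (inv_mem hk) (h.le_Cz ⟨w, rfl⟩), ?_⟩
        calc a = k⁻¹ * φ s * k := by rw [e]; group
          _ = _ := by rw [← e2, map_mul, map_mul, map_inv]; group; rfl
      · obtain ⟨s', hs', e'⟩ := (conj_mem_iff (h.le_N hO hk)).1 (e ▸ h.mem.2 e1)
        exact Or.inl ⟨s', ⟨h.ze_iff.1 (e' ▸ h1), fun e2 => h3 (e2 ▸ e'.symm), hs'⟩, e'⟩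
    · rintro (⟨s, hs, rfl⟩ | ⟨k, hk, rfl⟩)
      · exact ⟨h.of_ze hs.1, h.le_Cz ⟨s, rfl⟩, mt h.eq.1 hs.2.1⟩
      · exact ⟨(h.of_ze (by decide +kernel)).trans (isConj_iff.2 ⟨k, rfl⟩),
          mul_mem (mul_mem hk (h.le_Cz ⟨_, rfl⟩)) (inv_mem hk), fun e => h.not_Q hk (s := t2)
            (by decide +kernel) (e ▸ h.mem.2 (by decide +kernel))⟩
  have h1 := cls_card C{φ z0} (φ t2)
  rw [h.card_5 hO (by decide +kernel), h.card_Cz hO] at h1
  rw [e, Set.ncard_union_eq, Set.ncard_image_of_injective _ h.inj, ncard_S0,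
    show (cls C{φ z0} (φ t2)).ncard = 24 by omega]
  · decide +kernel
  · rw [Set.disjoint_left]
    rintro _ ⟨s, hs, rfl⟩ ⟨k, hk, e⟩
    exact h.not_Q hk (s := t2) (by decide +kernel) (e ▸ h.mem.2 hs.2.2)

theorem n_z : Nat.card {p : G × G // IsConj (φ z0) p.1 ∧ IsConj (φ t0) p.2 ∧
    φ z0 ∈ zpowers (p.1 * p.2)} = 240 := by
  have cm : ∀ {a b}, IsConj (φ z0) a → IsConj (φ t0) b → φ z0 ∈ zpowers (a * b) → _ := fun h1 h2 h3 =>
    comm_of_mem (conj_inv' h1 (Emb.sq z2) (h.ne_one z1)).1 (conj_inv' h2 (Emb.sq t2') (h.ne_one t1')).1 h3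
      (Emb.sq z2)
  rw [card_pairs (R := fun a b => IsConj (φ z0) a ∧ IsConj (φ t0) b ∧ φ z0 ∈ zpowers (a * b))
    (D := {a | IsConj (φ z0) a ∧ a ∈ C{φ z0} ∧ a ≠ φ z0}) (k := 8), h.card_ze hO]
  · rintro a b ⟨h1, h2, h3⟩
    refine ⟨h1, (cm h1 h2 h3).1, ?_⟩
    rintro rfl
    obtain ⟨s, hs, rfl⟩ := h.ta_of hO h2 (cm h1 h2 h3).2
    rw [← map_mul] at h3
    have f : ∀ s, ta s → z0 * s * (z0 * s) = 1 ∧ z0 ≠ z0 * s := by decide +kernel
    exact (mem_zpowers_sq (Emb.sq (f s hs).1) h3).elim (h.ne_one z1) (mt h.eq.1 (f s hs).2)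
  · rintro a ⟨h1, h2, h3⟩
    obtain ⟨k, hk, s, e⟩ := h.pull1 h.le_Cz (conj_inv' h1 (Emb.sq z2) (h.ne_one z1)).1 h2
    have ez := mem_C1_iff_conj.1 hk
    have hs := h.ze_iff.1 (h1.trans (isConj_iff.2 ⟨k, e.symm⟩))
    have e1 : (fun b => k * b * k⁻¹) '' {b | IsConj (φ z0) a ∧ IsConj (φ t0) b ∧ φ z0 ∈ zpowers (a * b)} =
        φ '' {b | ta b ∧ ∃ i < 8, (s * b) ^ i = z0} := by
      ext b
      constructor
      · rintro ⟨b, ⟨-, h4, h5⟩, rfl⟩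
        obtain ⟨c, hc, e2⟩ := h.ta_of hO (h4.trans (isConj_iff.2 ⟨k, rfl⟩))
          (mul_mem (mul_mem hk (cm h1 h4 h5).2) (inv_mem hk))
        refine ⟨c, ⟨hc, mem_zp (by norm_num) ((show ∀ s : S0, s ^ 8 = 1 by decide +kernel) _) ?_⟩, e2⟩
        rw [← mem_zp_conj k, ez, ← e, ← e2, ← map_mul, ← MonoidHom.map_zpowers, h.mem] at h5
        exact h5
      · rintro ⟨c, ⟨hc, i, -, e2⟩, rfl⟩
        refine ⟨k⁻¹ * φ c * k, ⟨h1, (h.of_ta hc).trans (isConj_iff.2 ⟨k⁻¹, by group⟩), ?_⟩, by group⟩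
        rw [← mem_zp_conj k, ez, ← e, show k * (k⁻¹ * φ c * k) * k⁻¹ = φ c by group, ← map_mul, ← e2,
          map_pow]
        exact pow_mem (mem_zpowers _) _
    rw [← Set.ncard_image_of_injective _ (MulAut.conj k).injective]
    refine (congrArg _ e1).trans ?_
    rw [Set.ncard_image_of_injective _ h.inj, ncard_S0]
    exact (show ∀ s, ze s → s ≠ z0 → (Finset.univ.filter fun b => ta b ∧ ∃ i < 8, (s * b) ^ i = z0).card = 8
      by decide +kernel) s hs fun e1 => h3 (mul_left_cancel (mul_right_cancel (e.symm.trans (e1 ▸ ez.symm))))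

end Pat

end H25.Tw
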