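import Mathlib
import Cfsg.Agent.H25.TwD
import Cfsg.Agent.H21.Mat12g

/-!
# The centralizer of the second involution and the identification with `M₁₂`
-/

set_option autoImplicit false
set_option linter.unusedSectionVars false
set_option maxRecDepth 100000
set_option synthInstance.maxSize 4000

open Cfsg H24 H26 H26.Gold Subgroup
open scoped commutatorElement

namespace H25.Tw

universe u

variable {G : Type u} [Group G] [Finite G] {φ : S0 →* G} {K L P : Subgroup G} {a b g k r w x : G}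
  {c s s' : S0} {X Y : Subgroup S0} {κ μ : G → Prop}

/-- the subgroup of index four in `C(t)`. -/
structure LL (φ : S0 →* G) (L : Subgroup G) : Prop where
  nml : L ⊴ C{φ t0}
  syl : Syl 2 L (U0.map φ)
  sq : ∀ k ∈ C{φ t0}, k * k ∈ L
  sep : ∀ b ∈ C{φ t0}, IsConj (φ t0) b → φ t0 ∈ L ⊔ zpowers b → b = φ t0 ∨ IsConj (φ z0) (φ t0 * b)

namespace Pat

variable (h : Pat φ g)
include h

theorem into_T (hw : w * w = 1) (hc : w ∈ C{φ t0}) :
    ∃ k ∈ C{φ t0}, ∃ s, s * t0 = t0 * s ∧ φ s = k * w * k⁻¹ := by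
  obtain ⟨k, hk, e⟩ := Sylow_Jsub Nat.prime_two (h.syl_ta (show ta t0 by decide +kernel))
    (twoE_of_sq hw).isPi (zpowers_le.2 hc)
  obtain ⟨s, hs, e1⟩ := e (conj_mem_cj k (mem_zpowers w))
  exact ⟨k, hk, s, mem_C1.1 hs, e1⟩

theorem exists_L : ∃ L, LL φ L := by
  obtain ⟨κ, μ, hκ, hμ, a1, a2, a3, a4⟩ := h.exists_ch
  have f : ∀ s, s * t0 = t0 * s → s ∈ U0 ∨ s * t0 ∈ U0 ∨ s * e0 ∈ U0 ∨ s * f0 ∈ U0 := by decide +kernel
  have hU : U0.map φ ≤ hκ.sub ⊓ hμ.sub := by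
    rintro _ ⟨s, hs, rfl⟩
    have := h.mem_C.2 ((show ∀ s ∈ U0, s * t0 = t0 * s by decide +kernel) s hs)
    exact ⟨⟨this, h.ch_U hκ hs⟩, this, h.ch_U hμ hs⟩
  have eC : φ e0 ∈ C{φ t0} := h.mem_C.2 (by decide +kernel)
  have fC : φ f0 ∈ C{φ t0} := h.mem_C.2 (by decide +kernel)
  have m : ∀ {ν : G → Prop}, Ch C{φ t0} ν → ∀ {s c}, s * t0 = t0 * s → φ c ∈ C{φ t0} → s * c ∈ U0 →
      (ν (φ s) ↔ ν (φ c)) := fun hν s c hs hc hu => by
    have := h.ch_U hν hu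
    rwa [map_mul, hν _ (h.mem_C.2 hs) _ hc] at this
  have g1 : ∀ {ν : G → Prop}, Ch C{φ t0} ν → (ν (φ f0) ↔ (ν (φ t0) ↔ ν (φ e0))) := fun hν => by
    rw [← hν _ (self_mem_C1 _) _ eC, ← map_mul, show t0 * e0 = f0 by decide +kernel]
  have g2 := g1 hκ
  have g3 := g1 hμ
  refine ⟨hκ.sub ⊓ hμ.sub, hκ.nml.inf hμ.nml, ?_, fun k hk => ⟨⟨mul_mem hk hk, (hκ _ hk _ hk).2 Iff.rfl⟩,
    mul_mem hk hk, (hμ _ hk _ hk).2 Iff.rfl⟩, fun b hb hc ht => ?_⟩
  · convert (h.syl_ta (show ta t0 by decide +kernel)).inf_nml (hκ.nml.inf hμ.nml) using 1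
    refine le_antisymm (le_inf (map_mono fun s hs => mem_C1.2
      ((show ∀ s ∈ U0, s * t0 = t0 * s by decide +kernel) s hs)) hU) ?_
    rintro _ ⟨⟨s, hs, rfl⟩, ⟨-, h1⟩, -, h2⟩
    have hs := mem_C1.1 hs
    rcases f s hs with e | e | e | e
    · exact h.mem.2 e
    · exact absurd ((m hκ hs (self_mem_C1 _) e).1 h1) a1
    · have := m hμ hs eC e; tauto
    · have := m hκ hs fC e; tauto
  · obtain ⟨k, hk, s, hs, e⟩ := h.into_T (conj_inv' hc (Emb.sq t2') (h.ne_one t1')).1 hb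
    have h1 := h.ta_iff.1 (hc.trans (isConj_iff.2 ⟨k, e.symm⟩))
    have et := mem_C1_iff_conj.1 hk
    have f2 : ∀ s, ta s → s ∉ U0 ∧ (s * t0 ∈ U0 → s = t0 ∨ ze (t0 * s)) := by decide +kernel
    rcases (f s hs).resolve_left (f2 s h1).1 with e1 | e1 | e1
    · refine ((f2 s h1).2 e1).imp (fun (e2 : s = t0) => mul_left_cancel (mul_right_cancel
        (e.symm.trans (e2 ▸ et.symm)))) fun e2 => (h.of_ze e2).trans (isConj_iff.2 ⟨k, ?_⟩).symm
      rw [Emb.conj_mul', et, ← e, map_mul]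
    · exact absurd (hκ.mem.1 (sup_le inf_le_left (zpowers_le.2 (hκ.mem.2 ⟨hb, (hκ.conj hk hb).1
        (e ▸ (m hκ hs eC e1).2 a2)⟩)) ht)).2 a1
    · exact absurd (hμ.mem.1 (sup_le inf_le_right (zpowers_le.2 (hμ.mem.2 ⟨hb, (hμ.conj hk hb).1
        (e ▸ (m hμ hs fC e1).2 a4)⟩)) ht)).2 a3

variable (hO : Od[C{φ z0}] = ⊥) (hL : LL φ L)
include hO hL

theorem L_conj (hs : s ∈ U0) (h1 : s ≠ 1) : ∃ k ∈ L, k ∈ N[U0.map φ] ∧ φ s = k * φ z0 * k⁻¹ := by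
  have g2 := hL.sq g (mem_C1_iff_conj.2 h.ht.symm)
  have gN := mul_mem h.g_NU h.g_NU
  have e1 : φ v0 = g * φ z0 * g⁻¹ := by
    rw [show v0 = z0 * u0 by decide +kernel, Emb.mul h.hu h.hv, show u0 * v0 = z0 by decide +kernel]
  rcases (show ∀ s ∈ U0, s ≠ 1 → s = z0 ∨ s = u0 ∨ s = v0 by decide +kernel) s hs h1 with rfl | rfl | rfl
  · exact ⟨1, one_mem _, one_mem _, by group⟩
  · exact ⟨g * g, g2, gN, by rw [h.hv, e1]; group⟩
  · exact ⟨(g * g)⁻¹, inv_mem g2, inv_mem gN, by rw [h.hu, h.hv]; group⟩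

theorem L_z : L ⊓ C{φ z0} = U0.map φ :=
  hL.syl.eq_of_le ((h.two _).of_le ((inf_le_inf_right _ hL.nml.1).trans (h.CT hO).le))
    (le_inf hL.syl.le ((map_le_range _ _).trans h.le_Cz)) inf_le_left

theorem L_C (hw : w ∈ U0.map φ) (h1 : w ≠ 1) : L ⊓ C{w} ≤ U0.map φ := by
  obtain ⟨s, hs, rfl⟩ := hw
  obtain ⟨k, hk, hn, e⟩ := h.L_conj hO hL hs fun e => h1 (by rw [e, map_one])
  rw [e, ← cj_C1, ← cj_of_mem hk, ← cj_inf, h.L_z hO hL, cj_of_mem_N hn]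

theorem cls_L : cls L (φ z0) = {a | IsConj (φ z0) a ∧ a ∈ C{φ t0}} := by
  ext a
  constructor
  · rintro ⟨k, hk, rfl⟩
    exact ⟨isConj_iff.2 ⟨k, rfl⟩, mul_mem (mul_mem (hL.nml.1 hk) (h.mem_C.2 (by decide +kernel)))
      (inv_mem (hL.nml.1 hk))⟩
  · rintro ⟨h1, h2⟩
    have hi := conj_inv' h1 (Emb.sq z2) (h.ne_one z1)
    obtain ⟨k, hk, s, hs, e⟩ := h.into_T hi.1 h2
    have aL : a ∈ L := (conj_mem_iff (hL.nml.2 hk)).1 (e ▸ hL.syl.le (h.mem.2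
      ((show ∀ s, s * t0 = t0 * s → ze s → s ∈ U0 by decide +kernel) s hs
        (h.ze_iff.1 (h1.trans (isConj_iff.2 ⟨k, e.symm⟩))))))
    obtain ⟨l, hl, e1⟩ := Sylow_Jsub Nat.prime_two hL.syl (twoE_of_sq hi.1).isPi (zpowers_le.2 aL)
    obtain ⟨c, hc, e2⟩ := e1 (conj_mem_cj l (mem_zpowers a))
    obtain ⟨n, hn, -, e3⟩ := h.L_conj hO hL hc fun e => hi.2 (by rwa [e, map_one, eq_comm, conj_eq_one_iff'] at e2)
    refine ⟨l⁻¹ * n, mul_mem (inv_mem hl) hn, ?_⟩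
    calc a = l⁻¹ * φ c * l := by rw [e2]; group
      _ = _ := by rw [e3]; group

theorem m_cases : (cls L (φ z0)).ncard = 3 ∨ (cls L (φ z0)).ncard = 15 := by
  have h1 := cls_card L (φ z0)
  rw [h.L_z hO hL, h.card, card_U0] at h1
  refine (four_card hL.syl (ea_of_sq (by
    rintro _ ⟨s, hs, rfl⟩; exact Emb.sq ((show ∀ s ∈ U0, s * s = 1 by decide +kernel) s hs)))
    (by rw [h.card, card_U0]) fun _ => h.L_C hO hL).imp (fun e => ?_) fun e => by omega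
  have : cls L (φ z0) = φ '' {s | s ∈ U0 ∧ s ≠ 1} := by
    ext a
    constructor
    · rintro ⟨k, hk, rfl⟩
      obtain ⟨s, hs, e1⟩ := conj_mem (e hk) (h.mem.2 (show z0 ∈ U0 by decide +kernel))
      exact ⟨s, ⟨hs, mt (h.eq' e1 (Emb.one k)).1 z1⟩, e1⟩
    · rintro ⟨s, hs, rfl⟩
      obtain ⟨k, hk, -, e1⟩ := h.L_conj hO hL hs.1 hs.2
      exact ⟨k, hk, e1⟩
  rw [this, Set.ncard_image_of_injective _ h.inj, ncard_S0]
  decide +kernel

theorem card_Ct : ♯C{φ t0} = (cls L (φ z0)).ncard * 16 := by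
  rw [← cls_card _ (φ z0), h.card_T hO]
  congr 2
  refine Set.Subset.antisymm ?_ fun a ⟨k, hk, e⟩ => ⟨k, hL.nml.1 hk, e⟩
  rintro _ ⟨k, hk, rfl⟩
  rw [h.cls_L hO hL]
  exact ⟨isConj_iff.2 ⟨k, rfl⟩, mul_mem (mul_mem hk (h.mem_C.2 (by decide +kernel))) (inv_mem hk)⟩

theorem n_t : Nat.card {p : G × G // IsConj (φ z0) p.1 ∧ IsConj (φ t0) p.2 ∧
    φ t0 ∈ zpowers (p.1 * p.2)} = (cls L (φ z0)).ncard * ((cls L (φ z0)).ncard - 2) := by
  have cm : ∀ {a b}, IsConj (φ z0) a → IsConj (φ t0) b → φ t0 ∈ zpowers (a * b) → _ := fun h1 h2 h3 =>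
    comm_of_mem (conj_inv' h1 (Emb.sq z2) (h.ne_one z1)).1 (conj_inv' h2 (Emb.sq t2') (h.ne_one t1')).1 h3
      (Emb.sq t2')
  have zL := hL.syl.le (h.mem.2 (show z0 ∈ U0 by decide +kernel))
  have key : (fun b => φ t0 * b) '' {b | IsConj (φ t0) b ∧ φ t0 ∈ zpowers (φ z0 * b)} =
      cls L (φ z0) \ {φ u0, φ v0} := by
    have no : ∀ s, z0 * s * (z0 * s) = 1 → t0 ≠ z0 * s → φ t0 ∉ zpowers (φ z0 * φ s) := fun s h1 h2 h3 => by
      rw [← map_mul] at h3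
      exact (mem_zpowers_sq (Emb.sq h1) h3).elim (h.ne_one t1') (mt h.eq.1 h2)
    ext a
    constructor
    · rintro ⟨b, ⟨h1, h2⟩, rfl⟩
      have hb := (cm (IsConj.refl _) h1 h2).2
      have e : ∀ s, φ t0 * b = φ s → b = φ (t0 * s) := fun s e => by
        rw [map_mul, ← e, ← mul_assoc, Emb.sq t2', one_mul]
      refine ⟨?_, fun e1 => e1.elim (fun e1 => no _ (by decide +kernel) (by decide +kernel) (e _ e1 ▸ h2))
        fun e1 => no _ (by decide +kernel) (by decide +kernel) (e _ e1 ▸ h2)⟩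
      rw [h.cls_L hO hL]
      exact ⟨(hL.sep b hb h1 (zpowers_le.2 (mul_mem (mem_sup_left zL) (mem_sup_right (mem_zpowers b)))
        h2)).resolve_left fun e1 => no _ (by decide +kernel) (by decide +kernel) (e1 ▸ h2),
        mul_mem (self_mem_C1 _) hb⟩
    · rintro ⟨⟨k, hk, e⟩, h2⟩
      have et := mem_C1_iff_conj.1 (hL.nml.1 hk)
      have aL : a ∈ L := e ▸ mul_mem (mul_mem hk zL) (inv_mem hk)
      have a2 : a * a = 1 := e ▸ conj_sq (Emb.sq z2) k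
      refine ⟨φ t0 * a, ⟨(h.of_ta (s := t0 * z0) (by decide +kernel)).trans (isConj_iff.2 ⟨k, by
        rw [map_mul, Emb.conj_mul', et, e]⟩), ?_⟩, by simp only [← mul_assoc, Emb.sq t2', one_mul]⟩
      have ho : Odd (orderOf (φ z0 * a)) := by
        by_contra hn
        obtain ⟨w, w1, w2, c1, c2, hw⟩ := H21.exists_invol_comm_of_not_odd (Emb.sq z2) a2
          (isOfFinOrder_of_finite _) hn
        obtain ⟨s, hs, e1⟩ := h.L_C hO hL ((h.L_z hO hL).le ⟨zpowers_le.2 (mul_mem zL aL) hw, mem_C1.2 c1⟩)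
          w1 ⟨aL, mem_C1.2 c2.symm⟩
        rcases (show ∀ s ∈ U0, s = 1 ∨ s = z0 ∨ s = u0 ∨ s = v0 by decide +kernel) s hs with
          rfl | rfl | rfl | rfl
        · rw [map_one, e, eq_comm, conj_eq_one_iff'] at e1
          exact h.ne_one z1 e1
        · exact hn (by rw [← e1, Emb.sq z2, orderOf_one]; exact odd_one)
        · exact h2 (Or.inl e1.symm)
        · exact h2 (Or.inr e1.symm)
      obtain ⟨n, hn⟩ := ho
      have hc : Commute (φ t0) (φ z0 * a) := (mem_C1.1 (hL.nml.1 (mul_mem zL aL))).symm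
      refine ⟨orderOf (φ z0 * a), ?_⟩
      simp only [zpow_natCast]
      rw [← mul_assoc, mem_C1.1 (hL.nml.1 zL), mul_assoc, hc.mul_pow, pow_orderOf_eq_one, mul_one, hn,
        pow_succ, pow_mul, pow_two, Emb.sq t2', one_pow, one_mul]
  refine card_pairs (R := fun a b => IsConj (φ z0) a ∧ IsConj (φ t0) b ∧ φ t0 ∈ zpowers (a * b)) ?_ ?_
  · rintro a b ⟨h1, h2, h3⟩
    rw [h.cls_L hO hL]
    exact ⟨h1, (cm h1 h2 h3).1⟩
  · rintro _ ⟨k, hk, rfl⟩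
    have et := mem_C1_iff_conj.1 (hL.nml.1 hk)
    have e1 : {b | IsConj (φ z0) (k * φ z0 * k⁻¹) ∧ IsConj (φ t0) b ∧ φ t0 ∈ zpowers (k * φ z0 * k⁻¹ * b)} =
        (MulAut.conj k) '' {b | IsConj (φ t0) b ∧ φ t0 ∈ zpowers (φ z0 * b)} := by
      ext b
      constructor
      · rintro ⟨-, h1, h2⟩
        refine ⟨k⁻¹ * b * k, ⟨h1.trans (isConj_iff.2 ⟨k⁻¹, by group⟩), ?_⟩, by
          rw [MulAut.conj_apply]; group⟩
        rwa [← mem_zp_conj k, et, show k * (k⁻¹ * b * k) * k⁻¹ = b by group]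
      · rintro ⟨b, ⟨h1, h2⟩, rfl⟩
        refine ⟨isConj_iff.2 ⟨k, rfl⟩, h1.trans (isConj_iff.2 ⟨k, rfl⟩), ?_⟩
        rwa [← mem_zp_conj k, et] at h2
    have hs : {φ u0, φ v0} ⊆ cls L (φ z0) := by
      rintro _ (rfl | rfl)
      · obtain ⟨k, hk, -, e⟩ := h.L_conj hO hL (s := u0) (by decide +kernel) (by decide +kernel)
        exact ⟨k, hk, e⟩
      · obtain ⟨k, hk, -, e⟩ := h.L_conj hO hL (s := v0) (by decide +kernel) (by decide +kernel)
        exact ⟨k, hk, e⟩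
    rw [e1, Set.ncard_image_of_injective _ (MulAut.conj k).injective,
      ← Set.ncard_image_of_injective _ (mul_right_injective (φ t0)), key, Set.ncard_sdiff hs,
      Set.ncard_pair (mt h.eq.1 (by decide +kernel))]

omit hL in
theorem card_ne : Nat.card G ≠ 12096 := fun hG => by
  have h0 := cls_card ⊤ (φ z0)
  rw [top_inf_eq, h.card_Cz hO, card_top, hG] at h0
  obtain ⟨s, hs, e⟩ := h.h3
  obtain ⟨k, ek⟩ := isConj_iff.1 (h.of_ze (show ze t3 by decide +kernel))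
  have c1 : ♯C{φ t3} = 192 := by rw [← ek, ← cj_C1, card_cj, h.card_Cz hO]
  have c2 : ♯(C{φ t3} ⊓ C{φ u0}) = 8 := by
    rw [← card_cj g, cj_inf, cj_C1, cj_C1, ← e, ← h.hu, inf_comm, h.card_5 hO hs]
  have l : C{φ t3} ⊓ C{φ t1} < C{φ t3} ⊓ C{φ u0} := by
    refine lt_of_le_not_ge (fun x hx => ⟨hx.1, ?_⟩) fun e => absurd (h.mem_C.1
      (e ⟨self_mem_C1 _, h.mem_C.2 (by decide +kernel)⟩).2) (by decide +kernel)
    have := mul_mem (mem_C1_comm.1 hx.1) (mem_C1_comm.1 hx.2)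
    rw [show u0 = t3 * t1 * (t3 * t1) by decide +kernel, map_mul, map_mul]
    exact mem_C1_comm.1 (mul_mem this this)
  have c3 := card_lt l
  have c4 := card_dvd l.le
  have h1 := cls_card C{φ t3} (φ u0)
  have h2 := cls_card C{φ t3} (φ t1)
  rw [c2] at c3 c4 h1
  have c5 : ♯(C{φ t3} ⊓ C{φ t1}) ≤ 4 := by
    generalize ♯(C{φ t3} ⊓ C{φ t1}) = n at c3 c4
    interval_cases n <;> omega
  have sub : ∀ s, ze s → cls C{φ t3} (φ s) ⊆ cls ⊤ (φ z0) := by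
    rintro s hs _ ⟨k, -, rfl⟩
    obtain ⟨c, e⟩ := isConj_iff.1 ((h.of_ze hs).trans (isConj_iff.2 ⟨k, rfl⟩))
    exact ⟨c, mem_top c, e.symm⟩
  have h3 := Set.ncard_le_ncard (Set.union_subset (sub u0 (by decide +kernel)) (sub t1 (by decide +kernel)))
  rw [Set.ncard_union_eq] at h3
  · have := Nat.mul_le_mul_left (cls C{φ t3} (φ t1)).ncard c5
    omega
  · rw [Set.disjoint_left]
    rintro _ ⟨k, hk, rfl⟩ ⟨l, hl, e⟩
    have : l * φ t1 * l⁻¹ ∈ C{φ t3} := e ▸ mul_mem (mul_mem hk (h.mem_C.2 (by decide +kernel))) (inv_mem hk)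
    exact absurd (h.mem_C.1 ((conj_mem_iff (norm_self _ hl)).1 this)) (by decide +kernel)

omit hL in
theorem card_G : Nat.card G = 95040 := by
  obtain ⟨L, hL⟩ := h.exists_L
  have := Cfsg.Agent.S0213.result (φ z0) (φ t0) (ord2 (Emb.sq z2) (h.ne_one z1))
    (ord2 (Emb.sq t2') (h.ne_one t1')) h.nzt fun w hw =>
      h.two_classes (H6.mul_self_of_orderOf_two hw) (H6.ne_one_of_orderOf_two hw)
  rw [h.n_z hO, h.n_t hO hL, h.card_Cz hO, h.card_Ct hO hL] at this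
  rcases h.m_cases hO hL with e | e <;> rw [e] at this
  · exact absurd this (h.card_ne hO)
  · exact this

end Pat

theorem main [IsSimpleGroup G] (h1 : H1169 G) (h2 : H1175 G) (S : Sylow 2 G) (P : Sylow 2 Spor.M12)
    (hS : Nonempty ((S : Subgroup G) ≃* (P : Subgroup Spor.M12)))
    (h3 : ∃ x y : G, orderOf x = 2 ∧ orderOf y = 2 ∧ ¬ IsConj x y) : Spor.IsoM12 G := by
  obtain ⟨e⟩ := hS
  obtain ⟨e'⟩ := exists_equiv P
  have h : Emb ((S : Subgroup G).subtype.comp (e'.trans e.symm).toMonoidHom) := by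
    refine ⟨(subtype_injective _).comp (e'.trans e.symm).injective, ?_, ‹_›⟩
    rw [MonoidHom.range_comp, MonoidHom.range_eq_top.2 (e'.trans e.symm).surjective, map_subtype_top]
    exact syl_top_of_sylow Nat.prime_two S
  obtain ⟨ψ, g, hf⟩ := h.fr
  have hp := hf.pat h1 h3
  exact H21.m12_unique ⟨‹_›, hp.card_G (hp.Od_eq h2)⟩ ⟨H9.simple_M12, H9.card_M12⟩

end H25.Tw
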