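import Cfsg.Agent.H25.TH1

/-! TI, block H: uniqueness of lines, `C(A) = A`. -/

set_option autoImplicit false
set_option linter.unusedSectionVars false
set_option linter.unusedVariables false

namespace H12.TI.TH

open Cfsg H24 Subgroup H26.Gold
open scoped commutatorElement

universe u

variable {G : Type u} [Group G] [Finite G] {Ω : Set (Subgroup G)}
  {A B B' C D F I J P Q R S T U : Subgroup G} {a a' b c d d' e g i j j' p r s t u v w x y ρ κ : G}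

theorem K_NW (h : Sit Ω) (hg : Good Ω) (hA : Top Ω A B) (h4 : 4 ≤ ♯(ax A B)) :
    C[A] ≤ N[Wl A B] := fun κ hκ => by
  obtain ⟨a, a1, c, c1, rfl⟩ := ul h hg hA h4 κ hκ
  exact mul_mem (h.le_N_Wl hA.toAdj a1) (C_le_N _ (C_anti (sup_le_sup inf_le_left inf_le_left) c1))

theorem cj_eq (h : Sit Ω) (hA : A ∈ Ω) (ha : a ∈ A) (hj : j * j = 1) : j * a * j⁻¹ = a * ⁅a, j⁆ := by
  rw [commutatorElement_def, inv_of_sq (h.sq A hA a ha), ← mul_assoc, ← mul_assoc, ← mul_assoc,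
    h.sq A hA a ha, one_mul]

theorem uniq (h : Sit Ω) (hg : Good Ω) (h4 : ∀ A B, Top Ω A B → 4 ≤ ♯(ax A B)) : Uniq Ω := by
  intro A B C hA hC e
  obtain ⟨j, hj, j1⟩ := exists_ne_one (h.adj_symm hA.toAdj).nb
  obtain ⟨k, hk, k1⟩ := exists_ne_one (h.adj_symm hC).nb
  have sj := h.sq B hA.r j hj.1
  have sk := h.sq C hC.r k hk.1
  have tC : Top Ω A C := h.top_of_le hA hC (by rw [e])
  have r2 : (j * k) ^ 2 ∈ C[A] := mem_C'.2 fun a ha => by
    have e1 : ∀ a ∈ A, ∃ i ∈ ax A B, j * k * a * (j * k)⁻¹ = a * i := fun a ha => by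
      have i1 : ⁅a, k⁆ ∈ ax A B := e ▸ h.comm_mem hC ha hk
      refine ⟨⁅a, j⁆ * ⁅a, k⁆, mul_mem (h.comm_mem hA.toAdj ha hj) i1, ?_⟩
      calc _ = j * (k * a * k⁻¹) * j⁻¹ := by group
        _ = (j * a * j⁻¹) * (j * ⁅a, k⁆ * j⁻¹) := by rw [cj_eq h hA.l ha sk]; group
        _ = _ := by
          rw [cj_eq h hA.l ha sj, ← h.commAx hA.l hA.r i1 hj, mul_inv_cancel_right, mul_assoc]
    obtain ⟨i, i1, i2⟩ := e1 a ha
    have e2 : j * k * i * (j * k)⁻¹ = i := by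
      rw [mul_assoc j, ← h.commAx hC.l hC.r (e ▸ i1) hk, ← mul_assoc, ← h.commAx hA.l hA.r i1 hj]
      group
    rw [← mul_inv_eq_iff_eq_mul]
    calc _ = j * k * (j * k * a * (j * k)⁻¹) * (j * k)⁻¹ := by rw [sq]; group
      _ = (j * k * a * (j * k)⁻¹) * (j * k * i * (j * k)⁻¹) := by
          conv_lhs => rw [i2]
          group
      _ = a := by rw [i2, e2, mul_assoc, h.sq A hA.l i i1.1, mul_one]
  obtain ⟨n, m, mo, hm⟩ := Nat.exists_eq_two_pow_mul_odd (orderOf_pos (j * k)).ne'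
  obtain ⟨t, ht⟩ : ∃ t, m * m = 4 * t + 1 := by
    obtain ⟨l, rfl⟩ := mo; exact ⟨l * l + l, by ring⟩
  have kK : (((j * k) ^ 2) ^ t)⁻¹ ∈ C[A] := inv_mem (pow_mem r2 t)
  have inv : k * ((j * k) ^ 2) ^ t * k⁻¹ = (((j * k) ^ 2) ^ t)⁻¹ := by
    have : k * (j * k) * k⁻¹ = (j * k)⁻¹ := by
      rw [mul_inv_rev, inv_of_sq sj, inv_of_sq sk, ← mul_assoc, mul_assoc (k * j), sk, mul_one]
    rw [← conj_pow, ← conj_pow, this, inv_pow, inv_pow]
  have pw : j * k * (((j * k) ^ 2) ^ t * ((j * k) ^ 2) ^ t) = (j * k) ^ (m * m) := by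
    rw [ht, ← pow_mul, ← pow_add, ← pow_succ']; congr 1; ring
  generalize ((j * k) ^ 2) ^ t = σ at kK inv pw
  have kN := C_le_N A kK
  have jC : σ⁻¹ * k * σ⁻¹⁻¹ ∈ ax (cj σ⁻¹ C) A := ax_cj' kN ▸ conj_mem_cj _ hk
  have jW := mem_W h hg hA (top_K h tC kN).toAdj ((ax_K kK).trans e) hj j1 jC (n := n) (by
    have : j * (σ⁻¹ * k * σ⁻¹⁻¹) = j * k * (σ * σ) := by
      rw [inv_inv]; nth_rewrite 1 [← inv]
      rw [inv_of_sq sk]
      calc j * (k * σ * k * k * σ) = j * (k * σ * (k * k) * σ) := by group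
        _ = _ := by rw [sk]; group
    rw [this, pw, ← pow_mul, mul_assoc, mul_comm m, pow_mul, mul_comm m, ← hm, pow_orderOf_eq_one,
      one_pow])
  rw [conj_mem_iff (K_NW h hg hA (h4 A B hA) kK)] at jW
  exact (hg.ln A B hA C hC.r (ne_bot_of_mem ⟨hk.1, jW⟩ k1)).resolve_left fun k => hC.ne k.symm

theorem norm (h : Sit Ω) (hu : Uniq Ω) (hA : Top Ω A B) (hx : x ∈ N[A]) (hI : x ∈ N[ax A B]) :
    x ∈ N[Wl A B] ∧ ∃ a ∈ A, x * a ∈ N[B] := by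
  obtain ⟨a, a1, a2⟩ := hu A B _ hA (top_K h hA hx).toAdj (by rw [ax_cj hx, cj_of_mem_N hI])
  refine ⟨mem_N_iff_cj.2 ?_, x⁻¹ * a⁻¹ * x, conj_mem' hx (inv_mem a1), ?_⟩
  · rw [cj_Wl, cj_of_mem_N hx, a2]
    conv_lhs => rw [← cj_of_mem a1]
    rw [← cj_Wl, cj_of_mem_N (h.le_N_Wl hA.toAdj a1)]
  · rw [show x * (x⁻¹ * a⁻¹ * x) = a⁻¹ * x by group]
    exact cj_eq_cj_iff.1 a2

theorem card_top (h : Sit Ω) (hA : Top Ω A B) (hC : Top Ω C D) : ♯(ax A B) = ♯(ax C D) :=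
  le_antisymm (hC.max _ _ hA.toAdj) (hA.max _ _ hC.toAdj)

theorem two_mul_le (h : A < B) : 2 * ♯A ≤ ♯B := by
  obtain ⟨k, hk⟩ := card_dvd h.le
  have := card_lt h
  have p := card_pos A
  rcases k with _ | _ | k
  · omega
  · omega
  · rw [hk]; nlinarith

theorem inf_lt (h : Sit Ω) (hA : Top Ω A B) (hC : Top Ω A C) (ne : ax A B ≠ ax A C) :
    ax A B ⊓ ax A C < ax A B :=
  lt_of_le_of_ne inf_le_left fun e => ne (eq_of_card_eq (inf_eq_left.1 e) (card_top h hA hC))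

theorem four (h : Sit Ω) (hc : CL Ω) (hA : Top Ω A B) : 4 ≤ ♯(ax A B) := by
  obtain ⟨C, hC, ne⟩ := hc.two.exists_ne h hA
  have h1 := two_mul_le (inf_lt h hA hC ne.symm)
  have h2 := one_lt_card (hc.inf A B C hA hC ne.symm)
  omega

/-- a top axis containing `I0` and a further element of `I` is `I` -/
def PP (Ω : Set (Subgroup G)) (A I I0 : Subgroup G) : Prop :=
  ∀ C, Top Ω A C → I0 ≤ ax A C → ∀ v ∈ ax A C, v ∈ I → v ∉ I0 → ax A C = I

theorem C_cj (h : Sit Ω) (hA : A ∈ Ω) (ha : a ∈ A) : C[A ⊔ cj a B] = C[A ⊔ B] := by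
  have : A ⊔ cj a B = cj a (A ⊔ B) := by rw [cj_sup, cj_of_mem ha]
  rw [this, cj_of_mem (mem_sup_left ha)]

theorem dec_one (h : Sit Ω) (hA : Adj Ω A B) (ha : a ∈ A) (hc : a ∈ C[A ⊔ B]) : a = 1 :=
  mem_bot.1 (h.inf_C hA.l hA.r hA.ne ▸ ⟨ha, C_anti le_sup_right hc⟩)

theorem EE (h : Sit Ω) (hg : Good Ω) (h4 : ∀ A B, Top Ω A B → 4 ≤ ♯(ax A B)) (hA : Top Ω A B)
    (hB : Top Ω A B') (ne : ax A B ≠ ax A B') (nb : ax A B ⊓ ax A B' ≠ ⊥)
    (p1 : PP Ω A (ax A B) (ax A B ⊓ ax A B')) (p2 : PP Ω A (ax A B') (ax A B ⊓ ax A B')) :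
    C[A ⊔ B] ≤ C[A ⊔ B'] := by
  intro e he
  have hu := uniq h hg h4
  obtain ⟨u, u1, u2⟩ := SetLike.exists_of_lt (inf_lt h hA hB ne)
  obtain ⟨v, v1, v2⟩ := SetLike.exists_of_lt (inf_lt h hB hA ne.symm)
  rw [inf_comm] at v2
  have un : u ∉ N[B'] := fun m => u2 ⟨u1, u1.1, m⟩
  have vn : v ∉ N[B] := fun m => v2 ⟨⟨v1.1, m⟩, v1⟩
  have eK : e ∈ C[A] := C_anti le_sup_left he
  have fixI : ∀ {B C : Subgroup G} {j : G}, Top Ω A B → j ∈ ax B A → ∀ x ∈ ax A B, x ∈ ax A C →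
      x ∈ ax A (cj j C) := fun {B C j} t hj x x1 x2 => by
    rw [ax_cj hj.2]
    have := conj_mem_cj j x2
    rwa [← h.commAx t.l t.r x1 hj, mul_inv_cancel_right] at this
  have c1 : ∀ j' ∈ ax B' A, e * j' = j' * e := by
    obtain ⟨i, i1, i2⟩ := exists_ne_one nb
    obtain ⟨g, g1, g2⟩ := h.comm_surj hB.toAdj u1.1 un i1.2
    have g3 : g ≠ 1 := fun k => i2 (by rw [← g2, k, commutatorElement_one_right])
    have gI : ax A (cj g B) = ax A B := p1 _ (top_K h hA g1.2) (fun x hx => fixI hB g1 x hx.2 hx.1)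
      (u * i) (by
        rw [ax_cj g1.2, ← g2, ← cj_eq h hA.l u1.1 (h.sq B' hB.r g g1.1)]; exact conj_mem_cj g u1)
      (mul_mem u1 i1.1) fun m => u2 (by simpa using mul_mem m (inv_mem i1))
    obtain ⟨-, a, a1, a2⟩ := norm h hu hA g1.2 (mem_N_iff_cj.2 (by rw [← ax_cj g1.2, gI]))
    have gE : g ∈ N[C[A ⊔ B]] := by
      have n1 : g * a ∈ N[C[A ⊔ B]] := N_le_NC _ (norm_sup (X := zpowers (g * a))
        (zpowers_le.2 (mul_mem g1.2 (norm_self A a1))) (zpowers_le.2 a2) (mem_zpowers _))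
      have n2 : a ∈ N[C[A ⊔ B]] := C_le_N _ (le_CC _ (mem_sup_left a1))
      simpa using mul_mem n1 (inv_mem n2)
    obtain ⟨a', b1, e', b2, b3⟩ := ul h hg hB (h4 _ _ hB) e eK
    have eg : e * g = g * e := by
      rw [← commutatorElement_eq_one_iff_mul_comm]
      refine dec_one h hA.toAdj ?_ ?_
      · have : ⁅e, g⁆ = ⁅a', g⁆ := by
          rw [b3, commutatorElement_def, commutatorElement_def, mul_assoc a',
            mem_C'.1 b2 g (mem_sup_right g1.1)]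
          group
        rw [this]; exact (h.comm_mem hB.toAdj b1 g1).1
      · rw [commutatorElement_def, mul_assoc, mul_assoc, ← mul_assoc g]
        exact mul_mem he (conj_mem gE (inv_mem he))
    obtain ⟨i', c1, c, c2, rfl⟩ := h.CK hB.toAdj eK g1 g3 eg
    intro j' hj'
    rw [mul_assoc, mem_C'.1 c2 j' (mem_sup_right hj'.1), ← mul_assoc, h.commAx hB.l hB.r c1 hj',
      mul_assoc]
  obtain ⟨j, j1, j2⟩ := h.comm_surj hA.toAdj v1.1 vn u1
  obtain ⟨k, k1, k2⟩ := h.comm_surj hB.toAdj u1.1 un v1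
  have tK := top_K h hA k1.2
  have tC := top_K h tK (inv_mem j1.2)
  have eI : ax A (cj j⁻¹ (cj k B)) = ax A B' := p2 _ tC
    (fun x hx => fixI hA (inv_mem j1) x hx.1 (fixI hB k1 x hx.2 hx.1)) v (by
      rw [ax_cj (inv_mem j1.2), mem_cj, inv_inv, cj_eq h hA.l v1.1 (h.sq B hA.r j j1.1), j2,
        h.comm hA.l v1.1 u1.1, ← k2, ← cj_eq h hA.l u1.1 (h.sq B' hB.r k k1.1), ax_cj k1.2]
      exact conj_mem_cj k u1) v1 v2
  obtain ⟨a, a1, a2⟩ := hu A B' _ hB tC.toAdj eI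
  rw [← C_cj h hA.l a1, ← a2, ← cj_mul]
  have : A ⊔ cj (j⁻¹ * k) B = cj (j⁻¹ * k) (A ⊔ B) := by
    rw [cj_sup, cj_of_mem_N (mul_mem (inv_mem j1.2) k1.2)]
  rw [this, ← cj_C]
  have e2 : j⁻¹ * k * e * (j⁻¹ * k)⁻¹ = e := by
    rw [mul_assoc j⁻¹, ← c1 k k1, ← mul_assoc, mem_C.1 he j⁻¹ (mem_sup_right (inv_mem j1.1))]
    group
  exact e2 ▸ conj_mem_cj _ he

theorem E_same (h : Sit Ω) (hu : Uniq Ω) (hA : Top Ω A B) (hB : Top Ω A B') (e : ax A B = ax A B') :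
    C[A ⊔ B] = C[A ⊔ B'] := by
  obtain ⟨a, a1, rfl⟩ := hu A B B' hA hB.toAdj e.symm
  exact (C_cj h hA.l a1).symm

theorem card_ax_sup (h : Sit Ω) (hA : A ∈ Ω) (hU : U ≤ A) (hT : T ≤ A) :
    ♯(U ⊔ T : Subgroup G) * ♯(U ⊓ T : Subgroup G) = ♯U * ♯T :=
  card_sup ((ablSq (h.sq A hA)).norm hT hU)

theorem CL_PP (h : Sit Ω) (hc : CL Ω) (hA : Top Ω A B) (hB : Top Ω A B') (ne : ax A B ≠ ax A B') :
    PP Ω A (ax A B) (ax A B ⊓ ax A B') := by
  intro C hC l v v1 v2 v3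
  by_contra n
  have e1 := card_ax_sup h hA.l (U := ax A B) (T := ax A B') inf_le_left inf_le_left
  have e2 := card_ax_sup h hA.l (U := ax A B) (T := ax A C) inf_le_left inf_le_left
  rw [hc.sup A B B' hA hB ne] at e1
  rw [hc.sup A B C hA hC (Ne.symm n), card_top h hC hB, ← e1] at e2
  have e3 := Nat.eq_of_mul_eq_mul_left (card_pos A) e2
  exact v3 (eq_of_card_eq (le_inf inf_le_left l) e3.symm ▸ (⟨v2, v1⟩ : v ∈ ax A B ⊓ ax A C))

theorem CL_E (h : Sit Ω) (hg : Good Ω) (hc : CL Ω) (hA : Top Ω A B) (hB : Top Ω A B') :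
    C[A ⊔ B] = C[A ⊔ B'] := by
  have h4 : ∀ A B, Top Ω A B → 4 ≤ ♯(ax A B) := fun A B => four h hc
  by_cases e : ax A B = ax A B'
  · exact E_same h (uniq h hg h4) hA hB e
  have p1 := CL_PP h hc hA hB e
  have p2 := CL_PP h hc hB hA (Ne.symm e)
  exact le_antisymm (EE h hg h4 hA hB e (hc.inf _ _ _ hA hB e) p1 (inf_comm (ax A B') _ ▸ p2))
    (EE h hg h4 hB hA (Ne.symm e) (hc.inf _ _ _ hB hA (Ne.symm e)) p2 (inf_comm (ax A B) _ ▸ p1))

theorem CS_top (hc : CS Ω) (hA : Adj Ω A B) : Top Ω A B :=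
  ⟨hA, fun C D k => by rw [hc.four _ _ k, hc.four _ _ hA]⟩

theorem CS_PP (h : Sit Ω) (hc : CS Ω) (hA : Top Ω A B) (nb : I ≠ ⊥) (hI : I ≤ ax A B) :
    PP Ω A (ax A B) I := by
  intro C hC l v v1 v2 v3
  have e1 := two_mul_le (show I < ax A B ⊓ ax A C from
    lt_of_le_of_ne (le_inf hI l) fun e => v3 (e ▸ ⟨v2, v1⟩))
  have e2 := one_lt_card nb
  have e3 := hc.four _ _ hA.toAdj
  have e4 : ax A B ⊓ ax A C = ax A B := eq_of_card_ge inf_le_left (by omega)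
  exact (eq_of_card_eq (inf_eq_left.1 e4) (card_top h hA hC)).symm

theorem CS_E₀ (h : Sit Ω) (hg : Good Ω) (hc : CS Ω) (hA : Top Ω A B) (hB : Top Ω A B')
    (nb : ax A B ⊓ ax A B' ≠ ⊥) : C[A ⊔ B] = C[A ⊔ B'] := by
  have h4 : ∀ A B, Top Ω A B → 4 ≤ ♯(ax A B) := fun A B t => (hc.four _ _ t.toAdj).ge
  by_cases e : ax A B = ax A B'
  · exact E_same h (uniq h hg h4) hA hB e
  have nb' : ax A B' ⊓ ax A B ≠ ⊥ := inf_comm (ax A B) _ ▸ nb
  exact le_antisymm (EE h hg h4 hA hB e nb (CS_PP h hc hA nb inf_le_left) (CS_PP h hc hB nb inf_le_right))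
    (EE h hg h4 hB hA (Ne.symm e) nb' (CS_PP h hc hB nb' inf_le_left) (CS_PP h hc hA nb' inf_le_right))

theorem CS_E (h : Sit Ω) (hg : Good Ω) (hc : CS Ω) (hA : Top Ω A B) (hB : Top Ω A B') :
    C[A ⊔ B] = C[A ⊔ B'] := by
  obtain ⟨A0, B0, C0, t1, t2, ne, nb⟩ := hc.ex
  obtain ⟨g, rfl⟩ := h.tr A0 t1.l A hA.l
  have s1 := CS_top hc (h.adj_cj t1 g)
  have s2 := CS_top hc (h.adj_cj t2 g)
  have ne' : ax (cj g A0) (cj g B0) ≠ ax (cj g A0) (cj g C0) := by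
    rwa [← cj_ax, ← cj_ax, Ne, cj_inj]
  have nb' : ax (cj g A0) (cj g B0) ⊓ ax (cj g A0) (cj g C0) ≠ ⊥ := by
    rwa [← cj_ax, ← cj_ax, ← cj_inf, Ne, cj_eq_bot]
  generalize cj g A0 = A at *
  generalize cj g B0 = P at *
  generalize cj g C0 = Q at *
  have e12 := CS_E₀ h hg hc s1 s2 nb'
  suffices ∀ B, Top Ω A B → C[A ⊔ B] = C[A ⊔ Q] from (this B hA).trans (this B' hB).symm
  intro B hA
  have nb2 : ax A B ⊓ (ax A P ⊔ ax A Q) ≠ ⊥ := fun e => by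
    have c1 := card_ax_sup h hA.l (U := ax A B) (T := ax A P ⊔ ax A Q) inf_le_left
      (sup_le inf_le_left inf_le_left)
    have c2 := two_mul_le (show ax A P < ax A P ⊔ ax A Q from lt_of_le_of_ne le_sup_left fun k =>
      ne' (eq_of_card_eq (le_sup_right.trans k.ge) (card_top h s2 s1)).symm)
    have c3 := card_le (show ax A B ⊔ (ax A P ⊔ ax A Q) ≤ A from
      sup_le inf_le_left (sup_le inf_le_left inf_le_left))
    rw [e, Subgroup.card_bot, hc.four _ _ hA.toAdj] at c1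
    rw [hc.four _ _ s1.toAdj] at c2
    rw [hc.card A hA.l] at c3
    omega
  obtain ⟨x, ⟨x1, x2⟩, x3⟩ := exists_ne_one nb2
  obtain ⟨u, u1, v, v1, rfl⟩ := (mem_sup_of_norm ((ablSq (h.sq A hA.l)).norm inf_le_left inf_le_left)).1 x2
  by_cases un : u ∈ N[Q]
  · exact CS_E₀ h hg hc hA s2 (ne_bot_of_mem ⟨x1, mul_mem ⟨u1.1, un⟩ v1⟩ x3)
  obtain ⟨k, k1, k2⟩ := h.comm_surj s2.toAdj u1.1 un v1
  have tK := top_K h s1 k1.2
  refine (CS_E₀ h hg hc hA tK (ne_bot_of_mem ⟨x1, ?_⟩ x3)).trans (CS_E₀ h hg hc tK s2 ?_)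
  · rw [← k2, ← cj_eq h hA.l u1.1 (h.sq Q s2.r k k1.1), ax_cj k1.2]
    exact conj_mem_cj k u1
  · obtain ⟨i, i1, i2⟩ := exists_ne_one nb'
    refine ne_bot_of_mem ⟨?_, i1.2⟩ i2
    rw [ax_cj k1.2]
    have := conj_mem_cj k i1.1
    rwa [← h.commAx s2.l s2.r i1.2 k1, mul_inv_cancel_right] at this

theorem NE (h : Sit Ω) (hg : Good Ω) (h4 : ∀ A B, Top Ω A B → 4 ≤ ♯(ax A B))
    (hE : ∀ A B B', Top Ω A B → Top Ω A B' → C[A ⊔ B] = C[A ⊔ B']) (hA : Top Ω A B)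
    (hB : Adj Ω A B') (nt : ¬ Top Ω A B') : C[A ⊔ B] = C[A ⊔ B'] := by
  have nE : N[A] ≤ N[C[A ⊔ B]] := fun x hx => mem_N_iff_cj.2 (by
    rw [cj_C, cj_sup, cj_of_mem_N hx]; exact (hE _ _ _ hA (top_K h hA hx)).symm)
  have EK : C[A ⊔ B] ≤ C[A] := C_anti le_sup_left
  have l1 : ♯(ax A B') < ♯(ax A B) := lt_of_not_ge fun k => nt (h.top_of_le hA hB k)
  have l2 : 2 * ♯(ax A B) ≤ ♯A := two_mul_le (lt_of_le_of_ne inf_le_left fun k => by
    obtain ⟨a, a1, a2⟩ := h.exists_not_mem hA.toAdj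
    exact a2 (k.ge a1).2)
  have l3 := h4 _ _ hA
  have l4 := h.card_le_sq hB
  have l5 : 4 ≤ ♯(ax B' A) := by
    rw [← h.card_ax hB]
    have := ((h.two hA.l).of_le (show ax A B' ≤ A from inf_le_left)).dvd_card hB.nb
    by_contra k
    have : ♯(ax A B') ≤ 2 := by omega
    nlinarith
  have fixA : ∀ x ∈ N[A], ∀ a ∈ A, ∀ e ∈ C[A ⊔ B], x * (a * e) = a * e * x → x * a = a * x :=
    fun x hx a ha e he k => by
      have : a⁻¹ * (x * a * x⁻¹) = e * (x * e * x⁻¹)⁻¹ := by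
        rw [inv_mul_eq_iff_eq_mul, ← mul_assoc, eq_mul_inv_iff_mul_eq]
        calc _ = x * (a * e) * x⁻¹ := by group
          _ = _ := by rw [k, mul_inv_cancel_right]
      have z := dec_one h hA.toAdj (mul_mem (inv_mem ha) (conj_mem hx ha))
        (this ▸ mul_mem he (inv_mem (conj_mem (nE hx) he)))
      rw [inv_mul_eq_one, eq_mul_inv_iff_mul_eq] at z
      exact z.symm
  obtain ⟨j0, j1, j2⟩ := exists_ne_one (h.adj_symm hB).nb
  have s1 : C[A ⊔ B'] ≤ C[A ⊔ B] := fun c hc => by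
    obtain ⟨a, a1, e, e1, rfl⟩ := ul h hg hA l3 c (C_anti le_sup_left hc)
    have aN : a ∈ N[B'] := (h.cent_iff hB j1 j2 a1).1
      (fixA j0 j1.2 a a1 e e1 (mem_C.1 hc j0 (mem_sup_right j1.1))).symm
    obtain ⟨b, b1, b2⟩ := h.exists_not_mem hB
    have lt : ax A B' ⊔ zpowers b < A := lt_of_card_lt (sup_le inf_le_left (zpowers_le.2 b1)) (by
      have c1 := card_ax_sup h hA.l (U := ax A B') (T := zpowers b) inf_le_left (zpowers_le.2 b1)
      have c2 : ♯(zpowers b) ≤ 2 := by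
        rw [card_zpowers']
        exact orderOf_le_of_pow_eq_one two_pos (by rw [sq]; exact h.sq A hA.l b b1)
      have c3 := card_pos (ax A B' ⊓ zpowers b)
      nlinarith)
    obtain ⟨b', b3, b4⟩ := SetLike.exists_of_lt lt
    obtain ⟨g, g1, g2, -, -, g3⟩ := h.exists_h hB b1 b2 b3 fun m => b4 (mem_sup_left ⟨b3, m⟩)
    have o := g3 fun m => b4 (by
      have := mul_mem (mem_sup_right (S := ax A B') (inv_mem (mem_zpowers b)))
        (mem_sup_left (T := zpowers b) (⟨mul_mem b1 b3, m⟩ : b * b' ∈ ax A B'))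
      simpa using this)
    have := o.fpf h hB (axLeW A B' ⟨a1, aN⟩) (fixA g g2 a a1 e e1 (mem_C.1 hc g g1))
    rw [this, one_mul]; exact e1
  have s2 : ∀ e ∈ C[A ⊔ B], ∀ j ∈ ax B' A, j ≠ 1 → e * j = j * e → e ∈ C[A ⊔ B'] :=
    fun e he j hj n k => by
      obtain ⟨i, i1, c, c1, rfl⟩ := h.CK hB (EK he) hj n k
      have : i = 1 := dec_one h hA.toAdj i1.1 (by simpa using mul_mem he (inv_mem (s1 c1)))
      rw [this, one_mul]; exact c1
  have z := ZL (J := ax B' A) (R := C[A ⊔ B]) (fun x hx => h.sq B' hB.r x hx.1) l5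
    (inf_le_right.trans nE) (fun j hj n r hr k => ?_)
    fun j hj n x hx _ k => C_anti (inf_le_left.trans le_sup_right) (s2 x hx j hj n k)
  · exact le_antisymm (fun e he => s2 e he j0 j1 j2 (mem_C.1 (z j1) e he)) s1
  · have ji := inv_of_sq (h.sq B' hB.r j hj.1)
    have tE : j * (r * j * r⁻¹) ∈ C[A ⊔ B] := by
      have := mul_mem (conj_mem (nE hj.2) hr) (inv_mem hr)
      rwa [ji, mul_assoc, mul_assoc, ← mul_assoc r] at this
    have tC := s2 _ tE j hj n (by rw [mul_assoc, ← k])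
    have cB : r * j * r⁻¹ ∈ C[B'] := by
      have := mul_mem (mem_C.2 fun x hx => h.comm hB.r hx hj.1) (C_anti le_sup_right tC)
      rwa [← mul_assoc, h.sq B' hB.r j hj.1, one_mul] at this
    have mB := h.mem_of_cent hB.r (h.cjm B' hB.r r) (conj_mem_cj r hj.1) cB
    have := mem_bot.1 ((h.inf_C hB.r hA.l hB.ne.symm).le (mem_inf.2 ⟨mul_mem hj.1 mB, EK tE⟩))
    exact (eq_inv_of_mul_eq_one_right this).trans ji

theorem cent [IsSimpleGroup G] (h : Sit Ω) (hg : Good Ω) (hc : Conn Ω)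
    (h4 : ∀ A B, Top Ω A B → 4 ≤ ♯(ax A B))
    (hE : ∀ A B B', Top Ω A B → Top Ω A B' → C[A ⊔ B] = C[A ⊔ B']) (hP : Adj Ω P Q) (hA : A ∈ Ω) :
    C[A] ≤ A := by
  have s1 : ∀ A B A' B', Adj Ω A A' → Top Ω A B → Top Ω A' B' → C[A ⊔ B] = C[A' ⊔ B'] :=
    fun A B A' B' k t t' => by
      by_cases tp : Top Ω A A'
      · rw [hE _ _ _ t tp, hE _ _ _ t' (h.top_symm tp), sup_comm]
      · rw [NE h hg h4 hE t k tp, NE h hg h4 hE t' (h.adj_symm k) fun m => tp (h.top_symm m), sup_comm]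
  obtain ⟨B, t⟩ := h.exists_top hP hA
  have s2 : ∀ A', Relation.ReflTransGen (Adj Ω) A A' → ∀ B', Top Ω A' B' → C[A ⊔ B] = C[A' ⊔ B'] :=
    fun A' k => by
      induction k with
      | refl => exact fun B' t' => hE _ _ _ t t'
      | tail _ k ih =>
        intro B' t'
        obtain ⟨B1, t1⟩ := h.exists_top hP k.l
        exact (ih B1 t1).trans (s1 _ _ _ _ k t1 t')
  have n : C[A ⊔ B].Normal := ⟨fun x hx g => by
    rw [s2 _ (hc A hA _ (h.cjm A hA g)) _ (h.top_cj t g), ← cj_sup, ← cj_C]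
    exact conj_mem_cj g hx⟩
  rcases n.eq_bot_or_eq_top with e | e
  · intro κ hκ
    obtain ⟨a, a1, c, c1, rfl⟩ := ul h hg t (h4 _ _ t) κ hκ
    rw [e, mem_bot] at c1
    rw [c1, mul_one]; exact a1
  · exact absurd (eq_bot_iff.2 fun a ha => mem_bot.2 (dec_one h t.toAdj ha (e ▸ mem_top a))) (h.ne A hA)

end H12.TI.TH
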