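import Mathlib
import Cfsg.Agent.H6.XZB

/-! Width four: certificates for the cases `27, 15, 9, 81` (definitions). -/

set_option autoImplicit false

namespace H6
namespace XS
namespace ZO

/-- evaluate `x` first -/
noncomputable def lit {α : Type} (x : ℕ) (k : ℕ → α) : α :=
  Nat.rec (motive := fun _ => α) (k 0) (fun m _ => k m) (Nat.succ x)

theorem lit_eq {α : Type} (x : ℕ) (k : ℕ → α) : lit x k = k x := rfl

/-- evaluate the list `l` first -/
noncomputable def litL {α : Type} (l : List ℕ) : (List ℕ → α) → α :=
  List.rec (motive := fun _ => (List ℕ → α) → α) (fun k => k [])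
    (fun a _ ih k => lit a fun a' => ih fun l' => k (a' :: l')) l

theorem litL_eq {α : Type} : ∀ (l : List ℕ) (k : List ℕ → α), litL l k = k l
  | [], _ => rfl
  | _ :: l, _ => litL_eq l _

/-- evaluate the list of lists `l` first -/
noncomputable def litM {α : Type} (l : List (List ℕ)) : (List (List ℕ) → α) → α :=
  List.rec (motive := fun _ => (List (List ℕ) → α) → α) (fun k => k [])
    (fun a _ ih k => litL a fun a' => ih fun l' => k (a' :: l')) l

theorem litM_eq {α : Type} : ∀ (l : List (List ℕ)) (k : List (List ℕ) → α), litM l k = k l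
  | [], _ => rfl
  | a :: l, k => by
    change litL a (fun a' => litM l fun l' => k (a' :: l')) = _
    rw [litL_eq, litM_eq l]

/-- certificate data -/
structure Tb where
  p0 : Pt
  p1 : Pt
  /-- word, its matrix, the inverse matrix, the image of `p0` -/
  W : List (List ℕ × List ℕ × List ℕ × Pt)
  e0 : ℕ
  bs : List (ℕ × ℕ)
  ms : List ℕ
  N : List (List ℕ)
  L : List (List ℕ)
  Lo : List (List ℕ)

namespace Tb

variable (t : Tb) (S : List ℕ)

def T : List Pt := t.W.map fun x => x.2.2.2

def ckW : Bool := t.T.map Pt.u == S && t.p0.u == 1 && t.p1.u == 128 && decide S.Nodup &&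
  S.length % 2 == 1 && t.W.all fun x =>
  evM (t.p0.R ++ t.p1.R) x.1 == x.2.1 && decide (MOK x.2.2.1) && cmp x.2.1 x.2.2.1 == idM &&
    (t.p0.mv x.2.1 x.2.2.1).sameB x.2.2.2

def ckS1 : Bool := t.p0.E.contains t.e0 && t.p1.E.contains t.e0 && t.T.all fun p =>
  polN 1 p.u == 0 || (p.E.all fun e => !t.p0.E.contains e || (e == 0) != (t.e0 == 0)) ||
    t.p0.R.any fun Y => app Y 128 == p.u

def cand (i : ℕ) : List ℕ := if i = 0 then t.p0.E else if i = 1 then t.p1.E else S

noncomputable def leaf (l : List (ℕ × ℕ)) : Bool :=
  litL (t.ms.map (app (l.map Prod.snd))) fun M => S.any (fun s => !S.contains (app M s)) || t.N.contains M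

noncomputable def ckS2 : Bool := (t.bs.all fun b => (t.cand S b.2).contains b.1) &&
  t.ms.map (app ((t.bs.map Prod.fst).reverse ++ [128, 1])) == idM &&
  go (t.leaf S) (t.bs.map fun b => (b.1, t.cand S b.2)) [(128, 128), (1, 1)]

def ckL : Bool := t.L == t.p0.R.flatMap fun Y => t.N.map (cmp Y)

def ckI : Bool := t.L.all fun M => cmp M M != idM || t.p0.R.contains M || t.Lo.contains M

/-- the main test -/
noncomputable def ckM (M : List ℕ) : Bool :=
  litL ((List.range 256).filter fun a => app M a == a) fun Fx =>
  litL (Fx.filter fun a => qN a == 0 && !S.contains a) fun Fs =>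
  litL (((List.range 256).map fun a => app M a ^^^ a).eraseDups) fun Im =>
  litM (t.L.filter fun g => cmp g M == cmp M g) fun C =>
  (List.range 256).all fun n => lit n fun n =>
    (Im.any fun w => polN n w != qN w || n ^^^ w < n) ||
    litL (Fx.filter fun a => polN n a == 0) fun A =>
    litL ([1, 2, 4, 8, 16, 32].map fun i => A.getD i 0) fun A' =>
    litL (Fs.filter fun i => polN n i == 0 && (A'.all fun a => polN i a == 0) &&
      (A.length == Fx.length || i == 0 || !Im.contains i)) fun X =>
    lit (X.length * (C.filter fun g => A'.all fun a => X.contains (app g a ^^^ a)).length) fun m =>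
      m < 16 || (32 ≤ A.length && m < 64) ||
        A.any fun a => S.contains a && A.any fun b => S.contains b && S.contains (a ^^^ b)

/-- no elementary abelian group of order eight modulo `R` -/
noncomputable def ckE (M : List ℕ) : Bool :=
  litM (t.Lo.filter fun N => t.Lo.contains (cmp M N)) fun C =>
    C.all fun N => C.all fun K => litL (cmp N K) fun P =>
      !t.Lo.contains P || !t.Lo.contains (cmp M P)

def ck1 : Bool := t.p0.R.all fun Y => Y == idM || (t.p0.E.any fun e => app Y e != e) &&
  (List.range 256).all fun a => app Y a != a || (List.range 256).any fun x => app Y x ^^^ x == a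

def ck3 : Bool := t.p0.R.all fun Y => Y == idM || t.T.all fun p => app Y p.u != p.u || p.R.contains Y

noncomputable def ckG : Bool := t.p0.R.all fun Y => Y == idM ||
  (S.all fun r => polN 1 r != 0 || !t.p0.E.contains (app Y 128 ^^^ 128 ^^^ r)) ||
  litL ((List.range 256).filter fun a => app Y a == a) fun Fx => (Fx.any fun a => qN a != 0) ||
    litL (Fx.filter fun a => a != 0 && !S.contains a) fun Fs =>
    (Fs.all fun s => t.T.any fun p => p.E.contains s && p.R.contains Y) &&
    (List.range 256).all fun x => lit (app Y x ^^^ x) fun a => !Fs.contains a ||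
      Fs.all fun b => !Fs.contains (a ^^^ b) || polN x b == 1

def ck4 : Bool := (List.range 256).any fun a => a != 0 && qN a == 0 && !S.contains a

end Tb

end ZO
end XS
end H6
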