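import Mathlib
import Cfsg.Agent.H25.ZODefs
import Cfsg.Agent.H6.XV1
import Cfsg.Agent.H6.XZW

/-! Width four: what the certificates give on the linear level. -/

set_option autoImplicit false
set_option linter.unusedSectionVars false
set_option linter.unusedVariables false
set_option linter.unusedSimpArgs false

namespace H6
namespace XS
namespace ZO

open Subgroup H24 H15 H15.XP Module

/-- all tests -/
structure Ck (d : Dat) (t : Tb) : Prop where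
  m0 : t.p0 ∈ d.pts
  m1 : t.p1 ∈ d.pts
  W : t.ckW d.S = true
  S1 : t.ckS1 = true
  S2 : t.ckS2 d.S = true
  L : t.ckL = true
  I : t.ckI = true
  M : t.Lo.all (t.ckM d.S) = true
  E : t.Lo.all t.ckE = true
  c1 : t.ck1 = true
  c3 : t.ck3 = true
  G : t.ckG d.S = true
  c4 : Tb.ck4 d.S = true

variable {V : Type*} [AddCommGroup V] [Module (ZMod 2) V] [Finite V] {q : QuadraticForm (ZMod 2) V}
variable {H : Subgroup (ofQuad q).Isom} {S : Set V} {E : V → Submodule (ZMod 2) V}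
  {R : V → Subgroup (ofQuad q).Isom} {c : ℕ → V} {d : Dat} {t : Tb} {w : ℕ}

theorem add_self' (v : V) : v + v = 0 := by
  rw [← two_smul (ZMod 2)]; exact zero_smul _ _

theorem add_eq_zero' {u v : V} : u + v = 0 ↔ u = v := by
  constructor
  · intro e
    calc u = u + (v + v) := by rw [add_self', add_zero]
      _ = v := by rw [← add_assoc, e, zero_add]
  · rintro rfl; exact add_self' _

theorem Cd.eq0 (hc : Cd q c) {a : ℕ} (ha : a < 256) : c a = 0 ↔ a = 0 :=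
  ⟨hc.inj a ha, fun e => e ▸ hc.zero⟩

theorem rp_fix (hc : Cd q c) {h : (ofQuad q).Isom} {M : List ℕ} (r : Rp c h M) {a : ℕ} (ha : a < 256) :
    h.1 (c a) = c a ↔ app M a = a := by
  rw [r.2 a ha, hc.eq_iff (app_lt r.1 a) ha]

theorem rp_com (hc : Cd q c) {h : (ofQuad q).Isom} {M : List ℕ} (r : Rp c h M) {a : ℕ} (ha : a < 256) :
    h.1 (c a) + c a = c (app M a ^^^ a) := by
  rw [r.2 a ha, hc.add _ (app_lt r.1 a) _ ha]

theorem rp_ne (hc : Cd q c) {h : (ofQuad q).Isom} {M : List ℕ} (r : Rp c h M) (h1 : h ≠ 1) :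
    M ≠ idM := fun e => h1 (hc.ext r (e ▸ hc.rp_one))

theorem ncard_le_length {α β : Type*} [DecidableEq β] (s : Set α) (l : List β) (r : α → β → Prop)
    (h1 : ∀ a ∈ s, ∃ b ∈ l, r a b) (h2 : ∀ a a' b, r a b → r a' b → a = a') : s.ncard ≤ l.length := by
  classical
  choose! f f1 f2 using fun (a : s) => h1 a a.2
  rw [← Nat.card_coe_set_eq]
  calc Nat.card s ≤ Nat.card (l.toFinset : Set β) :=
        Nat.card_le_card_of_injective (fun a => ⟨f a, by simpa using f1 a⟩) fun a a' e =>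
          Subtype.ext (h2 _ _ (f a) (f2 a) (by
            have : f a = f a' := congrArg Subtype.val e
            rw [this]; exact f2 a'))
    _ ≤ l.length := by
        rw [Nat.card_coe_set_eq, Set.ncard_coe_finset]; exact List.toFinset_card_le l

theorem exists_n (hq : (ofQuad q).Nondeg) (hc : Cd q c) {y : (ofQuad q).Isom}
    {A : Submodule (ZMod 2) V}
    (hi : ∀ s s', y.1 s = s → y.1 s' = s' → s ∉ A → s' ∉ A → s + s' ∈ A) :
    ∃ n, (n < 256 ∧ ∀ a, y.1 a = a → (H15.pol q (c n) a = 0 ↔ a ∈ A)) := by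
  by_cases e : ∀ s, y.1 s = s → s ∈ A
  · exact ⟨0, by norm_num, fun a f => by rw [hc.zero]; simp [e a f]⟩
  push Not at e
  obtain ⟨s, s1, s2⟩ := e
  obtain ⟨f, f1, f2⟩ := Submodule.exists_dual_map_eq_bot_of_notMem s2 inferInstance
  obtain ⟨u, hu⟩ := hq.exists_dual f
  obtain ⟨n, hn, rfl⟩ := hc.surj u
  have f3 : ∀ a ∈ A, f a = 0 := fun a ha => by
    have : f a ∈ A.map f := Submodule.mem_map_of_mem ha
    rwa [f2, Submodule.mem_bot] at this
  refine ⟨n, hn, fun a fa => ⟨fun p => ?_, fun m => (hu a).trans (f3 a m)⟩⟩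
  by_contra m
  have := f3 _ (hi s a s1 fa s2 m)
  rw [map_add, ← hu a, p, add_zero] at this
  exact f1 this

namespace Ck

variable (k : Ck d t)
include k

theorem W' : t.T.map Pt.u = d.S ∧ t.p0.u = 1 ∧ t.p1.u = 128 ∧ d.S.Nodup ∧ d.S.length % 2 = 1 ∧
    ∀ x ∈ t.W, evM (t.p0.R ++ t.p1.R) x.1 = x.2.1 ∧ MOK x.2.2.1 ∧ cmp x.2.1 x.2.2.1 = idM ∧
      (t.p0.mv x.2.1 x.2.2.1).sameB x.2.2.2 = true := by
  have := k.W
  simp only [Tb.ckW, Bool.and_eq_true, beq_iff_eq, decide_eq_true_eq, List.all_eq_true] at this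
  obtain ⟨⟨⟨⟨⟨a1, a2⟩, a3⟩, a4⟩, a5⟩, a6⟩ := this
  exact ⟨a1, a2, a3, a4, a5, fun x hx => ⟨(a6 x hx).1.1.1, (a6 x hx).1.1.2, (a6 x hx).1.2, (a6 x hx).2⟩⟩

theorem u0 : t.p0.u = 1 := k.W'.2.1
theorem u1 : t.p1.u = 128 := k.W'.2.2.1

variable (cs : Cs c S E R d)
include cs

theorem at0 : At c E R t.p0 := (cs.pt _ k.m0).2
theorem at1 : At c E R t.p1 := (cs.pt _ k.m1).2
theorem v0 : c 1 ∈ S := (cs.memS 1 (by norm_num)).2 (k.u0 ▸ (cs.pt _ k.m0).1)
theorem v1 : c 128 ∈ S := (cs.memS 128 (by norm_num)).2 (k.u1 ▸ (cs.pt _ k.m1).1)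
theorem memE0 {a : ℕ} (ha : a < 256) : c a ∈ E (c 1) ↔ a ∈ t.p0.E := k.u0 ▸ (k.at0 cs).memE a ha
theorem memE1 {a : ℕ} (ha : a < 256) : c a ∈ E (c 128) ↔ a ∈ t.p1.E := k.u1 ▸ (k.at1 cs).memE a ha
theorem ofR0 {y : (ofQuad q).Isom} (hy : y ∈ R (c 1)) : ∃ M ∈ t.p0.R, Rp c y M :=
  (k.at0 cs).ofR y (k.u0 ▸ hy)
theorem toR0 {M : List ℕ} (hM : M ∈ t.p0.R) : ∃ y ∈ R (c 1), Rp c y M := k.u0 ▸ (k.at0 cs).toR M hM
theorem toR1 {M : List ℕ} (hM : M ∈ t.p1.R) : ∃ y ∈ R (c 128), Rp c y M := k.u1 ▸ (k.at1 cs).toR M hM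
theorem memR0 {y : (ofQuad q).Isom} {M : List ℕ} (r : Rp c y M) (hM : M ∈ t.p0.R) : y ∈ R (c 1) := by
  obtain ⟨y', h1, h2⟩ := k.toR0 cs hM
  exact cs.cd.ext r h2 ▸ h1

theorem odd : Odd (Nat.card S) := by
  have e : S = c '' (d.S.toFinset : Set ℕ) := by
    ext v
    obtain ⟨a, ha, rfl⟩ := cs.cd.surj v
    constructor
    · intro h; exact ⟨a, by simpa using (cs.memS a ha).1 h, rfl⟩
    · rintro ⟨b, hb, e⟩
      have hb' : b ∈ d.S := by simpa using hb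
      exact e ▸ (cs.memS b (cs.ltS b hb')).2 hb'
  rw [e, Nat.card_coe_set_eq, Set.InjOn.ncard_image, Set.ncard_coe_finset,
    List.toFinset_card_of_nodup k.W'.2.2.2.1]
  · exact Nat.odd_iff.2 k.W'.2.2.2.2.1
  · intro a ha b hb e
    exact (cs.cd.eq_iff (cs.ltS a (by simpa using ha)) (cs.ltS b (by simpa using hb))).1 e

theorem exT {u : V} (hu : u ∈ S) : ∃ p ∈ t.T, c p.u = u := by
  obtain ⟨a, ha, rfl⟩ := cs.cd.surj u
  have := (cs.memS a ha).1 hu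
  rw [← k.W'.1] at this
  obtain ⟨p, h1, h2⟩ := List.mem_map.1 this
  exact ⟨p, h1, by rw [h2]⟩

theorem memT {p : Pt} (hp : p ∈ t.T) : c p.u ∈ S := by
  have : p.u ∈ d.S := k.W'.1 ▸ List.mem_map.2 ⟨p, hp, rfl⟩
  exact (cs.memS _ (cs.ltS _ this)).2 this

theorem h4 : ∃ s, s ≠ 0 ∧ q s = 0 ∧ s ∉ S := by
  have := k.c4
  simp only [Tb.ck4, List.any_eq_true, List.mem_range, Bool.and_eq_true, bne_iff_ne, beq_iff_eq,
    Bool.not_eq_true', List.contains_eq_mem, decide_eq_false_iff_not] at this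
  obtain ⟨a, ha, ⟨h1, h2⟩, h3⟩ := this
  exact ⟨c a, fun e => h1 (cs.cd.inj a ha e), (cs.cd.q0 ha).2 h2, fun e => h3 ((cs.memS a ha).1 e)⟩

variable (hv : VD H S E R w)
include hv

theorem pts {K : Subgroup (ofQuad q).Isom} (hK : K ≤ H) (h0 : R (c 1) ≤ K) (h1 : R (c 128) ≤ K)
    {p : Pt} (hp : p ∈ t.T) : At c E R p ∧ ∃ h ∈ K, h.1 (c 1) = c p.u := by
  obtain ⟨x, hx, rfl⟩ := List.mem_map.1 hp
  obtain ⟨e1, e2, e3, e4⟩ := k.W'.2.2.2.2.2 x hx
  obtain ⟨h, hh, r⟩ := cs.cd.evM (K := K) (Ms := t.p0.R ++ t.p1.R) (fun M hM => by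
    rcases List.mem_append.1 hM with hM | hM
    · obtain ⟨y, y1, y2⟩ := k.toR0 cs hM; exact ⟨y, h0 y1, y2⟩
    · obtain ⟨y, y1, y2⟩ := k.toR1 cs hM; exact ⟨y, h1 y1, y2⟩) x.1
  rw [e1] at r
  have a := (At.mv hv cs.cd (k.at0 cs) (k.u0 ▸ k.v0 cs) (hK hh) r (cs.cd.rp_inv r e2 e3))
  refine ⟨a.same e4, h, hh, ?_⟩
  simp only [Pt.sameB, Bool.and_eq_true, beq_iff_eq] at e4
  rw [← e4.1.1.1.1, r.2 1 (by norm_num)]
  change _ = c (app _ t.p0.u)
  rw [k.u0]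

theorem atT {p : Pt} (hp : p ∈ t.T) : At c E R p :=
  (k.pts cs hv le_rfl (hv.le _ (k.v0 cs)) (hv.le _ (k.v1 cs)) hp).1

theorem trans {K : Subgroup (ofQuad q).Isom} (hK : K ≤ H) (h0 : R (c 1) ≤ K) (h1 : R (c 128) ≤ K)
    {u : V} (hu : u ∈ S) : ∃ h ∈ K, h.1 (c 1) = u := by
  obtain ⟨p, hp, rfl⟩ := k.exT cs hu
  exact (k.pts cs hv hK h0 h1 hp).2

theorem transH {u : V} (hu : u ∈ S) : ∃ h ∈ H, h.1 (c 1) = u :=
  k.trans cs hv le_rfl (hv.le _ (k.v0 cs)) (hv.le _ (k.v1 cs)) hu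

theorem fixpt {K : Subgroup (ofQuad q).Isom} (hK : K ≤ H) (h2 : IsPGroup 2 K) :
    ∃ h ∈ H, ∀ g ∈ K, (h⁻¹ * g * h).1 (c 1) = c 1 := by
  letI : MulAction K S :=
    { smul := fun g s => ⟨g.1.1 s, hv.inv _ (hK g.2) _ s.2⟩
      one_smul := fun s => Subtype.ext rfl
      mul_smul := fun a b s => Subtype.ext rfl }
  haveI : Fact (Nat.Prime 2) := ⟨Nat.prime_two⟩
  obtain ⟨u, hu⟩ := h2.nonempty_fixed_point_of_prime_not_dvd_card S
    (by have := k.odd cs; rwa [← Nat.not_even_iff_odd, even_iff_two_dvd] at this)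
  obtain ⟨h, hh, e⟩ := k.transH cs hv u.2
  refine ⟨h, hh, fun g hg => ?_⟩
  have : g.1 u = u := congrArg Subtype.val (hu ⟨g, hg⟩)
  rw [Form.Isom.mul_apply, Form.Isom.mul_apply, e, this, ← e, Form.Isom.inv_apply_apply]

/-- reduction to the base point -/
theorem red {v : V} (hS : v ∈ S) {y : (ofQuad q).Isom} (hy : y ∈ R v) :
    ∃ h ∈ H, ∃ y0 ∈ R (c 1), v = h.1 (c 1) ∧ y = h * y0 * h⁻¹ := by
  obtain ⟨h, hh, rfl⟩ := k.transH cs hv hS
  refine ⟨h, hh, h⁻¹ * y * h, (hv.eqR h hh _ (k.v0 cs) _).1 ?_, rfl, by group⟩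
  rwa [show h * (h⁻¹ * y * h) * h⁻¹ = y by group]

theorem stab2 {h : (ofQuad q).Isom} (hh : h ∈ H) (f0 : h.1 (c 1) = c 1) (f1 : h.1 (c 128) = c 128) :
    ∃ M ∈ t.N, Rp c h M := by
  have := k.S2
  simp only [Tb.ckS2, Bool.and_eq_true, List.all_eq_true, List.contains_iff_mem, beq_iff_eq] at this
  obtain ⟨⟨b1, b2⟩, b3⟩ := this
  have hc := cs.cd
  obtain ⟨l, l1, l2, l3⟩ := hc.go (h := h) _ _ (fun b hb => by
    obtain ⟨x, hx, rfl⟩ := List.mem_map.1 hb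
    have m := b1 x hx
    obtain ⟨a, ha, e⟩ := hc.surj (h.1 (c x.1))
    unfold Tb.cand at m ⊢
    dsimp only
    split_ifs at m ⊢
    · have lt := (k.at0 cs).ltE _ m
      refine ⟨lt, a, (k.memE0 cs ha).1 ?_, ha, e.symm⟩
      rw [e, ← f0, hv.eqE h hh _ (k.v0 cs)]
      exact (k.memE0 cs lt).2 m
    · have lt := (k.at1 cs).ltE _ m
      refine ⟨lt, a, (k.memE1 cs ha).1 ?_, ha, e.symm⟩
      rw [e, ← f1, hv.eqE h hh _ (k.v1 cs)]
      exact (k.memE1 cs lt).2 m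
    · have lt := cs.ltS _ m
      refine ⟨lt, a, (cs.memS a ha).1 ?_, ha, e.symm⟩
      rw [e]
      exact hv.inv h hh _ ((cs.memS _ lt).2 m)) (fun p hp => by
    simp only [List.mem_cons, List.not_mem_nil, or_false] at hp
    rcases hp with rfl | rfl
    exacts [⟨by norm_num, by norm_num, f1⟩, ⟨by norm_num, by norm_num, f0⟩]) b3
  have l1' : l.map Prod.fst = (t.bs.map Prod.fst).reverse ++ [128, 1] := by
    rw [l1, List.map_map]; rfl
  rw [← l1'] at b2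
  have len : t.ms.length = 8 := by simpa [idM] using congrArg List.length b2
  have ok : MOK (t.ms.map (app (l.map Prod.snd))) := ⟨by simp [len], fun m hm => by
    obtain ⟨x, -, rfl⟩ := List.mem_map.1 hm
    exact app_lt' _ (fun y hy => by
      obtain ⟨p, hp, rfl⟩ := List.mem_map.1 hy; exact (l2 p hp).2.1) _⟩
  have r : Rp c h (t.ms.map (app (l.map Prod.snd))) := hc.rp ok fun i hi => by
    have e1 : app (l.map Prod.fst) (t.ms.getD i 0) = 2 ^ i := by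
      have := congrArg (fun X => X.getD i 0) b2
      simp only [List.getD_eq_getElem _ _ (show i < (t.ms.map (app (l.map Prod.fst))).length by
        simp [len, hi]), List.getElem_map] at this
      rw [List.getD_eq_getElem _ _ (len ▸ hi), this]
      interval_cases i <;> rfl
    rw [app_pow ok.1 hi, List.getD_eq_getElem _ _ (by simp [len, hi]), List.getElem_map,
      ← List.getD_eq_getElem _ 0 (len ▸ hi), ← hc.lin l l2, e1]
  rw [Tb.leaf, litL_eq] at l3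
  simp only [Bool.or_eq_true, List.any_eq_true, Bool.not_eq_true', List.contains_eq_mem,
    decide_eq_false_iff_not, decide_eq_true_eq] at l3
  rcases l3 with ⟨s, s1, s2⟩ | l3
  · have lt := cs.ltS s s1
    refine absurd ((cs.memS _ (app_lt ok s)).1 ?_) s2
    rw [← r.2 s lt]
    exact hv.inv h hh _ ((cs.memS s lt).2 s1)
  · exact ⟨_, l3, r⟩

theorem stab {h : (ofQuad q).Isom} (hh : h ∈ H) (f0 : h.1 (c 1) = c 1) : ∃ M ∈ t.L, Rp c h M := by
  have hc := cs.cd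
  have := k.S1
  simp only [Tb.ckS1, Bool.and_eq_true, List.all_eq_true, List.contains_iff_mem, Bool.or_eq_true,
    beq_iff_eq, List.any_eq_true, Bool.not_eq_true', List.contains_eq_mem, decide_eq_false_iff_not,
    decide_eq_true_eq, bne_iff_ne] at this
  obtain ⟨⟨b1, b2⟩, b3⟩ := this
  obtain ⟨p, hp, e⟩ := k.exT cs (hv.inv h hh _ (k.v1 cs))
  have ap := k.atT cs hv hp
  have lt0 := (k.at0 cs).ltE _ b1
  rcases b3 p hp with (b | b) | ⟨Y, Y1, Y2⟩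
  · have : pol q (c 1) (c p.u) = 1 := by
      rw [e, ← f0, Form.Isom.map_pol]; exact (hc.pol1 (by norm_num) (by norm_num)).2 rfl
    rw [(hc.pol1 (by norm_num) ap.lt)] at this
    omega
  · obtain ⟨a, ha, ea⟩ := hc.surj (h.1 (c t.e0))
    have m1 : a ∈ p.E := (ap.memE a ha).1 (by
      rw [ea, e, hv.eqE h hh _ (k.v1 cs)]; exact (k.memE1 cs lt0).2 b2)
    have m0 : a ∈ t.p0.E := (k.memE0 cs ha).1 (by
      rw [ea, ← f0, hv.eqE h hh _ (k.v0 cs)]; exact (k.memE0 cs lt0).2 b1)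
    rcases b a m1 with b | b
    · exact absurd m0 b
    · refine absurd ?_ b
      have : a = 0 ↔ t.e0 = 0 := by
        rw [← Cd.eq0 hc ha, ← Cd.eq0 hc lt0, ea, h.1.map_eq_zero_iff]
      rw [Bool.eq_iff_iff]; simpa using this
  · obtain ⟨y, y1, y2⟩ := k.toR0 cs Y1
    obtain ⟨M, M1, M2⟩ := k.stab2 cs hv (h := y⁻¹ * h) (mul_mem (inv_mem (hv.le _ (k.v0 cs) y1)) hh)
      (by rw [Form.Isom.mul_apply, f0]; exact hv.fix _ (k.v0 cs) _ (inv_mem y1))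
      (by rw [Form.Isom.mul_apply, ← e, ← Y2, ← y2.2 128 (by norm_num), Form.Isom.inv_apply_apply])
    refine ⟨cmp Y M, ?_, by simpa using y2.mul M2⟩
    have := k.L
    simp only [Tb.ckL, beq_iff_eq] at this
    rw [this]
    exact List.mem_flatMap.2 ⟨Y, Y1, List.mem_map.2 ⟨M, M1, rfl⟩⟩

/-- involutions in the stabiliser -/
theorem stabI {h : (ofQuad q).Isom} (hh : h ∈ H) (f0 : h.1 (c 1) = c 1) (h2 : h * h = 1)
    (hn : h ∉ R (c 1)) : ∃ M ∈ t.Lo, Rp c h M := by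
  obtain ⟨M, M1, M2⟩ := k.stab cs hv hh f0
  have := k.I
  simp only [Tb.ckI, List.all_eq_true, Bool.or_eq_true, bne_iff_ne, List.contains_iff_mem] at this
  rcases this M M1 with (b | b) | b
  · exact absurd (cs.cd.uniq (M2.mul M2) (h2 ▸ cs.cd.rp_one)) b
  · exact absurd (k.memR0 cs M2 b) hn
  · exact ⟨M, b, M2⟩

theorem h1 {v : V} (hS : v ∈ S) {y : (ofQuad q).Isom} (hy : y ∈ R v) (y1 : y ≠ 1) : Fu E v y := by
  obtain ⟨h, hh, y0, h0, rfl, rfl⟩ := k.red cs hv hS hy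
  have hc := cs.cd
  obtain ⟨Y, Y1, Y2⟩ := k.ofR0 cs h0
  have := k.c1
  simp only [Tb.ck1, List.all_eq_true, Bool.or_eq_true, beq_iff_eq, List.mem_range, bne_iff_ne,
    List.any_eq_true, Bool.and_eq_true] at this
  rcases this Y Y1 with b1 | ⟨⟨e, e1, e2⟩, b1⟩
  · exact absurd b1 (rp_ne hc Y2 fun e => y1 (by rw [e]; group))
  refine ⟨fun a f => ?_, h.1 (c e), ?_, fun f => e2 ?_⟩
  · obtain ⟨b, hb, eb⟩ := hc.surj (h⁻¹.1 a)
    rcases b1 b hb with b1 | ⟨x, x1, x2⟩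
    · refine absurd ((rp_fix hc Y2 hb).1 ?_) b1
      rw [eb]
      have := congrArg h⁻¹.1 f
      rwa [Form.Isom.mul_apply, Form.Isom.mul_apply, Form.Isom.inv_apply_apply] at this
    · refine ⟨h.1 (c x), ?_⟩
      rw [Form.Isom.mul_apply, Form.Isom.mul_apply, Form.Isom.inv_apply_apply, ← map_add,
        rp_com hc Y2 x1, x2, eb, Form.Isom.apply_inv_apply]
  · rw [hv.eqE h hh _ (k.v0 cs)]
    exact (k.memE0 cs ((k.at0 cs).ltE e e1)).2 e1
  · rw [Form.Isom.mul_apply, Form.Isom.mul_apply, Form.Isom.inv_apply_apply] at f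
    exact (rp_fix hc Y2 ((k.at0 cs).ltE e e1)).1 (h.1.injective f)

theorem iii {v : V} (hS : v ∈ S) {y : (ofQuad q).Isom} (hy : y ∈ R v) {u : V} (hu : u ∈ S)
    (f : y.1 u = u) : y ∈ R u := by
  by_cases y1 : y = 1
  · exact y1 ▸ one_mem _
  obtain ⟨h, hh, y0, h0, rfl, rfl⟩ := k.red cs hv hS hy
  have hc := cs.cd
  obtain ⟨Y, Y1, Y2⟩ := k.ofR0 cs h0
  obtain ⟨p, hp, e⟩ := k.exT cs (hv.inv _ (inv_mem hh) _ hu)
  have ap := k.atT cs hv hp
  have := k.c3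
  simp only [Tb.ck3, List.all_eq_true, Bool.or_eq_true, beq_iff_eq, bne_iff_ne,
    List.contains_iff_mem] at this
  rcases this Y Y1 with b1 | b1
  · exact absurd b1 (rp_ne hc Y2 fun e => y1 (by rw [e]; group))
  rcases b1 p hp with b1 | b1
  · refine absurd ((rp_fix hc Y2 ap.lt).1 ?_) b1
    rw [e]
    have := congrArg h⁻¹.1 f
    rwa [Form.Isom.mul_apply, Form.Isom.mul_apply, Form.Isom.inv_apply_apply] at this
  · obtain ⟨y', m1, m2⟩ := ap.toR Y b1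
    rw [← hc.ext Y2 m2] at m1
    rw [← Form.Isom.apply_inv_apply h u, ← e, hv.eqR h hh _ (k.memT cs hp)]
    exact m1

theorem h3₀ {y : (ofQuad q).Isom} (hy : y ∈ R (c 1)) (y1 : y ≠ 1) (g : Gd S E (c 1) y)
    (ts : ∀ a, y.1 a = a → q a = 0) :
    (∀ s, y.1 s = s → s ≠ 0 → s ∉ S → ∃ u ∈ S, y ∈ R u ∧ s ∈ E u) ∧
      ∀ x x', y.1 x + x ≠ 0 → y.1 x + x ∉ S → y.1 x' + x' ≠ 0 → y.1 x' + x' ∉ S →
        y.1 (x + x') + (x + x') ≠ 0 → y.1 (x + x') + (x + x') ∉ S →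
          pol q x (y.1 x' + x') = 1 := by
  have hc := cs.cd
  obtain ⟨Y, Y1, Y2⟩ := k.ofR0 cs hy
  have := k.G
  simp only [Tb.ckG, litL_eq, lit_eq, List.all_eq_true, Bool.or_eq_true, beq_iff_eq, bne_iff_ne,
    List.contains_iff_mem, Bool.not_eq_true', List.contains_eq_mem, decide_eq_false_iff_not,
    List.any_eq_true, List.mem_filter, List.mem_range, Bool.and_eq_true, decide_eq_true_eq] at this
  rcases this Y Y1 with (b1 | b1) | ⟨a, ⟨a1, a2⟩, a3⟩ | ⟨b1, b2⟩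
  · exact absurd b1 (rp_ne hc Y2 y1)
  · exfalso
    obtain ⟨r, r1, x, r2, r3, r4⟩ := g
    obtain ⟨b, hb, rfl⟩ := hc.surj r
    rcases b1 b ((cs.memS b hb).1 r1) with b1 | b1
    · exact b1 ((hc.pol0 (by norm_num) hb).1 r2)
    · refine b1 ((k.memE0 cs (xor_lt (xor_lt (app_lt Y2.1 _) (by norm_num)) hb)).1 ?_)
      rw [hc.add _ (xor_lt (app_lt Y2.1 _) (by norm_num)) _ hb, ← rp_com hc Y2 (by norm_num)]
      have p := hv.perp _ (k.v0 cs) y hy (x + c 128) (by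
        rw [map_add, r3, (hc.pol1 (by norm_num) (by norm_num)).2 rfl]; rfl)
      have := add_mem r4 p
      rwa [map_add, show y.1 x + x + c b + (y.1 x + y.1 (c 128) + (x + c 128)) =
        y.1 (c 128) + c 128 + c b + (y.1 x + y.1 x) + (x + x) by abel, add_self', add_self',
        add_zero, add_zero] at this
  · exact absurd ((hc.q0 a1).1 (ts _ ((rp_fix hc Y2 a1).2 a2))) a3
  · have fx : ∀ x, y.1 (y.1 x + x) = y.1 x + x := fun x => by
      rw [map_add, ← Form.Isom.mul_apply, hv.sq _ (k.v0 cs) y hy, add_comm]; rfl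
    have mk : ∀ a < 256, y.1 (c a) = c a → c a ≠ 0 → c a ∉ S →
        (a < 256 ∧ app Y a = a) ∧ a ≠ 0 ∧ a ∉ d.S := fun a ha f1 f2 f3 =>
      ⟨⟨ha, (rp_fix hc Y2 ha).1 f1⟩, fun e => f2 (e ▸ hc.zero), fun e => f3 ((cs.memS a ha).2 e)⟩
    refine ⟨fun s s1 s2 s3 => ?_, fun x x' x1 x2 x3 x4 x5 x6 => ?_⟩
    · obtain ⟨a, ha, rfl⟩ := hc.surj s
      obtain ⟨p, hp, p1, p2⟩ := b1 a (mk a ha s1 s2 s3)
      have ap := k.atT cs hv hp
      obtain ⟨y', m1, m2⟩ := ap.toR Y p2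
      exact ⟨c p.u, k.memT cs hp, hc.ext Y2 m2 ▸ m1, (ap.memE a ha).2 p1⟩
    · obtain ⟨a, ha, rfl⟩ := hc.surj x
      obtain ⟨b, hb, eb⟩ := hc.surj (y.1 x' + x')
      have la := xor_lt (app_lt Y2.1 a) ha
      have ea := rp_com hc Y2 ha
      have es : y.1 (c a + x') + (c a + x') = c (app Y a ^^^ a ^^^ b) := by
        rw [hc.add _ la _ hb, ← ea, eb, map_add]; abel
      rcases b2 a ha with b2 | b2
      · exact absurd (mk _ la (ea ▸ fx _) (ea ▸ x1) (ea ▸ x2)) b2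
      rcases b2 b (mk _ hb (eb ▸ fx _) (eb ▸ x3) (eb ▸ x4)) with b2 | b2
      · exact absurd (mk _ (xor_lt la hb) (es ▸ fx _) (es ▸ x5) (es ▸ x6)) b2
      · rw [← eb]; exact (hc.pol1 ha hb).2 b2

theorem h3 {v : V} (hS : v ∈ S) {y : (ofQuad q).Isom} (hy : y ∈ R v) (y1 : y ≠ 1) (g : Gd S E v y)
    (ts : ∀ a, y.1 a = a → q a = 0) :
    (∀ s, y.1 s = s → s ≠ 0 → s ∉ S → ∃ u ∈ S, y ∈ R u ∧ s ∈ E u) ∧
      ∀ x x', y.1 x + x ≠ 0 → y.1 x + x ∉ S → y.1 x' + x' ≠ 0 → y.1 x' + x' ∉ S →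
        y.1 (x + x') + (x + x') ≠ 0 → y.1 (x + x') + (x + x') ∉ S →
          pol q x (y.1 x' + x') = 1 := by
  obtain ⟨h, hh, y0, h0, rfl, rfl⟩ := k.red cs hv hS hy
  have ap : ∀ x, (h * y0 * h⁻¹).1 (h.1 x) = h.1 (y0.1 x) := fun x => by
    rw [Form.Isom.mul_apply, Form.Isom.mul_apply, Form.Isom.inv_apply_apply]
  have sj : ∀ x, ∃ x0, h.1 x0 = x := fun x => ⟨h⁻¹.1 x, Form.Isom.apply_inv_apply h x⟩
  have mS : ∀ x, h.1 x ∈ S ↔ x ∈ S := fun x => ⟨fun m => by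
    simpa [Form.Isom.inv_apply_apply] using hv.inv _ (inv_mem hh) _ m, hv.inv h hh x⟩
  have n0 : ∀ x, h.1 x ≠ 0 ↔ x ≠ 0 := fun x => h.1.map_ne_zero_iff
  obtain ⟨k1, k2⟩ := k.h3₀ cs hv h0 (fun e => y1 (by rw [e]; group)) (by
    obtain ⟨r, r1, x, r2, r3, r4⟩ := g
    obtain ⟨r, rfl⟩ := sj r
    obtain ⟨x, rfl⟩ := sj x
    rw [Form.Isom.map_pol] at r2 r3
    rw [ap, ← map_add, ← map_add, hv.eqE h hh _ (k.v0 cs)] at r4
    exact ⟨r, (mS r).1 r1, x, r2, r3, r4⟩) (fun a f => by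
      rw [← Form.Isom.map_quad h a]; exact ts _ (by rw [ap, f]))
  refine ⟨fun s s1 s2 s3 => ?_, fun x x' x1 x2 x3 x4 x5 x6 => ?_⟩
  · obtain ⟨s, rfl⟩ := sj s
    rw [ap] at s1
    obtain ⟨u, u1, u2, u3⟩ := k1 s (h.1.injective s1) ((n0 s).1 s2) fun m => s3 ((mS s).2 m)
    exact ⟨h.1 u, (mS u).2 u1, (hv.eqR h hh u u1 _).2 u2, (hv.eqE h hh u u1 _).2 u3⟩
  · obtain ⟨x, rfl⟩ := sj x
    obtain ⟨x', rfl⟩ := sj x'
    rw [← map_add] at x5 x6
    rw [ap, ← map_add] at x1 x2 x3 x4 x5 x6 ⊢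
    rw [Form.Isom.map_pol]
    exact k2 x x' ((n0 _).1 x1) (fun m => x2 ((mS _).2 m)) ((n0 _).1 x3) (fun m => x4 ((mS _).2 m))
      ((n0 _).1 x5) fun m => x6 ((mS _).2 m)

/-- no elementary abelian group of order eight meeting `R` trivially -/
theorem noE8 {a b e : (ofQuad q).Isom}
    (P : ∀ h ∈ [a, b, e, a * b, a * e, b * e, a * (b * e)],
      h ∈ H ∧ h.1 (c 1) = c 1 ∧ h * h = 1 ∧ h ∉ R (c 1)) : False := by
  have hc := cs.cd
  have Q : ∀ h ∈ [a, b, e, a * b, a * e, b * e, a * (b * e)], ∃ M ∈ t.Lo, Rp c h M := fun h hh =>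
    k.stabI cs hv (P h hh).1 (P h hh).2.1 (P h hh).2.2.1 (P h hh).2.2.2
  obtain ⟨A, A1, A2⟩ := Q a (by simp)
  obtain ⟨B, B1, B2⟩ := Q b (by simp)
  obtain ⟨C, C1, C2⟩ := Q e (by simp)
  have Q' : ∀ h ∈ [a, b, e, a * b, a * e, b * e, a * (b * e)], ∀ M, Rp c h M → M ∈ t.Lo :=
    fun h hh M r => by
      obtain ⟨N, N1, N2⟩ := Q h hh
      exact hc.uniq N2 r ▸ N1
  have := k.E
  simp only [Tb.ckE, litM_eq, litL_eq, List.all_eq_true, List.mem_filter, Bool.or_eq_true,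
    Bool.not_eq_true', List.contains_eq_mem, decide_eq_false_iff_not, decide_eq_true_eq] at this
  rcases this A A1 B ⟨B1, Q' _ (by simp) _ (A2.mul B2)⟩ C ⟨C1, Q' _ (by simp) _ (A2.mul C2)⟩ with b | b
  · exact b (Q' _ (by simp) _ (B2.mul C2))
  · exact b (Q' _ (by simp) _ (A2.mul (B2.mul C2)))

/-- the main test -/
theorem main {y : (ofQuad q).Isom} (hh : y ∈ H) (f0 : y.1 (c 1) = c 1) (y2 : y * y = 1)
    (hn : y ∉ R (c 1)) {A : Submodule (ZMod 2) V} {I : Set V} {B : Set (ofQuad q).Isom}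
    (a1 : ∀ a ∈ A, y.1 a = a)
    (a2 : ∀ s s', y.1 s = s → y.1 s' = s' → s ∉ A → s' ∉ A → s + s' ∈ A)
    (a3 : ∀ x, y.1 x + x ∈ A ↔ q (y.1 x + x) = 0)
    (i1 : ∀ i ∈ I, i ∈ A ∧ q i = 0 ∧ i ∉ S ∧ (∀ a ∈ A, H15.pol q i a = 0) ∧
      ∀ s x, y.1 s = s → s ∉ A → y.1 x + x = i → i = 0)
    (b1 : ∀ g ∈ B, g ∈ H ∧ g.1 (c 1) = c 1 ∧ g * y = y * g ∧ ∀ a ∈ A, g.1 a + a ∈ I) :
    I.ncard * B.ncard < 16 ∨ (32 ≤ (A : Set V).ncard ∧ I.ncard * B.ncard < 64) ∨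
      ∃ a ∈ A, ∃ b ∈ A, a ∈ S ∧ b ∈ S ∧ a + b ∈ S := by
  classical
  have hc := cs.cd
  obtain ⟨M, M1, r⟩ := k.stabI cs hv hh f0 y2 hn
  have ex := exists_n hv.nondeg hc a2
  obtain ⟨n1, n2⟩ := Nat.find_spec ex
  have n3 := fun m => Nat.find_min ex (m := m)
  generalize Nat.find ex = n at n1 n2 n3
  have fx : ∀ x, y.1 (y.1 x + x) = y.1 x + x := fun x => by
    rw [map_add, ← Form.Isom.mul_apply, y2, add_comm]; rfl
  have := List.all_eq_true.1 k.M M M1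
  simp only [Tb.ckM, litL_eq, lit_eq, litM_eq, List.all_eq_true, List.mem_range] at this
  have := this n n1
  generalize hFx : ((List.range 256).filter fun a => app M a == a) = Fx at this
  generalize hIm : ((List.range 256).map fun a => app M a ^^^ a).eraseDups = Im at this
  generalize hA : (Fx.filter fun a => polN n a == 0) = A0 at this
  generalize hA' : ([1, 2, 4, 8, 16, 32].map fun i => A0.getD i 0) = A' at this
  have mFx : ∀ a, a ∈ Fx ↔ a < 256 ∧ y.1 (c a) = c a := fun a => by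
    rw [← hFx, List.mem_filter, List.mem_range, beq_iff_eq]
    exact and_congr_right fun ha => (rp_fix hc r ha).symm
  have mIm : ∀ a ∈ Im, a < 256 ∧ ∃ x, y.1 x + x = c a := fun a ha => by
    rw [← hIm, List.mem_eraseDups] at ha
    obtain ⟨x, hx, rfl⟩ := List.mem_map.1 ha
    rw [List.mem_range] at hx
    exact ⟨xor_lt (app_lt r.1 x) hx, c x, rp_com hc r hx⟩
  have mA : ∀ a, a ∈ A0 ↔ a < 256 ∧ c a ∈ A := fun a => by
    rw [← hA, List.mem_filter, mFx, beq_iff_eq]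
    constructor
    · rintro ⟨⟨h1, h2⟩, h3⟩; exact ⟨h1, (n2 _ h2).1 ((hc.pol0 n1 h1).2 h3)⟩
    · rintro ⟨h1, h2⟩; exact ⟨⟨h1, a1 _ h2⟩, (hc.pol0 n1 h1).1 ((n2 _ (a1 _ h2)).2 h2)⟩
  have mA' : ∀ a ∈ A', a < 256 ∧ c a ∈ A := fun a ha => by
    rw [← hA'] at ha
    obtain ⟨i, -, rfl⟩ := List.mem_map.1 ha
    by_cases l : i < A0.length
    · rw [List.getD_eq_getElem _ _ l]; exact (mA _).1 (List.getElem_mem l)
    · rw [List.getD_eq_default _ _ (not_lt.1 l), hc.zero]; exact ⟨by norm_num, zero_mem _⟩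
  generalize hX : ((Fx.filter fun a => qN a == 0 && !d.S.contains a).filter fun i =>
    polN n i == 0 && (A'.all fun a => polN i a == 0) &&
      (A0.length == Fx.length || i == 0 || !Im.contains i)) = X at this
  have mX : ∀ i < 256, c i ∈ I → i ∈ X := fun i hi m => by
    obtain ⟨j1, j2, j3, j4, j5⟩ := i1 _ m
    rw [← hX]
    simp only [List.mem_filter, Bool.and_eq_true, beq_iff_eq, Bool.not_eq_true', List.all_eq_true,
      List.contains_eq_mem, decide_eq_false_iff_not, Bool.or_eq_true]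
    refine ⟨⟨(mFx i).2 ⟨hi, a1 _ j1⟩, (hc.q0 hi).1 j2, fun e => j3 ((cs.memS i hi).2 e)⟩,
      ⟨(hc.pol0 n1 hi).1 ((n2 _ (a1 _ j1)).2 j1), fun a ha =>
        (hc.pol0 hi (mA' a ha).1).1 (j4 _ (mA' a ha).2)⟩, ?_⟩
    by_contra e
    push Not at e
    obtain ⟨⟨e1, e2⟩, e3⟩ := e
    rw [← hA, Ne, List.length_filter_eq_length_iff] at e1
    push Not at e1
    obtain ⟨s, s1, s2⟩ := e1
    obtain ⟨s3, s4⟩ := (mFx s).1 s1
    obtain ⟨-, x, hx⟩ := mIm i e3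
    refine e2 (hc.inj i hi (j5 (c s) x s4 (fun m => s2 ?_) hx))
    rw [beq_iff_eq]
    exact (hc.pol0 n1 s3).1 ((n2 _ s4).2 m)
  generalize hG : ((t.L.filter fun g => cmp g M == cmp M g).filter fun g =>
    A'.all fun a => X.contains (app g a ^^^ a)) = G0 at this
  have cI : I.ncard ≤ X.length := ncard_le_length I X (fun i a => c a = i) (fun i hi => by
    obtain ⟨a, ha, rfl⟩ := hc.surj i
    exact ⟨a, mX a ha hi, rfl⟩) fun _ _ _ e e' => e.symm.trans e'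
  have cB : B.ncard ≤ G0.length := ncard_le_length B G0 (fun g N => Rp c g N) (fun g hg => by
    obtain ⟨g1, g2, g3, g4⟩ := b1 g hg
    obtain ⟨N, N1, N2⟩ := k.stab cs hv g1 g2
    refine ⟨N, ?_, N2⟩
    rw [← hG]
    simp only [List.mem_filter, beq_iff_eq, List.all_eq_true, List.contains_iff_mem]
    refine ⟨⟨N1, hc.uniq (N2.mul r) (g3 ▸ r.mul N2)⟩, fun a ha => mX _
      (xor_lt (app_lt N2.1 a) (mA' a ha).1) ?_⟩
    rw [← rp_com hc N2 (mA' a ha).1]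
    exact g4 _ (mA' a ha).2) fun _ _ _ e e' => hc.ext e e'
  have cm := Nat.mul_le_mul cI cB
  simp only [Bool.or_eq_true, List.any_eq_true, bne_iff_ne, decide_eq_true_eq, Bool.and_eq_true,
    List.contains_iff_mem] at this
  rcases this with ⟨u, u1, u2⟩ | (u | u) | ⟨a, ha, h1, b, hb, h2, h3⟩
  · exfalso
    obtain ⟨lt, x, hx⟩ := mIm u u1
    rcases u2 with u2 | u2
    · have e : polN n u = 0 ↔ qN u = 0 := by
        rw [← hc.pol0 n1 lt, ← hc.q0 lt, ← hx, n2 _ (fx x), a3]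
      have := polN_lt n u
      have := qN_lt u
      omega
    · refine n3 _ u2 ⟨xor_lt n1 lt, fun a fa => ?_⟩
      rw [← n2 a fa, hc.add _ n1 _ lt, map_add, LinearMap.add_apply, ← hx, map_add,
        LinearMap.add_apply]
      have : H15.pol q (y.1 x) a = H15.pol q x a := by
        conv_lhs => rw [← fa]
        exact Form.Isom.map_pol y x a
      rw [this, CharTwo.add_self_eq_zero, add_zero]
  · exact Or.inl (cm.trans_lt u)
  · refine Or.inr (Or.inl ⟨u.1.trans ?_, cm.trans_lt u.2⟩)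
    have nd : A0.Nodup := by
      rw [← hA, ← hFx]; exact (List.nodup_range.filter _).filter _
    rw [← List.toFinset_card_of_nodup nd, ← Set.ncard_coe_finset]
    exact Set.ncard_le_ncard_of_injOn c (fun a ha => ((mA a).1 (by simpa using ha)).2)
      fun a ha b hb e => (hc.eq_iff ((mA a).1 (by simpa using ha)).1 ((mA b).1 (by simpa using hb)).1).1 e
  · obtain ⟨la, ma⟩ := (mA a).1 ha
    obtain ⟨lb, mb⟩ := (mA b).1 hb
    exact Or.inr (Or.inr ⟨c a, ma, c b, mb, (cs.memS a la).2 h1, (cs.memS b lb).2 h2,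
      hc.add a la b lb ▸ (cs.memS _ (xor_lt la lb)).2 h3⟩)

end Ck

end ZO
end XS
end H6
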