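import Mathlib
import Cfsg.Agent.H25.ZOA
import Cfsg.Agent.H6.XZW

/-! Width four: there are no outer pairs. -/

set_option autoImplicit false
set_option linter.unusedSectionVars false
set_option linter.unusedVariables false

namespace H6
namespace XS
namespace ZO

open Subgroup H24 H15 H15.XP Module

variable {G : Type*} [Group G] [Finite G] {D : Set G} {Q : G → Subgroup G} {z : G} {w : ℕ}
variable {V : Type*} [AddCommGroup V] [Module (ZMod 2) V] [Finite V]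
variable {F : Fr z (Q z) V} {E : V → Submodule (ZMod 2) V} {R : V → Subgroup (ofQuad F.q).Isom}
variable {c : ℕ → V} {dt : Dat} {t : Tb} {a b d : G}

/-- outer pair -/
structure Out (D : Set G) (Q : G → Subgroup G) (a b : G) : Prop where
  l : a ∈ D
  r : b ∈ D
  comm : a * b = b * a
  no : ∀ u ∈ D, u ∈ Q a → u ∉ Q b

/-- `C_{Q a}(b)` contains a fused four-group modulo `a` -/
def Third (D : Set G) (Q : G → Subgroup G) (a b : G) : Prop :=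
  ∃ x y, x ∈ Q a ∧ y ∈ Q a ∧ x ∈ C{b} ∧ y ∈ C{b} ∧ x ∈ D ∧ y ∈ D ∧ x * y ∈ D ∧ x ≠ a ∧ y ≠ a ∧
    x * y ≠ a

theorem memD_cj (h : Sit D Q w) (g x : G) : g * x * g⁻¹ ∈ D ↔ x ∈ D :=
  ⟨fun m => by simpa [mul_assoc] using h.conj _ m g⁻¹, fun m => h.conj _ m g⟩

theorem memQ_cj (h : Sit D Q w) (hd : d ∈ D) (g x : G) : g * x * g⁻¹ ∈ Q (g * d * g⁻¹) ↔ x ∈ Q d := by
  rw [h.eqv d hd, conj_mem_cj_iff]

theorem memC_cj (g x y : G) : g * x * g⁻¹ ∈ C{g * y * g⁻¹} ↔ x ∈ C{y} := by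
  rw [← cj_C1, conj_mem_cj_iff]

theorem cj_ne (g : G) {x y : G} (e : x ≠ y) : g * x * g⁻¹ ≠ g * y * g⁻¹ := fun k => e (by simpa using k)

theorem cj_mul' (g x y : G) : g * x * g⁻¹ * (g * y * g⁻¹) = g * (x * y) * g⁻¹ := by group

theorem Out.symm (o : Out D Q a b) : Out D Q b a :=
  ⟨o.r, o.l, o.comm.symm, fun u hu h1 h2 => o.no u hu h2 h1⟩

theorem Out.cj (h : Sit D Q w) (o : Out D Q a b) (g : G) : Out D Q (g * a * g⁻¹) (g * b * g⁻¹) := by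
  refine ⟨h.conj _ o.l g, h.conj _ o.r g, by rw [cj_mul', cj_mul', o.comm], fun u hu h1 h2 => ?_⟩
  obtain ⟨u, rfl⟩ : ∃ u', u = g * u' * g⁻¹ := ⟨g⁻¹ * u * g, by group⟩
  exact o.no u ((memD_cj h g u).1 hu) ((memQ_cj h o.l g u).1 h1) ((memQ_cj h o.r g u).1 h2)

theorem Out.nl (h : Sit D Q w) (o : Out D Q a b) : a ∉ Q b := o.no a o.l (h.mem o.l)
theorem Out.nr (h : Sit D Q w) (o : Out D Q a b) : b ∉ Q a := o.symm.nl h

theorem Third.cj (h : Sit D Q w) (ha : a ∈ D) (o : Third D Q a b) (g : G) :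
    Third D Q (g * a * g⁻¹) (g * b * g⁻¹) := by
  obtain ⟨x, y, h1, h2, h3, h4, h5, h6, h7, h8, h9, h0⟩ := o
  exact ⟨g * x * g⁻¹, g * y * g⁻¹, (memQ_cj h ha g x).2 h1, (memQ_cj h ha g y).2 h2,
    (memC_cj g x b).2 h3, (memC_cj g y b).2 h4, h.conj _ h5 g, h.conj _ h6 g,
    cj_mul' g x y ▸ h.conj _ h7 g, cj_ne g h8, cj_ne g h9, cj_mul' g x y ▸ cj_ne g h0⟩

theorem card_cj' (h : Sit D Q w) (ha : a ∈ D) (g b : G) :
    Nat.card ↥(Q (g * a * g⁻¹) ⊓ C{g * b * g⁻¹}) = Nat.card ↥(Q a ⊓ C{b}) := by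
  rw [h.eqv a ha, ← cj_C1, ← cj_inf, card_cj]

theorem Out.star (h : Sit D Q w) (o : Out D Q a b) {u : G} (hu : u ∈ Q a)
    (m : b * u * b⁻¹ * u⁻¹ ∈ Q b) : b * u * b⁻¹ * u⁻¹ = 1 := by
  by_contra n
  have mq : b * u * b⁻¹ * u⁻¹ ∈ Q a :=
    mul_mem ((mem_N.1 (h.norm o.l (mem_C1.2 o.comm.symm)) u).1 hu) (inv_mem hu)
  have bi : b⁻¹ = b := inv_eq_of_mul_eq_one_right (h.sq o.r)
  refine o.no _ ((h.mul_mem_D o.r m n fun e => o.nr h (e ▸ mq)).1 ?_) mq m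
  have : b * (b * u * b⁻¹ * u⁻¹) = u * b * u⁻¹ := by
    rw [bi, ← mul_assoc, ← mul_assoc, ← mul_assoc, h.sq o.r, one_mul]
  rw [this]; exact h.conj _ o.r u

section

variable (h : FC D Q z F E R c dt) (k : Ck dt t)
include h k

theorem inner_mem' {u : V} (hu : u ∈ F.VV D) (e : C{z}) (e2 : (e : G) * e = 1) (e1 : (e : G) ∉ Q z)
    (m : F.ρ e ∈ R u) : ∃ v ∈ D, v ∈ Q z ∧ v ≠ z ∧ F.π v = u ∧ (e : G) ∈ Q v :=
  h.sit.inner_mem h.mem h.lift hu e e2 m (k.h1 h.cs h.vd hu m fun k => e1 ((F.ker e).1 k))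

theorem three₀ {a u b : G} (a2 : a * a = 1) (az : a ∈ C{z}) (an : a ∉ Q z) (uD : u ∈ D) (uQ : u ∈ Q z)
    (uz : u ≠ z) (au : a ∈ Q u) (bD : b ∈ D) (bQ : b ∈ Q z) (bz : b ≠ z) (ab : a * b = b * a) :
    a ∈ Q b ∨ a ∈ Q (z * b) := by
  have uS := (F.mem_VV h.sit h.mem uQ).2 ⟨uD, uz⟩
  have bS := (F.mem_VV h.sit h.mem bQ).2 ⟨bD, bz⟩
  have m : F.ρ ⟨a, az⟩ ∈ R (F.π u) := by
    rw [h.lift.eqR u uD uQ uz]; exact ⟨⟨a, az⟩, au, rfl⟩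
  have f : (F.ρ ⟨a, az⟩).1 (F.π b) = F.π b := by
    rw [F.ρ_π _ b bQ]
    change F.π (a * b * a⁻¹) = _
    rw [ab, mul_inv_cancel_right]
  obtain ⟨v, v1, v2, v3, v4, v5⟩ := inner_mem' h k bS ⟨a, az⟩ a2 an (k.iii h.cs h.vd uS m bS f)
  rcases (F.π_eq h.sit h.mem v2 bQ).1 v4 with rfl | rfl
  exacts [Or.inl v5, Or.inr v5]

theorem three {e a u b : G} (eD : e ∈ D) (a2 : a * a = 1) (az : a ∈ C{e}) (an : a ∉ Q e) (uD : u ∈ D)
    (uQ : u ∈ Q e) (uz : u ≠ e) (au : a ∈ Q u) (bD : b ∈ D) (bQ : b ∈ Q e) (bz : b ≠ e)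
    (ab : a * b = b * a) : a ∈ Q b ∨ a ∈ Q (e * b) := by
  obtain ⟨g, hg⟩ := h.sit.trans e eD z h.mem
  have s := h.sit
  have := three₀ h k (a := g * a * g⁻¹) (u := g * u * g⁻¹) (b := g * b * g⁻¹)
    (by rw [cj_mul', a2]; group) (hg ▸ (memC_cj g a e).2 az)
    (hg ▸ fun m => an ((memQ_cj s eD g a).1 m)) (s.conj _ uD g) (hg ▸ (memQ_cj s eD g u).2 uQ)
    (hg ▸ cj_ne g uz) ((memQ_cj s uD g a).2 au) (s.conj _ bD g) (hg ▸ (memQ_cj s eD g b).2 bQ)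
    (hg ▸ cj_ne g bz) (by rw [cj_mul', cj_mul', ab])
  rw [← hg, cj_mul', memQ_cj s bD, memQ_cj s ((s.mul_mem_D eD bQ (s.ne_one bD) bz).2 bD)] at this
  exact this

theorem notR (o : Out D Q z d) (e : C{z}) (eD : (e : G) ∈ D) (eQ : (e : G) ∈ Q d) {u : V}
    (hu : u ∈ F.VV D) : F.ρ e ∉ R u := fun m => by
  have s := h.sit
  have en : (e : G) ∉ Q z := fun m => o.no e eD m eQ
  obtain ⟨v, v1, v2, v3, v4, v5⟩ := inner_mem' h k hu e (s.sq eD) en m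
  by_cases ed : (e : G) = d
  · exact o.no v v1 v2 (s.symm v1 o.r (ed ▸ v5))
  have dQ := s.symm o.r eD eQ
  rcases three h k eD (s.sq h.mem) (mem_C1_comm.1 e.2) (fun m => en (s.symm eD h.mem m)) v1
    (s.symm v1 eD v5) (fun k => en (k ▸ v2)) (s.symm h.mem v1 v2) o.r dQ (Ne.symm ed) o.comm with m | m
  · exact o.nl s m
  · have := (s.mul_mem_D eD dQ (s.ne_one o.r) (Ne.symm ed)).2 o.r
    exact o.no _ this (s.symm this h.mem m) (mul_mem eQ (s.mem o.r))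

theorem wl (o : Out D Q a b) : ∃ g, g * a * g⁻¹ = z ∧
    ∀ e : C{z}, (e : G) ∈ Q (g * b * g⁻¹) → (F.ρ e).1 (c 1) = c 1 := by
  have s := h.sit
  obtain ⟨g, hg⟩ := s.trans a o.l z h.mem
  have bD := s.conj _ o.r g
  obtain ⟨_, ⟨x, rfl⟩, hx⟩ := k.fixpt h.cs h.vd (K := F.img (Q (g * b * g⁻¹)))
    (by rintro _ ⟨y, -, rfl⟩; exact ⟨y, rfl⟩) (((s.two bD).comap_subtype).map _)
  refine ⟨(x : G)⁻¹ * g, ?_, fun e he => ?_⟩
  · rw [show (x : G)⁻¹ * g * a * ((x : G)⁻¹ * g)⁻¹ = (x : G)⁻¹ * (g * a * g⁻¹) * (x : G)⁻¹⁻¹ by group, hg]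
    exact mem_C1_iff_conj.1 (inv_mem x.2)
  · have := hx (F.ρ (x * e * x⁻¹)) ⟨x * e * x⁻¹, by
      have := (memQ_cj s (s.conj _ o.r ((x : G)⁻¹ * g)) x e).2 he
      rw [show (x : G) * ((x : G)⁻¹ * g * b * ((x : G)⁻¹ * g)⁻¹) * (x : G)⁻¹ = g * b * g⁻¹ by group] at this
      exact this, rfl⟩
    rwa [← map_inv, ← map_mul, ← map_mul, show x⁻¹ * (x * e * x⁻¹) * x = e by group] at this

theorem key2₀ (o : Out D Q z d) (f : ∀ e : C{z}, (e : G) ∈ Q d → (F.ρ e).1 (c 1) = c 1) :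
    ¬ Third D Q d z := by
  rintro ⟨x, y, h1, h2, h3, h4, h5, h6, h7, h8, h9, h0⟩
  have s := h.sit
  have P : ∀ e : C{z}, (e : G) ∈ D → (e : G) ∈ Q d → F.ρ e ∈ F.ρ.range ∧ (F.ρ e).1 (c 1) = c 1 ∧
      F.ρ e * F.ρ e = 1 ∧ F.ρ e ∉ R (c 1) := fun e e1 e2 =>
    ⟨⟨e, rfl⟩, f e e2, by rw [← map_mul, show e * e = 1 from Subtype.ext (s.sq e1), map_one],
      notR h k o e e1 e2 (k.v0 h.cs)⟩
  have dm := s.mem o.r
  refine k.noE8 h.cs h.vd (a := F.ρ ⟨d, mem_C1.2 o.comm.symm⟩) (b := F.ρ ⟨x, h3⟩) (e := F.ρ ⟨y, h4⟩)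
    fun g hg => ?_
  simp only [List.mem_cons, List.not_mem_nil, or_false, ← map_mul] at hg
  rcases hg with rfl | rfl | rfl | rfl | rfl | rfl | rfl
  · exact P _ o.r dm
  · exact P _ h5 h1
  · exact P _ h6 h2
  · exact P _ ((s.mul_mem_D o.r h1 (s.ne_one h5) h8).2 h5) (mul_mem dm h1)
  · exact P _ ((s.mul_mem_D o.r h2 (s.ne_one h6) h9).2 h6) (mul_mem dm h2)
  · exact P _ h7 (mul_mem h1 h2)
  · exact P _ ((s.mul_mem_D o.r (mul_mem h1 h2) (s.ne_one h7) h0).2 h7) (mul_mem dm (mul_mem h1 h2))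

theorem key1₀ (o : Out D Q z d) (f : ∀ e : C{z}, (e : G) ∈ Q d → (F.ρ e).1 (c 1) = c 1) :
    (64 ≤ Nat.card ↥(Q z ⊓ C{d}) ∧ Nat.card ↥(Q d ⊓ C{z}) < 64) ∨ Third D Q z d := by
  have s := h.sit
  have hz := h.mem
  have dz : d ∈ C{z} := mem_C1.2 o.comm.symm
  have zd : z ∈ C{d} := mem_C1.2 o.comm
  have dm := s.mem o.r
  have di : d⁻¹ = d := inv_eq_of_mul_eq_one_right (s.sq o.r)
  let d' : C{z} := ⟨d, dz⟩
  have nq : ∀ g ∈ C{z}, ∀ x ∈ Q z, g * x * g⁻¹ ∈ Q z := fun g hg x hx => (mem_N.1 (s.norm hz hg) x).1 hx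
  have nd : ∀ g ∈ C{d}, ∀ x ∈ Q d, g * x * g⁻¹ ∈ Q d := fun g hg x hx => (mem_N.1 (s.norm o.r hg) x).1 hx
  have mA : ∀ x ∈ Q z, F.π x ∈ F.im C{d} ↔ d * x * d⁻¹ = x := fun x hx => by
    rw [F.π_mem_im s hz zd hx, mem_C1_comm, mem_C1_iff_conj]
  have ph : ∀ x ∈ Q z, (F.ρ d').1 (F.π x) = F.π x → F.π x ∉ F.im C{d} → d * x * d⁻¹ = z * x :=
    fun x hx e n => by
      rw [F.ρ_π _ x hx] at e
      exact ((F.π_eq s hz (nq d dz x hx) hx).1 e).resolve_left fun e => n ((mA x hx).2 e)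
  have cz : ∀ x ∈ C{z}, x * z = z * x := fun x hx => mem_C1.1 hx
  have cP : Nat.card ↥(Q d ⊓ C{z}) ≤
      (F.im (Q d) : Set V).ncard * (F.img (Q d) : Set (ofQuad F.q).Isom).ncard := by
    let φ := F.ρ.comp ((Q d).subgroupOf C{z}).subtype
    rw [← card_subgroupOf, ← card_mul_index φ.ker, index_ker]
    refine Nat.mul_le_mul ?_ (le_of_eq ?_)
    · rw [← Nat.card_coe_set_eq]
      have mk : ∀ x : φ.ker, ((x.1.1 : G)) ∈ Q z := fun x => (F.ker x.1.1).1 x.2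
      refine Nat.card_le_card_of_injective (fun x => ⟨F.π x.1.1, x.1.1, x.1.2, mk x, rfl⟩)
        fun x y e => ?_
      rcases (F.π_eq s hz (mk x) (mk y)).1 (congrArg Subtype.val e) with e | e
      · exact Subtype.ext (Subtype.ext (Subtype.ext e))
      · refine absurd ?_ (o.nl s)
        rw [eq_mul_inv_of_mul_eq e.symm]
        exact mul_mem x.1.2 (inv_mem y.1.2)
    · rw [← Nat.card_coe_set_eq, MonoidHom.range_comp, range_subtype]; rfl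
  have main := k.main h.cs h.vd (y := F.ρ d') ⟨d', rfl⟩ (f d' dm)
    (by rw [← map_mul, show d' * d' = 1 from Subtype.ext (s.sq o.r), map_one])
    (notR h k o d' o.r dm (k.v0 h.cs)) (A := F.im C{d}) (I := F.im (Q d)) (B := F.img (Q d))
    ?_ ?_ ?_ ?_ ?_
  · rcases main with m | ⟨m1, m2⟩ | ⟨_, ⟨x, x1, x2, rfl⟩, _, ⟨y, y1, y2, rfl⟩, m1, m2, m3⟩
    · have := s.card_cent o.r (s.sq hz) zd
      omega
    · refine Or.inl ⟨?_, cP.trans_lt m2⟩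
      rw [inf_comm, ← F.sub_im s hz zd, F.card_sub s hz, pow_succ]
      rw [← Nat.card_coe_set_eq] at m1
      have : Nat.card (F.im C{d}) = 2 ^ finrank (ZMod 2) (F.im C{d}) := by
        rw [Module.natCard_eq_pow_finrank (K := ZMod 2), Nat.card_zmod]
      change 32 ≤ Nat.card (F.im C{d}) at m1
      omega
    · rw [← F.π_mul x x2 y y2, F.mem_VV s hz (mul_mem x2 y2)] at m3
      rw [F.mem_VV s hz x2] at m1
      rw [F.mem_VV s hz y2] at m2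
      exact Or.inr ⟨x, y, x2, y2, x1, y1, m1.1, m2.1, m3.1, m1.2, m2.2, m3.2⟩
  · rintro _ ⟨x, x1, x2, rfl⟩
    rw [F.ρ_π _ x x2]
    exact congrArg F.π (mem_C1_iff_conj.1 (mem_C1_comm.1 x1))
  · intro u u' e e' n n'
    obtain ⟨x, hx, rfl⟩ := F.π_surj u
    obtain ⟨y, hy, rfl⟩ := F.π_surj u'
    rw [← F.π_mul x hx y hy, mA _ (mul_mem hx hy), ← cj_mul', ph x hx e n, ph y hy e' n', mul_assoc,
      ← mul_assoc x, cz x (s.le hz hx), ← mul_assoc, ← mul_assoc, s.sq hz, one_mul]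
  · intro u
    obtain ⟨x, hx, rfl⟩ := F.π_surj u
    have m : d * x * d⁻¹ * x⁻¹ ∈ Q z := mul_mem (nq d dz x hx) (inv_mem hx)
    rw [← F.π_comm s hz d' hx]
    change F.π (d * x * d⁻¹ * x⁻¹) ∈ _ ↔ F.q (F.π (d * x * d⁻¹ * x⁻¹)) = 0
    rw [mA _ m, F.q_π _ m, show d * (d * x * d⁻¹ * x⁻¹) * d⁻¹ = (d * x * d⁻¹ * x⁻¹)⁻¹ by
      calc d * (d * x * d⁻¹ * x⁻¹) * d⁻¹ = (d * d) * x * d⁻¹ * x⁻¹ * d⁻¹ := by group
        _ = x * d⁻¹⁻¹ * x⁻¹ * d⁻¹ := by rw [s.sq o.r, one_mul, inv_inv, di]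
        _ = _ := by group, inv_eq_iff_mul_eq_one]
  · rintro _ ⟨x, x1, x2, rfl⟩
    refine ⟨⟨x, s.le o.r x1, x2, rfl⟩, (F.q_π x x2).2 ((s.sq_or hz x2).resolve_right fun e =>
      o.nl s (e ▸ mul_mem x1 x1)), fun m => o.no x ((F.mem_VV s hz x2).1 m).1 x2 x1, ?_, ?_⟩
    · rintro _ ⟨y, y1, y2, rfl⟩
      rw [F.pol_π x x2 y y2]
      rcases s.cj_or hz y2 x2 with e | e
      · exact (mul_inv_eq_iff_eq_mul.1 e).symm
      · refine absurd ?_ (o.nl s)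
        rw [eq_mul_inv_of_mul_eq e.symm]
        exact mul_mem (nd y y1 x x1) (inv_mem x1)
    · intro u u' e n e'
      obtain ⟨y, hy, rfl⟩ := F.π_surj u
      obtain ⟨y', hy', rfl⟩ := F.π_surj u'
      have m : d * y' * d⁻¹ * y'⁻¹ ∈ Q z := mul_mem (nq d dz y' hy') (inv_mem hy')
      rw [← F.π_comm s hz d' hy'] at e'
      have : x = 1 := by
        rcases (F.π_eq s hz x2 m).1 e'.symm with e' | e'
        · rw [e']; exact o.star s hy' (e' ▸ x1)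
        · have e2 : d * (y' * y) * d⁻¹ * (y' * y)⁻¹ = x := by
            rw [← cj_mul', ph y hy e n, e']
            calc d * y' * d⁻¹ * (z * y) * (y' * y)⁻¹ = (d * y' * d⁻¹ * z) * y'⁻¹ := by group
              _ = _ := by rw [cz _ (s.le hz (nq d dz y' hy'))]; group
          rw [← e2]; exact o.star s (mul_mem hy' hy) (e2 ▸ x1)
      rw [this, F.π_one]
  · rintro _ ⟨g, g1, rfl⟩
    refine ⟨⟨g, rfl⟩, f g g1, ?_, ?_⟩
    · rw [← map_mul, ← map_mul]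
      exact congrArg F.ρ (Subtype.ext (mem_C1.1 (s.le o.r g1)))
    · rintro _ ⟨y, y1, y2, rfl⟩
      rw [← F.π_comm s hz g y2]
      refine ⟨_, ?_, mul_mem (nq _ g.2 y y2) (inv_mem y2), rfl⟩
      rw [show (g : G) * y * (g : G)⁻¹ * y⁻¹ = g * (y * (g : G)⁻¹ * y⁻¹) by group]
      exact mul_mem g1 (nd y y1 _ (inv_mem g1))

theorem key1 (o : Out D Q a b) :
    (64 ≤ Nat.card ↥(Q a ⊓ C{b}) ∧ Nat.card ↥(Q b ⊓ C{a}) < 64) ∨ Third D Q a b := by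
  obtain ⟨g, hg, f⟩ := wl h k o
  have o' := o.cj h.sit g
  have := key1₀ h k (hg ▸ o') f
  rw [← hg, card_cj' h.sit o.l, card_cj' h.sit o.r] at this
  refine this.imp_right fun m => ?_
  simpa [mul_assoc] using m.cj h.sit o'.l g⁻¹

theorem key2 (o : Out D Q a b) : ¬ Third D Q b a := fun m => by
  obtain ⟨g, hg, f⟩ := wl h k o
  exact key2₀ h k (hg ▸ o.cj h.sit g) f (hg ▸ m.cj h.sit o.r g)

theorem not_out : ¬ Out D Q a b := fun o => by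
  have h1 := (key1 h k o).resolve_right (key2 h k o.symm)
  have h2 := (key1 h k o.symm).resolve_right (key2 h k o)
  omega

theorem inner (d : C{z}) (hd : (d : G) ∈ D) : F.ρ d = 1 ∨ ∃ u ∈ F.VV D, F.ρ d ∈ R u := by
  by_contra n
  push Not at n
  have s := h.sit
  refine not_out h k (a := z) (b := d) ⟨h.mem, hd, (mem_C1.1 d.2).symm, fun u uD u1 u2 => ?_⟩
  have uz : u ≠ z := fun e => n.1 ((F.ker d).2 (s.symm hd h.mem (e ▸ u2)))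
  refine n.2 _ ((F.mem_VV s h.mem u1).2 ⟨uD, uz⟩) ?_
  rw [h.lift.eqR u uD u1 uz]
  exact ⟨d, s.symm hd uD u2, rfl⟩

end

end ZO
end XS
end H6
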