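import Mathlib
import Cfsg.Agent.H25.Pump
import Cfsg.Agent.H25.Std0
import Cfsg.Agent.S0225

/-!
# Standard subgroups and maximal components
-/

set_option autoImplicit false
set_option linter.unusedSectionVars false

open Cfsg Subgroup H23
open scoped commutatorElement

namespace H25.LB

variable {G : Type*} [Group G] [Finite G]

theorem exists_central_invol {L : Subgroup G} (hL : IsQuasisimple L) (heven : Even (Nat.card L))
    (hrk : PRankLE 2 1 L) : ∃ t ∈ L, orderOf t = 2 ∧ t ∈ centralizer (L : Set G) := by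
  obtain ⟨z, hz, N, hN, hodd, h⟩ := Cfsg.Agent.S0225.result (G := L) heven (fun E hE => by
    have h1 := hrk E hE.isMulCommutative (fun a ha => by
      have := IsKleinFour.mul_self (⟨a, ha⟩ : E)
      rw [pow_two]; exact congrArg Subtype.val this)
    rw [hE.card_four] at h1
    omega)
  have hNc : N ≤ center L := by
    rcases (isQuasisimple_iff.mp hL).2.2 N hN with h1 | h1
    · rw [h1, card_top] at hodd
      exact absurd heven (Nat.not_even_iff_odd.mpr hodd)
    · exact h1
  refine ⟨z, z.2, by rw [orderOf_coe, hz], ?_⟩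
  have h1 : ⁅zpowers (z : G), L⁆ = ⊥ := by
    apply comm_bot_of_comm_comm_bot (IsQuasisimple.perfect hL)
    apply comm_bot_of_le_centralizer
    rw [commutator_comm]
    refine comm_le_of_le_cmod (zpowers_le.mpr ⟨normalizer_le_normalizer_centralizer L
      (le_normalizer z.2), fun k hk => ?_⟩)
    rw [← commutatorElement_inv]
    refine inv_mem fun l hl => ?_
    exact congrArg Subtype.val (mem_center_iff.mp (hNc (h ⟨k, hk⟩)) ⟨l, hl⟩)
  exact le_centralizer_of_comm_bot h1 (mem_zpowers _)

theorem classical_of_rank_one {L : Subgroup G} (hL : IsQuasisimple L) (heven : Even (Nat.card L))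
    (hrk : PRankLE 2 1 L)
    (hne : ∀ y : G, orderOf y = 2 → y ∈ centralizer (L : Set G) → IsCompOf L (centralizer {y})) :
    ∃ t ∈ L, IsClassicalInvolution t := by
  haveI : Fact (Nat.Prime 2) := ⟨Nat.prime_two⟩
  obtain ⟨t, ht, ho, hc⟩ := exists_central_invol hL heven hrk
  obtain ⟨S⟩ := (inferInstance : Nonempty (Sylow 2 L))
  refine ⟨t, ht, ho, L, (hne t ho hc).1, ht, (hne t ho hc).2.1, S,
    sylow_quaternion_of_perfect (commutator_eq_top_of_perfect (IsQuasisimple.perfect hL))
      heven.two_dvd S (H2.uniqueOrderP_of_card_le S.2 fun A hA hA2 => ?_)⟩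
  have := hrk (A.map (S : Subgroup L).subtype) inferInstance (by
    rintro _ ⟨a, ha, rfl⟩
    rw [← map_pow, hA2 a ha, map_one])
  rwa [card_map_of_injective (subtype_injective _), pow_one] at this

/-- an element normalizing `D` and `D^t` and centralizing the diagonal centralizes both. -/
theorem comm_bot_of_centralizes_diag {D B : Subgroup G} {t : G} (hD : ⁅D, D⁆ = D)
    (hc : ⁅D, D.map (MulAut.conj t).toMonoidHom⁆ = ⊥) (_h1 : B ≤ normalizer (D : Set G))
    (h2 : B ≤ normalizer ((D.map (MulAut.conj t).toMonoidHom : Subgroup G) : Set G))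
    (h3 : ∀ b ∈ B, ∀ d ∈ D, b * (d * (t * d * t⁻¹)) = d * (t * d * t⁻¹) * b) : ⁅B, D⁆ = ⊥ := by
  apply comm_bot_of_comm_comm_bot hD
  apply comm_bot_of_le_centralizer
  refine le_trans ?_ (le_centralizer_of_comm_bot (comm_bot_symm hc))
  rw [commutator_le]
  intro b hb d hd
  have hd' : t * d * t⁻¹ ∈ D.map (MulAut.conj t).toMonoidHom := ⟨d, hd, rfl⟩
  have h3' := h3 b hb d hd
  generalize t * d * t⁻¹ = d' at hd' h3'
  have h4 : b * d * b⁻¹ = d * (d' * (b * d'⁻¹ * b⁻¹)) := by
    calc b * d * b⁻¹ = (b * (d * d')) * (d'⁻¹ * b⁻¹) := by group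
      _ = _ := by rw [h3']; group
  have h5 : d' * (b * d'⁻¹ * b⁻¹) ∈ D.map (MulAut.conj t).toMonoidHom :=
    mul_mem hd' (conj_mem h2 hb (inv_mem hd'))
  rw [commutatorElement_def, h4, comm_bot_iff.mp hc d hd _ h5, mul_inv_cancel_right]
  exact h5

theorem standard_trichotomy {A : Subgroup G} (hA : IsStandardSubgroup A) (hO : oddCore G = ⊥)
    {t : G} (ht : orderOf t = 2) (htA : t ∈ centralizer (A : Set G)) :
    A.Normal ∨ (∃ X : Subgroup G, IsSimpleGroup X ∧ ¬ IsMulCommutative X ∧ Nonempty (X ≃* A) ∧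
      (∀ a ∈ X, ∀ b ∈ X.map (MulAut.conj t).toMonoidHom, a * b = b * a) ∧
      X ⊓ X.map (MulAut.conj t).toMonoidHom = ⊥ ∧
      X ⊔ X.map (MulAut.conj t).toMonoidHom = layer G ∧ centralizer (A : Set G) = zpowers t) ∨
      (A ≤ layer G ∧ IsSimpleGroup (layer G) ∧ ¬ IsMulCommutative (layer G)) := by
  haveI : Fact (Nat.Prime 2) := ⟨Nat.prime_two⟩
  obtain ⟨hq, ⟨-, hti⟩, hnc, hN⟩ := hA
  have key : ∀ y g : G, orderOf y = 2 → y ∈ centralizer (A : Set G) →
      g⁻¹ * y * g ∈ centralizer (A : Set G) → g ∈ normalizer (A : Set G) := by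
    intro y g hy h1 h2
    rw [hN]
    by_contra h
    exact Nat.not_odd_iff_even.mpr
      (even_card_of_invol (H := _ ⊓ _) ⟨h1, mem_map_conj.mpr h2⟩ hy) (hti g h)
  by_cases hn : A.Normal
  · exact Or.inl hn
  right
  have hnc' : ¬ IsComponent A := fun h => hn (by
    rw [← normalizer_eq_top_iff, eq_top_iff]
    intro g _
    rw [mem_normalizer_iff_map_conj]
    by_contra h1
    rcases IsComponent.eq_or_comm h (IsComponent.conj h g) with h2 | h2
    · exact h1 h2.symm
    · exact hnc g h1 h2)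
  have hAt : A ≤ centralizer {t} := fun a ha => mem_centralizer_singleton_iff.mpr (htA a ha)
  have hA1 : IsCompOf A (centralizer {t}) := ⟨hAt, isSubnormal_subgroupOf_of_le_normalizer
    (fun g hg => key t g ht htA (by
      rw [mul_assoc, ← mem_centralizer_singleton_iff.mp hg, inv_mul_cancel_left]; exact htA)),
    (isQuasisimple_subgroupOf_iff hAt).mpr hq⟩
  obtain ⟨D, hD, -, hcase⟩ := trichotomy (pLayer_eq_layer hO) ht hA1
  have hDt := IsComponent.conj hD t
  set E0 := D ⊔ D.map (MulAut.conj t).toMonoidHom with hE0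
  have hAE0 : A ≤ E0 := by
    rcases hcase with h | h | ⟨-, h, -⟩
    · exact h.le.trans le_sup_left
    · exact h.1.le.trans le_sup_left
    · exact h.le.trans ((map_subtype_le _).trans inf_le_left)
  have hE0E : E0 ≤ layer G := sup_le (le_layer hD) (le_layer hDt)
  have hE0n : layer G ≤ normalizer (E0 : Set G) := le_normalizer_sup
    (layer_le_normalizer_of_isSubnormal hD.1) (layer_le_normalizer_of_isSubnormal hDt.1)
  have hE0s : E0.IsSubnormal := isSubnormal_of_le_normalizer hE0E hE0n
    (Normal.isSubnormal inferInstance)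
  have hO2 : pCore 2 G = ⊥ := by
    by_contra h
    obtain ⟨y, hy, -, hyo⟩ := exists_central_orderOf_eq (H2.pCore_isPGroup 2 G) h
    have h1 : pCore 2 G ≤ centralizer (A : Set G) := le_centralizer_of_comm_bot
      (comm_bot_symm (comm_bot_mono (layer_comm_pCore 2 G) (hAE0.trans hE0E) le_rfl))
    apply hn
    rw [← normalizer_eq_top_iff, eq_top_iff]
    intro g _
    exact key y g hyo (h1 hy) (h1 (Normal.conj_mem' inferInstance y hy g))
  have hF : fittingSubgroup G = ⊥ := by
    rw [H2.fitting_eq_pCore_of_pPrimeCore_eq_bot hO, hO2]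
  have hcomp : ∀ D', IsComponent D' → D' ≤ E0 := by
    intro D' hD'
    refine (IsComponent.le_or_comm hD' hE0s).resolve_right fun h => hnc' ?_
    obtain ⟨y, hy, hyo⟩ := exists_invol_of_not_odd (H := D')
      (Nat.not_odd_iff_even.mpr (even_iff_two_dvd.mpr (IsComponent.dvd_card hO hD')))
    have h1 : y ∈ centralizer (A : Set G) :=
      le_centralizer_of_comm_bot (comm_bot_mono h le_rfl hAE0) hy
    refine ⟨isSubnormal_of_le_normalizer hAE0 (fun g hg => key y g hyo h1 ?_) hE0s, hq⟩
    rw [mul_assoc, comm_bot_iff.mp h y hy g hg, inv_mul_cancel_left]; exact h1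
  have hE : layer G = E0 := le_antisymm (layer_le hcomp) hE0E
  have hZ : D ⊓ centralizer (D : Set G) = ⊥ :=
    le_bot_iff.mp (hF ▸ center_le_fitting_of_isSubnormal hD.1)
  obtain ⟨hs1, hs2⟩ := isSimpleGroup_of_quasisimple hD.2 hZ
  rcases hcase with h | ⟨-, h⟩ | ⟨hne, -, π, hπ, hAπ⟩
  · exact absurd (h ▸ hD) hnc'
  · right
    have h1 : E0 = D := by
      rw [hE0, mem_normalizer_iff_map_conj.mp (mem_normalizer_of_comm_eq h.symm), sup_idem]
    rw [hE, h1]
    exact ⟨h1 ▸ hAE0, hs1, hs2⟩
  · left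
    have hc := (IsComponent.eq_or_comm hD hDt).resolve_left (Ne.symm hne)
    have hinf : D ⊓ D.map (MulAut.conj t).toMonoidHom = ⊥ := le_bot_iff.mp
      (hZ ▸ inf_le_inf_left D (le_centralizer_of_comm_bot (comm_bot_symm hc)))
    have hinj : Function.Injective π := by
      rw [injective_iff_map_eq_one]
      intro d hd
      rw [hπ, mul_eq_one_iff_eq_inv] at hd
      have h0 : t * d * t⁻¹ ∈ D.map (MulAut.conj t).toMonoidHom := ⟨d, d.2, rfl⟩
      have h1 : (d : G) ∈ D ⊓ D.map (MulAut.conj t).toMonoidHom :=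
        mem_inf.mpr ⟨d.2, by rw [hd]; exact inv_mem h0⟩
      rw [hinf, mem_bot] at h1
      exact Subtype.ext h1
    have hdiag : ∀ b ∈ centralizer (A : Set G), b ∈ normalizer (D : Set G) → b = 1 := by
      intro b hb h1
      have hb' : ∀ x ∈ zpowers b, ∀ d ∈ D, x * (d * (t * d * t⁻¹)) = d * (t * d * t⁻¹) * x := by
        intro x hx d hd
        have : d * (t * d * t⁻¹) ∈ A := by rw [hAπ]; exact ⟨⟨d, hd⟩, hπ _⟩
        exact ((zpowers_le.mpr hb hx) _ this).symm
      have h2 : b ∈ normalizer ((D.map (MulAut.conj t).toMonoidHom : Subgroup G) : Set G) := by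
        rw [mem_normalizer_iff_map_conj]
        have h3 := IsComponent.conj hDt b
        rcases IsComponent.eq_or_comm h3 hDt with h4 | h4
        · exact h4
        · exfalso
          have h5 : ⁅(D.map (MulAut.conj t).toMonoidHom).map (MulAut.conj b).toMonoidHom, D⁆
              = ⊥ := by
            have := map_comm_bot (comm_bot_symm hc) (MulAut.conj b).toMonoidHom
            rwa [mem_normalizer_iff_map_conj.mp h1] at this
          exact IsQuasisimple.not_le_of_comm h3.2
            (comm_bot_symm (comm_sup_bot (comm_bot_symm h5) (comm_bot_symm h4))) (hcomp _ h3)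
      have h3 := comm_bot_of_centralizes_diag (IsComponent.perfect hD) hc (zpowers_le.mpr h1)
        (zpowers_le.mpr h2) hb'
      have h4 : ⁅zpowers b, D.map (MulAut.conj t).toMonoidHom⁆ = ⊥ := by
        rw [comm_bot_iff]
        rintro x hx _ ⟨d, hd, rfl⟩
        have h5 := hb' x hx d hd
        rw [← mul_assoc, comm_bot_iff.mp h3 x hx d hd, mul_assoc, mul_assoc d] at h5
        exact mul_left_cancel h5
      have h5 : zpowers b ≤ fittingSubgroup G := le_fitting_of_comm
        (by rw [hE]; exact comm_bot_symm (comm_sup_bot (comm_bot_symm h3) (comm_bot_symm h4)))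
        (by rw [hF]; exact commutator_bot_right _)
      rw [hF, zpowers_le, mem_bot] at h5
      exact h5
    refine ⟨D, hs1, hs2, ⟨(MonoidHom.ofInjective hinj).trans (MulEquiv.subgroupCongr hAπ.symm)⟩,
      comm_bot_iff.mp hc, hinf, hE.symm, le_antisymm (fun b hb => ?_) (zpowers_le.mpr htA)⟩
    have h3 := IsComponent.conj hD b
    rcases IsComponent.eq_or_comm h3 hD with h4 | h4
    · rw [hdiag b hb (mem_normalizer_iff_map_conj.mpr h4)]; exact one_mem _
    rcases IsComponent.eq_or_comm h3 hDt with h5 | h5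
    · have h6 : t * b = 1 := hdiag _ (mul_mem htA hb) (by
        rw [mem_normalizer_iff_map_conj, map_conj_mul, h5, conj_conj_of_order_two ht])
      rw [eq_inv_of_mul_eq_one_right h6]
      exact inv_mem (mem_zpowers t)
    · exact absurd (hcomp _ h3) (IsQuasisimple.not_le_of_comm h3.2
        (comm_bot_symm (comm_sup_bot (comm_bot_symm h4) (comm_bot_symm h5))))

theorem exists_elem_of_not_pRankLE {p k : ℕ} {K : Subgroup G} (h : ¬ PRankLE p k K) :
    ∃ V : Subgroup G, V ≤ K ∧ IsElementaryAbelian p V ∧ p ^ k < Nat.card V := by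
  unfold PRankLE at h
  push Not at h
  obtain ⟨V, h1, h2, h3⟩ := h
  exact ⟨V.map K.subtype, map_subtype_le _, IsElementaryAbelian.map ⟨h1, h2⟩ _,
    by rwa [card_map_of_injective K.subtype_injective]⟩

theorem card_le_of_pRankLE {p k : ℕ} {K V : Subgroup G} (h : PRankLE p k K) (hV : V ≤ K)
    (he : IsElementaryAbelian p V) : Nat.card V ≤ p ^ k := by
  by_contra h1
  have h2 := IsElementaryAbelian.subgroupOf he K
  exact h1 (H2.card_subgroupOf_of_le hV ▸ h _ h2.1 h2.2)

theorem isElementaryAbelian_sup {p : ℕ} {A B : Subgroup G} (hA : IsElementaryAbelian p A)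
    (hB : IsElementaryAbelian p B) (h : ⁅A, B⁆ = ⊥) : IsElementaryAbelian p (A ⊔ B) := by
  have hc := comm_bot_iff.mp h
  have hn := le_normalizer_of_comm_bot h
  have h1 : ⁅A ⊔ B, A ⊔ B⁆ = ⊥ :=
    comm_sup_bot
      (comm_bot_symm (comm_sup_bot (comm_bot_of_le_centralizer (IsElementaryAbelian.le_centralizer hA))
        (comm_bot_symm h)))
      (comm_bot_symm (comm_sup_bot h
        (comm_bot_of_le_centralizer (IsElementaryAbelian.le_centralizer hB))))
  refine isElementaryAbelian_iff.mpr ⟨comm_bot_iff.mp h1, fun x hx => ?_⟩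
  obtain ⟨a, ha, b, hb, rfl⟩ := mem_sup_of_le_normalizer_right hn hx
  rw [Commute.mul_pow (hc a ha b hb), hA.2 a ha, hB.2 b hb, one_mul]

theorem max_component_aux (hL2 : pLayer 2 G = layer G) {a : G} (ha : orderOf a = 2)
    {K B : Subgroup G} (hK : IsCompOf K (centralizer {a})) (hB : IsElementaryAbelian 2 B)
    (haB : a ∈ B) (hBK : B ≤ centralizer (K : Set G)) (hrk : ¬ PRankLE 2 1 K) :
    IsComponent K ∨ ∃ D : Subgroup G, IsComponent D ∧ (Nat.card K < Nat.card D ∨
      (Nat.card D = Nat.card K ∧ ∃ B' : Subgroup G, IsElementaryAbelian 2 B' ∧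
        B' ≤ centralizer (D : Set G) ∧ Nat.card B < Nat.card B')) := by
  haveI : Fact (Nat.Prime 2) := ⟨Nat.prime_two⟩
  obtain ⟨D, hD, hKD, hcase⟩ := trichotomy hL2 ha hK
  rcases hcase with h | ⟨h, -⟩ | ⟨hne, hlay, π, hπ, hKπ⟩
  · exact Or.inl (h ▸ hD)
  · exact Or.inr ⟨D, hD, Or.inl (H2.card_lt_of_lt h)⟩
  refine Or.inr ⟨D, hD, ?_⟩
  have hle : Nat.card K ≤ Nat.card D := by
    rw [hKπ]; exact Nat.card_le_card_of_surjective _ π.rangeRestrict_surjective
  rcases hle.lt_or_eq with h | h
  · exact Or.inl h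
  refine Or.inr ⟨h.symm, ?_⟩
  have hbij : Function.Bijective π.rangeRestrict :=
    (Nat.bijective_iff_surjective_and_card _).mpr ⟨π.rangeRestrict_surjective, by rw [← hKπ, h]⟩
  have hinj : Function.Injective π := fun x y e => hbij.1 (Subtype.ext e)
  set D' := D.map (MulAut.conj a).toMonoidHom with hD'
  have hDt : IsComponent D' := IsComponent.conj hD a
  have hc := (IsComponent.eq_or_comm hD hDt).resolve_left (Ne.symm hne)
  have hKE : K ≤ D ⊔ D' := hlay.le.trans ((map_subtype_le _).trans inf_le_left)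
  have hperm : ∀ x ∈ B, x ∈ normalizer (D : Set G) ∨ a * x ∈ normalizer (D : Set G) := by
    intro x hx
    have h3 := IsComponent.conj hD x
    rcases IsComponent.eq_or_comm h3 hD with h4 | h4
    · exact Or.inl (mem_normalizer_iff_map_conj.mpr h4)
    rcases IsComponent.eq_or_comm h3 hDt with h5 | h5
    · right
      rw [mem_normalizer_iff_map_conj, map_conj_mul, h5, conj_conj_of_order_two ha]
    · exfalso
      apply hKD
      have h6 := comm_bot_mono (comm_sup_bot (comm_bot_symm h4) (comm_bot_symm h5)) hKE le_rfl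
      rw [← mem_normalizer_iff_map_conj.mp (centralizer_le_normalizer _ (hBK hx))] at h6
      exact comm_bot_of_map_injective (MulAut.conj x).injective h6
  set B0 := B ⊓ normalizer (D : Set G) with hB0
  have hB0' : B0 ≤ normalizer (D' : Set G) := by
    intro x hx
    rw [mem_normalizer_iff_map_conj, hD', ← map_conj_mul, IsElementaryAbelian.comm hB hx.1 haB,
      map_conj_mul, mem_normalizer_iff_map_conj.mp hx.2]
  have h1 : ⁅B0, D⁆ = ⊥ := comm_bot_of_centralizes_diag (IsComponent.perfect hD) hc inf_le_right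
    hB0' fun x hx d hd => by
      have : d * (a * d * a⁻¹) ∈ K := by rw [hKπ]; exact ⟨⟨d, hd⟩, hπ _⟩
      exact ((hBK hx.1) _ this).symm
  have h2 : ⁅B0, D'⁆ = ⊥ := by
    rw [comm_bot_iff]
    rintro x hx _ ⟨d, hd, rfl⟩
    have h3 : Commute x a := IsElementaryAbelian.comm hB hx.1 haB
    have h4 : Commute x d := comm_bot_iff.mp h1 x hx d hd
    exact ((h3.mul_right h4).mul_right h3.inv_right).eq
  obtain ⟨V, hVK, hV, hV2⟩ := exists_elem_of_not_pRankLE hrk
  set V1 := ((V.comap π).map D.subtype).map (MulAut.conj a).toMonoidHom with hV1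
  have hV1e : IsElementaryAbelian 2 V1 :=
    IsElementaryAbelian.map (IsElementaryAbelian.map (IsElementaryAbelian.comap_of_injective hV hinj) _) _
  have hV1D : V1 ≤ D' := map_mono (map_subtype_le _)
  have hV1c : Nat.card V1 = Nat.card V := by
    rw [hV1, card_map_conj, card_map_of_injective D.subtype_injective,
      ← card_map_of_injective (f := π) hinj, map_comap_eq_self (hKπ ▸ hVK)]
  have hB0e : IsElementaryAbelian 2 B0 := IsElementaryAbelian.of_le hB inf_le_left
  have hcomm : ⁅B0, V1⁆ = ⊥ := comm_bot_mono h2 le_rfl hV1D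
  refine ⟨B0 ⊔ V1, isElementaryAbelian_sup hB0e hV1e hcomm,
    sup_le (le_centralizer_of_comm_bot h1)
      (hV1D.trans (le_centralizer_of_comm_bot (comm_bot_symm hc))), ?_⟩
  have hdis : B0 ⊓ V1 = ⊥ := by
    rw [eq_bot_iff]
    intro z hz
    obtain ⟨d, hd, e⟩ := hV1D hz.2
    have e' : a * d * a⁻¹ = z := e
    have h3 : d = z := by
      calc d = a⁻¹ * (a * d * a⁻¹) * a := by group
        _ = z := by rw [e', mul_assoc, IsElementaryAbelian.comm hB hz.1.1 haB, inv_mul_cancel_left]
    have h4 : π ⟨d, hd⟩ = π 1 := by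
      rw [map_one, hπ]
      change d * (a * d * a⁻¹) = 1
      rw [e', h3, ← pow_two, hB.2 z hz.1.1]
    rw [mem_bot, ← h3]
    exact congrArg Subtype.val (hinj h4)
  have h5 := H2.card_sup_mul_card_inf (le_normalizer_of_comm_bot hcomm)
  rw [hdis, card_bot, mul_one] at h5
  have hBle : B ≤ B0 ⊔ zpowers a := by
    intro x hx
    rcases hperm x hx with h6 | h6
    · exact mem_sup_left ⟨hx, h6⟩
    · have : x = a⁻¹ * (a * x) := by group
      rw [this]
      exact mul_mem (mem_sup_right (inv_mem (mem_zpowers a))) (mem_sup_left ⟨mul_mem haB hx, h6⟩)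
  have h6 : Nat.card B ≤ Nat.card B0 * 2 := by
    refine (card_le_of_le hBle).trans (Nat.le_of_dvd (by have := Nat.card_pos (α := B0); omega) ?_)
    rw [← ha, ← Nat.card_zpowers]
    refine H2.card_sup_dvd_of_le_normalizer (le_normalizer_of_comm_bot (comm_bot_iff.mpr ?_))
    exact fun x hx y hy => IsElementaryAbelian.comm hB hx.1 (zpowers_le.mpr haB hy)
  rw [h5, hV1c]
  have := Nat.card_pos (α := B0)
  nlinarith

theorem pLayer_eq_layer_of_comm (h : ⁅pLayer 2 G, pPrimeCore 2 G⁆ = ⊥) : pLayer 2 G = layer G := by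
  haveI : Fact (Nat.Prime 2) := ⟨Nat.prime_two⟩
  apply le_antisymm
  · refine pLayer_le fun K hK => le_layer (IsPComponent.isComponent_of_quasisimple hK
      ((IsPComponent.quasisimple_iff hK).mpr (comm_bot_mono h (le_pLayer hK) ?_)))
    rw [IsPComponent.opp_eq hK]; exact inf_le_left
  · exact layer_le fun L hL => le_pLayer
      (IsComponent.isPComponent_of_dvd hL (two_dvd_card_of_quasisimple hL.2))

theorem comp_subgroupOf {L C X : Subgroup G} (hL : IsCompOf L C) (hC : C ≤ X) :
    IsCompOf (L.subgroupOf X) (C.subgroupOf X) := by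
  refine ⟨comap_mono hL.1, ?_, ?_⟩
  · have h1 := hL.2.1
    rw [subgroupOf_subgroupOf_eq hC] at h1
    have h2 := h1.comap (subgroupOfEquivOfLe hC : C.subgroupOf X →* C)
    rwa [comap_map_eq_self_of_injective (subgroupOfEquivOfLe hC).injective] at h2
  · exact (isQuasisimple_subgroupOf_iff (comap_mono hL.1)).mpr
      ((isQuasisimple_subgroupOf_iff (hL.1.trans hC)).mpr hL.quasisimple)

theorem max_component (hO : oddCore G = ⊥) (hB : HasBProperty G) {a : G} (ha : orderOf a = 2)
    {K : Subgroup G} (hK : IsCompOf K (centralizer {a}))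
    (hmax : ∀ y : G, orderOf y = 2 → ∀ K' : Subgroup G, K' ≤ centralizer ({y} : Set G) →
      IsComponent (K'.subgroupOf (centralizer ({y} : Set G))) → Nat.card K' ≤ Nat.card K ∧
      (Nat.card K' = Nat.card K → ∀ k : ℕ,
        PRankLE 2 k ↥(centralizer ({a} : Set G) ⊓ centralizer (K : Set G)) →
        PRankLE 2 k ↥(centralizer ({y} : Set G) ⊓ centralizer (K' : Set G))))
    (hrk : ¬ PRankLE 2 1 K) {B : Subgroup G}
    (hBle : B ≤ centralizer ({a} : Set G) ⊓ centralizer (K : Set G))
    (hBel : IsElementaryAbelian 2 B)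
    (hBmax : ∀ B' : Subgroup G, B' ≤ centralizer ({a} : Set G) ⊓ centralizer (K : Set G) →
      IsElementaryAbelian 2 B' → Nat.card B' ≤ Nat.card B) {b : G} (hb : b ∈ B) (hb1 : b ≠ 1) :
    IsCompOf K (centralizer {b}) := by
  haveI : Fact (Nat.Prime 2) := ⟨Nat.prime_two⟩
  have ha2 : a ^ 2 = 1 := pow_eq_one_of_orderOf_eq ha
  have haK : a ∈ centralizer (K : Set G) := fun l hl => mem_centralizer_singleton_iff.mp (hK.1 hl)
  have haB : a ∈ B := by
    have h1 : ⁅B, zpowers a⁆ = ⊥ := comm_bot_of_le_centralizer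
      (by rw [centralizer_zpowers]; exact hBle.trans inf_le_left)
    have h2 := hBmax _ (sup_le hBle (zpowers_le.mpr ⟨mem_centralizer_singleton_self a, haK⟩))
      (isElementaryAbelian_sup hBel (isElementaryAbelian_zpowers ha2) h1)
    have h3 : B = B ⊔ zpowers a := eq_of_le_of_card_ge le_sup_left h2
    rw [h3]; exact mem_sup_right (mem_zpowers a)
  have hbo : orderOf b = 2 := IsElementaryAbelian.orderOf_eq hBel hb hb1
  set X := centralizer ({b} : Set G) with hX
  have hBX : B ≤ X := IsElementaryAbelian.le_centralizer_singleton hBel hb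
  have hKX : K ≤ X := fun k hk => mem_centralizer_singleton_iff.mpr ((hBle hb).2 k hk)
  have hL2 : pLayer 2 X = layer X := by
    apply pLayer_eq_layer_of_comm
    have := hB b hbo
    rwa [hO, le_bot_iff, map_eq_bot_iff_of_injective _ X.subtype_injective] at this
  have hK1 : IsCompOf (K.subgroupOf X) (centralizer {(⟨a, hBX haB⟩ : X)}) := by
    have h1 := comp_subgroupOf (hK.of_le (le_inf hKX hK.1) inf_le_right) (inf_le_left : _ ≤ X)
    rw [inf_subgroupOf_left] at h1
    rwa [← comap_centralizer_singleton_of_injective X.subtype_injective]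
  rcases max_component_aux hL2 (a := ⟨a, hBX haB⟩) (by rw [orderOf_mk, ha]) hK1
    (IsElementaryAbelian.subgroupOf hBel X) haB
    (by rw [subgroupOf_centralizer hKX]; exact comap_mono (hBle.trans inf_le_right))
    (fun h => by
      obtain ⟨V, h1, h2, h3⟩ := exists_elem_of_not_pRankLE hrk
      have := card_le_of_pRankLE (V := V.subgroupOf X) h (comap_mono h1)
        (IsElementaryAbelian.subgroupOf h2 X)
      rw [H2.card_subgroupOf_of_le (h1.trans hKX)] at this
      omega) with h | ⟨D, hD, h⟩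
  · exact ⟨hKX, h⟩
  exfalso
  obtain ⟨h1, h2⟩ := hmax b hbo (D.map X.subtype) (map_subtype_le _) (isCompOf_map_subtype hD).2
  rw [card_map_of_injective X.subtype_injective] at h1 h2
  rw [H2.card_subgroupOf_of_le hKX, H2.card_subgroupOf_of_le hBX] at h
  rcases h with h | ⟨h, B', h3, h4, h5⟩
  · omega
  obtain ⟨k, hk⟩ := (IsElementaryAbelian.isPGroup hBel).exists_card_eq
  have h6 := card_le_of_pRankLE (h2 h k fun V hV1 hV2 => by
    rw [← hk, ← card_map_of_injective (subtype_injective _)]
    exact hBmax _ (map_subtype_le _) (IsElementaryAbelian.map ⟨hV1, hV2⟩ _))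
    (V := B'.map X.subtype) (le_inf (map_subtype_le _)
      (le_centralizer_of_comm_bot (map_comm_bot (comm_bot_of_le_centralizer h4) _)))
    (IsElementaryAbelian.map h3 _)
  rw [card_map_of_injective X.subtype_injective] at h6
  omega

end H25.LB
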