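import Mathlib
import Cfsg.Agent.H7.X32D

/-!
# Extraspecial subgroups of order 32: two fused involutions
-/

set_option autoImplicit false

open Subgroup H24 H6.XS H7.X32

namespace H25.XF

variable {G : Type*} [Group G] [Finite G] {D : Set G} {Q : G → Subgroup G} {z u : G}

theorem eaE {w : ℕ} (h : Sit D Q w) (hz : z ∈ D) (hu : u ∈ D) (ne : u ≠ z) : H6.XS.EA (Q z ⊓ Q u) :=
  fun x hx => (h.sq_or hz hx.1).resolve_right fun e => by
    rcases h.sq_or hu hx.2 with e' | e'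
    exacts [h.ne_one hz (e.symm.trans e'), ne (e'.symm.trans e)]

theorem cardY (h : Sit D Q 2) (hz : z ∈ D) (hu : u ∈ D) (hm : u ∈ Q z) (ne : u ≠ z) :
    Nat.card ↥(C{z} ⊓ Q u) = 16 := by
  have h1 := h.idx_two hu (h.symm hz hu hm) (h.ne_one hz) ne.symm
  have h2 := card_mul_relIndex (inf_le_right : C{z} ⊓ Q u ≤ Q u)
  rw [inf_relIndex_right, h1, h.card u hu] at h2
  omega

/-- an element of `Q u` which centralises `z` and is not in `Q z`. -/
theorem factF (h : Sit D Q 2) (hz : z ∈ D) (hu : u ∈ D) (hm : u ∈ Q z) (ne : u ≠ z) :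
    ∃ y ∈ C{z}, y ∈ Q u ∧ y ∉ Q z := by
  by_contra hn
  push Not at hn
  have h1 := h.card_le_of_abl hz inf_le_left (eaE h hz hu ne).le_C
  have h2 : C{z} ⊓ Q u ≤ Q z ⊓ Q u := fun y hy => ⟨hn y hy.1 hy.2, hy.2⟩
  have h3 := card_le_of_le h2
  rw [cardY h hz hu hm ne] at h3
  omega

end H25.XF
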