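import Mathlib
import Cfsg.Agent.H7.XKM2
import Cfsg.Agent.H7.SmallIso
import Cfsg.Agent.H4.GDModel

/-!
# The unitary group `GU₂(3)` in the model
-/

set_option autoImplicit false
set_option maxRecDepth 100000
set_option synthInstance.maxSize 4000

open Subgroup H7.X32 H7 Matrix H29

namespace H25.XF

/-- the subgroup of order `48` -/
def h0 (x : KM2) : Prop := Nat.testBit 0xf00ff00ff00ff00ff00ff00f x.val = true
/-- the subgroup of order `96` -/
def m2 (x : KM2) : Prop := Nat.testBit 0xff00ff00ff00ff00ff00ff0f00ff00ff00ff00ff00ff00f x.val = true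

instance (x : KM2) : Decidable (h0 x) := inferInstanceAs (Decidable (_ = true))
instance (x : KM2) : Decidable (m2 x) := inferInstanceAs (Decidable (_ = true))

/-- the codes of the entries of the matrices -/
def ent (x : KM2) (n : ℕ) : ℕ := H7.Cay.pk (nat_lit 0x99696966a555555aaa5a5a556999999600000000000000000000000000000000669696995aaaaaa555a5a5aa96666669000000000000000000000000000000006aa6a6959aa9a965566565a9a66a6a59000000000000000000000000000000009559596a6556569aa99a9a56599595a6000000000000000000000000000000000820200480010140024040012008081000000000000000000000000000000000041010084002028001808002100404200000000000000000a6a9a959959a9a6a00000000000000000000000000000000656a6a9aa9a6a656595656a66a656595000000000000000000000000000000009a959565565959a96955559666a5a599000000000000000000000000000000005a9999a5556969aa96aaaa69995a5a6600000000000000000000000000000000a566665aaa96965520010110048080080000000000000000000000000000000040080880012020021002022008404004000000000000000000000000000000008004044002101001)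 4 (Nat.add (Nat.mul 4 x.val) n)

/-- the element with a given code -/
def cF (c : ℕ) : F9 := ⟨(c % 4 : ℕ), (c / 4 : ℕ)⟩

/-- the code of `a b + c d` -/
noncomputable def ma (a b c d : ℕ) : ℕ := lit a fun a => lit b fun b => lit c fun c => lit d fun d =>
  Nat.add (Nat.mod (Nat.add (Nat.add (Nat.mul (Nat.mod a 4) (Nat.mod b 4)) (Nat.mul 2 (Nat.mul (Nat.div a 4) (Nat.div b 4))))
    (Nat.add (Nat.mul (Nat.mod c 4) (Nat.mod d 4)) (Nat.mul 2 (Nat.mul (Nat.div c 4) (Nat.div d 4))))) 3)
  (Nat.mul 4 (Nat.mod (Nat.add (Nat.add (Nat.mul (Nat.mod a 4) (Nat.div b 4)) (Nat.mul (Nat.div a 4) (Nat.mod b 4)))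
    (Nat.add (Nat.mul (Nat.mod c 4) (Nat.div d 4)) (Nat.mul (Nat.div c 4) (Nat.mod d 4)))) 3))

theorem cF_ma (a b c d : ℕ) : cF (ma a b c d) = cF a * cF b + cF c * cF d := by
  have k : ∀ x y : ℕ, cF (x % 3 + 4 * (y % 3)) = ⟨x, y⟩ := fun x y => by
    rw [cF, show (x % 3 + 4 * (y % 3)) % 4 = x % 3 by omega, show (x % 3 + 4 * (y % 3)) / 4 = y % 3 by omega,
      ZMod.natCast_mod, ZMod.natCast_mod]
  have h2 : (2 : ZMod 3) = -1 := rfl
  refine (k (a % 4 * (b % 4) + 2 * (a / 4 * (b / 4)) + (c % 4 * (d % 4) + 2 * (c / 4 * (d / 4))))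
    (a % 4 * (b / 4) + a / 4 * (b % 4) + (c % 4 * (d / 4) + c / 4 * (d % 4)))).trans ?_
  ext <;> simp [cF, h2]

theorem ent_mul : ∀ x, m2 x → ∀ y, m2 y → m2 (x * y) ∧
    ent (x * y) 0 = ma (ent x 0) (ent y 0) (ent x 1) (ent y 2) ∧
    ent (x * y) 1 = ma (ent x 0) (ent y 1) (ent x 1) (ent y 3) ∧
    ent (x * y) 2 = ma (ent x 2) (ent y 0) (ent x 3) (ent y 2) ∧
    ent (x * y) 3 = ma (ent x 2) (ent y 1) (ent x 3) (ent y 3) := by
  decide +kernel

/-- the matrix -/
def mat (x : KM2) : Matrix (Fin 2) (Fin 2) F9 := !![cF (ent x 0), cF (ent x 1); cF (ent x 2), cF (ent x 3)]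

theorem mat_mul {x y : KM2} (hx : m2 x) (hy : m2 y) : mat (x * y) = mat x * mat y := by
  obtain ⟨-, h1, h2, h3, h4⟩ := ent_mul x hx y hy
  rw [mat, mat, mat, Matrix.mul_fin_two, h1, h2, h3, h4, cF_ma, cF_ma, cF_ma, cF_ma]

theorem m2_inv : m2 1 ∧ ∀ x, m2 x → m2 x⁻¹ ∧ (mat x = 1 → x = 1) ∧ ((mat x).map (· ^ 3))ᵀ * mat x = 1 := by
  decide +kernel

/-- the subgroup -/
def M2 : Subgroup KM2 where
  carrier := {x | m2 x}
  one_mem' := m2_inv.1
  inv_mem' hx := (m2_inv.2 _ hx).1
  mul_mem' hx hy := (ent_mul _ hx _ hy).1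

theorem card9 : Fintype.card F9 = 3 ^ 2 := card_F9

theorem exists_gu : Nonempty (M2 ≃* Cfsg.GU 2 F9 3) := by
  choose f hf using fun x : M2 => H22.GDM.exists_gu card9 (A := mat x) (m2_inv.2 _ x.2).2.2
  have inj : Function.Injective (H22.GDM.ιu F9 3) := Units.coeHom_injective.comp (subtype_injective _)
  let φ : M2 →* Cfsg.GU 2 F9 3 := MonoidHom.mk' f fun x y => inj (by
    rw [map_mul, hf, hf, hf]; exact mat_mul x.2 y.2)
  refine ⟨MulEquiv.ofBijective φ ((Nat.bijective_iff_injective_and_card _).2 ⟨(injective_iff_map_eq_one _).2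
    fun x e => Subtype.ext ((m2_inv.2 _ x.2).2.1 (by rw [← hf, show f x = 1 from e, map_one])), ?_⟩)⟩
  rw [H16.card_gu_two card9]
  exact (KK.card_sub m2).trans (by decide +kernel)

end H25.XF
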