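import Mathlib
import Cfsg.Agent.H25.ZOB
import Cfsg.Agent.H6.XU3
import Cfsg.Agent.H6.XA
import Cfsg.Agent.H6.XE1

/-! Width four: connectedness. -/

set_option autoImplicit false
set_option linter.unusedSectionVars false
set_option linter.unusedVariables false

namespace H6
namespace XS
namespace ZO

open Subgroup H24 H15 H15.XP Module

variable {G : Type*} [Group G] [Finite G] {D : Set G} {Q : G → Subgroup G} {z : G}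
variable {V : Type*} [AddCommGroup V] [Module (ZMod 2) V] [Finite V]
variable {F : Fr z (Q z) V} {E : V → Submodule (ZMod 2) V} {R : V → Subgroup (ofQuad F.q).Isom}

/-- the hypotheses -/
structure Hy (D : Set G) (Q : G → Subgroup G) (z : G) (F : Fr z (Q z) V)
    (E : V → Submodule (ZMod 2) V) (R : V → Subgroup (ofQuad F.q).Isom) : Prop where
  s : Sit D Q 4
  hz : z ∈ D
  hl : Lift D Q F E R
  h1 : ∀ v ∈ F.VV D, ∀ y ∈ R v, y ≠ 1 → Fu E v y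
  h2 : ∀ d : C{z}, (d : G) ∈ D → F.ρ d = 1 ∨ ∃ u ∈ F.VV D, F.ρ d ∈ R u
  h3 : ∀ v ∈ F.VV D, ∀ y ∈ R v, y ≠ 1 → Gd (F.VV D) E v y → (∀ a, y.1 a = a → F.q a = 0) →
      (∀ s, y.1 s = s → s ≠ 0 → s ∉ F.VV D → ∃ u ∈ F.VV D, y ∈ R u ∧ s ∈ E u) ∧
      ∀ x x', y.1 x + x ≠ 0 → y.1 x + x ∉ F.VV D → y.1 x' + x' ≠ 0 → y.1 x' + x' ∉ F.VV D →
        y.1 (x + x') + (x + x') ≠ 0 → y.1 (x + x') + (x + x') ∉ F.VV D →
          pol F.q x (y.1 x' + x') = 1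

/-- `w, d` commute and `w d ∉ D` -/
structure Lc (D : Set G) (w d : G) : Prop extends Col D w d where
  nm : w * d ∉ D

theorem Lc.cj {k : ℕ} (s : Sit D Q k) {w d : G} (l : Lc D w d) (g : G) :
    Lc D (g * w * g⁻¹) (g * d * g⁻¹) :=
  ⟨s.col_cj l.toCol g, by rw [cj_mul', memD_cj s]; exact l.nm⟩

theorem Lc.nq {k : ℕ} (s : Sit D Q k) {w d : G} (l : Lc D w d) : d ∉ Q w := fun m =>
  l.nm ((s.mul_mem_D l.l m (s.ne_one l.r) l.ne.symm).2 l.r)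

theorem cn {a b : G} (ha : a ∈ D) (hb : b ∈ D) (e : a * b = b * a) :
    Relation.ReflTransGen (Col D) a b := by
  by_cases k : a = b
  · exact k ▸ .refl
  · exact .single ⟨ha, hb, k, e⟩

theorem cn2 {a b t : G} (ha : a ∈ D) (hb : b ∈ D) (ht : t ∈ D) (e : t * a = a * t)
    (e' : t * b = b * t) : Relation.ReflTransGen (Col D) a b :=
  (cn ha ht e.symm).trans (cn ht hb e')

theorem mul_com {a d x : G} (e : d * d = 1) : d * (d * x * d⁻¹ * x⁻¹) = x * d * x⁻¹ := by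
  rw [inv_eq_of_mul_eq_one_right e, ← mul_assoc, ← mul_assoc, ← mul_assoc, e, one_mul]

theorem cj_com {d x : G} (e : d * d = 1) :
    d * (d * x * d⁻¹ * x⁻¹) * d⁻¹ = (d * x * d⁻¹ * x⁻¹)⁻¹ := by
  rw [mul_com (a := d) e]; group

/-- `d z [d, x] ∉ D` -/
theorem Lc.nz {k : ℕ} (s : Sit D Q k) {w d x : G} (l : Lc D w d) (hx : x ∈ Q w) :
    w * (x * d * x⁻¹) ∉ D := fun m => l.nm <| by
  rw [← memD_cj s x, ← cj_mul', mem_C1_iff_conj.1 (s.le l.l hx)]; exact m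

namespace Hy

variable (h : Hy D Q z F E R) {d : G}
include h

theorem I₀ (dz : d ∈ C{z}) (hd : d ∈ D) (dn : d ∉ Q z) :
    ∃ v ∈ D, v ∈ Q z ∧ v ≠ z ∧ d ∈ Q v ∧ F.ρ ⟨d, dz⟩ ∈ R (F.π v) ∧ F.ρ ⟨d, dz⟩ ≠ 1 := by
  have n : F.ρ ⟨d, dz⟩ ≠ 1 := fun e => dn ((F.ker _).1 e)
  obtain ⟨u, u1, u2⟩ := (h.h2 ⟨d, dz⟩ hd).resolve_left n
  obtain ⟨v, v1, v2, v3, v4, v5⟩ := h.s.inner_mem h.hz h.hl u1 ⟨d, dz⟩ (h.s.sq hd) u2 (h.h1 u u1 _ u2 n)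
  exact ⟨v, v1, v2, v3, v5, v4 ▸ u2, n⟩

theorem I {w : G} (hw : w ∈ D) (hd : d ∈ D) (e : w * d = d * w) :
    ∃ v ∈ D, v ∈ Q w ∧ d ∈ Q v := by
  by_cases dn : d ∈ Q w
  · exact ⟨w, hw, h.s.mem hw, dn⟩
  obtain ⟨g, hg⟩ := h.s.trans w hw z h.hz
  obtain ⟨v, v1, v2, -, v3, -⟩ := h.I₀ (d := g * d * g⁻¹) (hg ▸ (memC_cj g d w).2 (mem_C1.2 e.symm))
    (h.s.conj _ hd g) (hg ▸ fun m => dn ((memQ_cj h.s hw g d).1 m))
  obtain ⟨v, rfl⟩ : ∃ v', v = g * v' * g⁻¹ := ⟨g⁻¹ * v * g, by group⟩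
  rw [memD_cj h.s] at v1
  exact ⟨v, v1, (memQ_cj h.s hw g v).1 (hg ▸ v2), (memQ_cj h.s v1 g d).1 v3⟩

theorem fx₀ (dz : d ∈ C{z}) {s : G} (s1 : s ∈ Q z) (s2 : s ∈ C{d}) :
    (F.ρ ⟨d, dz⟩).1 (F.π s) = F.π s := by
  rw [F.ρ_π _ s s1]
  exact congrArg F.π (mem_C1_iff_conj.1 (mem_C1_comm.1 s2))

theorem cm₀ (dz : d ∈ C{z}) {x : G} (hx : x ∈ Q z) : d * x * d⁻¹ * x⁻¹ ∈ Q z :=
  mul_mem ((mem_N.1 (h.s.norm h.hz dz) x).1 hx) (inv_mem hx)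

theorem loc₀ (l : Lc D z d) (dz : d ∈ C{z}) :
    (∀ a, (F.ρ ⟨d, dz⟩).1 a = a → ∃ x ∈ Q z, F.π (d * x * d⁻¹ * x⁻¹) = a) ∧
    (∀ s, (F.ρ ⟨d, dz⟩).1 s = s → s ≠ 0 → s ∉ F.VV D →
      ∃ u ∈ D, u ∈ Q z ∧ d ∈ Q u ∧ s ∈ F.im (Q u)) ∧
    ∀ x ∈ Q z, ∀ x' ∈ Q z, ∀ a a', a = d * x * d⁻¹ * x⁻¹ → a' = d * x' * d⁻¹ * x'⁻¹ → a ≠ 1 → a ∉ D →
      a' ≠ 1 → a' ∉ D → a * a' ≠ 1 → a * a' ∉ D → x * a' * x⁻¹ = z * a' := by
  have s := h.s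
  have hz := h.hz
  obtain ⟨v, v1, v2, v3, v4, v5, v6⟩ := h.I₀ dz l.r (l.nq s)
  have vS := (F.mem_VV s hz v2).2 ⟨v1, v3⟩
  have a1 : ∀ a, (F.ρ ⟨d, dz⟩).1 a = a → ∃ x ∈ Q z, F.π (d * x * d⁻¹ * x⁻¹) = a := fun a f => by
    obtain ⟨x, hx⟩ := (h.h1 _ vS _ v5 v6).1 a f
    obtain ⟨x, x1, rfl⟩ := F.π_surj x
    exact ⟨x, x1, (F.π_comm s hz ⟨d, dz⟩ x1).trans hx⟩
  obtain ⟨k1, k2⟩ := h.h3 _ vS _ v5 v6 (s.gd hz h.hl v1 v2 v3 ⟨d, dz⟩ l.r v4 (l.nq s)) fun a f => by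
    obtain ⟨x, x1, rfl⟩ := a1 a f
    have m := h.cm₀ dz x1
    rw [F.q_π _ m]
    refine (s.sq_or hz m).resolve_right fun e => l.nz s m ?_
    generalize hm : d * x * d⁻¹ * x⁻¹ = y at e m
    have e1 : d * y * d⁻¹ = y⁻¹ := hm ▸ cj_com (s.sq l.r)
    have e2 : y * d * y⁻¹ = z * d := by
      calc y * d * y⁻¹ = y * (d * y * d⁻¹)⁻¹ * (d * d) * d⁻¹ := by
            rw [inv_eq_of_mul_eq_one_right (s.sq l.r), s.sq l.r]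
            simp [mul_assoc, inv_eq_of_mul_eq_one_right (s.sq l.r), s.sq l.r]
        _ = z * d := by rw [e1, inv_inv, e, s.sq l.r, mul_one, inv_eq_of_mul_eq_one_right (s.sq l.r)]
    rw [e2, ← mul_assoc, s.sq hz, one_mul]
    exact l.r
  refine ⟨a1, fun a f a0 aS => ?_, fun x hx x' hx' a a' e e' n1 n2 n3 n4 n5 n6 => ?_⟩
  · obtain ⟨u, u1, u2, u3⟩ := k1 a f a0 aS
    obtain ⟨u', w1, w2, w3, w4, w5⟩ := s.inner_mem hz h.hl u1 ⟨d, dz⟩ (s.sq l.r) u2 (h.h1 u u1 _ u2 v6)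
    exact ⟨u', w1, w2, w5, by rw [← h.hl.eqE u' w1 w2 w3, w4]; exact u3⟩
  · have m : a ∈ Q z := e ▸ h.cm₀ dz hx
    have m' : a' ∈ Q z := e' ▸ h.cm₀ dz hx'
    have p : (F.ρ ⟨d, dz⟩).1 (F.π x) + F.π x = F.π a := e ▸ (F.π_comm s hz ⟨d, dz⟩ hx).symm
    have p' : (F.ρ ⟨d, dz⟩).1 (F.π x') + F.π x' = F.π a' := e' ▸ (F.π_comm s hz ⟨d, dz⟩ hx').symm
    have p'' : (F.ρ ⟨d, dz⟩).1 (F.π x + F.π x') + (F.π x + F.π x') = F.π (a * a') := by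
      rw [F.π_mul a m a' m', ← p, ← p', map_add]; abel
    have n0 : ∀ y ∈ Q z, y ≠ 1 → y ∉ D → F.π y ≠ 0 := fun y hy y1 y2 e =>
      ((F.π_eq_zero y hy).1 e).elim y1 fun e => y2 (e ▸ hz)
    have nS : ∀ y ∈ Q z, y ∉ D → F.π y ∉ F.VV D := fun y hy y2 e => y2 ((F.mem_VV s hz hy).1 e).1
    have := k2 (F.π x) (F.π x') (p ▸ n0 a m n1 n2) (p ▸ nS a m n2) (p' ▸ n0 a' m' n3 n4)
      (p' ▸ nS a' m' n4) (p'' ▸ n0 _ (mul_mem m m') n5 n6) (p'' ▸ nS _ (mul_mem m m') n6)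
    rwa [p', F.pol_one s hz hx m'] at this

theorem F₀ (l : Lc D z d) {s : G} (s1 : s ∈ Q z) (s2 : s ∈ C{d}) :
    ∃ x ∈ Q z, s = d * x * d⁻¹ * x⁻¹ ∨ s = z * (d * x * d⁻¹ * x⁻¹) := by
  have dz : d ∈ C{z} := mem_C1.2 l.comm.symm
  obtain ⟨x, x1, x2⟩ := (h.loc₀ l dz).1 _ (h.fx₀ dz s1 s2)
  exact ⟨x, x1, (F.π_eq h.s h.hz s1 (h.cm₀ dz x1)).1 x2.symm⟩

theorem F₁ (l : Lc D z d) {s : G} (s1 : s ∈ Q z) (s2 : s ∈ C{d}) : d * s ∈ D ∨ z * d * s ∈ D := by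
  obtain ⟨x, x1, rfl | rfl⟩ := h.F₀ l s1 s2
  · rw [mul_com (a := d) (h.s.sq l.r)]; exact Or.inl (h.s.conj _ l.r x)
  · refine Or.inr ?_
    rw [l.comm, mul_assoc d z, ← mul_assoc z z, h.s.sq h.hz, one_mul, mul_com (a := d) (h.s.sq l.r)]
    exact h.s.conj _ l.r x

theorem B₀ (l : Lc D z d) {s : G} (s1 : s ∈ Q z) (s2 : s ∈ C{d}) (s3 : s ≠ 1) (s4 : s ∉ D) :
    ∃ u ∈ D, u ∈ Q z ∧ d ∈ Q u ∧ s ∈ Q u := by
  have dz : d ∈ C{z} := mem_C1.2 l.comm.symm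
  obtain ⟨u, u1, u2, u3, u4⟩ := (h.loc₀ l dz).2.1 _ (h.fx₀ dz s1 s2)
    (fun e => ((F.π_eq_zero s s1).1 e).elim s3 fun e => s4 (e ▸ h.hz))
    fun e => s4 ((F.mem_VV h.s h.hz s1).1 e).1
  exact ⟨u, u1, u2, u3, (F.π_mem_im h.s h.hz (h.s.symm h.hz u1 u2) s1).1 u4⟩

theorem C₀ (l : Lc D z d) {a b : G} (a1 : a ∈ Q z) (a2 : a ∈ C{d}) (a3 : a ≠ 1) (a4 : a ∉ D)
    (a5 : d * a ∈ D) (b1 : b ∈ Q z) (b2 : b ∈ C{d}) (b3 : b ≠ 1) (b4 : b ∉ D) (b5 : d * b ∈ D)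
    (c3 : a * b ≠ 1) (c4 : a * b ∉ D) (c5 : d * (a * b) ∈ D) : False := by
  have s := h.s
  have dz : d ∈ C{z} := mem_C1.2 l.comm.symm
  have nz : ∀ x ∈ Q z, d * (z * (d * x * d⁻¹ * x⁻¹)) ∉ D := fun x hx => by
    rw [← mul_assoc, ← l.comm, mul_assoc, mul_com (a := d) (s.sq l.r)]; exact l.nz s hx
  obtain ⟨x, x1, x2 | x2⟩ := h.F₀ l a1 a2
  swap
  · exact nz x x1 (x2 ▸ a5)
  obtain ⟨y, y1, y2 | y2⟩ := h.F₀ l b1 b2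
  swap
  · exact nz y y1 (y2 ▸ b5)
  have e := (h.loc₀ l dz).2.2 x x1 y y1 a b x2 y2 a3 a4 b3 b4 c3 c4
  refine nz (x * y) (mul_mem x1 y1) ?_
  have : d * (x * y) * d⁻¹ * (x * y)⁻¹ = a * (x * b * x⁻¹) := by rw [x2, y2]; group
  rw [this, e, ← mul_assoc a, mem_C1.1 (s.le h.hz a1), ← mul_assoc z, ← mul_assoc z, s.sq h.hz, one_mul]
  exact c5

variable {w : G}

theorem F' (l : Lc D w d) {s : G} (s1 : s ∈ Q w) (s2 : s ∈ C{d}) : d * s ∈ D ∨ w * d * s ∈ D := by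
  obtain ⟨g, hg⟩ := h.s.trans w l.l z h.hz
  have := h.F₁ (hg ▸ l.cj h.s g) (hg ▸ (memQ_cj h.s l.l g s).2 s1) ((memC_cj g s d).2 s2)
  rwa [← hg, cj_mul', cj_mul', cj_mul', memD_cj h.s, memD_cj h.s] at this

theorem B' (l : Lc D w d) {s : G} (s1 : s ∈ Q w) (s2 : s ∈ C{d}) (s3 : s ≠ 1) (s4 : s ∉ D) :
    ∃ u ∈ D, u ∈ Q w ∧ d ∈ Q u ∧ s ∈ Q u := by
  obtain ⟨g, hg⟩ := h.s.trans w l.l z h.hz
  obtain ⟨u, u1, u2, u3, u4⟩ := h.B₀ (hg ▸ l.cj h.s g) (hg ▸ (memQ_cj h.s l.l g s).2 s1)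
    ((memC_cj g s d).2 s2) (by simpa using cj_ne g s3) (by rwa [memD_cj h.s])
  obtain ⟨u, rfl⟩ : ∃ v', u = g * v' * g⁻¹ := ⟨g⁻¹ * u * g, by group⟩
  rw [memD_cj h.s] at u1
  exact ⟨u, u1, (memQ_cj h.s l.l g u).1 (hg ▸ u2), (memQ_cj h.s u1 g d).1 u3, (memQ_cj h.s u1 g s).1 u4⟩

theorem C' (l : Lc D w d) {a b : G} (a1 : a ∈ Q w) (a2 : a ∈ C{d}) (a3 : a ≠ 1) (a4 : a ∉ D)
    (a5 : d * a ∈ D) (b1 : b ∈ Q w) (b2 : b ∈ C{d}) (b3 : b ≠ 1) (b4 : b ∉ D) (b5 : d * b ∈ D)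
    (c3 : a * b ≠ 1) (c4 : a * b ∉ D) (c5 : d * (a * b) ∈ D) : False := by
  obtain ⟨g, hg⟩ := h.s.trans w l.l z h.hz
  exact h.C₀ (hg ▸ l.cj h.s g) (hg ▸ (memQ_cj h.s l.l g a).2 a1) ((memC_cj g a d).2 a2)
    (by simpa using cj_ne g a3) (by rwa [memD_cj h.s]) (by rwa [cj_mul', memD_cj h.s])
    (hg ▸ (memQ_cj h.s l.l g b).2 b1) ((memC_cj g b d).2 b2)
    (by simpa using cj_ne g b3) (by rwa [memD_cj h.s]) (by rwa [cj_mul', memD_cj h.s])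
    (by rw [cj_mul']; simpa using cj_ne g c3) (by rwa [cj_mul', memD_cj h.s])
    (by rwa [cj_mul', cj_mul', memD_cj h.s])

theorem dih {s y : G} (s1 : s ≠ 1) (sD : s ∉ D) (yD : y ∈ D) (ys : s * y = y * s) (ysD : y * s ∈ D)
    (wD : w ∈ D) (sw : s ∈ Q w) : ∃ τ, τ ≠ 1 ∧ τ * τ = 1 ∧ τ * y = y * τ ∧ τ * w = w * τ ∧
      (∀ a, a * y = y * a → a * w = w * a → a * τ = τ * a) ∧ w * τ ∈ D ∧
      (w * τ * s ∈ D ∨ s ∈ Q (w * τ)) := by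
  have p := h.s
  have cy : ∀ g ∈ C{s}, g * y * g⁻¹ * s ∈ D := fun g hg => by
    rw [← mem_C1_iff_conj.1 hg, cj_mul']; exact p.conj _ ysD g
  have cw : ∀ g ∈ C{s}, s ∈ Q (g * w * g⁻¹) := fun g hg => by
    rw [← mem_C1_iff_conj.1 hg, memQ_cj p wD]; exact sw
  rcases dih₃ (H := C{s}) (p.sq yD) (p.sq wD) (mem_C1.2 ys.symm) (mem_C1_comm.1 (p.le wD sw)) with
    ⟨g, g1, g2⟩ | ⟨τ, t1, t2, t3, t4, t5, ⟨-, g, g1, g2⟩ | ⟨-, g, g1, g2⟩⟩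
  · exact absurd ((p.mul_mem_D wD sw s1 fun e => sD (e ▸ wD)).1 (g2 ▸ cy g g1)) sD
  · exact ⟨τ, t1, t2, t3, t4, t5, g2 ▸ p.conj _ wD g, Or.inr (g2 ▸ cw g g1)⟩
  · exact ⟨τ, t1, t2, t3, t4, t5, g2 ▸ p.conj _ yD g, Or.inl (g2 ▸ cy g g1)⟩

theorem YZ {s y : G} (s1 : s ≠ 1) (sD : s ∉ D) (yD : y ∈ D) (ys : s * y = y * s) (ysD : y * s ∈ D)
    (wD : w ∈ D) (sw : s ∈ Q w) : Relation.ReflTransGen (Col D) y w := by
  have p := h.s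
  by_contra n
  have mkL : ∀ {w τ : G}, w ∈ D → w * τ ∈ D → τ ≠ 1 → τ * w = w * τ → τ ∉ D → Lc D w (w * τ) :=
    fun {w τ} a1 a2 a3 a4 a5 => ⟨⟨a1, a2, fun e => a3 (by simpa using e), by rw [mul_assoc, a4]⟩,
      by rwa [← mul_assoc, p.sq a1, one_mul]⟩
  have cm : ∀ {a b x : G}, a * x = x * a → b * x = x * b → a * b * x = x * (a * b) := fun e e' => by
    rw [mul_assoc, e', ← mul_assoc, e, mul_assoc]
  have ws := mem_C1.1 (p.le wD sw)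
  obtain ⟨τ, t1, t2, t3, t4, t5, t6, t7⟩ := h.dih s1 sD yD ys ysD wD sw
  have st := t5 s ys ws
  have n1 : τ ∉ D := fun m => n (cn2 yD wD m t3 t4)
  have n2 : τ * s ∉ D := fun m => n (cn2 yD wD m (cm t3 ys) (cm t4 ws))
  have l := mkL wD t6 t1 t4 n1
  have sd : s ∈ C{w * τ} := mem_C1.2 (cm ws.symm st.symm).symm
  have ds : w * τ * s ∈ D := by
    refine t7.resolve_right fun m => ?_
    rcases h.F' l sw sd with k | k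
    · exact sD ((p.mul_mem_D t6 m s1 fun e => sD (e ▸ t6)).1 k)
    · rw [← mul_assoc, p.sq wD, one_mul] at k; exact n2 k
  obtain ⟨u, u1, u2, u3, u4⟩ := h.B' l sw sd s1 sD
  have tu : τ ∈ Q u := by
    have := mul_mem (p.symm wD u1 u2) u3
    rwa [← mul_assoc, p.sq wD, one_mul] at this
  have n' : ¬ Relation.ReflTransGen (Col D) y u := fun k =>
    n (k.trans (cn u1 wD (mem_C1.1 (p.le wD u2))))
  have us := mem_C1.1 (p.le u1 u4)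
  have ut := mem_C1.1 (p.le u1 tu)
  obtain ⟨σ, r1, r2, r3, r4, r5, r6, -⟩ := h.dih s1 sD yD ys ysD u1 u4
  have l' := mkL u1 r6 r1 r4 fun m => n' (cn2 yD u1 m r3 r4)
  have key : ∀ a ∈ Q u, a * y = y * a → a ∈ C{u * σ} ∧ u * σ * a ∈ D := fun a a1 a2 => by
    have au := mem_C1.1 (p.le u1 a1)
    have ad : a ∈ C{u * σ} := mem_C1.2 (cm au.symm (r5 a a2 au).symm).symm
    refine ⟨ad, (h.F' l' a1 ad).resolve_right fun k => ?_⟩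
    rw [← mul_assoc, p.sq u1, one_mul] at k
    exact n' (cn2 yD u1 k (cm r3 a2) (cm r4 au))
  obtain ⟨k1, k2⟩ := key s u4 ys
  obtain ⟨k3, k4⟩ := key τ tu t3
  refine h.C' l' tu k3 t1 n1 k4 u4 k1 s1 sD k2 (fun e => ?_) n2 (key _ (mul_mem tu u4) (cm t3 ys)).2
  have : τ = s := by
    rw [← mul_one τ, ← e, ← mul_assoc, t2, one_mul]
  exact sD ((p.mul_mem_D wD sw s1 fun e => sD (e ▸ wD)).1 (this ▸ t6))

theorem conn [IsSimpleGroup G] (h4 : ∃ s, s ≠ 0 ∧ F.q s = 0 ∧ s ∉ F.VV D) (hd : d ∈ D) :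
    Relation.ReflTransGen (Col D) z d := by
  have p := h.s
  have hz := h.hz
  obtain ⟨M, hM⟩ := p.exists_stab z
  have CM : ∀ e, Relation.ReflTransGen (Col D) z e → ∀ g : G,
      Relation.ReflTransGen (Col D) z (g * e * g⁻¹) → g ∈ M := fun e k g k' =>
    (hM g).2 (k'.trans (Sit.rtg_symm (p.rtg_cj g k)))
  have C0 : C{z} ≤ M := fun g hg => (hM g).2 (by rw [mem_C1_iff_conj.1 hg])
  obtain ⟨s, s0, s1, s2⟩ := h4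
  obtain ⟨t, t1, rfl⟩ := F.π_surj s
  have top := p.eq_top hz (M := M) (C0 (self_mem_C1 z)) (fun g hg => ?_) (fun e he ne hc g hg => ?_)
    ((F.q_π t t1).1 s1) (fun e => s0 (e ▸ F.π_one))
    (fun m => s2 ((F.mem_VV p hz t1).2 ⟨m, fun e => s0 (e ▸ F.π_z p hz)⟩))
  · obtain ⟨g, rfl⟩ := p.trans z hz d hd
    exact (hM g).1 (top ▸ mem_top g)
  · obtain ⟨S, hS⟩ := Sylow_exists Nat.prime_two C{z}
    have h1 : Syl 2 ⊤ S := hS.of_idx le_top ((piNat_compl_singleton Nat.prime_two).2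
      (by rw [relIndex_top_right]; exact ZD.not_two_dvd (p.odd_index hz)))
    have gD := p.conj z hz g
    obtain ⟨m, hm, e⟩ := Sylow_subJ Nat.prime_two (h1.of_le (hS.le.trans C0) le_top)
      (piElt_of_pow_eq_one (piNat_self Nat.prime_two) (by rw [pow_two]; exact p.sq gD)).isPi
      (zpowers_le.2 hg)
    have : g * z * g⁻¹ ∈ C{m * z * m⁻¹} := cj_C1 m z ▸ cj_mono m hS.le (e (mem_zpowers _))
    exact (hM g).2 (((hM m).1 hm).trans (cn (p.conj z hz m) gD (mem_C1.1 this).symm))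
  · have zs : z * e * z = z * (z * e) := by rw [mul_assoc, ← hc]
    by_cases m : z * e ∈ D
    · have := cn hz m zs.symm
      exact CM _ this g (by rwa [mem_C1_iff_conj.1 hg])
    obtain ⟨v, v1, v2, v3⟩ := h.I hz he hc
    refine CM v (cn hz v1 (mem_C1.1 (p.le hz v2)).symm) g (h.YZ (s := z * e) (fun k => ne ?_) m hz zs
      (by rwa [← mul_assoc, p.sq hz, one_mul]) (p.conj v v1 g) ?_)
    · rw [← one_mul e, ← p.sq hz, mul_assoc, k, mul_one]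
    · rw [← mem_C1_iff_conj.1 hg, memQ_cj p v1]
      exact mul_mem (p.symm hz v1 v2) v3

theorem top [IsSimpleGroup G] (h4 : ∃ s, s ≠ 0 ∧ F.q s = 0 ∧ s ∉ F.VV D) {X : Subgroup G}
    (hQ : Q z ≤ X) {v t : G} (vD : v ∈ D) (vQ : v ∈ Q z) (vz : v ≠ z) (tX : t ∈ X) (tQ : t ∈ Q v)
    (tz : t ∉ C{z}) (tr : ∀ u ∈ F.VV D, ∃ g : C{z}, (g : G) ∈ X ∧ (F.ρ g).1 (F.π v) = u) : X = ⊤ := by
  have p := h.s
  have hz := h.hz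
  let P : G → Prop := fun d => ∃ g ∈ X, g * z * g⁻¹ = d
  have Pc : ∀ d, P d → ∀ g ∈ X, P (g * d * g⁻¹) := by
    rintro _ ⟨k, k1, rfl⟩ g g1
    exact ⟨g * k, mul_mem g1 k1, by group⟩
  have P1 : P (z * v) := ⟨t, tX, ((p.cj_or vD tQ (p.symm hz vD vQ)).resolve_left
    fun e => tz (mem_C1_iff_conj.2 e)).trans (mem_C1.1 (p.le hz vQ))⟩
  have P2 : P v := by
    obtain ⟨x, x1, x2⟩ := p.exists_swap hz vQ (p.ne_one vD) vz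
    have := Pc _ P1 x⁻¹ (inv_mem (hQ x1))
    rw [← x2] at this
    simpa [mul_assoc] using this
  have P3 : ∀ e ∈ D, e ∈ Q z → P e := fun e e1 e2 => by
    by_cases k : e = z
    · exact ⟨1, one_mem _, by simp [k]⟩
    obtain ⟨g, g1, g2⟩ := tr _ ((F.mem_VV p hz e2).2 ⟨e1, k⟩)
    rw [F.ρ_π g v vQ] at g2
    rcases (F.π_eq p hz e2 ((mem_N.1 (p.norm hz g.2) v).1 vQ)).1 g2.symm with k | k
    · exact k ▸ Pc _ P2 g g1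
    · have := Pc _ P1 g g1
      rwa [← cj_mul', mem_C1_iff_conj.1 g.2, ← k] at this
  have P4 : ∀ d, P d → ∀ e ∈ D, e ∈ Q d → P e := by
    rintro _ ⟨k, k1, rfl⟩ e e1 e2
    obtain ⟨e, rfl⟩ : ∃ e', e = k * e' * k⁻¹ := ⟨k⁻¹ * e * k, by group⟩
    exact Pc _ (P3 e ((memD_cj p k e).1 e1) ((memQ_cj p hz k e).1 e2)) k k1
  have P5 : ∀ d, Relation.ReflTransGen (Col D) z d → P d := fun d k => by
    induction k with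
    | refl => exact ⟨1, one_mem _, by simp⟩
    | tail _ k ih =>
      obtain ⟨u, u1, u2, u3⟩ := h.I k.l k.r k.comm
      exact P4 u (P4 _ ih u u1 u2) _ k.r u3
  rw [eq_top_iff, ← p.closure_eq_top hz, closure_le]
  intro d hd
  obtain ⟨g, g1, rfl⟩ := P5 d (h.conn h4 hd)
  exact mul_mem (mul_mem g1 (hQ (p.mem hz))) (inv_mem g1)

end Hy

end ZO
end XS
end H6
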