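import Mathlib
import Cfsg.Agent.H4.C2Def

/-! Large extraspecial subgroups of order `2 ^ 9`: elementary lemmas. -/

set_option autoImplicit false
set_option linter.unusedSectionVars false

open Subgroup H24 H15.XP
open scoped commutatorElement

namespace H25.CN

variable {G : Type*} [Group G] [Finite G]

theorem half {U A : Subgroup G} (f : U → A →* ℤ) :
    ∑ᶠ v : U, ∑ᶠ z : A, f v z = (Nat.card A : ℤ) * Nat.card {v : U // f v = 1} := by
  classical
  have := Fintype.ofFinite U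
  have := Fintype.ofFinite A
  simp only [finsum_eq_sum_of_fintype, sum_hom_units, Nat.card_eq_fintype_card,
    Fintype.card_subtype]
  simp [Finset.sum_ite, mul_comm]

/-- double counting for a pairing with values in a group of order two -/
theorem dc {U A RU RA : Subgroup G} (β : G → G → Prop)
    (h1 : ∀ v ∈ U, ∀ w ∈ U, ∀ z ∈ A, β (v * w) z ↔ (β v z ↔ β w z))
    (h2 : ∀ v ∈ U, ∀ z ∈ A, ∀ y ∈ A, β v (z * y) ↔ (β v z ↔ β v y))
    (h3 : ∀ v ∈ U, (∀ z ∈ A, β v z) → v ∈ RU) (h4 : RA ≤ A) (h5 : ∀ z ∈ RA, ∀ v ∈ U, β v z) :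
    Nat.card U * Nat.card RA ≤ Nat.card A * Nat.card RU := by
  classical
  have := Fintype.ofFinite U
  have := Fintype.ofFinite A
  let s : Prop → ℤ := fun p => if p then 1 else -1
  have sm : ∀ p q r : Prop, (r ↔ (p ↔ q)) → s r = s p * s q := fun p q r e => by
    by_cases hp : p <;> by_cases hq : q <;> simp [s, e, hp, hq]
  have s1 : ∀ p : Prop, s p = 1 ↔ p := fun p => by by_cases hp : p <;> simp [s, hp]
  let f : U → A →* ℤ := fun v =>
    { toFun := fun z => s (β v z)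
      map_one' := (s1 _).2 (by simpa using h2 v v.2 1 (one_mem _) 1 (one_mem _))
      map_mul' := fun z y => sm _ _ _ (h2 v v.2 z z.2 y y.2) }
  let g : A → U →* ℤ := fun z =>
    { toFun := fun v => s (β v z)
      map_one' := (s1 _).2 (by simpa using h1 1 (one_mem _) 1 (one_mem _) z z.2)
      map_mul' := fun v w => sm _ _ _ (h1 v v.2 w w.2 z z.2) }
  have e1 := half f
  have e2 := half g
  simp only [finsum_eq_sum_of_fintype] at e1 e2
  have e3 : ∑ v : U, ∑ z : A, f v z = ∑ z : A, ∑ v : U, g z v := Finset.sum_comm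
  rw [e1, e2] at e3
  have e4 : Nat.card A * Nat.card {v : U // f v = 1} = Nat.card U * Nat.card {z : A // g z = 1} := by
    exact_mod_cast e3
  have l1 : Nat.card {v : U // f v = 1} ≤ Nat.card RU :=
    Nat.card_le_card_of_injective (fun v => (⟨v.1.1, h3 _ v.1.2 fun z hz =>
      (s1 _).1 (DFunLike.congr_fun v.2 ⟨z, hz⟩)⟩ : RU))
      fun a b e => Subtype.ext (Subtype.ext (congrArg (fun x : RU => x.1) e))
  have l2 : Nat.card RA ≤ Nat.card {z : A // g z = 1} :=
    Nat.card_le_card_of_injective (fun z => (⟨⟨z.1, h4 z.2⟩, MonoidHom.ext fun v =>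
      (s1 _).2 (h5 _ z.2 _ v.2)⟩ : {z : A // g z = 1}))
      fun a b e => Subtype.ext (congrArg (fun x : {z : A // g z = 1} => x.1.1) e)
  calc _ ≤ _ := Nat.mul_le_mul_left _ l2
    _ = _ := e4.symm
    _ ≤ _ := Nat.mul_le_mul_left _ l1

section

variable {t : G} {Q : Subgroup G} (h : LX t Q) {a c g x y : G}
include h

theorem zp : c ∈ zpowers t ↔ c = 1 ∨ c = t :=
  ⟨mem_zp h.xs.ord, fun e => e.elim (fun e => e ▸ one_mem _) fun e => e ▸ mem_zpowers _⟩

omit h in
theorem cen (hc : c ∈ zpowers t) (hg : g ∈ C{t}) : g * c = c * g := by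
  obtain ⟨k, rfl⟩ := hc
  exact (Commute.zpow_right (mem_C1.1 hg) k).eq

theorem sqz (hx : x ∈ Q) : x * x ∈ zpowers t := (zp h).2 (h.sq_or hx)

theorem zsq (hc : c ∈ zpowers t) : c * c = 1 := by
  rcases (zp h).1 hc with rfl | rfl
  · simp
  · exact h.sq

theorem inner (hg : g ∈ C{t}) (hq : ∀ x ∈ Q, ⁅g, x⁆ ∈ zpowers t) : g ∈ Q := by
  obtain ⟨e, he, k⟩ := h.xs.exists_mul_mem_centralizer (g := g) (mem_C1.1 hg).symm hq
  have := h.zle (h.cent (mem_C.2 fun y hy => (k y hy).eq))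
  simpa using mul_mem (inv_mem he) this

theorem abl32 (hc : Nat.card Q = 512) {A : Subgroup G} (hA : A ≤ Q) (ht : t ∈ A) (ha : A ≤ C[A]) :
    Nat.card A ≤ 32 := by
  have h1 := H6.xs_card_mul h.xs hA ht
  have h2 := card_le (le_inf hA ha)
  rw [hc] at h1
  nlinarith

theorem c256 (hc : Nat.card Q = 512) (hy : y ∈ Q) (h1 : y ∉ zpowers t) :
    Nat.card ↥(Q ⊓ C{y}) = 256 := by
  obtain ⟨w, hw, e⟩ := h.xs.exists_partner hy h1
  have := h.xs.card_eq_aux le_rfl hy hw fun k => h.ne_one (by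
    rw [← e]; exact k.symm.commutator_eq)
  omega

theorem comm_mem (hg : g ∈ C{t}) (hx : x ∈ Q) : ⁅g, x⁆ ∈ Q :=
  mul_mem (conj_mem (h.norm hg) hx) (inv_mem hx)

theorem comm_mem' (hg : g ∈ C{t}) (hx : x ∈ Q) : ⁅x, g⁆ ∈ Q := by
  rw [← commutatorElement_inv]; exact inv_mem (comm_mem h hg hx)

/-- the four-group generated by `t` and `a` -/
def R4 (ha : a ∈ C{t}) (a2 : a * a = 1) : Subgroup G where
  carrier := {x | x ∈ zpowers t ∨ x * a ∈ zpowers t}
  one_mem' := .inl (one_mem _)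
  mul_mem' := by
    rintro x y (hx | hx) (hy | hy)
    · exact .inl (mul_mem hx hy)
    · exact .inr (by rw [mul_assoc]; exact mul_mem hx hy)
    · exact .inr (by rw [mul_assoc, ← cen hy ha, ← mul_assoc]; exact mul_mem hx hy)
    · refine .inl ?_
      have := mul_mem hx hy
      rwa [mul_assoc, cen hy ha, mul_assoc y, a2, mul_one] at this
  inv_mem' := by
    rintro x (hx | hx)
    · exact .inl (inv_mem hx)
    · refine .inr ?_
      have := inv_mem hx
      rw [mul_inv_rev, inv_eq_of_mul_eq_one_right a2] at this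
      have e := cen this ha
      rw [← mul_assoc, a2, one_mul] at e
      rwa [e, mul_assoc, a2, mul_one]

omit h in
theorem mem_R4 (ha : a ∈ C{t}) (a2 : a * a = 1) :
    x ∈ R4 ha a2 ↔ x ∈ zpowers t ∨ x * a ∈ zpowers t := Iff.rfl

theorem card_R4 (ha : a ∈ C{t}) (a2 : a * a = 1) : Nat.card (R4 ha a2) ≤ 4 := by
  have : ((R4 ha a2 : Subgroup G) : Set G) ⊆ {1, t, a⁻¹, t * a⁻¹} := by
    rintro x (hx | hx) <;> rcases (zp h).1 hx with e | e
    · simp [e]
    · simp [e]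
    · simp [eq_inv_of_mul_eq_one_left e]
    · simp [← e]
  refine (Set.ncard_le_ncard this).trans ?_
  have h1 := Set.ncard_insert_le (1 : G) {t, a⁻¹, t * a⁻¹}
  have h2 := Set.ncard_insert_le t {a⁻¹, t * a⁻¹}
  have h3 := Set.ncard_insert_le a⁻¹ {t * a⁻¹}
  rw [Set.ncard_singleton] at h3
  omega

/-- there is no transvection with a singular centre -/
theorem l4 (ha : a ∈ Q) (a2 : a * a = 1) (hg : g ∈ C{t})
    (hq : ∀ z ∈ Q, z ∈ C{a} → ⁅g, z⁆ ∈ zpowers t) : g ∈ Q := by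
  refine inner h hg fun x hx => ?_
  have hR : R4 (h.le ha) a2 ≤ Q := by
    rintro y (e | e)
    · exact h.zle e
    · exact (mul_mem_cancel_right ha).1 (h.zle e)
  have d := H6.xs_centralizer_centralizer h.xs hR (.inl (mem_zpowers t))
  have aR : a ∈ R4 (h.le ha) a2 := .inr (a2 ▸ one_mem _)
  have cQ := comm_mem h hg hx
  have hc : ⁅g, x⁆ ∈ R4 (h.le ha) a2 := by
    rw [← d]
    refine ⟨cQ, mem_C.2 fun z hz => ?_⟩
    have z1 := hq z hz.1 (C_le_C1 aR hz.2)
    have z2 := h.xs.comm z hz.1 x hx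
    have e1 : g * z * g⁻¹ = ⁅g, z⁆ * z := by simp [commutatorElement_def]
    have e2 : z * x * z⁻¹ = ⁅z, x⁆ * x := by simp [commutatorElement_def]
    have gx := h.le (conj_mem (h.norm hg) hx)
    have e3 : z * (g * x * g⁻¹) * z⁻¹ = ⁅z, x⁆ * (g * x * g⁻¹) := by
      have : g * (z * x * z⁻¹) * g⁻¹ = ⁅z, x⁆ * (g * x * g⁻¹) := by
        rw [e2, ← mul_assoc, cen z2 hg]; group
      rw [← this, show g * (z * x * z⁻¹) * g⁻¹ = (g * z * g⁻¹) * (g * x * g⁻¹) * (g * z * g⁻¹)⁻¹ by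
        group, e1, mul_inv_rev, show ⁅g, z⁆ * z * (g * x * g⁻¹) * (z⁻¹ * ⁅g, z⁆⁻¹) =
          ⁅g, z⁆ * (z * (g * x * g⁻¹) * z⁻¹) * ⁅g, z⁆⁻¹ by group,
        ← cen z1 (mul_mem (mul_mem (h.le hz.1) gx) (inv_mem (h.le hz.1))), mul_inv_cancel_right]
    have : z * ⁅g, x⁆ * z⁻¹ = ⁅g, x⁆ := by
      rw [commutatorElement_def g, show z * (g * x * g⁻¹ * x⁻¹) * z⁻¹ =
        (z * (g * x * g⁻¹) * z⁻¹) * (z * x * z⁻¹)⁻¹ by group, e3, e2, mul_inv_rev,
        show ⁅z, x⁆ * (g * x * g⁻¹) * (x⁻¹ * ⁅z, x⁆⁻¹) = ⁅z, x⁆ * (g * x * g⁻¹ * x⁻¹) * ⁅z, x⁆⁻¹ by group,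
        ← cen z2 (mul_mem gx (inv_mem (h.le hx))), mul_inv_cancel_right]
    exact mul_inv_eq_iff_eq_mul.1 this
  rcases hc with hc | hc
  · exact hc
  refine hq x hx (mem_C1.2 ?_)
  set c := ⁅g, x⁆ with hcd
  have e1 : g * x * g⁻¹ = c * x := by simp [hcd, commutatorElement_def]
  have e2 : c * x * (c * x) = x * x := by
    rw [← e1, show g * x * g⁻¹ * (g * x * g⁻¹) = g * (x * x) * g⁻¹ by group, cen (sqz h hx) hg,
      mul_inv_cancel_right]
  have e3 : c = c * a * a := by rw [mul_assoc, a2, mul_one]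
  generalize c * a = d at hc e3
  have k1 := cen hc (h.le hx)
  have k2 := cen hc (h.le ha)
  have e4 : a * x * a = x := by
    rw [e3, show d * a * x * (d * a * x) = d * a * (x * d) * a * x by group, k1,
      show d * a * (d * x) * a * x = d * (a * d) * x * a * x by group, k2,
      show d * (d * a) * x * a * x = d * d * (a * x * a) * x by group, zsq h hc, one_mul] at e2
    exact mul_right_cancel e2
  calc x * a = a * x * a * a := by rw [e4]
    _ = a * x := by rw [mul_assoc, a2, mul_one]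

end

end H25.CN
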