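import Mathlib
import Cfsg.Agent.H4.C2F
import Cfsg.Agent.H25.CNa

/-! Checks on codes for the fusion of the central involution. -/

set_option autoImplicit false
set_option linter.unusedSectionVars false
set_option maxRecDepth 100000
set_option synthInstance.maxSize 4000

open Subgroup H24 H29 H9 H9.MX H15.XP H15.KM H11 H4.C2
open H28.Th (mulQ invQ mulQ_lt invQ_lt)
open scoped commutatorElement

namespace H25.CQ

/-- words moving a singular code to the code one -/
def OL : List (List ℕ) := [[], [], [1], [20], [32], [26], [4], [21], [1, 21], [1, 22], [1, 4], [1, 27], [4, 26], [4, 20],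
  [20, 22], [20, 21], [1, 4, 36], [], [1, 4, 48], [], [1, 4, 6], [], [1, 4, 31], [], [1, 4, 41],
  [], [1, 4, 43], [], [1, 4, 24], [], [1, 4, 25], [], [26, 36], [26, 35], [], [], [26, 41], [26,
  30], [], [], [24, 38], [24, 26], [], [], [6, 26], [6, 38], [], [], [20, 21, 36], [], [], [20,
  21, 45], [20, 21, 24], [], [], [20, 21, 25], [6, 20, 21], [], [], [6, 20, 23], [6, 23, 32], [],
  [], [6, 21, 33], [1, 47], [1, 24], [1, 52], [1, 6], [], [], [], [], [1, 36], [1, 35], [1, 41],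
  [1, 30], [], [], [], [], [1, 21, 43], [], [1, 21, 41], [], [], [1, 6, 23], [], [1, 6, 21], [1,
  21, 36], [], [1, 21, 47], [], [], [1, 21, 24], [], [1, 21, 25], [21, 39], [21, 50], [], [], [],
  [], [21, 45], [21, 46], [21, 25], [21, 24], [], [], [], [], [6, 23], [6, 21], [4, 20, 30], [],
  [], [4, 20, 42], [], [4, 20, 24], [4, 20, 25], [], [4, 20, 31], [], [], [4, 6, 20], [], [4, 6,
  44], [4, 20, 35], [], [54], [50], [6], [24], [35], [30], [39], [45], [], [], [], [], [], [], [],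
  [], [1, 27, 37], [], [1, 27, 35], [], [1, 6, 29], [], [1, 6, 27], [], [], [1, 27, 42], [], [1,
  27, 30], [], [1, 24, 27], [], [1, 24, 29], [30, 33], [30, 32], [], [], [32, 36], [32, 35], [],
  [], [], [], [24, 32], [24, 33], [], [], [6, 32], [6, 33], [20, 22, 37], [], [], [20, 22, 35],
  [20, 22, 25], [], [], [20, 22, 24], [], [6, 20, 33], [6, 20, 22], [], [], [6, 21, 44], [6, 23,
  39], [], [6, 44], [6, 20], [20, 24], [20, 47], [], [], [], [], [], [], [], [], [20, 36], [20,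
  35], [20, 30], [20, 39], [1, 22, 30], [], [1, 22, 42], [], [], [1, 6, 22], [], [1, 6, 34], [],
  [1, 22, 37], [], [1, 22, 35], [1, 22, 25], [], [1, 22, 24], [], [4, 46], [4, 45], [], [], [],
  [], [4, 39], [4, 51], [], [], [4, 24], [4, 25], [4, 31], [4, 6], [], [], [4, 24, 26], [], [],
  [4, 25, 38], [], [4, 25, 26], [4, 24, 38], [], [], [4, 6, 26], [4, 26, 31], [], [4, 26, 36], [],
  [], [4, 6, 38]]

/-- words fixing the code one -/
def PW : List (List ℕ) := [[], [27, 4], [31, 6], [52, 6], [70, 26], [41, 30], [65, 39], [66, 39],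
  [58, 50], [75], [79], [79, 78], [75, 2], [79, 3], [52, 6, 2], [27, 4, 2]]

/-- certificates -/
def CB : List (ℕ × List (List ℕ)) := [(2, [[], [75], [58, 50]]), (4, [[], [75], [70, 26]]), (6, [[], [75]]), (8, [[], [79], [31, 6]]),
  (10, [[], [79]]), (12, [[], [58, 50]]), (14, [[], [75]]), (16, [[]]), (18, [[], [52, 6]]), (20,
  [[], [27, 4]]), (22, [[], [75]]), (24, [[], [41, 30]]), (26, [[], [79]]), (28, [[], [70, 26]]),
  (30, [[], [75]]), (32, [[]]), (34, [[], [31, 6]]), (36, [[], [27, 4]]), (38, [[], [78]]), (40,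
  [[], [75]]), (42, [[], [79]]), (44, [[], [41, 30]]), (46, [[], [78]]), (48, [[]]), (50, [[],
  [31, 6]]), (52, [[], [31, 6]]), (54, [[], [78]]), (56, [[], [75]]), (58, [[], [79]]), (60, [[],
  [70, 26]]), (62, [[], [78]]), (256, [[], [31, 6], [42, 30]]), (258, [[], [41, 30]]), (260, [[],
  [66, 39]]), (262, [[], [75]]), (264, [[], [52, 6]]), (266, [[], [79]]), (268, [[], [52, 6]]),
  (270, [[]]), (272, [[], [27, 4]]), (274, [[], [70, 26]]), (276, [[], [27, 4]]), (278, [[],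
  [75]]), (280, [[], [79], [42, 30]]), (282, [[], [79]]), (284, [[], [70, 26]]), (286, [[]]),
  (288, [[], [75]]), (290, [[], [75], [27, 4]]), (292, [[], [27, 4]]), (294, [[], [78]]), (296,
  [[], [75]]), (298, [[], [79]]), (300, [[], [31, 6]]), (302, [[]]), (304, [[], [75]]), (306, [[],
  [70, 26]]), (308, [[], [75], [53, 6]]), (310, [[], [78]]), (312, [[], [75]]), (314, [[], [79]]),
  (316, [[], [31, 6]]), (318, [[]])]

/-- product of conjugates of a word -/
noncomputable def cw (L : List (List ℕ)) (w : List ℕ) : List ℕ :=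
  List.rec (motive := fun _ => List ℕ) [] (fun p _ ih => app p (app w (app (invW iv0 p) ih))) L

theorem k_orb : ∀ n < 512, mulQ n n = 0 → n % 256 ≠ 0 →
    act (nth [] OL (n % 256)) n % 256 = 1 := by decide +kernel

theorem k_T : ∀ k < 512, act (mw lT k) 1 % 256 = 1 := by decide +kernel

theorem k_PW : ∀ p ∈ PW, act p 1 % 256 = 1 := by decide +kernel

theorem k_a : ∀ v < 512, mulQ v v = 0 → mulQ 1 v = mulQ v 1 → v &&& 120 ≠ 0 →
    ∃ p ∈ PW, mulQ v (act p v) ≠ mulQ (act p v) v := by decide +kernel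

theorem k_b : ∀ v < 512, v &&& 120 = 0 → 2 ≤ v % 256 → ∀ j ∈ [2, 4, 128],
    ∃ p ∈ PW, ∃ d ∈ [0, 1, 256, 257], mulQ (act p v) d = j := by decide +kernel

theorem k_w : ∀ n < 32, ∀ c ∈ qw (n % 8 + 128 * (n / 8)), c ∈ [12, 13, 14, 19, 0] := by
  decide +kernel

theorem k_A : ∀ k < 512, (∀ v ∈ [2, 4, 8, 32, 64, 128], mulQ (act (mw lT k) v) (invQ v) % 256 < 2) →
    k ∈ [0, 16, 32, 48, 270, 286, 302, 318] := by decide +kernel

theorem k_B : ∀ k < 512, (∀ v ∈ [2, 4, 8, 32, 64, 128], mulQ (act (mw lT k) v) (invQ v) &&& 120 = 0) →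
    k = 0 ∨ ∃ x ∈ CB, x.1 = k := by decide +kernel

theorem k_C : ∀ x ∈ CB, (∀ p ∈ x.2, act p 1 % 256 = 1) ∧ frc (cw x.2 (mw lT x.1)) fun W =>
    runH W ≠ runH [] ∧ ∀ v < 512, v &&& 120 = 0 → act W v % 256 = v % 256 := by
  simp only [frc_eq]
  decide +kernel

theorem k_t : ∀ n < 512, mulQ 256 n = (n + 256) % 512 := by decide +kernel

theorem k_s : ∀ v ∈ [2, 4, 8, 32, 64, 128], v < 512 ∧ mulQ v 1 = mulQ 1 v := by decide +kernel

theorem k_1 : ∀ n < 512, mulQ (mulQ n (cjq [7] n)) 256 ≠ 0 := by decide +kernel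
theorem k_3 : ∀ n < 512, mulQ (mulQ n (cjq [76, 7] n)) 256 ≠ 0 := by decide +kernel
theorem k_2 : ∀ n < 512, mulQ n (cjq [76] n) = 0 →
    (∃ m ∈ [4, 8, 64, 128], mulQ (mulQ m n) (cjq [76] (invQ m)) = mulQ n 256) ∨
    ∃ m ∈ [0, 16, 32, 48], ∃ d ∈ [0, 256], mulQ (mulQ m n) (cjq [76] (invQ m)) = d := by
  decide +kernel
theorem k_4 : ∀ n < 512, mulQ n (cjq [3, 5, 7] n) = 0 →
    mulQ (mulQ 106 n) (cjq [3, 5, 7] (invQ 106)) = mulQ n 256 := by decide +kernel

end H25.CQ
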