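import Mathlib
import Cfsg.Agent.H25.CQa

/-! The central involution is weakly closed in the large extraspecial subgroup. -/

set_option autoImplicit false
set_option linter.unusedSectionVars false
set_option maxRecDepth 100000

open Subgroup H24 H29 H9 H9.MX H15.XP H15.KM H11 H4.C2
open H28.Th (mulQ invQ mulQ_lt invQ_lt)
open scoped commutatorElement

namespace H25.CQ

open H25.CN

variable {G : Type} [Group G] [Finite G] {e : ℕ → G} {π : C{e 0} →* C3S.S} {σ : G}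
  (h : En e π σ)
include h

theorem cm' (m : ℕ) (w : List ℕ) {n : ℕ} (hn : n < 512) : ∃ c ∈ zpowers (e 0),
    θ e m * ev e w * θ e n * (θ e m * ev e w)⁻¹ = c * θ e (act w n) := by
  obtain ⟨k, -, a2, a3⟩ := h.nf w
  refine ⟨_, h.lx.xs.comm _ (mul_mem (h.θ_mem m) (h.θ_mem (nOf w))) _ (h.θ_mem (act w n)), ?_⟩
  rw [a2, commutatorElement_def, eq_mul_inv_of_mul_eq (a3 n hn).symm]; group

theorem cm {g : G} (hg : g ∈ C{e 0}) {w : List ℕ} (a : ap π g = ev (eb e π) w) {n : ℕ}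
    (hn : n < 512) : ∃ c ∈ zpowers (e 0), g * θ e n * g⁻¹ = c * θ e (act w n) := by
  obtain ⟨m, -, rfl⟩ := h.lift hg a
  exact cm' h m w hn

theorem θ_mod {m n : ℕ} (hm : m < 512) (hn : n < 512) (a : m % 256 = n % 256) :
    ∃ c ∈ zpowers (e 0), θ e m = c * θ e n := by
  by_cases k : m = n
  · exact ⟨1, one_mem _, by rw [k, one_mul]⟩
  · exact ⟨e 0, mem_zpowers _, by
      rw [← θ_256 (e := e), h.θ_mul, k_t n hn, show m = (n + 256) % 512 by omega]⟩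

theorem θ_zp {n : ℕ} (hn : n < 512) (a : θ e n ∈ zpowers (e 0)) : n % 256 = 0 := by
  rcases (zp h.lx).1 a with b | b
  · rw [h.θ_inj hn (by norm_num) (b.trans θ_zero.symm)]
  · rw [h.θ_inj hn (by norm_num) (b.trans θ_256.symm)]

theorem s_not : θ e 1 ∉ zpowers (e 0) := fun a => absurd (θ_zp h (by norm_num) a) (by norm_num)

theorem fix1 {g y : G} {n : ℕ} {c : G} (hc : c ∈ zpowers (e 0)) (hn : n < 512) (h1 : n % 256 = 1)
    (a : g * y * g⁻¹ = c * θ e n) : ∃ q ∈ gen e lQ, q * g * y * (q * g)⁻¹ = θ e 1 := by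
  obtain ⟨d, hd, b⟩ := θ_mod h hn (n := 1) (by norm_num) h1
  rw [b, ← mul_assoc] at a
  rcases (zp h.lx).1 (mul_mem hc hd) with k | k <;> rw [k] at a
  · exact ⟨1, one_mem _, by simpa using a⟩
  · obtain ⟨q, hq, k⟩ := h.lx.xs.exists_partner (h.θ_mem 1) (s_not h)
    refine ⟨q, hq, ?_⟩
    have k1 : q * θ e 1 * q⁻¹ = (e 0)⁻¹ * θ e 1 := by
      rw [← k, commutatorElement_def]; group
    rw [show q * g * y * (q * g)⁻¹ = q * (g * y * g⁻¹) * q⁻¹ by group, a, ← mul_assoc,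
      mem_C1.1 (h.lx.le hq), show e 0 * q * θ e 1 * q⁻¹ = e 0 * (q * θ e 1 * q⁻¹) by group, k1,
      mul_inv_cancel_left]

theorem exM {w : List ℕ} (hw : act w 1 % 256 = 1) :
    ∃ g ∈ C{e 0}, g ∈ C{θ e 1} ∧ ap π g = ev (eb e π) w := by
  obtain ⟨c, hc, a⟩ := cm h (h.ev_C w) (h.ev_b w).symm (n := 1) (by norm_num)
  obtain ⟨q, hq, b⟩ := fix1 h hc (act_lt (by norm_num) w) hw a
  exact ⟨q * ev e w, mul_mem (h.lx.le hq) (h.ev_C w), mem_C1_iff_conj.2 b, by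
    rw [ap_mul π (h.lx.le hq) (h.ev_C w), (h.ker q (h.lx.le hq)).2 hq, one_mul, h.ev_b]⟩

theorem T_s {g : G} (hg : g ∈ TS e π) : ∃ q ∈ gen e lQ, q * g ∈ C{θ e 1} := by
  obtain ⟨k, hk, n, -, rfl⟩ := h.mem_T.1 hg
  obtain ⟨c, hc, a⟩ := cm' h n (mw lT k) (n := 1) (by norm_num)
  obtain ⟨q, hq, b⟩ := fix1 h hc (act_lt (by norm_num) _) (k_T k hk) a
  exact ⟨q, hq, mem_C1_iff_conj.2 b⟩

theorem card_Ts : 2 ^ 17 ∣ Nat.card ↥(TS e π ⊓ C{θ e 1}) := by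
  have r := H3.relIndex_centralizer_le_card (TS e π) (zpowers (e 0)) (θ e 1) fun g hg => by
    obtain ⟨q, hq, a⟩ := T_s h hg
    have : ⁅g, θ e 1⁆ = ⁅q⁻¹, θ e 1⁆ := by
      rw [commutatorElement_def, commutatorElement_def]
      nth_rewrite 3 [← mem_C1_iff_conj.1 a]
      group
    exact this ▸ h.lx.xs.comm _ (inv_mem hq) _ (h.θ_mem 1)
  have c := card_inf_mul_relIndex C{θ e 1} (TS e π)
  have p := relIndex_pos C{θ e 1} (TS e π)
  rw [Nat.card_zpowers, h.lx.xs.ord] at r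
  rw [inf_comm, h.cardT] at c
  generalize C{θ e 1}.relIndex (TS e π) = i at *
  interval_cases i <;> omega

variable {P : Subgroup G} (k : LX (θ e 1) P)
include k

theorem one_of {c : G} (h1 : c ∈ zpowers (e 0)) (h2 : c ∈ zpowers (θ e 1)) : c = 1 :=
  ((zp k).1 h2).resolve_right fun a => s_not h (a ▸ h1)

theorem U_le : P ⊓ C{e 0} ≤ TS e π := by
  have n1 : TS e π ⊓ C{θ e 1} ≤ N[P ⊓ C{e 0}] := fun g hg => mem_N_of_finite fun x hx =>
    mem_inf.2 ⟨conj_mem (k.norm hg.2) hx.1,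
      mul_mem (mul_mem (h.T_le hg.1) (mem_inf.1 hx).2) (inv_mem (h.T_le hg.1))⟩
  have p1 : IsPi {2} (P ⊓ C{e 0}) := (isPi_iff_isPGroup Nat.prime_two).2
    (k.xs.isPGroup.to_le (inf_le_left : P ⊓ C{e 0} ≤ P))
  have p2 := IsPi.sup p1 (h.sylT.pi.of_le inf_le_left) n1
  have l : P ⊓ C{e 0} ⊔ TS e π ⊓ C{θ e 1} ≤ C{e 0} := sup_le inf_le_right (inf_le_left.trans h.T_le)
  have p3 := IsPi.sup (h.sylT.pi.of_le h.Q_le_T) p2 (l.trans h.lx.norm)
  rw [← h.sylT.eq_of_le p3 (fun g hg => ?_) (sup_le h.lx.le l)]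
  · exact le_sup_left.trans le_sup_right
  obtain ⟨q, hq, a⟩ := T_s h hg
  rw [← inv_mul_cancel_left q g]
  exact mul_mem (mem_sup_left (inv_mem hq)) (mem_sup_right (mem_sup_right
    ⟨mul_mem (h.Q_le_T hq) hg, a⟩))

theorem I_conj {w : List ℕ} (hw : act w 1 % 256 = 1) (tP : e 0 ∈ P) {v : ℕ} (hv : v < 512)
    (a : θ e v ∈ P) : θ e (act w v) ∈ P := by
  obtain ⟨g, g1, g2, g3⟩ := exM h hw
  obtain ⟨c, hc, b⟩ := cm h g1 g3 hv
  exact (mul_mem_cancel_left (zpowers_le.2 tP hc)).1 (b ▸ conj_mem (k.norm g2) a)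

theorem I_comm {x y : G} (x1 : x ∈ gen e lQ) (x2 : x ∈ P) (y1 : y ∈ gen e lQ) (y2 : y ∈ P) :
    x * y = y * x := commutatorElement_eq_one_iff_mul_comm.1
  (one_of h k (h.lx.xs.comm x x1 y y1) (k.xs.comm x x2 y y2))

theorem I_code (tP : e 0 ∈ P) {v : ℕ} (hv : v < 512) (a : θ e v ∈ P) : v &&& 120 = 0 := by
  by_contra hn
  have l : ∀ {n m : ℕ}, n < 512 → m < 512 → θ e n ∈ P → θ e m ∈ P → mulQ n m = mulQ m n :=
    fun hn hm a b => h.θ_inj (mulQ_lt hn hm) (mulQ_lt hm hn) (by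
      rw [← h.θ_mul, ← h.θ_mul, I_comm h k (h.θ_mem _) a (h.θ_mem _) b])
  obtain ⟨p, hp, b⟩ := k_a v hv (h.θ_inj (mulQ_lt hv hv) (by norm_num) (by
    rw [← h.θ_mul, θ_zero, one_of h k (sqz h.lx (h.θ_mem v)) (sqz k a)]))
    (l (by norm_num) hv k.xs.mem a) hn
  exact b (l hv (act_lt hv p) a (I_conj h k (k_PW p hp) tP hv a))

theorem U_comm (tP : e 0 ∈ P) {u : G} (hu : u ∈ P ⊓ C{e 0}) {w : List ℕ}
    (a : ap π u = ev (eb e π) w) {v : ℕ} (hv : v ∈ [2, 4, 8, 32, 64, 128]) :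
    θ e (mulQ (act w v) (invQ v)) ∈ P := by
  obtain ⟨v1, v2⟩ := k_s v hv
  obtain ⟨c, hc, b⟩ := cm h hu.2 a v1
  have := comm_mem' k (mem_C1.2 (by rw [h.θ_mul, h.θ_mul, v2]) : θ e v ∈ C{θ e 1}) hu.1
  rw [commutatorElement_def, b, mul_assoc, ← h.θ_inv v1, h.θ_mul] at this
  exact (mul_mem_cancel_left (zpowers_le.2 tP hc)).1 this

theorem U_word {u : G} (hu : u ∈ P ⊓ C{e 0}) : ∃ j < 512, ap π u = ev (eb e π) (mw lT j) := by
  obtain ⟨j, hj, a⟩ := h.pcT.cover (mem_pre.1 (U_le h k hu)).2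
  exact ⟨j, hj, a.symm⟩

theorem U_cw {u : G} (hu : u ∈ P ⊓ C{e 0}) {w : List ℕ} (a : ap π u = ev (eb e π) w) :
    ∀ L : List (List ℕ), (∀ p ∈ L, act p 1 % 256 = 1) →
      ∃ x ∈ P ⊓ C{e 0}, ap π x = ev (eb e π) (cw L w)
  | [], _ => ⟨1, one_mem _, ap_one π⟩
  | p :: L, hL => by
    obtain ⟨x, hx, b⟩ := U_cw hu a L fun q hq => hL q (List.mem_cons_of_mem _ hq)
    obtain ⟨g, g1, g2, g3⟩ := exM h (hL p List.mem_cons_self)
    have m := mul_mem (mul_mem g1 hu.2) (inv_mem g1)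
    refine ⟨g * u * g⁻¹ * x, mul_mem ⟨conj_mem (k.norm g2) hu.1, m⟩ hx, ?_⟩
    rw [ap_mul π m hx.2, ap_conj π g1 hu.2, g3, a, b]
    change _ = ev _ (app p (app w (app (invW iv0 p) (cw L w))))
    simp only [app_eq, ev_append, ev_invW h.ivb, mul_assoc]

theorem core (tP : e 0 ∈ P) (cP : Nat.card P = 512) (cU : 256 ≤ Nat.card ↥(P ⊓ C{e 0})) : False := by
  have lt : ∀ {w v}, v ∈ [2, 4, 8, 32, 64, 128] → mulQ (act w v) (invQ v) < 512 := fun hv =>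
    mulQ_lt (act_lt (k_s _ hv).1 _) (invQ_lt (k_s _ hv).1)
  by_cases hA : ∀ v < 512, θ e v ∈ P → v % 256 < 2
  · have c1 := card_img_mul π (inf_le_right : P ⊓ C{e 0} ≤ _)
    have c2 : Nat.card (img π (P ⊓ C{e 0})) ≤ 8 := by
      have : (img π (P ⊓ C{e 0}) : Set C3S.S) ⊆ (fun j => ev (eb e π) (mw lT j)) ''
          ({0, 16, 32, 48, 270, 286, 302, 318} : Finset ℕ) := fun s hs => by
        obtain ⟨u, hu, rfl⟩ := (mem_img_of_le inf_le_right).1 hs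
        obtain ⟨j, hj, a⟩ := U_word h k hu
        exact ⟨j, by simpa using k_A j hj fun v hv => hA _ (lt hv) (U_comm h k tP hu a hv), a.symm⟩
      exact (Set.ncard_le_ncard this).trans ((Set.ncard_image_le (Finset.finite_toSet _)).trans
        (by rw [Set.ncard_coe_finset]; rfl))
    have c3 : Nat.card ↥(pre π ⊥ ⊓ (P ⊓ C{e 0})) ≤ 4 := by
      have : ((pre π ⊥ ⊓ (P ⊓ C{e 0}) : Subgroup G) : Set G) ⊆ θ e ''
          ({0, 1, 256, 257} : Finset ℕ) := fun s hs => by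
        obtain ⟨n, hn, rfl⟩ := h.mem_Q.1 (h.kerQ ▸ hs.1)
        have := hA n hn hs.2.1
        exact ⟨n, by simp; omega, rfl⟩
      exact (Set.ncard_le_ncard this).trans ((Set.ncard_image_le (Finset.finite_toSet _)).trans
        (by rw [Set.ncard_coe_finset]; rfl))
    have := Nat.mul_le_mul c3 c2
    omega
  push Not at hA
  obtain ⟨v, hv, vP, v2⟩ := hA
  have b1 : ∀ j ∈ [2, 4, 128], θ e j ∈ P := fun j hj => by
    obtain ⟨p, hp, d, hd, rfl⟩ := k_b v hv (I_code h k tP hv vP) v2 j hj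
    rw [← h.θ_mul]
    refine mul_mem (I_conj h k (k_PW p hp) tP hv vP) ?_
    simp only [List.mem_cons, List.not_mem_nil, or_false] at hd
    rcases hd with rfl | rfl | rfl | rfl
    · rw [θ_zero]; exact one_mem _
    · exact k.xs.mem
    · rw [θ_256]; exact tP
    · rw [show 257 = mulQ 256 1 by decide, ← h.θ_mul, θ_256]; exact mul_mem tP k.xs.mem
  have b2 : ∀ c ∈ [12, 13, 14, 19, 0], e c ∈ P := fun c hc => by
    simp only [List.mem_cons, List.not_mem_nil, or_false] at hc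
    rcases hc with rfl | rfl | rfl | rfl | rfl
    · exact θ_pow (e := e) (j := 0) (by norm_num) ▸ k.xs.mem
    · exact θ_pow (e := e) (j := 1) (by norm_num) ▸ b1 2 (by simp)
    · exact θ_pow (e := e) (j := 2) (by norm_num) ▸ b1 4 (by simp)
    · exact θ_pow (e := e) (j := 7) (by norm_num) ▸ b1 128 (by simp)
    · exact tP
  have c1 : 32 ≤ Nat.card ↥(gen e lQ ⊓ P) := by
    have := Nat.card_le_card_of_injective (fun n : Fin 32 => (⟨θ e (n % 8 + 128 * (n / 8)),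
      h.θ_mem _, by rw [← ev_qw]; exact ev_mem fun c hc => b2 c (k_w n n.2 c hc)⟩ :
        ↥(gen e lQ ⊓ P))) fun a b ab => by
      have := h.θ_inj (by omega) (by omega) (congrArg Subtype.val ab)
      omega
    simpa using this
  have c2 := H6.xs_card_mul k.xs (inf_le_right : gen e lQ ⊓ P ≤ P) ⟨h.θ_mem 1, k.xs.mem⟩
  have l1 : gen e lQ ⊓ P ≤ P ⊓ C[gen e lQ ⊓ P] := le_inf inf_le_right fun x hx =>
    mem_C.2 fun y hy => I_comm h k hy.1 hy.2 hx.1 hx.2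
  have c3 := card_le l1
  rw [cP] at c2
  have e1 : gen e lQ ⊓ P = P ⊓ C[gen e lQ ⊓ P] := eq_of_card_ge l1 (by nlinarith)
  obtain ⟨u, hu, u1⟩ : ∃ u ∈ P ⊓ C{e 0}, u ∉ gen e lQ := by
    by_contra hn
    push Not at hn
    have := card_le (le_inf hn inf_le_left : P ⊓ C{e 0} ≤ gen e lQ ⊓ P)
    nlinarith
  obtain ⟨j, hj, a⟩ := U_word h k hu
  rcases k_B j hj fun v hv => I_code h k tP (lt hv) (U_comm h k tP hu a hv) with rfl | ⟨x, hx, rfl⟩
  · exact u1 ((h.ker u hu.2).1 (a.trans (by rw [show mw lT 0 = [] by decide +kernel]; rfl)))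
  obtain ⟨d1, d2⟩ := k_C x hx
  rw [frc_eq] at d2
  obtain ⟨y, hy, b⟩ := U_cw h k hu a x.2 d1
  refine d2.1 ((h.isoH _ _).2 (b.symm.trans ((h.ker y hy.2).2 ?_)))
  refine (e1.ge ⟨hy.1, mem_C'.2 fun z hz => ?_⟩).1
  obtain ⟨n, hn, rfl⟩ := h.mem_Q.1 hz.1
  obtain ⟨c, hc, f⟩ := cm h hy.2 b hn
  obtain ⟨d, hd, f'⟩ := θ_mod h (act_lt hn _) hn (d2.2 n hn (I_code h k tP hn hz.2))
  refine commutatorElement_eq_one_iff_mul_comm.1 (one_of h k ?_ (k.xs.comm y hy.1 _ hz.2))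
  rw [commutatorElement_def, f, f', ← mul_assoc, mul_inv_cancel_right]
  exact mul_mem hc hd

omit k in
theorem q_free {g : G} (hg : g * e 0 * g⁻¹ ∈ gen e lQ) : g * e 0 * g⁻¹ = e 0 := by
  by_contra hn
  obtain ⟨n, n1, a⟩ := h.mem_Q.1 hg
  have l := h.lx.cj g
  have n2 := k_orb n n1 (h.θ_inj (mulQ_lt n1 n1) (by norm_num) (by rw [← h.θ_mul, a, l.sq, θ_zero]))
    fun b => by
      obtain rfl | rfl : n = 0 ∨ n = 256 := by omega
      · exact l.ne_one (a.symm.trans θ_zero)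
      · exact hn (a.symm.trans θ_256)
  obtain ⟨c, hc, b⟩ := cm h (h.ev_C _) (h.ev_b (nth [] OL (n % 256))).symm n1
  obtain ⟨q, -, d⟩ := fix1 h hc (act_lt n1 _) n2 b
  rw [a] at d
  generalize q * ev e (nth [] OL (n % 256)) = x at d
  replace d : x * g * e 0 * (x * g)⁻¹ = θ e 1 := by rw [← d]; group
  have k := h.lx.cj (x * g)
  have cC : Nat.card C{θ e 1} = 2 ^ 17 * (2 * 2835) := by
    rw [← d, ← cj_C1, card_cj, h.cardC]; norm_num
  have cP : Nat.card (cj (x * g) (gen e lQ)) = 512 := by rw [card_cj, h.cardQ]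
  rw [d] at k
  obtain ⟨s1, s2⟩ := k.sym h.lx.xs.ord (mem_C1_comm.1 (h.lx.le (h.θ_mem 1))) cC
    ((card_Ts h).trans (H24.card_dvd (le_inf inf_le_right (inf_le_left.trans h.T_le))))
    (by rw [cP]; norm_num)
  exact core h k s1 cP (by omega)

end H25.CQ
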