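import Mathlib
import Cfsg.Agent.H9.FA1

/-! Automorphisms of a group generated by a space of type `U₆(2)` with six outer classes. -/

set_option autoImplicit false
set_option linter.unusedSectionVars false

open H0 H29 Subgroup

namespace H25.FA

variable {G Γ : Type*} [Group G] [Group Γ]

/-- conjugation as a homomorphism -/
def cjH (g : G) : G →* G := (MulAut.conj g).toMonoidHom

@[simp] theorem cjH_apply (g x : G) : cjH g x = cj g x := rfl

theorem cjH_inj (g : G) : Function.Injective (cjH g) := cj_injective g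

theorem cj_one' (g : G) : cj g 1 = 1 := by simp [cj]

open Classical in
/-- extension of a homomorphism by junk -/
noncomputable def ex {M : Subgroup Γ} (φ : M →* G) (y : Γ) : G :=
  if h : y ∈ M then φ ⟨y, h⟩ else 1

theorem ex_eq {M : Subgroup Γ} (φ : M →* G) {y : Γ} (h : y ∈ M) : ex φ y = φ ⟨y, h⟩ := dif_pos h

theorem ex_coe {M : Subgroup Γ} (φ : M →* G) (y : M) : ex φ y = φ y := ex_eq φ y.2

theorem ex_fiso {M : Subgroup Γ} (φ : M →* G) (hφ : Function.Injective φ) {E : Set Γ} (L : LQ E)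
    (hE : E ⊆ M) : FIso (ex φ) E := by
  refine ⟨fun x hx y hy e => ?_, fun _ hx _ hy => L.cj_mem hx hy, fun x hx y hy => ?_,
    fun _ hx => L.sq hx, fun x hx => ?_⟩
  · rw [ex_eq φ (hE hx), ex_eq φ (hE hy)] at e
    exact congrArg Subtype.val (hφ e)
  · rw [ex_eq φ (hE hx), ex_eq φ (hE hy), ex_eq φ (hE (L.cj_mem hx hy)), ← map_cj]
    rfl
  · rw [ex_eq φ (hE hx), ← map_mul]
    have : (⟨x, hE hx⟩ : M) * ⟨x, hE hx⟩ = 1 := Subtype.ext (L.sq hx)
    rw [this, map_one]

theorem ex_image {M : Subgroup Γ} (φ : M →* G) {E : Set Γ} (hE : E ⊆ M) :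
    ex φ '' E = φ '' {y | (y : Γ) ∈ E} := by
  ext z
  constructor
  · rintro ⟨y, hy, rfl⟩
    exact ⟨⟨y, hE hy⟩, hy, (ex_eq φ (hE hy)).symm⟩
  · rintro ⟨y, hy, rfl⟩
    exact ⟨y, hy, ex_coe φ y⟩

theorem image_eq_of_inj [Finite G] {H : Set G} {β : G → G} (hi : Set.InjOn β H)
    (hm : ∀ x ∈ H, β x ∈ H) : β '' H = H :=
  Set.eq_of_subset_of_ncard_le (by rintro _ ⟨x, hx, rfl⟩; exact hm x hx)
    (by rw [hi.ncard_image]) (Set.toFinite _)

/-- the closure of the preimage of a set in a subgroup -/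
theorem map_closure_sub {M : Subgroup Γ} (φ : M →* G) {E : Set Γ} (hE : E ⊆ M) :
    closure (φ '' {y | (y : Γ) ∈ E}) = ((closure E).subgroupOf M).map φ := by
  rw [← MonoidHom.map_closure]
  congr 1
  apply map_injective M.subtype_injective
  rw [MonoidHom.map_closure, subgroupOf_map_subtype, inf_of_le_left ((closure_le M).2 hE)]
  congr 1
  ext z
  constructor
  · rintro ⟨y, hy, rfl⟩
    exact hy
  · exact fun hz => ⟨⟨z, hE hz⟩, hz, rfl⟩

theorem perf_sub {M N : Subgroup Γ} (hN : N ≤ M) (hp : ⁅N, N⁆ = N) :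
    ⁅N.subgroupOf M, N.subgroupOf M⁆ = N.subgroupOf M := by
  apply map_injective M.subtype_injective
  rw [map_commutator, subgroupOf_map_subtype, inf_of_le_left hN, hp]

/-- two homomorphisms of a perfect group that agree up to a central involution are equal -/
theorem eq_of_perf {L : Subgroup Γ} (hp : ⁅L, L⁆ = L) {H : Set Γ} (hH : closure H = L)
    (f f' : L →* G) {c : G} (hc : c * c = 1) (hc' : ∀ x, Commute c (f' x))
    (e : ∀ x : L, (x : Γ) ∈ H → f x = c * f' x) (x : L) : f x = f' x := by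
  have k : ∀ y (hy : y ∈ L), f ⟨y, hy⟩ = f' ⟨y, hy⟩ ∨ f ⟨y, hy⟩ = c * f' ⟨y, hy⟩ := by
    subst hH
    intro y hy
    induction hy using closure_induction with
    | mem z hz => exact Or.inr (e _ hz)
    | one => exact Or.inl ((map_one f).trans (map_one f').symm)
    | mul a b ha hb ia ib =>
      have : (⟨a * b, mul_mem ha hb⟩ : closure H) = ⟨a, ha⟩ * ⟨b, hb⟩ := rfl
      rw [this, map_mul, map_mul]
      rcases ia with ia | ia <;> rcases ib with ib | ib <;> rw [ia, ib]
      · exact Or.inl rfl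
      · exact Or.inr (by rw [← mul_assoc, ← (hc' _).eq, mul_assoc])
      · exact Or.inr (mul_assoc _ _ _)
      · exact Or.inl (by
          rw [mul_assoc, ← mul_assoc (f' _), ← (hc' _).eq, mul_assoc, ← mul_assoc, hc, one_mul])
    | inv a ha ia =>
      have : (⟨a⁻¹, inv_mem ha⟩ : closure H) = (⟨a, ha⟩ : closure H)⁻¹ := rfl
      rw [this, map_inv, map_inv]
      rcases ia with ia | ia <;> rw [ia]
      · exact Or.inl rfl
      · exact Or.inr (by rw [mul_inv_rev, inv_eq_of_sq hc, (hc' _).inv_right.eq])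
  have top : ⁅(⊤ : Subgroup L), (⊤ : Subgroup L)⁆ = ⊤ := by
    have := perf_sub le_rfl hp
    rwa [subgroupOf_self] at this
  have : (⊤ : Subgroup L) ≤ f.eqLocus f' := by
    rw [← top]
    refine commutator_le.2 fun a _ b _ => ?_
    change f _ = f' _
    rw [map_commutatorElement, map_commutatorElement]
    have k1 : ∀ y : L, cj (f y) (f' b) = cj (f' y) (f' b) := fun y => by
      rcases k y y.2 with h | h <;> rw [h]
      rw [← cj_cj, ← map_cj, cj_of_commute (hc' _)]
    have k2 : cj (f a) c = c := by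
      rcases k a a.2 with h | h <;> rw [h]
      · exact cj_of_commute (hc' _).symm
      · exact cj_of_commute ((Commute.refl c).mul_left (hc' _).symm)
    change cj (f a) (f b) * (f b)⁻¹ = cj (f' a) (f' b) * (f' b)⁻¹
    rcases k b b.2 with h | h <;> rw [h]
    · rw [k1]
    · rw [cj_mul, k1, k2, mul_inv_rev, ← map_cj, ← map_inv, mul_assoc, ← mul_assoc (f' _),
        ← map_mul, ← mul_assoc, (hc' _).eq, mul_assoc, mul_inv_cancel, mul_one, map_mul]
  exact this (mem_top x)

/-- central elements of order at most two -/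
def Z (L : Subgroup G) (c : G) : Prop := c ∈ L ∧ c * c = 1 ∧ ∀ x ∈ L, Commute c x

theorem Z.mul {L : Subgroup G} {a b : G} (ha : Z L a) (hb : Z L b) : Z L (a * b) :=
  ⟨mul_mem ha.1 hb.1, by
    rw [mul_assoc, ← mul_assoc b, ← (ha.2.2 b hb.1).eq, mul_assoc, hb.2.1, mul_one, ha.2.1],
    fun x hx => (ha.2.2 x hx).mul_left (hb.2.2 x hx)⟩

theorem Z.one (L : Subgroup G) : Z L 1 := ⟨one_mem _, mul_one _, fun x _ => Commute.one_left x⟩

/-- normalises `L` and moves `H` to a central translate -/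
def Gd (L : Subgroup G) (H : Set G) (n : G) : Prop :=
  (∀ x, cj n x ∈ L ↔ x ∈ L) ∧ ∃ c, Z L c ∧ ∀ x ∈ H, c * cj n x ∈ H

theorem Z.cj {L : Subgroup G} {c n : G} (hc : Z L c) (hn : ∀ x, cj n x ∈ L ↔ x ∈ L) :
    Z L (cj n c) :=
  ⟨(hn c).2 hc.1, by rw [← cj_mul, hc.2.1, cj_one'], fun x hx => by
    rw [← cj_cj_inv n x] at hx ⊢
    exact commute_cj.2 (hc.2.2 _ ((hn _).1 hx))⟩

theorem Gd.one (L : Subgroup G) (H : Set G) : Gd L H 1 :=
  ⟨fun x => by rw [cj_one], 1, Z.one L, fun x hx => by rwa [cj_one, one_mul]⟩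

theorem Gd.mul {L : Subgroup G} {H : Set G} {n m : G} (hn : Gd L H n) (hm : Gd L H m) :
    Gd L H (n * m) := by
  obtain ⟨h1, c, hc, h2⟩ := hn
  obtain ⟨h3, c', hc', h4⟩ := hm
  refine ⟨fun x => by rw [← cj_cj, h1, h3], c * cj n c', hc.mul (hc'.cj h1), fun x hx => ?_⟩
  rw [← cj_cj, mul_assoc, ← cj_mul]
  exact h2 _ (h4 x hx)

theorem gd_fiso [Finite G] {L : Subgroup G} {H : Set G} (Q : LQ H) (hH : closure H = L) {n c : G}
    (hn : ∀ x, cj n x ∈ L ↔ x ∈ L) (hc : Z L c) (h : ∀ x ∈ H, c * cj n x ∈ H) :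
    FIso (fun x => c * cj n x) H ∧ (fun x => c * cj n x) '' H = H := by
  have m : ∀ x ∈ H, cj n x ∈ L := fun x hx => (hn x).2 (hH ▸ subset_closure hx)
  have hi : Set.InjOn (fun x => c * cj n x) H := fun x _ y _ e => cj_inj.1 (mul_left_cancel e)
  refine ⟨⟨hi, fun _ hx _ hy => Q.cj_mem hx hy, fun x hx y hy => ?_, fun _ hx => Q.sq hx,
    fun x hx => Q.sq (h x hx)⟩, image_eq_of_inj hi h⟩
  rw [cj_cj_conj, ← cj_cj, cj_mul, cj_of_commute (hc.2.2 _ (m x hx)).symm, cj_mul, cj_self,
    cj_of_commute (hc.2.2 _ _)]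
  exact mul_mem (mul_mem (m x hx) (m y hy)) (inv_mem (m x hx))

theorem aut_core [Finite G] {L : Subgroup G} {H : Set G} (Q : LQ H) (U : MU H 6)
    (hH : closure H = L) (hp : ⁅L, L⁆ = L) {u d σ r : G} (hu : Z L u) (hd : Z L d) (ne : u ≠ d)
    (u1 : u ≠ 1) (d1 : d ≠ 1) (gσ : Gd L H σ) (gr : Gd L H r) (σu : cj σ u = d) (σd : cj σ d = u)
    (ru : cj r u = u) (rd : cj r d = u * d) (α : L →* G) (hα : Function.Injective α)
    (h2 : ∀ x : L, (x : G) ∈ H → α x ∈ H) : ∃ l : G, ∀ x, α x = cj l x := by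
  have HL : H ⊆ L := hH ▸ subset_closure
  let n : Fin 6 → G := ![1, σ, r, σ * r, r * σ, σ * (r * σ)]
  have gn : ∀ i, Gd L H (n i) := by
    intro i
    fin_cases i
    exacts [Gd.one L H, gσ, gr, gσ.mul gr, gr.mul gσ, gσ.mul (gr.mul gσ)]
  choose c hc hcn using fun i => (gn i).2
  have du : d * u = u * d := (hd.2.2 u hu.1).eq
  have n1 : u ≠ u * d := fun e => d1 (by simpa using e.symm)
  have n2 : d ≠ u * d := fun e => u1 (by simpa using e.symm)
  have dist : ∀ i j, cj (n i) u = cj (n j) u → cj (n i) d = cj (n j) d → i = j := by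
    have a : ∀ i, cj (n i) u = ![u, d, u, d, u * d, u * d] i ∧
        cj (n i) d = ![d, u, u * d, u * d, u, d] i := by
      intro i
      fin_cases i <;> simp [n, ← cj_cj, cj_mul, σu, σd, ru, rd, du]
    intro i j
    rw [(a i).1, (a j).1, (a i).2, (a j).2]
    fin_cases i <;> fin_cases j <;> simp [ne, ne.symm, n1, n2, n1.symm, n2.symm]
  have key : ∀ (f : L →* G) (j : Fin 6) (a : G), Z L a → ∀ g ∈ L,
      (∀ x : L, (x : G) ∈ H → f x = a * cj g (c j * cj (n j) x)) →
      ∀ x, f x = cj (g * n j) x := by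
    intro f j a ha g hg e x
    refine eq_of_perf hp hH f ((cjH (g * n j)).comp L.subtype) (ha.mul (hc j)).2.1
      (fun y => (ha.mul (hc j)).2.2 _ ?_) (fun y hy => ?_) x
    · change cj (g * n j) y ∈ L
      rw [← cj_cj]
      exact mul_mem (mul_mem hg (((gn j).1 _).2 y.2)) (inv_mem hg)
    · change _ = _ * cj (g * n j) y
      rw [e y hy, cj_mul, cj_of_commute ((hc j).2.2 g hg).symm, cj_cj, mul_assoc]
  have F := ex_fiso α hα Q HL
  obtain ⟨i, j, hij, g, hg, e⟩ := H9.FB.out6 Q U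
    (Fin.cons (ex α) fun i x => c i * cj (n i) x : Fin 7 → G → G) (by
      intro i
      induction i using Fin.cases with
      | zero => exact ⟨F, image_eq_of_inj F.inj fun x hx => by
          rw [Fin.cons_zero, ex_eq α (HL hx)]; exact h2 _ hx⟩
      | succ i => exact gd_fiso Q hH (gn i).1 (hc i) (hcn i))
  rw [hH] at hg
  induction i using Fin.cases with
  | zero =>
    induction j using Fin.cases with
    | zero => exact absurd rfl hij
    | succ j =>
      exact ⟨_, key α j 1 (Z.one L) g hg fun x hx => by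
        have := e x hx
        rw [Fin.cons_zero, Fin.cons_succ, ex_coe] at this
        rw [this, one_mul]⟩
  | succ i =>
    induction j using Fin.cases with
    | zero =>
      exact ⟨_, key α i 1 (Z.one L) g⁻¹ (inv_mem hg) fun x hx => by
        have := e x hx
        rw [Fin.cons_zero, Fin.cons_succ, ex_coe] at this
        rw [this, one_mul, cj_inv_cj]⟩
    | succ j =>
      have k := key ((cjH (n i)).comp L.subtype) j (c i) (hc i) g hg fun x hx => by
        have := e x hx
        rw [Fin.cons_succ, Fin.cons_succ] at this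
        change cj (n i) x = _
        rw [← this, ← mul_assoc, (hc i).2.1, one_mul]
      have k' : ∀ z, Z L z → cj (n i) z = cj (n j) z := fun z hz => by
        have : cj (n i) z = cj (g * n j) z := k ⟨z, hz.1⟩
        rw [this, ← cj_cj, cj_of_commute ((hz.cj (gn j).1).2.2 g hg).symm]
      exact absurd (congrArg Fin.succ (dist i j (k' u hu) (k' d hd))) hij

end H25.FA
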