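import Mathlib
import Cfsg.Agent.H9.FA2
import Cfsg.Agent.H25.FAa

/-! Charts at transpositions of `Fi₂₃`: basic facts. -/

set_option autoImplicit false
set_option linter.unusedSectionVars false

open H0 H29 Subgroup
open H9.FB hiding CC

namespace H25.FA

local notation "CC" => H9.FB.CC

variable {G : Type*} [Group G]

theorem mem_CC {Γ : Type*} [Group Γ] {x g : Γ} : g ∈ CC x ↔ Commute g x :=
  mem_centralizer_singleton_iff

theorem dx_CC {Γ : Type*} [Group Γ] (D : Set Γ) (x : Γ) : Dx D x ⊆ CC x :=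
  fun _ h => mem_CC.2 h.2.2.symm

theorem t_mem : t23 ∈ D23 := Cl.self _

theorem dx_swap {Γ : Type*} [Group Γ] {D : Set Γ} {x y : Γ} : Dx (Dx D x) y = Dx (Dx D y) x := by
  ext z
  exact ⟨fun h => ⟨⟨h.1.1, h.2.1, h.2.2⟩, h.1.2.1, h.1.2.2⟩,
    fun h => ⟨⟨h.1.1, h.2.1, h.2.2⟩, h.1.2.1, h.1.2.2⟩⟩

theorem dx_symm {Γ : Type*} [Group Γ] {D : Set Γ} {x y : Γ} (hx : x ∈ D) (hy : y ∈ Dx D x) :
    x ∈ Dx D y := ⟨hx, fun e => hy.2.1 e.symm, hy.2.2.symm⟩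

theorem exists_tr {Γ : Type*} [Group Γ] {D : Set Γ} (T : TT D) {x x' k : Γ} (hk : cj k x = x')
    {y : CC x} {y' : CC x'} (hy : cj k (y : Γ) = y') :
    ∃ e : CC x →* CC x', Function.Injective e ∧ e (pt x) = pt x' ∧ e y = y' ∧
      e '' {w | (w : Γ) ∈ Dx D x} = {w : CC x' | (w : Γ) ∈ Dx D x'} := by
  subst hk
  have m : ∀ g, cj k g ∈ CC (cj k x) ↔ g ∈ CC x := fun g => by
    rw [mem_CC, mem_CC, commute_cj]
  refine ⟨((cjH k).comp (CC x).subtype).codRestrict _ fun g => (m g).2 g.2,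
    fun a b q => Subtype.ext (cj_inj.1 (congrArg Subtype.val q)), rfl, Subtype.ext hy, ?_⟩
  ext z
  constructor
  · rintro ⟨w, hw, rfl⟩
    exact T.mem_Dx_cj.2 hw
  · intro hz
    refine ⟨⟨cj k⁻¹ z, (m _).1 (by rw [cj_cj_inv]; exact z.2)⟩, (T.mem_Dx_cj (g := k)).1 ?_,
      Subtype.ext (cj_cj_inv _ _)⟩
    change cj k (cj k⁻¹ (z : Γ)) ∈ _
    rw [cj_cj_inv]
    exact hz

section
variable {x : F23} (hx : x ∈ D23) {φ : CC x →* G}

theorem rs_eq : Rs φ = ex φ '' Dx D23 x := (ex_image φ (dx_CC _ _)).symm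

theorem rs_comp (f : G →* G) : Rs (f.comp φ) = f '' Rs φ := by
  rw [Rs, Rs, Set.image_image]; rfl

theorem rs_cj (g : G) : Rs ((cjH g).comp φ) = cj g '' Rs φ := rs_comp _

include hx

theorem rs_range : φ.range = closure (Rs φ) := by
  rw [Rs, map_closure_sub φ (dx_CC _ _), gen0 hx, subgroupOf_self, MonoidHom.range_eq_map]

variable (hφ : Function.Injective φ)
include hφ

theorem rs_fiso : FIso (ex φ) (Dx D23 x) := ex_fiso φ hφ (d23.2 x hx).1 (dx_CC _ _)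

theorem rs_lq : LQ (Rs φ) ∧ F22q (Rs φ) := by
  rw [rs_eq]
  exact ⟨(rs_fiso hx hφ).lq (d23.2 x hx).1, (rs_fiso hx hφ).f22 (d23.2 x hx).2⟩

theorem pt_sq : φ (pt x) * φ (pt x) = 1 := by
  rw [← map_mul]
  have : pt x * pt x = 1 := Subtype.ext (d23.1.sq x hx)
  rw [this, map_one]

theorem pt_not : φ (pt x) ∉ Rs φ := by
  rintro ⟨y, hy, e⟩
  exact hy.2.1 (congrArg Subtype.val (hφ e))

theorem pt_comm (y : CC x) : Commute (φ (pt x)) (φ y) :=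
  (commute_coe.1 (mem_CC.1 y.2).symm : Commute (pt x) y).map φ

theorem pt_mul {d : G} (hd : d ∈ Rs φ) : φ (pt x) * d ∉ Rs φ := by
  obtain ⟨y, hy, rfl⟩ := hd
  rintro ⟨z, hz, e⟩
  rw [← map_mul] at e
  have e' : (z : F23) = x * y := congrArg Subtype.val (hφ e)
  exact nmul hx hy (e' ▸ hz.1)

theorem comm_of {a b : CC x} (h : Commute (φ a) (φ b)) : Commute (a : F23) b :=
  commute_coe.2 (hφ (by rw [map_mul, map_mul, h.eq]))

theorem rs_zen {z : G} (h1 : z ∈ φ.range) (h2 : ∀ d ∈ Rs φ, Commute z d) :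
    z = 1 ∨ z = φ (pt x) := by
  obtain ⟨w, rfl⟩ := h1
  rcases zen0 hx (z := w) (fun v hv => comm_of hx hφ (h2 (φ ⟨v, dx_CC _ _ hv⟩) ⟨_, hv, rfl⟩)) with
    e | e
  · exact Or.inl (by rw [show w = 1 from Subtype.ext e, map_one])
  · exact Or.inr (by rw [show w = pt x from Subtype.ext e])

theorem mem_dx {y w : CC x} : φ w ∈ Dx (Rs φ) (φ y) ↔ (w : F23) ∈ Dx (Dx D23 x) y := by
  constructor
  · rintro ⟨⟨v, hv, e⟩, h1, h2⟩
    obtain rfl := hφ e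
    exact ⟨hv, fun e => h1 (by rw [Subtype.ext e]), comm_of hx hφ h2⟩
  · rintro ⟨h0, h1, h2⟩
    exact ⟨⟨w, h0, rfl⟩, fun e => h1 (congrArg Subtype.val (hφ e)), (commute_coe.1 h2).map φ⟩

theorem dx_rs (y : CC x) : Dx (Rs φ) (φ y) = φ '' {w | (w : F23) ∈ Dx (Dx D23 x) y} := by
  ext z
  constructor
  · intro hz
    obtain ⟨w, -, rfl⟩ := hz.1
    exact ⟨w, (mem_dx hx hφ).1 hz, rfl⟩
  · rintro ⟨w, hw, rfl⟩
    exact (mem_dx hx hφ).2 hw

theorem closure_dx {y : CC x} (hy : (y : F23) ∈ Dx D23 x) :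
    closure (Dx (Rs φ) (φ y)) = ((CC x ⊓ CC (y : F23)).subgroupOf (CC x)).map φ := by
  rw [dx_rs hx hφ, map_closure_sub φ ((Dx_subset _ _).trans (dx_CC _ _)), gen1 hx hy]

theorem perf_dx {d : G} (hd : d ∈ Rs φ) :
    ⁅closure (Dx (Rs φ) d), closure (Dx (Rs φ) d)⁆ = closure (Dx (Rs φ) d) := by
  obtain ⟨y, hy, rfl⟩ := hd
  rw [closure_dx hx hφ hy, ← map_commutator, perf_sub inf_le_left (perf1 hx hy)]

theorem mem_closure_dx {d g : G} (hd : d ∈ Rs φ) (hg : g ∈ φ.range) (hc : Commute g d) :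
    g ∈ closure (Dx (Rs φ) d) := by
  obtain ⟨y, hy, rfl⟩ := hd
  obtain ⟨w, rfl⟩ := hg
  rw [closure_dx hx hφ hy]
  exact ⟨w, ⟨w.2, mem_CC.2 (comm_of hx hφ hc)⟩, rfl⟩

end

theorem ori_cj {ι : CC t23 →* G} {u : G} {Δ : Set G} (o : Ori ι u Δ) (g : G) :
    Ori ι (cj g u) (cj g '' Δ) := by
  obtain ⟨k, rfl, rfl⟩ := o
  exact ⟨g * k, (cj_cj _ _ _).symm, (cj_image_cj _ _ _).symm⟩

theorem isConj_cj (g x : G) : IsConj x (cj g x) := isConj_iff.2 ⟨g, rfl⟩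

theorem fb_cj {t : G} {ι : CC t23 →* G} (h : FB t ι) (g : G) :
    FB (cj g t) ((cjH g).comp ι) := by
  obtain ⟨r, r1, r2, r3⟩ := h.out
  obtain ⟨s, s1, σ, s2, s3, s4⟩ := h.tri
  have m : ∀ {k}, k ∈ ι.range → cj g k ∈ ((cjH g).comp ι).range := by
    rintro _ ⟨w, rfl⟩
    exact ⟨w, rfl⟩
  refine ⟨(cjH_inj g).comp h.inj, by rw [← h.it]; rfl, ⟨cj g r, commute_cj.2 r1, fun k hk => ?_, ?_⟩,
    ⟨cj g s, ?_, cj g σ, ?_, ?_, ?_⟩, ?_⟩
  · rw [← cj_cj_inv g k] at hk ⊢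
    rw [← cj_mul]
    exact (r2 _ (commute_cj.1 hk)).imp m m
  · rw [rs_cj]
    rintro _ ⟨d, hd, rfl⟩
    rw [← cj_cj_conj, ← cj_mul]
    exact ⟨_, r3 d hd, rfl⟩
  · rw [rs_cj]
    exact ⟨s, s1, rfl⟩
  · rw [← cj_cj_conj, s2]
  · rw [← cj_cj_conj, s3]
  · rw [rs_cj, ← image_Dx', cj_image_cj]
    conv_rhs => rw [← s4, cj_image_cj]
    congr 2
    simp [cj]
  · rw [rs_cj]
    rintro _ ⟨d, hd, rfl⟩ _ ⟨e, he, rfl⟩ ne hc k
    rw [← cj_mul, ← cj_mul] at k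
    exact h.ori d hd e he (fun e => ne (by rw [e])) (commute_cj.1 hc)
      ((isConj_cj g t).trans (k.trans (isConj_cj g _).symm))

theorem wlog {t : G} {ι : CC t23 →* G} (h : FB t ι) {u : G} {Δ : Set G} (o : Ori ι u Δ) :
    ∃ φ : CC t23 →* G, FB u φ ∧ Rs φ = Δ ∧ IsConj t u := by
  obtain ⟨g, rfl, rfl⟩ := o
  rw [h.it]
  exact ⟨_, fb_cj h g, rs_cj g, isConj_cj g t⟩

section
variable [Finite G] {t : G} {ι : CC t23 →* G} (h : FB t ι)
include h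

theorem b_lq : LQ (Rs ι) := (rs_lq t_mem h.inj).1

theorem b_sq : t * t = 1 := h.it ▸ pt_sq t_mem h.inj

theorem b_mem : t ∈ closure (Rs ι) := rs_range (φ := ι) t_mem ▸ ⟨_, h.it⟩

theorem b_comm {g : G} (hg : g ∈ closure (Rs ι)) : Commute t g := by
  rw [← rs_range t_mem] at hg
  obtain ⟨w, rfl⟩ := hg
  exact h.it ▸ pt_comm t_mem h.inj w

theorem b_mul {d : G} (hd : d ∈ Rs ι) : t * d ∉ Rs ι := h.it ▸ pt_mul t_mem h.inj hd

theorem b_tt (x : G) : t * (t * x) = x := by rw [← mul_assoc, b_sq h, one_mul]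

theorem b_out : ∃ r, Commute r t ∧ (∀ g, Commute g t → g ∈ closure (Rs ι) ∨ g * r ∈ closure (Rs ι)) ∧
    cj r '' Rs ι = (fun x => t * x) '' Rs ι := by
  obtain ⟨r, r1, r2, r3⟩ := h.out
  refine ⟨r, r1, rs_range (φ := ι) t_mem ▸ r2, ?_⟩
  have := image_eq_of_inj (β := fun d => t * cj r d)
    (fun x _ y _ e => cj_inj.1 (mul_left_cancel e)) r3
  conv_rhs => rw [← this, Set.image_image]
  simp only [b_tt h]

theorem b_cent {g : G} (hg : Commute g t) :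
    (g ∈ closure (Rs ι) ∧ cj g '' Rs ι = Rs ι) ∨
      (g ∉ closure (Rs ι) ∧ cj g '' Rs ι = (fun x => t * x) '' Rs ι) := by
  by_cases k : g ∈ closure (Rs ι)
  · exact Or.inl ⟨k, (b_lq h).image_self k⟩
  obtain ⟨r, -, r2, r3⟩ := b_out h
  refine Or.inr ⟨k, ?_⟩
  have := (b_lq h).image_self ((r2 g hg).resolve_left k)
  conv_rhs => rw [← this, ← cj_image_cj, r3, Set.image_image, Set.image_image]
  simp only [cj_mul, cj_of_commute hg, b_tt h]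

theorem b_fix {g d : G} (hg : Commute g t) (hd : d ∈ Rs ι) (hd' : cj g d ∈ Rs ι) :
    g ∈ closure (Rs ι) := by
  rcases b_cent h hg with k | k
  · exact k.1
  · have : cj g d ∈ (fun x => t * x) '' Rs ι := k.2 ▸ ⟨d, hd, rfl⟩
    obtain ⟨e, he, e'⟩ := this
    exact absurd ((show t * e = cj g d from e') ▸ hd') (b_mul h he)

theorem b_cent2 {d : G} (hd : d ∈ Rs ι) : closure (Dx (Rs ι) d) = CC t ⊓ CC d := by
  refine le_antisymm ((closure_le _).2 fun x hx => ⟨mem_CC.2 (b_comm h (subset_closure hx.1)).symm,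
    mem_CC.2 hx.2.2.symm⟩) fun g hg => mem_closure_dx t_mem h.inj hd ?_ (mem_CC.1 hg.2)
  rw [rs_range t_mem]
  exact b_fix h (mem_CC.1 hg.1) hd (by rwa [cj_of_commute (mem_CC.1 hg.2)])

theorem b_tri {d : G} (hd : d ∈ Rs ι) :
    ∃ σ, cj σ t = d ∧ cj σ d = t ∧ cj σ '' Dx (Rs ι) d = Dx (Rs ι) d := by
  obtain ⟨s, s1, σ, s2, s3, s4⟩ := h.tri
  obtain ⟨k, hk, rfl⟩ := (b_lq h).trans s1 hd
  have kt : cj k t = t := cj_of_commute (b_comm h hk).symm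
  refine ⟨cj k σ, ?_, ?_, ?_⟩
  · conv_lhs => rw [← kt, ← cj_cj_conj, s2]
  · rw [← cj_cj_conj, s3, kt]
  · rw [← (b_lq h).image_Dx hk, cj_image_cj]
    conv_rhs => rw [← s4, cj_image_cj]
    congr 2
    simp [cj]

theorem b_out' {d : G} (hd : d ∈ Rs ι) :
    ∃ r, cj r t = t ∧ cj r d = t * d ∧ cj r '' Rs ι = (fun x => t * x) '' Rs ι := by
  obtain ⟨r, r1, -, r3⟩ := b_out h
  have : cj r d ∈ (fun x => t * x) '' Rs ι := r3 ▸ ⟨d, hd, rfl⟩
  obtain ⟨e, he, e'⟩ := this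
  obtain ⟨k, hk, rfl⟩ := (b_lq h).trans he hd
  have kt : cj k t = t := cj_of_commute (b_comm h hk).symm
  refine ⟨k * r, by rw [← cj_cj, cj_of_commute r1, kt], by rw [← cj_cj, ← e', cj_mul, kt], ?_⟩
  rw [← cj_image_cj, r3]
  conv_rhs => rw [← (b_lq h).image_self hk]
  rw [Set.image_image, Set.image_image]
  simp only [cj_mul, kt]

theorem b_ne {d : G} (hd : d ∈ Rs ι) : t ≠ d ∧ t ≠ 1 ∧ d ≠ 1 := by
  refine ⟨fun e => pt_not t_mem h.inj (by rw [h.it, e]; exact hd),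
    fun e => b_mul h hd (by rwa [e, one_mul]), fun e => ?_⟩
  obtain ⟨y, -, hy⟩ := (b_lq h).adj_ne hd
  exact hy (e ▸ Commute.one_left y)

theorem b_aut1 {d : G} (hd : d ∈ Rs ι) (α : ↥(CC t ⊓ CC d) →* G) (hα : Function.Injective α)
    (h2 : ∀ x : ↥(CC t ⊓ CC d), (x : G) ∈ Dx (Rs ι) d → α x ∈ Dx (Rs ι) d) :
    ∃ l : G, ∀ x, α x = cj l x := by
  obtain ⟨σ, s1, s2, s3⟩ := b_tri h hd
  obtain ⟨r, r1, r2, r3⟩ := b_out' h hd
  have td : Commute t d := b_comm h (subset_closure hd)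
  have zt : Z (CC t ⊓ CC d) t :=
    ⟨⟨mem_CC.2 (Commute.refl t), mem_CC.2 td⟩, b_sq h, fun x hx => (mem_CC.1 hx.1).symm⟩
  have zd : Z (CC t ⊓ CC d) d :=
    ⟨⟨mem_CC.2 td.symm, mem_CC.2 (Commute.refl d)⟩, (b_lq h).sq hd, fun x hx => (mem_CC.1 hx.2).symm⟩
  have F := (rs_lq t_mem h.inj).2 d hd
  have P := perf_dx t_mem h.inj hd
  rw [b_cent2 h hd] at P
  have iff : ∀ x, Commute x t → (Commute x (t * d) ↔ Commute x d) := fun x hx =>
    ⟨fun k => by simpa [b_tt h] using hx.mul_right k, fun k => hx.mul_right k⟩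
  refine aut_core F.1 F.2 (b_cent2 h hd) P zt zd (b_ne h hd).1 (b_ne h hd).2.1 (b_ne h hd).2.2
    ⟨fun x => ?_, 1, Z.one _, fun x hx => ?_⟩ ⟨fun x => ?_, t, zt, fun x hx => ?_⟩ s1 s2 r1 r2 α hα h2
  · rw [mem_inf, mem_inf, mem_CC, mem_CC, mem_CC, mem_CC, and_comm]
    conv_lhs => rw [← s2]; arg 1; arg 2; rw [← s1]
    rw [commute_cj, commute_cj]
  · rw [one_mul, ← s3]
    exact ⟨x, hx, rfl⟩
  · rw [mem_inf, mem_inf, mem_CC, mem_CC, mem_CC, mem_CC]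
    have a : Commute (cj r x) t ↔ Commute x t := by
      conv_lhs => rw [← r1]
      exact commute_cj
    rw [← a]
    refine and_congr_right fun k => ?_
    rw [← iff _ k, ← r2, commute_cj]
  · have : cj r x ∈ (fun x => t * x) '' Rs ι := r3 ▸ ⟨x, hx.1, rfl⟩
    obtain ⟨e, he, e'⟩ := this
    have e'' : t * cj r x = e := by rw [← e', b_tt h]
    refine ⟨e'' ▸ he, fun k => hx.2.1 (cj_inj.1 (?_ : cj r x = cj r d)), ?_⟩
    · rw [r2, ← k, b_tt h]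
    · have k1 : Commute (t * d) (cj r x) := r2 ▸ commute_cj.2 hx.2.2
      have k2 : Commute t (cj r x) := by
        rw [← e']
        exact (Commute.refl t).mul_right (b_comm h (subset_closure he))
      exact td.symm.mul_right ((iff _ k2.symm).1 k1.symm).symm

end

end H25.FA
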