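import Mathlib
import Cfsg.Agent.H24.Su0

/-! Similarities of a ring with `x ^ 16 = x`. -/

set_option autoImplicit false
set_option linter.unusedSectionVars false
set_option synthInstance.maxSize 4000
set_option maxRecDepth 100000

open H9 (F4)
open scoped commutatorElement

namespace H25.SE

section ring

variable {R : Type*} [CommRing R] (h16 : ∀ x : R, x ^ 16 = x)
include h16

theorem two_eq (x : R) : x + x = 0 := by
  have := h16 (-1)
  rw [Even.neg_one_pow (by decide)] at this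
  linear_combination x * this

theorem sq_zero {x : R} (h : x * x = 0) : x = 0 := by
  rw [← h16 x]
  linear_combination x ^ 14 * h

theorem zero_of_prime {x : R} (h : ∀ J : Ideal R, J.IsPrime → x ∈ J) : x = 0 := by
  have : IsReduced R := (isReduced_iff_pow_one_lt 2 (by decide)).2 fun y hy =>
    sq_zero h16 (by rwa [← pow_two])
  exact (nilpotent_iff_mem_prime.2 h).eq_zero

omit h16 in
theorem prime_or {J : Ideal R} (hJ : J.IsPrime) {f g : R → R} (hf : ∀ a b, f (a + b) = f a + f b)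
    (hg : ∀ a b, g (a + b) = g a + g b) (h : ∀ a, f a * g a = 0) :
    (∀ a, f a ∈ J) ∨ ∀ a, g a ∈ J := by
  by_contra k
  simp only [not_or, not_forall] at k
  obtain ⟨⟨a, ha⟩, b, hb⟩ := k
  have k : ∀ a, f a ∈ J ∨ g a ∈ J := fun a => hJ.mem_or_mem (by rw [h a]; exact J.zero_mem)
  have h1 := (k a).resolve_left ha
  have h2 := (k b).resolve_right hb
  rcases k (a + b) with e | e
  · rw [hf] at e
    exact ha ((J.add_mem_iff_left h2).1 e)
  · rw [hg] at e
    exact hb ((J.add_mem_iff_right h1).1 e)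

/-- additive maps of the plane that are similarities of the form `x y` -/
structure Sim (f p q r s : R → R) : Prop where
  ap : ∀ a b, p (a + b) = p a + p b
  aq : ∀ a b, q (a + b) = q a + q b
  ar : ∀ a b, r (a + b) = r a + r b
  as : ∀ a b, s (a + b) = s a + s b
  f0 : f 0 = 0
  sur : ∀ v w, ∃ a b, p a + s b = v ∧ r a + q b = w
  sq : ∀ a b, (p a + s b) * (r a + q b) = f (a * b)

omit h16 in
theorem add_zero {p : R → R} (h : ∀ a b, p (a + b) = p a + p b) : p 0 = 0 := by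
  simpa using h 0 0

theorem Sim.orth {f p q r s : R → R} (h : Sim f p q r s) (a b : R) :
    p a * r b = 0 ∧ p a * s b = 0 ∧ q a * r b = 0 ∧ q a * s b = 0 := by
  have k : ∀ J : Ideal R, J.IsPrime →
      ((∀ a, r a ∈ J) ∧ ∀ a, s a ∈ J) ∨ ((∀ a, p a ∈ J) ∧ ∀ a, q a ∈ J) := by
    intro J hJ
    have h1 := prime_or hJ h.ap h.ar fun a => by
      simpa [add_zero h.as, add_zero h.aq, h.f0] using h.sq a 0
    have h2 := prime_or hJ h.as h.aq fun a => by
      simpa [add_zero h.ap, add_zero h.ar, h.f0] using h.sq 0 a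
    obtain ⟨a, b, e1, e2⟩ := h.sur 1 1
    have n : (1 : R) ∉ J := (Ideal.ne_top_iff_one J).1 hJ.ne_top
    rcases h1 with h1 | h1 <;> rcases h2 with h2 | h2
    · exact absurd (e1 ▸ J.add_mem (h1 a) (h2 b)) n
    · exact Or.inr ⟨h1, h2⟩
    · exact Or.inl ⟨h1, h2⟩
    · exact absurd (e2 ▸ J.add_mem (h1 a) (h2 b)) n
  refine ⟨?_, ?_, ?_, ?_⟩ <;> refine zero_of_prime h16 fun J hJ => ?_ <;>
    rcases k J hJ with ⟨h1, h2⟩ | ⟨h1, h2⟩ <;>
    first
      | exact J.mul_mem_left _ (h1 _)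
      | exact J.mul_mem_left _ (h2 _)
      | exact J.mul_mem_right _ (h1 _)
      | exact J.mul_mem_right _ (h2 _)

theorem Sim.eq {f p q r s : R → R} (h : Sim f p q r s) (a b : R) :
    f (a * b) = (p a + r a) * (s b + q b) := by
  rw [← h.sq]
  linear_combination (h.orth h16 a a).1 + (h.orth h16 b b).2.2.2 - (h.orth h16 a b).2.1 -
    (h.orth h16 b a).2.2.1

theorem Sim.mul {f p q r s : R → R} (h : Sim f p q r s) (a b : R) :
    f (a * b) * f 1 = f a * f b := by
  have h1 := h.eq h16 a 1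
  have h2 := h.eq h16 1 b
  have h3 := h.eq h16 1 1
  rw [mul_one] at h1 h3
  rw [one_mul] at h2
  rw [h.eq h16, h1, h2, h3]
  ring

theorem Sim.lin {p q r s : R → R} (h : Sim id p q r s) :
    p 1 * q 1 + r 1 * s 1 = 1 ∧
      ∀ a, p a = p 1 * a ∧ q a = q 1 * a ∧ r a = r 1 * a ∧ s a = s 1 * a := by
  have k : ∀ a b, p a * q b + r a * s b = a * b := fun a b => by
    have := h.sq a b
    rw [id] at this
    linear_combination this - (h.orth h16 a a).1 - (h.orth h16 b b).2.2.2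
  have k1 := k 1 1
  rw [mul_one] at k1
  refine ⟨k1, fun a => ⟨?_, ?_, ?_, ?_⟩⟩
  · linear_combination p 1 * k a 1 - p a * k1 + s 1 * (h.orth h16 a 1).1 -
      s 1 * (h.orth h16 1 a).1
  · linear_combination q 1 * k 1 a - q a * k1 + s 1 * (h.orth h16 a 1).2.2.1 -
      r 1 * (h.orth h16 1 a).2.2.2
  · linear_combination r 1 * k a 1 - r a * k1 + q 1 * (h.orth h16 1 a).1 -
      q 1 * (h.orth h16 a 1).1
  · linear_combination s 1 * k 1 a - s a * k1 + q 1 * (h.orth h16 1 a).2.1 -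
      p 1 * (h.orth h16 a 1).2.2.2

/-- semilinear similarities of the ring -/
structure Gam (f : R → R) : Prop where
  add : ∀ a b, f (a + b) = f a + f b
  bij : Function.Bijective f
  mul : ∀ a b, f (a * b) * f 1 = f a * f b

theorem Gam.c15 {f : R → R} (h : Gam f) : f 1 ^ 15 = 1 := by
  obtain ⟨a, ha⟩ := h.bij.2 1
  have := h.mul a a
  rw [ha] at this
  linear_combination f (a * a) * h16 (f 1) - (f 1 ^ 15 - 1) * this

/-- the ring automorphism of a similarity -/
noncomputable def Gam.aut {f : R → R} (h : Gam f) : RingAut R :=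
  RingEquiv.ofBijective
    ({ toFun := fun v => f 1 ^ 14 * f v
       map_one' := by rw [← pow_succ, h.c15 h16]
       map_mul' := fun a b => by
         linear_combination f 1 ^ 28 * h.mul a b - f 1 ^ 14 * f (a * b) * h.c15 h16
       map_zero' := by rw [add_zero h.add, mul_zero]
       map_add' := fun a b => by rw [h.add, mul_add] } : R →+* R)
    ⟨fun a b e => h.bij.1 (by
      have e' : f 1 ^ 14 * f a = f 1 ^ 14 * f b := e
      linear_combination f 1 * e' - (f a - f b) * h.c15 h16), fun b => by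
      obtain ⟨a, ha⟩ := h.bij.2 (f 1 * b)
      refine ⟨a, ?_⟩
      change f 1 ^ 14 * f a = b
      linear_combination f 1 ^ 14 * ha + b * h.c15 h16⟩

theorem Gam.aut_apply {f : R → R} (h : Gam f) (v : R) : h.aut h16 v = f 1 ^ 14 * f v := rfl

theorem Gam.eq_aut {f : R → R} (h : Gam f) (v : R) : f v = f 1 * h.aut h16 v := by
  rw [h.aut_apply]
  linear_combination (-f v) * h.c15 h16

theorem Gam.aut_mul {f f' f'' : R → R} (h : Gam f) (h' : Gam f') (h'' : Gam f'')
    (e : ∀ v, f'' v = f (f' v)) : h''.aut h16 = h.aut h16 * h'.aut h16 := by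
  ext v
  have k : ∀ v, f'' v = f 1 * h.aut h16 (f' 1) * h.aut h16 (h'.aut h16 v) := fun v => by
    rw [e, h.eq_aut h16, h'.eq_aut h16 v, map_mul, mul_assoc]
  have k1 := k 1
  rw [map_one, map_one, mul_one] at k1
  change _ = h.aut h16 (h'.aut h16 v)
  rw [h''.aut_apply, k v, ← k1, ← mul_assoc, ← pow_succ, h''.c15 h16, one_mul]

theorem aut_inv_eq {σ τ : RingAut R} (h1 : ∀ v, σ (σ v) = v) (h2 : ∀ v, τ (τ v) = v)
    (h : ∀ v, σ v = v ↔ τ v = v) (v : R) : σ v = τ v := by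
  have k : ∀ {σ τ : RingAut R}, (∀ v, σ (σ v) = v) → (∀ v, σ v = v → τ v = v) →
      (τ v + v) * (τ v + σ v) = 0 := by
    intro σ τ h1 h
    have a := h (v + σ v) (by rw [map_add, h1, add_comm])
    have b := h (v * σ v) (by rw [map_mul, h1, mul_comm])
    rw [map_add] at a
    rw [map_mul] at b
    linear_combination -τ v * a + b + two_eq h16 (τ v * τ v) + two_eq h16 (v * σ v)
  have a := k h1 fun v => (h v).1
  have b := k h2 fun v => (h v).2
  have c : σ v + τ v = 0 := sq_zero h16 (by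
    linear_combination a + b - two_eq h16 (v * σ v + v * τ v))
  linear_combination c - two_eq h16 (τ v)

theorem Gam.inv_eq {f f' : R → R} (h : Gam f) (h' : Gam f') (h1 : ∀ v, f (f v) = v)
    (h2 : ∀ v, f' (f' v) = v) (e : ∀ v, f v = v ↔ f' v = v) (v : R) : f v = f' v := by
  have k : ∀ {f : R → R} (h : Gam f), (∀ v, f (f v) = v) →
      f 1 * h.aut h16 (f 1) = 1 ∧ ∀ v, h.aut h16 (h.aut h16 v) = v := by
    intro f h h1
    have a : ∀ v, f 1 * h.aut h16 (f 1) * h.aut h16 (h.aut h16 v) = v := fun v => by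
      conv_rhs => rw [← h1 v, h.eq_aut h16, h.eq_aut h16 v, map_mul, ← mul_assoc]
    have b := a 1
    rw [map_one, map_one, mul_one] at b
    exact ⟨b, fun v => by simpa [b] using a v⟩
  have n : f (f 1 ^ 8) = f 1 ^ 8 := by
    rw [h.eq_aut h16, map_pow]
    have := (k h h1).1
    have b : (f 1 * h.aut h16 (f 1)) ^ 8 = 1 := by rw [this, one_pow]
    linear_combination f 1 ^ 8 * b - f 1 * h.aut h16 (f 1) ^ 8 * h.c15 h16
  have n' := (e _).1 n
  have u : f 1 ^ 8 * f 1 ^ 7 = 1 := by rw [← pow_add]; exact h.c15 h16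
  have t : ∀ {g : R → R} (hg : Gam g), g (f 1 ^ 8) = f 1 ^ 8 → ∀ w,
      g (f 1 ^ 8 * w) = f 1 ^ 8 * hg.aut h16 w := fun {g} hg hn w => by
    rw [hg.eq_aut h16] at hn ⊢
    rw [map_mul, ← mul_assoc, hn]
  have c : ∀ a b, f 1 ^ 8 * a = f 1 ^ 8 * b ↔ a = b := fun a b =>
    ⟨fun e => by linear_combination f 1 ^ 7 * e - (a - b) * u, fun e => by rw [e]⟩
  have := aut_inv_eq h16 (k h h1).2 (k h' h2).2 (fun w => by
    rw [← c, ← t h n, e, t h' n', c]) (f 1 ^ 7 * v)
  rwa [← c, ← t h n, ← t h' n', ← mul_assoc, u, one_mul] at this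

end ring

/-- the ring `F₄[X]/(X² + X + n)` -/
abbrev QA (n : F4) : Type := QuadraticAlgebra F4 n 1

instance (n : F4) : Fintype (QA n) := Fintype.ofEquiv _ (QuadraticAlgebra.equivProd n 1).symm

theorem card_QA (n : F4) : Nat.card (QA n) = 16 := by
  rw [Nat.card_congr (QuadraticAlgebra.equivProd n 1), Nat.card_eq_fintype_card]; rfl

theorem all_QA {n : F4} {P : QA n → Prop} (h : ∀ a b : F4, P ⟨a, b⟩) (x : QA n) : P x := h x.1 x.2

theorem p16 (n : F4) (x : QA n) : x ^ 16 = x := by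
  have : ∀ n a b : F4, let x : QA n := ⟨a, b⟩
      let y := x * x * (x * x)
      y * y * (y * y) = x := by decide +kernel
  have k : x * x * (x * x) * (x * x * (x * x)) * (x * x * (x * x) * (x * x * (x * x))) = x :=
    this n x.1 x.2
  linear_combination k

theorem idem (n : F4) : ∃ e : QA n, ∀ x : QA n, x * x = x → x = 0 ∨ x = 1 ∨ x = e ∨ x = e + 1 := by
  have : ∀ n : F4, ∃ a b : F4, ∀ c d : F4, let e : QA n := ⟨a, b⟩
      let x : QA n := ⟨c, d⟩
      x * x = x → x = 0 ∨ x = 1 ∨ x = e ∨ x = e + 1 := by decide +kernel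
  obtain ⟨a, b, k⟩ := this n
  exact ⟨⟨a, b⟩, all_QA k⟩

theorem star_not (n : F4) : (starRingAut : RingAut (QA n)) ∉ commutator (RingAut (QA n)) := by
  have key : ∀ θ : QA n, star θ ≠ θ → (∀ σ τ : RingAut (QA n), ⁅σ, τ⁆ θ = θ) →
      (starRingAut : RingAut (QA n)) ∉ commutator (RingAut (QA n)) := fun θ h1 h2 k =>
    h1 (show starRingAut ∈ MulAction.stabilizer (RingAut (QA n)) θ from
      Subgroup.commutator_le.2 (fun σ _ τ _ => h2 σ τ) k)
  have : ∀ n : F4, (∃ a b : F4, let e : QA n := ⟨a, b⟩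
      e * e = e ∧ e ≠ 0 ∧ e ≠ 1 ∧ star e ≠ e ∧ ∀ c d : F4, let x : QA n := ⟨c, d⟩
        x * x = x → x = 0 ∨ x = 1 ∨ x = e ∨ x = e + 1) ∨
      (star (⟨0, 1⟩ : QA n) ≠ ⟨0, 1⟩ ∧
        ∀ c d : F4, (⟨c, d⟩ : QA n) = 0 ∨ ∃ k : Fin 15, (⟨c, d⟩ : QA n) = ⟨0, 1⟩ ^ k.val) := by
    decide +kernel
  rcases this n with ⟨a, b, h1, h2, h3, h4, h5⟩ | ⟨h1, h2⟩
  · generalize (⟨a, b⟩ : QA n) = e at *
    have k : ∀ σ : RingAut (QA n), ∃ c, σ e = e + c ∧ ∀ τ : RingAut (QA n), τ c = c := fun σ => by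
      rcases (h5 (σ e).1 (σ e).2 : σ e * σ e = σ e → σ e = 0 ∨ σ e = 1 ∨ σ e = e ∨ σ e = e + 1)
        (by rw [← map_mul, h1]) with k | k | k | k
      · exact absurd (σ.injective (k.trans (map_zero σ).symm)) h2
      · exact absurd (σ.injective (k.trans (map_one σ).symm)) h3
      · exact ⟨0, (show σ e = e from k).trans (_root_.add_zero e).symm, fun τ => map_zero τ⟩
      · exact ⟨1, k, fun τ => map_one τ⟩
    refine key e h4 fun σ τ => ?_
    obtain ⟨c, c1, c2⟩ := k σ⁻¹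
    obtain ⟨d, d1, d2⟩ := k τ⁻¹
    have e1 : σ (τ (σ⁻¹ (τ⁻¹ e))) = σ (τ (τ⁻¹ (σ⁻¹ e))) := by
      rw [d1, c1, map_add σ⁻¹, map_add τ⁻¹, d1, c1, c2, d2, add_right_comm]
    refine e1.trans ?_
    change (σ * (τ * (τ⁻¹ * σ⁻¹))) e = e
    rw [mul_inv_cancel_left, mul_inv_cancel]
    rfl
  · generalize (⟨0, 1⟩ : QA n) = θ at *
    have k : ∀ σ : RingAut (QA n), ∃ k, σ θ = θ ^ k := fun σ => by
      rcases (h2 (σ θ).1 (σ θ).2 : σ θ = 0 ∨ ∃ k : Fin 15, σ θ = θ ^ k.val) with k | ⟨k, e⟩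
      · have : θ = 0 := σ.injective (k.trans (map_zero σ).symm)
        exact absurd (by rw [this, star_zero]) h1
      · exact ⟨_, e⟩
    refine key θ h1 fun σ τ => ?_
    obtain ⟨c, c1⟩ := k σ⁻¹
    obtain ⟨d, d1⟩ := k τ⁻¹
    have e1 : σ (τ (σ⁻¹ (τ⁻¹ θ))) = σ (τ (τ⁻¹ (σ⁻¹ θ))) := by
      rw [d1, c1, map_pow σ⁻¹, map_pow τ⁻¹, d1, c1, ← pow_mul, ← pow_mul, mul_comm]
    refine e1.trans ?_
    change (σ * (τ * (τ⁻¹ * σ⁻¹))) θ = θ
    rw [mul_inv_cancel_left, mul_inv_cancel]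
    rfl

end H25.SE
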