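import Mathlib
import Cfsg.Agent.H25.SEa

/-! Heisenberg groups over a ring with `x ^ 16 = x`. -/

set_option autoImplicit false
set_option linter.unusedSectionVars false

open H24 H26 H26.Gold Subgroup
open H24.Sz.Dat (add_zero')

namespace H25.SE

variable {R G : Type*} [CommRing R] [Group G] [Finite G]

structure Hs (A B Z : R → G) : Prop where
  p16 : ∀ x : R, x ^ 16 = x
  a_add : ∀ x y, A (x + y) = A x * A y
  b_add : ∀ x y, B (x + y) = B x * B y
  z_add : ∀ x y, Z (x + y) = Z x * Z y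
  az : ∀ x c, Z c * A x = A x * Z c
  bz : ∀ x c, Z c * B x = B x * Z c
  ba : ∀ x y, B y * A x = A x * B y * Z (x * y)
  z_inj : ∀ c, Z c = 1 → c = 0

theorem add0 {f : R → G} (h : ∀ x y, f (x + y) = f x * f y) : f 0 = 1 := by
  simpa using (h 0 0).symm

namespace Hs

variable {A B Z : R → G} (h : Hs A B Z) {m m' u v : G} {x y c x' y' c' : R}
include h

theorem two (x : R) : x + x = 0 := two_eq h.p16 x
theorem a0 : A 0 = 1 := add0 h.a_add
theorem b0 : B 0 = 1 := add0 h.b_add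
theorem z0 : Z 0 = 1 := add0 h.z_add
theorem aa (x : R) : A x * A x = 1 := by rw [← h.a_add, h.two, h.a0]
theorem bb (x : R) : B x * B x = 1 := by rw [← h.b_add, h.two, h.b0]
theorem zz (x : R) : Z x * Z x = 1 := by rw [← h.z_add, h.two, h.z0]
theorem eq_of (e : x + y = 0) : x = y := by linear_combination e - h.two y

theorem z_eq (e : Z x = Z y) : x = y := h.eq_of (h.z_inj _ (by rw [h.z_add, e, h.zz]))

theorem mul (x y c x' y' c' : R) : A x * B y * Z c * (A x' * B y' * Z c') =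
    A (x + x') * B (y + y') * Z (c + c' + x' * y) := by
  calc _ = A x * (B y * (Z c * A x')) * B y' * Z c' := by group
    _ = A x * A x' * B y * (Z (x' * y) * (Z c * B y')) * Z c' := by
      rw [h.az, ← mul_assoc (B y), h.ba]; group
    _ = _ := by
      rw [h.bz, ← mul_assoc (Z _), h.bz, h.a_add, h.b_add, add_comm (c + c'), h.z_add, h.z_add]
      group

theorem sq (x y c : R) : A x * B y * Z c * (A x * B y * Z c) = Z (x * y) := by
  rw [h.mul, h.two, h.two, h.two, h.a0, h.b0, zero_add, one_mul, one_mul]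

theorem ea (x : R) : A x = A x * B 0 * Z 0 := by rw [h.b0, h.z0, mul_one, mul_one]
theorem eb (x : R) : B x = A 0 * B x * Z 0 := by rw [h.a0, h.z0, mul_one, one_mul]
theorem ez (x : R) : Z x = A 0 * B 0 * Z x := by rw [h.a0, h.b0, mul_one, one_mul]

theorem cen (e : ∀ x' y', A x * B y * Z c * (A x' * B y' * Z 0) =
    A x' * B y' * Z 0 * (A x * B y * Z c)) : x = 0 ∧ y = 0 := by
  have k1 := e 1 0
  have k2 := e 0 1
  rw [h.mul, h.mul, add_comm x, add_comm y] at k1 k2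
  exact ⟨by linear_combination -h.z_eq (mul_left_cancel k2),
    by linear_combination h.z_eq (mul_left_cancel k1)⟩

theorem inj (e : A x * B y * Z c = A x' * B y' * Z c') : x = x' ∧ y = y' ∧ c = c' := by
  obtain ⟨h1, h2⟩ := h.cen (x := x + x') (y := y + y') (c := c + c' + x' * y) fun a b => by
    rw [← h.mul, e, h.sq, mul_assoc (A a), mul_assoc (A a), ← mul_assoc (Z _), h.az, mul_assoc,
      ← mul_assoc (Z _), h.bz, mul_assoc, mul_assoc, ← h.z_add, ← h.z_add, add_comm]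
  obtain rfl := h.eq_of h1
  obtain rfl := h.eq_of h2
  exact ⟨rfl, rfl, h.z_eq (mul_left_cancel e)⟩

theorem inv (x y c : R) : (A x * B y * Z c)⁻¹ = A x * B y * Z (c + x * y) :=
  inv_eq_of_mul_eq_one_right (by
    rw [h.mul, h.two, h.two, h.a0, h.b0, one_mul, one_mul, ← h.z0]
    congr 1
    linear_combination h.two (c + x * y))

/-- the group -/
def U : Subgroup G where
  carrier := {u | ∃ x y c, u = A x * B y * Z c}
  mul_mem' := by rintro _ _ ⟨x, y, c, rfl⟩ ⟨x', y', c', rfl⟩; exact ⟨_, _, _, h.mul ..⟩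
  one_mem' := ⟨0, 0, 0, by rw [← h.ea, h.a0]⟩
  inv_mem' := by rintro _ ⟨x, y, c, rfl⟩; exact ⟨_, _, _, h.inv ..⟩

/-- a maximal abelian subgroup -/
def W : Subgroup G where
  carrier := {u | ∃ x c, u = A x * B 0 * Z c}
  mul_mem' := by
    rintro _ _ ⟨x, c, rfl⟩ ⟨x', c', rfl⟩; exact ⟨_, _, by rw [h.mul, _root_.add_zero]⟩
  one_mem' := ⟨0, 0, by rw [← h.ea, h.a0]⟩
  inv_mem' := by rintro _ ⟨x, c, rfl⟩; exact ⟨_, _, h.inv ..⟩

/-- the centre -/
def D : Subgroup G where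
  carrier := {u | ∃ c, u = Z c}
  mul_mem' := by rintro _ _ ⟨x, rfl⟩ ⟨y, rfl⟩; exact ⟨_, (h.z_add ..).symm⟩
  one_mem' := ⟨0, h.z0.symm⟩
  inv_mem' := by rintro _ ⟨x, rfl⟩; exact ⟨x, inv_eq_of_mul_eq_one_right (h.zz x)⟩

theorem mem_U : u ∈ h.U ↔ ∃ x y c, u = A x * B y * Z c := Iff.rfl
theorem mem_W : u ∈ h.W ↔ ∃ x c, u = A x * B 0 * Z c := Iff.rfl
theorem mem_D : u ∈ h.D ↔ ∃ c, u = Z c := Iff.rfl
theorem e_U (x y c : R) : A x * B y * Z c ∈ h.U := ⟨x, y, c, rfl⟩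
theorem a_U (x : R) : A x ∈ h.U := ⟨_, _, _, h.ea x⟩
theorem b_U (x : R) : B x ∈ h.U := ⟨_, _, _, h.eb x⟩
theorem D_W : h.D ≤ h.W := by rintro _ ⟨c, rfl⟩; exact ⟨_, _, h.ez c⟩
theorem D_U : h.D ≤ h.U := by rintro _ ⟨c, rfl⟩; exact ⟨_, _, _, h.ez c⟩
theorem eaW : EA h.W := ea_of_sq (by rintro _ ⟨x, c, rfl⟩; rw [h.sq, mul_zero, h.z0])
theorem eaD : EA h.D := h.eaW.of_le h.D_W

theorem card_D : ♯h.D = Nat.card R :=
  (Nat.card_eq_of_bijective (fun c : R => (⟨Z c, c, rfl⟩ : h.D))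
    ⟨fun _ _ e => h.z_eq (congrArg Subtype.val e), fun ⟨_, c, e⟩ => ⟨c, Subtype.ext e.symm⟩⟩).symm

theorem card_W : ♯h.W = Nat.card R * Nat.card R := by
  rw [← Nat.card_prod]
  exact (Nat.card_eq_of_bijective (fun v : R × R => (⟨_, v.1, v.2, rfl⟩ : h.W))
    ⟨fun _ _ e => Prod.ext (h.inj (congrArg Subtype.val e)).1 (h.inj (congrArg Subtype.val e)).2.2,
      fun ⟨_, x, c, e⟩ => ⟨(x, c), Subtype.ext e.symm⟩⟩).symm

theorem card_U : ♯h.U = Nat.card R * (Nat.card R * Nat.card R) := by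
  rw [← Nat.card_prod, ← Nat.card_prod]
  exact (Nat.card_eq_of_bijective (fun v : R × R × R => (⟨_, v.1, v.2.1, v.2.2, rfl⟩ : h.U))
    ⟨fun _ _ e => Prod.ext (h.inj (congrArg Subtype.val e)).1 (Prod.ext
      (h.inj (congrArg Subtype.val e)).2.1 (h.inj (congrArg Subtype.val e)).2.2),
      fun ⟨_, x, y, c, e⟩ => ⟨(x, y, c), Subtype.ext e.symm⟩⟩).symm

theorem U_CD : h.U ≤ C[h.D] := by
  rintro _ ⟨x, y, c, rfl⟩
  refine mem_C'.2 ?_
  rintro _ ⟨k, rfl⟩
  conv_lhs => rw [h.ez k]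
  conv_rhs => rw [h.ez k]
  rw [h.mul, h.mul]
  simp only [_root_.add_zero, mul_zero, zero_mul, add_comm]

theorem center : h.D = h.U ⊓ C[h.U] := le_antisymm (le_inf h.D_U (cents_symm h.U_CD)) (by
  rintro _ ⟨⟨x, y, c, rfl⟩, k⟩
  obtain ⟨rfl, rfl⟩ := h.cen fun a b => mem_C'.1 k _ (h.e_U a b 0)
  exact ⟨c, (h.ez c).symm⟩)

theorem N_D : N[h.U] ≤ N[h.D] := h.center ▸ norm_inf le_rfl (norm_C le_rfl)

theorem sq_D (hu : u ∈ h.U) : u * u ∈ h.D := by
  obtain ⟨x, y, c, rfl⟩ := hu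
  exact ⟨_, h.sq x y c⟩

theorem comm_D (hu : u ∈ h.U) (hv : v ∈ h.U) : u * v * u⁻¹ * v⁻¹ ∈ h.D := by
  obtain ⟨x, y, c, rfl⟩ := hu
  obtain ⟨x', y', c', rfl⟩ := hv
  rw [h.inv, h.inv, h.mul, h.mul, h.mul, show x + x' + x + x' = 0 by linear_combination h.two (x + x'),
    show y + y' + y + y' = 0 by linear_combination h.two (y + y'), ← h.ez]
  exact ⟨_, rfl⟩

omit h in
/-- the action on the centre -/
noncomputable def ff (Z : R → G) (m : G) (c : R) : R := Function.invFun Z (m * Z c * m⁻¹)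

theorem ff_eq (e : m * Z c * m⁻¹ = Z c') : ff Z m c = c' := by
  rw [ff, e, Function.leftInverse_invFun fun _ _ => h.z_eq]

theorem ff_spec (hm : m ∈ N[h.D]) (c : R) : m * Z c * m⁻¹ = Z (ff Z m c) := by
  obtain ⟨k, e⟩ := conj_mem hm (x := Z c) ⟨c, rfl⟩
  rw [h.ff_eq e, e]

theorem ff_mul (hm : m ∈ N[h.D]) (hm' : m' ∈ N[h.D]) (c : R) :
    ff Z (m * m') c = ff Z m (ff Z m' c) := h.ff_eq (by
  rw [← h.ff_spec hm, ← h.ff_spec hm']; group)

theorem ff_one (c : R) : ff Z 1 c = c := h.ff_eq (by simp)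

theorem sim (hm : m ∈ N[h.U]) : ∃ p q r s, Sim (ff Z m) p q r s ∧
    ∀ x y c, ∃ c', m * (A x * B y * Z c) * m⁻¹ = A (p x + s y) * B (r x + q y) * Z c' := by
  have e : ∀ a b : G, m * (a * b) * m⁻¹ = m * a * m⁻¹ * (m * b * m⁻¹) := fun a b => by group
  choose p r k hk using fun x => conj_mem hm (h.a_U x)
  choose s q l hl using fun x => conj_mem hm (h.b_U x)
  have k1 : ∀ a b, p (a + b) = p a + p b ∧ r (a + b) = r a + r b := fun a b => by
    have := hk (a + b)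
    rw [h.a_add, e, hk, hk, h.mul] at this
    exact ⟨(h.inj this).1.symm, (h.inj this).2.1.symm⟩
  have k2 : ∀ a b, s (a + b) = s a + s b ∧ q (a + b) = q a + q b := fun a b => by
    have := hl (a + b)
    rw [h.b_add, e, hl, hl, h.mul] at this
    exact ⟨(h.inj this).1.symm, (h.inj this).2.1.symm⟩
  have k3 : ∀ x y c, ∃ c', m * (A x * B y * Z c) * m⁻¹ = A (p x + s y) * B (r x + q y) * Z c' :=
    fun x y c => ⟨_, by
      rw [e, e, hk, hl, h.ff_spec (h.N_D hm), h.mul, mul_assoc, ← h.z_add]⟩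
  refine ⟨p, q, r, s, ⟨fun a b => (k1 a b).1, fun a b => (k2 a b).2, fun a b => (k1 a b).2,
    fun a b => (k2 a b).1, h.ff_eq (by simp [h.z0]), fun v w => ?_, fun a b => ?_⟩, k3⟩
  · obtain ⟨x, y, c, e'⟩ := conj_mem' hm (h.e_U v w 0)
    obtain ⟨c', e''⟩ := k3 x y c
    rw [← e', show m * (m⁻¹ * (A v * B w * Z 0) * m) * m⁻¹ = A v * B w * Z 0 by group] at e''
    exact ⟨x, y, (h.inj e'').1.symm, (h.inj e'').2.1.symm⟩
  · obtain ⟨c', e'⟩ := k3 a b 0
    refine (h.ff_eq ?_).symm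
    rw [← h.sq a b 0, e, e', h.sq]

theorem gam (hm : m ∈ N[h.U]) : Gam (ff Z m) := by
  obtain ⟨p, q, r, s, k, -⟩ := h.sim hm
  have hm' := h.N_D hm
  refine ⟨fun a b => h.ff_eq ?_, Function.bijective_iff_has_inverse.2 ⟨ff Z m⁻¹, fun c => ?_, fun c => ?_⟩,
    k.mul h.p16⟩
  · rw [h.z_add, h.z_add, ← h.ff_spec hm', ← h.ff_spec hm']; group
  · rw [← h.ff_mul (inv_mem hm') hm', inv_mul_cancel, h.ff_one]
  · rw [← h.ff_mul hm' (inv_mem hm'), mul_inv_cancel, h.ff_one]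

/-- the ring automorphism induced by an element of the normaliser -/
noncomputable def sg : N[h.U] →* RingAut R :=
  MonoidHom.mk' (fun m => (h.gam m.2).aut h.p16) fun a b =>
    Gam.aut_mul h.p16 _ _ _ (h.ff_mul (h.N_D a.2) (h.N_D b.2))

theorem sg_apply (m : N[h.U]) (c : R) : h.sg m c = ff Z m 1 ^ 14 * ff Z m c := rfl

theorem sg_eq {m m' : N[h.U]} (e : ∀ v ∈ h.D, (m : G) * v * (m : G)⁻¹ = m' * v * (m' : G)⁻¹) :
    h.sg m = h.sg m' := by
  have : ∀ c, ff Z m c = ff Z m' c := fun c => by rw [ff, ff, e _ ⟨c, rfl⟩]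
  ext c
  rw [h.sg_apply, h.sg_apply, this, this]

theorem inv_eq (hm : m ∈ N[h.U]) (hm' : m' ∈ N[h.U]) (h1 : m * m = 1) (h2 : m' * m' = 1)
    (e : ∀ v ∈ h.D, m * v * m⁻¹ = v ↔ m' * v * m'⁻¹ = v) :
    ∀ v ∈ h.D, m * v * m⁻¹ = m' * v * m'⁻¹ := by
  rintro _ ⟨c, rfl⟩
  have k : ∀ {m}, m ∈ N[h.U] → ∀ c, ff Z m c = c ↔ m * Z c * m⁻¹ = Z c := fun hm c =>
    ⟨fun e => by rw [h.ff_spec (h.N_D hm), e], h.ff_eq⟩
  rw [h.ff_spec (h.N_D hm), h.ff_spec (h.N_D hm'), (h.gam hm).inv_eq h.p16 (h.gam hm')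
    (fun v => by rw [← h.ff_mul (h.N_D hm) (h.N_D hm), h1, h.ff_one])
    (fun v => by rw [← h.ff_mul (h.N_D hm') (h.N_D hm'), h2, h.ff_one])
    fun v => by rw [k hm, k hm', e _ ⟨v, rfl⟩]]

theorem mat (hm : m ∈ N[h.U]) (hc : m ∈ C[h.D]) : ∃ p q r s : R,
    (p * q + r * s = 1 ∧ p * r = 0 ∧ p * s = 0 ∧ q * r = 0 ∧ q * s = 0) ∧
    ∀ x y c, ∃ c', m * (A x * B y * Z c) * m⁻¹ = A (p * x + s * y) * B (r * x + q * y) * Z c' := by
  obtain ⟨p, q, r, s, k, e⟩ := h.sim hm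
  rw [show ff Z m = id from funext fun c => h.ff_eq (conj_eq_of_mem_C hc ⟨c, rfl⟩)] at k
  obtain ⟨k1, k2⟩ := k.lin h.p16
  refine ⟨p 1, q 1, r 1, s 1, ⟨k1, k.orth h.p16 1 1⟩, fun x y c => ?_⟩
  rw [← (k2 x).1, ← (k2 y).2.1, ← (k2 x).2.2.1, ← (k2 y).2.2.2]
  exact e x y c

theorem weak (h16 : Nat.card R = 16) {e w : R}
    (he : ∀ x : R, x * x = x → x = 0 ∨ x = 1 ∨ x = e ∨ x = e + 1) (hw : w * w + w + 1 = 0)
    {V : Subgroup G} (hN : V ≤ N[h.U]) (hC : V ≤ C[h.D]) (hc : ♯V = ♯h.U)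
    (h1 : ∀ u ∈ V, u * u ∈ h.D) (h2 : ∀ u ∈ V, ∀ v ∈ V, u * v * u⁻¹ * v⁻¹ ∈ h.D)
    (h3 : ∀ u ∈ V, (∀ x y c, ∃ c', u * (A x * B y * Z c) * u⁻¹ = A x * B y * Z c') → u ∈ h.U) :
    V = h.U := by
  classical
  choose p q r s k1 k2 using fun u : V => h.mat (hN u.2) (hC u.2)
  have comp : ∀ (u v : V) x y, ∃ c', (u * v : V) * (A x * B y * Z 0) * ((u * v : V) : G)⁻¹ =
      A (p u * (p v * x + s v * y) + s u * (r v * x + q v * y)) *
        B (r u * (p v * x + s v * y) + q u * (r v * x + q v * y)) * Z c' := fun u v x y => by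
    obtain ⟨c, e1⟩ := k2 v x y 0
    obtain ⟨c', e2⟩ := k2 u (p v * x + s v * y) (r v * x + q v * y) c
    exact ⟨c', by rw [← e2, ← e1, coe_mul]; group⟩
  have triv : ∀ u : V, r u = 0 → (u : G) ∈ h.U := fun u hr => by
    obtain ⟨a1, a2, a3, a4, a5⟩ := k1 u
    rw [hr, zero_mul, _root_.add_zero] at a1
    have hs : s u = 0 := by linear_combination q u * a3 - s u * a1
    obtain ⟨c, e1⟩ := comp u u 1 1
    rw [coe_mul, conj_eq_of_mem_C (cents_symm h.U_CD (h1 u u.2)) (h.e_U _ _ _), hr, hs] at e1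
    have hp : p u = 1 := h.eq_of (sq_zero h.p16 (by
      linear_combination h.two (p u + 1) - (h.inj e1).1))
    have hq : q u = 1 := by rwa [hp, one_mul] at a1
    refine h3 u u.2 fun x y c => ?_
    simpa [hp, hq, hr, hs] using k2 u x y c
  have same : ∀ u v : V, r u * s u = r v * s v → ((u⁻¹ * v : V) : G) ∈ h.U := fun u v e => by
    have : r (u * v) = 0 := by
      obtain ⟨c, e1⟩ := comp u v 1 0
      obtain ⟨c', e2⟩ := k2 (u * v) 1 0 0
      obtain ⟨a1, a2, a3, a4, a5⟩ := k1 u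
      obtain ⟨b1, b2, b3, b4, b5⟩ := k1 v
      linear_combination (h.inj (e2.symm.trans e1)).2.1 - r u * p v * a1 - q u * r v * b1 +
        p v * q u * a2 + r u * p v * e + r u * s v * b2 + q u * p v * b4 - q u * r v * e +
        r v * s u * a4
    have k := mul_mem (inv_mem (h.D_U (h1 u u.2))) (triv _ this)
    simpa [mul_assoc] using k
  have low : ∀ (u : V) (ι : Type _) (f : ι → R), (∀ i j, r u * s u * (f i + f j) = 0 → i = j) →
      Nat.card ι ≤ V.relIndex h.U := fun u ι f hf => by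
    refine Nat.card_le_card_of_injective
      (fun i => (QuotientGroup.mk ⟨_, h.a_U (f i)⟩ : h.U ⧸ V.subgroupOf h.U)) fun i j e => hf i j ?_
    have m : (A (f i))⁻¹ * A (f j) ∈ V := mem_subgroupOf.1 (QuotientGroup.eq.1 e)
    rw [inv_eq_of_mul_eq_one_right (h.aa _), ← h.a_add] at m
    obtain ⟨c, e1⟩ := h2 u u.2 _ m
    obtain ⟨c', e2⟩ := k2 u (f i + f j) 0 0
    rw [← h.ea, eq_mul_of_mul_inv_eq e1, h.ez c, h.ea (f i + f j), h.mul] at e2
    linear_combination -s u * (h.inj e2).2.1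
  have up : ∀ S : Finset R, (∀ u : V, r u * s u ∈ S) → h.U.relIndex V ≤ S.card := fun S hS => by
    rw [← Nat.card_eq_finsetCard]
    refine Nat.card_le_card_of_injective
      (fun c : V ⧸ h.U.subgroupOf V => (⟨_, hS c.out⟩ : S)) fun c c' e => ?_
    rw [← c.out_eq, ← c'.out_eq]
    exact QuotientGroup.eq.2 (same _ _ (congrArg Subtype.val e))
  have eq : V.relIndex h.U = h.U.relIndex V := by
    have a := card_inf_mul_relIndex V h.U
    have b := card_inf_mul_relIndex h.U V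
    rw [inf_comm, hc, ← a] at b
    exact (Nat.eq_of_mul_eq_mul_left (card_pos _) b).symm
  have idem : ∀ u : V, r u * s u * (r u * s u) = r u * s u := fun u => by
    linear_combination r u * s u * (k1 u).1 - q u * s u * (k1 u).2.1
  refine eq_of_card_eq (fun u hu => triv ⟨u, hu⟩ ?_) hc
  generalize (⟨u, hu⟩ : V) = u
  suffices k : r u * s u = 0 by
    linear_combination r u * k - r u * (k1 u).1 + q u * (k1 u).2.1
  by_contra k
  have a : 4 ≤ V.relIndex h.U := by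
    have := low u (ULift (Fin 4)) (fun i => ![0, 1, w, w + 1] i.down) (by
      rintro ⟨i⟩ ⟨j⟩ e
      have u1 : r u * s u * w ≠ 0 := fun e => k (by
        linear_combination r u * s u * hw - (w + 1) * e)
      have u2 : r u * s u * (w + 1) ≠ 0 := fun e => k (by
        linear_combination r u * s u * hw - w * e)
      have t := h.two (r u * s u)
      fin_cases i <;> fin_cases j <;> simp only [Fin.zero_eta, Fin.mk_one, Fin.reduceFinMk,
        Matrix.cons_val] at e <;>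
      first
        | rfl
        | exact absurd (by linear_combination e) k
        | exact absurd (by linear_combination e) u1
        | exact absurd (by linear_combination e) u2
        | exact absurd (by linear_combination e - t) u1
        | exact absurd (by linear_combination e - w * t) k)
    simpa using this
  by_cases o : ∃ v : V, r v * s v = 1
  · obtain ⟨v, hv⟩ := o
    have b := low v R id fun i j e => h.eq_of (by rwa [hv, one_mul] at e)
    have c := up {0, 1, e, e + 1} fun u => by simpa using he _ (idem u)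
    have d : ({0, 1, e, e + 1} : Finset R).card ≤ 4 := Finset.card_le_four
    omega
  · have c := up {0, e, e + 1} fun u => by
      rcases he _ (idem u) with k | k | k | k
      exacts [by simp [k], absurd ⟨u, k⟩ o, by simp [k], by simp [k]]
    have d : ({0, e, e + 1} : Finset R).card ≤ 3 := Finset.card_le_three
    omega

end Hs

end H25.SE
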