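import Mathlib
import Cfsg.Agent.H0.TT
import Cfsg.Agent.H24.Su1
import Cfsg.Agent.H25.SEc

/-! The cyclic case: the Heisenberg group of order `2 ^ 12`. -/

set_option autoImplicit false
set_option linter.unusedSectionVars false

open H24 H26 H26.Gold Subgroup H24.Sz H24.Sz.Dat
open H9 (F4)
open H7.SJ (p2)

namespace H25.SE

local notation "κ" => H0.cj

variable {G : Type*} [Group G] [Finite G] {X : Dat G} {g u v : G}

theorem bil {c : F4 → F4 → F4} (h1 : ∀ x x' e, c (x + x') e = c x e + c x' e)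
    (h2 : ∀ x e e', c x (e + e') = c x e + c x e')
    (h3 : ∀ x e, c (om * om * x) (om * om * e) = om * c x e) (x e : F4) :
    c x e = c 1 1 * (x * e) := by
  have z1 : ∀ e, c 0 e = 0 := fun e => by simpa using h1 0 0 e
  have z2 : ∀ e, c e 0 = 0 := fun e => by simpa using h2 e 0 0
  have a := h3 om om
  have b := h3 1 om
  have d := h3 om 1
  rw [show om * om * om = 1 by decide] at a b d
  rw [show om * om * 1 = om + 1 by decide] at b d
  rw [h1] at b
  rw [h2] at d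
  have k : ∀ p u v w : F4, p = om * w → v + p = om * u → u + p = om * v →
      u = p * om ∧ v = p * om ∧ w = p * (om * om) := by decide
  obtain ⟨k1, k2, k3⟩ := k _ _ _ _ a b d
  have all : ∀ x : F4, x = 0 ∨ x = 1 ∨ x = om ∨ x = om + 1 := by decide
  rcases all x with rfl | rfl | rfl | rfl <;> rcases all e with rfl | rfl | rfl | rfl <;>
    (try simp only [z1, z2, h1, h2, k1, k2, k3]) <;> generalize c 1 1 = p <;> revert p <;> decide

theorem cj_sq {g x y : G} (h : κ g x = y) : g * x = y * g := by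
  rw [← h, H0.cj, inv_mul_cancel_right]

theorem four {p a q b z1 z2 z3 z4 : G} (h1 : b * p = p * b * z1) (h2 : q * p = p * q * z2)
    (h3 : b * a = a * b * z3) (h4 : q * a = a * q * z4) (c1 : Commute z1 a) (c2 : Commute z2 a)
    (c3 : Commute z2 b) (c4 : Commute z4 b) :
    q * b * (p * a) = p * a * (q * b) * (z4 * z3 * z2 * z1) := by
  calc _ = q * (b * p) * a := by group
    _ = q * p * b * (z1 * a) := by rw [h1]; group
    _ = p * q * (z2 * b) * a * z1 := by rw [h2, c1.eq]; group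
    _ = p * q * b * (z2 * a) * z1 := by rw [c3.eq]; group
    _ = p * q * (b * a) * z2 * z1 := by rw [c2.eq]; group
    _ = p * (q * a) * b * z3 * z2 * z1 := by rw [h3]; group
    _ = p * a * q * (z4 * b) * z3 * z2 * z1 := by rw [h4]; group
    _ = _ := by rw [c4.eq]; group

section
variable (h : X.Cy)
include h

theorem tK : X.r 1 ∈ X.K := h.rK 1 h.one
theorem tt : X.r 1 * X.r 1 = 1 := h.toS1.rr h.one
theorem t1 : X.r 1 ≠ 1 := fun e => one_ne_zero (h.r_inj 1 h.one e)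
theorem tI : X.I (X.r 1) := h.toS1.I_r h.one one_ne_zero
theorem tL (hu : u ∈ X.L) : Commute (X.r 1) u := (mem_C'.1 (tK h) u hu)
theorem tN : C{X.r 1} ≤ N[X.L] := h.toS1.C_r h.one one_ne_zero

theorem mem_R : u ∈ X.R ↔ u = 1 ∨ u = X.r 1 := by
  rw [h.toS1.mem_R]
  constructor
  · rintro ⟨x, hx, rfl⟩
    rcases h.cyc x hx with rfl | rfl
    exacts [Or.inl h.toS1.r0, Or.inr rfl]
  · rintro (rfl | rfl)
    exacts [⟨0, zero_mem _, h.toS1.r0.symm⟩, ⟨1, h.one, rfl⟩]

theorem C_R (hu : u ∈ C{X.r 1}) : u ∈ C[X.R] := mem_C'.2 fun v hv => by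
  rcases (mem_R h).1 hv with rfl | rfl
  exacts [by simp, mem_C1.1 hu]

theorem tO (hu : u ∈ X.O) : Commute (X.r 1) u := mem_C.1 (O_R hu) _ (r_R h.one)
theorem LO (hv : v ∈ X.L) (hu : u ∈ X.O) : Commute v u := mem_C.1 (O_K hu) _ hv

theorem dd (x : F4) : X.d x * X.d x = 1 := add_sq h.d_add x
theorem pp (x : F4) : X.q x * X.q x = 1 := add_sq h.toS3.q_add x
theorem dS (x : F4) (hu : u ∈ X.S) : Commute (X.d x) u := mem_C'.1 (h.dS x) u hu
theorem d_d (x y : F4) : Commute (X.d x) (X.d y) := by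
  rw [commute_iff_eq, ← h.d_add, ← h.d_add, add_comm]
theorem pA (x : F4) (hu : u ∈ X.A) : Commute (X.q x) u := mem_C'.1 (h.toS3.qA x) u hu
theorem pd (x y : F4) : Commute (X.q x) (X.d y) := by
  have := h.f1.qd x y
  simp only [zero_mul, h.toFr.a0, h.toFr.z0, mul_one] at this
  exact H0.cj_eq_self.1 this
theorem bp (x y : F4) : X.b y * X.q x = X.q x * X.b y * X.d (y * x) := by
  have := h.f1.bq y x
  simp only [zero_mul, h.toFr.a0, h.toS1.r0, mul_one] at this
  rw [mul_assoc, ← (dS h _ (b_S y)).eq, ← mul_assoc, ← this, inv_mul_cancel_right]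
theorem k_pb (x y : F4) : κ (X.q x) (X.b y) = X.b y * X.d (y * x) := by
  rw [H0.cj, inv_eq_of_mul_eq_one_right (pp h x), mul_assoc, bp h, mul_assoc, ← mul_assoc, pp h,
    one_mul]
theorem k_pt (x : F4) : κ (X.q x) (X.r 1) = X.r 1 * X.a x := by
  simpa [H0.cj] using h.toS3.qr x h.one
theorem k_dt (x : F4) : κ (X.d x) (X.r 1) = X.r 1 * X.z x := by
  simpa [H0.cj] using h.dr x 1 h.one
theorem k_tp (x : F4) : κ (X.r 1) (X.q x) = X.q x * X.a x := by
  rw [(pA h x (a_A x)).eq, H0.cj, inv_eq_of_mul_eq_one_right (tt h), mul_assoc,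
    cj_sq (k_pt h x), mul_assoc, ← mul_assoc, tt h, one_mul]
theorem k_td (x : F4) : κ (X.r 1) (X.d x) = X.d x * X.z x := by
  rw [(dS h x (z_S x)).eq, H0.cj, inv_eq_of_mul_eq_one_right (tt h), mul_assoc,
    cj_sq (k_dt h x), mul_assoc, ← mul_assoc, tt h, one_mul]

theorem dz_inj {c k : F4} (e : X.d c * X.z k ∈ C{X.r 1}) : c = 0 := by
  have := H0.cj_eq_self.2 (show Commute (X.r 1) _ from (mem_C1.1 e).symm)
  rw [H0.cj_mul, k_td h, H0.cj_of_commute (tL h (h.toFr.zL k))] at this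
  exact h.z_inj c (by simpa using this)

theorem y_A (x e : F4) : X.q x * X.symm.q e * (X.q x * X.symm.q e) ∈ C[X.A] := by
  have k : ∀ y, κ (X.symm.q e) (X.a y) = X.a y * X.d (y * e) := k_pb h.symm e
  have k1 : ∀ y, κ (X.symm.q e) (X.d y) = X.d y := fun y => H0.cj_of_commute (pd h.symm e y)
  have k2 : ∀ y, κ (X.symm.q e) (X.z y) = X.z y := fun y =>
    H0.cj_of_commute (pA h.symm e (z_A (X := X.symm) y))
  refine mem_C_iff_le_C1.2 (A_le (fun y => mem_C1_comm.1 (mem_C1.2 (H0.cj_eq_self.1 ?_)))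
    fun y => mem_C1_comm.1 (mem_C1.2 (H0.cj_eq_self.1 ?_)))
  · simp only [← H0.cj_cj, k, k1, H0.cj_mul, H0.cj_of_commute (pA h x (a_A _)),
      H0.cj_of_commute (pd h x _), mul_assoc, dd h, mul_one]
  · simp only [← H0.cj_cj, k2, H0.cj_of_commute (pA h x (z_A _))]

theorem y_eq (x e : F4) :
    ∃ c, X.q x * X.symm.q e * (X.q x * X.symm.q e) = X.d (x * e) * X.z c := by
  by_cases hx : x = 0
  · exact ⟨0, by rw [hx, add0 h.toS3.q_add, one_mul, pp h.symm, zero_mul, add0 h.d_add, h.toFr.z0,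
      one_mul]⟩
  set y := X.q x * X.symm.q e * (X.q x * X.symm.q e) with hy
  have yi : y⁻¹ = X.symm.q e * X.q x * (X.symm.q e * X.q x) := by
    simp only [hy, mul_inv_rev, inv_eq_of_mul_eq_one_right (pp h x),
      inv_eq_of_mul_eq_one_right (pp h.symm e), mul_assoc]
  have yS : y ∈ C[X.S] := by
    rw [Dat.S, C_sup]
    exact ⟨y_A h x e, (inv_mem_iff (H := C[X.B])).1 (yi ▸ y_A h.symm e x)⟩
  have yt : κ y (X.r 1) = X.r 1 * X.z (x * e) := by
    have k : ∀ y, κ (X.symm.q e) (X.a y) = X.a y * X.d (y * e) := k_pb h.symm e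
    have k0 : κ (X.symm.q e) (X.r 1) = X.r 1 * X.b e := k_pt h.symm e
    have k1 : ∀ y, κ (X.symm.q e) (X.d y) = X.d y := fun y => H0.cj_of_commute (pd h.symm e y)
    have k2 : ∀ y, κ (X.symm.q e) (X.b y) = X.b y := fun y =>
      H0.cj_of_commute (pA h.symm e (a_A (X := X.symm) y))
    have k3 : X.r 1 * X.b e * (X.a x * X.d (x * e)) * (X.b e * X.d (e * x)) =
        X.r 1 * X.a x * X.z (x * e) := by
      rw [mul_comm e x, ← (dS h _ (b_S e)).eq, mul_assoc _ (X.a x * _), mul_assoc (X.a x),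
        ← mul_assoc (X.d _), dd h, one_mul, mul_assoc, ← mul_assoc (X.b e), h.ba, mul_assoc _ (X.z _),
        h.bz, mul_assoc (X.a x), ← mul_assoc (X.b e), h.toFr.bb, one_mul, mul_assoc]
    rw [hy, ← H0.cj_cj, ← H0.cj_cj, ← H0.cj_cj, k0, H0.cj_mul, k_pt h, k_pb h,
      H0.cj_mul (X.symm.q e), H0.cj_mul (X.symm.q e), H0.cj_mul (X.symm.q e), k0, k, k1, k2, k3,
      H0.cj_mul, H0.cj_mul, k_pt h,
      H0.cj_of_commute (pA h x (a_A _)), H0.cj_of_commute (pA h x (z_A _)), mul_assoc (X.r 1),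
      h.toFr.aa, mul_one]
  obtain ⟨j, hj, o, ho, e1⟩ := h.toS1.CS (g := X.d (x * e) * y) (mul_mem (h.dS _) yS)
    (C_R h (mem_C1.2 (H0.cj_eq_self.1 (by
      rw [← H0.cj_cj, yt, H0.cj_mul, k_dt h, H0.cj_of_commute (dS h _ (z_S _)), mul_assoc,
        h.toFr.zz, mul_one]))))
  obtain ⟨ρ, hρ, _, hz, rfl⟩ := (mem_sup_of_norm (norm_of_cent (Z_le fun c => C_R h
    (mem_C1.2 (tL h (h.toFr.zL c)).symm.eq)))).1 hj
  obtain ⟨c, rfl⟩ := h.toFr.mem_Z.1 hz
  have e2 : y = X.d (x * e) * ρ * (X.z c * o) := by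
    rw [mul_assoc, ← mul_assoc ρ, ← e1, ← mul_assoc, dd h, one_mul]
  have e3 : κ (X.q x) y * y = 1 := by
    rw [show κ (X.q x) y = y⁻¹ by
      rw [yi, hy, H0.cj, inv_eq_of_mul_eq_one_right (pp h x)]
      simp only [mul_assoc, ← mul_assoc (X.q x) (X.q x), pp h, one_mul], inv_mul_cancel]
  have c1 : Commute (X.z c * o) (X.d (x * e)) :=
    (dS h _ (z_S c)).symm.mul_left (mem_C.1 (h.dO _) o ho)
  have c2 : Commute (X.z c * o) (X.r 1) := (tL h (h.toFr.zL c)).symm.mul_left (tO h ho).symm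
  have c3 : κ (X.q x) (X.z c * o) = X.z c * o :=
    H0.cj_of_commute ((pA h x (z_A c)).mul_right (mem_C'.1 (h.toS3.qO x) o ho))
  have c4 : X.z c * o * (X.z c * o) = o * o := by
    rw [mul_assoc, ← mul_assoc o, ← (LO h (h.toFr.zL c) ho).eq, mul_assoc, ← mul_assoc, h.toFr.zz,
      one_mul]
  rw [e2, H0.cj_mul, H0.cj_mul, c3, H0.cj_of_commute (pd h _ _)] at e3
  rcases (mem_R h).1 hρ with rfl | rfl
  · rw [show κ (X.q x) 1 = 1 by simp [H0.cj], mul_one, mul_assoc, ← mul_assoc (X.z c * o), c1.eq,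
      mul_assoc (X.d _), c4, ← mul_assoc, dd h, one_mul] at e3
    exact ⟨c, by rw [e2, eq_one_of_odd_sq (O_odd.piElt ho) e3, mul_one, mul_one]⟩
  · exfalso
    rw [k_pt h, mul_assoc, ← mul_assoc (X.z c * o), (c1.mul_right c2).eq, mul_assoc (X.d _ * X.r 1),
      c4, ← mul_assoc, (tL h (h.aL x)).eq, ← mul_assoc (X.d _), (dS h _ (a_S x)).eq,
      show X.a x * X.d (x * e) * X.r 1 * (X.d (x * e) * X.r 1) =
        X.a x * (κ (X.d (x * e)) (X.r 1) * (X.d (x * e) * X.d (x * e)) * X.r 1) by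
          simp only [H0.cj]; group,
      dd h, mul_one, k_dt h, mul_assoc (X.r 1), ← (tL h (h.toFr.zL _)).eq, ← mul_assoc (X.r 1), tt h,
      one_mul] at e3
    have m : X.a x * X.z (x * e) ∈ X.K := by
      rw [eq_inv_of_mul_eq_one_left e3]
      exact inv_mem (O_K (mul_mem ho ho))
    have := h.toFr.LK.le ⟨mul_mem (h.aL x) (h.toFr.zL _), m⟩
    exact hx (h.toFr.a_mem_Z (mem_bot.1 this ▸ one_mem _))

end

/-- the commutator relation of the two groups of translations -/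
def Cm (X : Dat G) (n : F4) : Prop :=
  ∀ x e, X.symm.q e * X.q x = X.q x * X.symm.q e * (X.d (x * e) * X.z (n * (x * e)))

theorem add_comm_rel {q p p' z z' : G} (h1 : q * p = p * q * z) (h2 : q * p' = p' * q * z')
    (c : Commute z p') : q * (p * p') = p * p' * q * (z' * z) := by
  rw [← mul_assoc, h1, mul_assoc _ z, c.eq, ← mul_assoc, mul_assoc p, h2]; group

theorem exists_cm (h : X.Cy) : ∃ n, Cm X n := by
  choose c hc using y_eq h
  have zz : ∀ a k, X.d a * X.z k * (X.d a * X.z k) = 1 := fun a k => by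
    rw [mul_assoc, ← mul_assoc (X.z k), ← (dS h a (z_S k)).eq, mul_assoc, h.toFr.zz, mul_one, dd h]
  have k : ∀ x e, X.symm.q e * X.q x = X.q x * X.symm.q e * (X.d (x * e) * X.z (c x e)) := by
    intro x e
    rw [← inv_eq_of_mul_eq_one_right (zz _ _), ← hc, mul_inv_rev, ← mul_assoc, mul_inv_cancel,
      one_mul, mul_inv_rev, inv_eq_of_mul_eq_one_right (pp h x),
      inv_eq_of_mul_eq_one_right (pp h.symm e)]
  have m : ∀ a b k l, X.d a * X.z k * (X.d b * X.z l) = X.d (a + b) * X.z (k + l) := by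
    intro a b k l
    rw [h.d_add, h.z_add, mul_assoc, ← mul_assoc (X.z k), ← (dS h b (z_S k)).eq]; group
  have cp : ∀ a k x, Commute (X.d a * X.z k) (X.q x) := fun a k x =>
    (pd h x a).symm.mul_left (pA h x (z_A k)).symm
  have cq : ∀ a k x, Commute (X.d a * X.z k) (X.symm.q x) := fun a k x =>
    (pd h.symm x a).symm.mul_left (pA h.symm x (z_A (X := X.symm) k)).symm
  refine ⟨c 1 1, fun x e => ?_⟩
  rw [← bil (fun x x' e => ?_) (fun x e e' => ?_) fun x e => ?_]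
  · exact k x e
  · have := add_comm_rel (k x e) (k x' e) (cp _ _ _)
    rw [← h.toS3.q_add, k, m, add_comm (x' * e), ← add_mul] at this
    rw [add_comm (c x e)]
    exact h.toFr.z_eq (mul_left_cancel (mul_left_cancel this))
  · have k' : ∀ x e, X.q x * X.symm.q e = X.symm.q e * X.q x * (X.d (x * e) * X.z (c x e)) :=
      fun x e => by rw [k, mul_assoc, zz, mul_one]
    have := add_comm_rel (k' x e) (k' x e') (cq _ _ _)
    rw [← h.symm.toS3.q_add, k', m, add_comm (x * e'), ← mul_add] at this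
    rw [add_comm (c x e)]
    exact h.toFr.z_eq (mul_left_cancel (mul_left_cancel this))
  · have := congrArg (κ X.h) (k x e)
    have a1 : ∀ x, κ X.h (X.q x) = X.q (om * om * x) := h.toS3.hq
    have a2 : ∀ x, κ X.h (X.symm.q x) = X.symm.q (om * om * x) := h.symm.toS3.hq
    have a3 : ∀ x, κ X.h (X.d x) = X.d (om * x) := h.hd
    have a4 : ∀ x, κ X.h (X.z x) = X.z (om * x) := h.hz
    simp only [H0.cj_mul, a1, a2, a3, a4] at this
    rw [k, (by decide : ∀ x e : F4, om * om * x * (om * om * e) = om * (x * e))] at this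
    exact h.toFr.z_eq (mul_left_cancel (mul_left_cancel this))

/-- the first root group -/
def AA (X : Dat G) (n : F4) (α : QA n) : G := X.q α.im * X.a α.re
/-- the centre -/
def ZZ (X : Dat G) (n : F4) (α : QA n) : G := X.d α.im * X.z α.re

theorem AA_add (h : X.Cy) (n : F4) (x y : QA n) : AA X n (x + y) = AA X n x * AA X n y := by
  simp only [AA, QuadraticAlgebra.im_add, QuadraticAlgebra.re_add, h.toS3.q_add, h.a_add]
  rw [mul_assoc, mul_assoc, ← mul_assoc (X.q y.im), (pA h _ (a_A _)).eq, mul_assoc]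

theorem AZ (h : X.Cy) (n : F4) (x c : QA n) : ZZ X n c * AA X n x = AA X n x * ZZ X n c :=
  (((pd h _ _).symm.mul_right (dS h _ (a_S _))).mul_left
    ((pA h _ (z_A _)).symm.mul_right (h.az _ _))).eq

theorem ZZ_add (h : X.Cy) (n : F4) (x y : QA n) : ZZ X n (x + y) = ZZ X n x * ZZ X n y := by
  simp only [ZZ, QuadraticAlgebra.im_add, QuadraticAlgebra.re_add, h.d_add, h.z_add]
  rw [mul_assoc, mul_assoc, ← mul_assoc (X.d y.im), (dS h _ (z_S _)).eq, mul_assoc]

theorem ZZ_d (h : X.Cy) (n c : F4) : ZZ X n ⟨0, c⟩ = X.d c := by rw [ZZ, h.toFr.z0, mul_one]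
theorem ZZ_z (h : X.Cy) (n c : F4) : ZZ X n ⟨c, 0⟩ = X.z c := by rw [ZZ, add0 h.d_add, one_mul]
theorem AA_a (h : X.Cy) (n c : F4) : AA X n ⟨c, 0⟩ = X.a c := by
  rw [AA, add0 h.toS3.q_add, one_mul]

theorem hs (h : X.Cy) {n : F4} (hn : Cm X n) : Hs (AA X n) (AA X.symm n) (ZZ X n) := by
  refine ⟨p16 n, AA_add h n, AA_add h.symm n, ZZ_add h n, AZ h n, AZ h.symm n, fun x y => ?_,
    fun c e => ?_⟩
  · have k : X.symm.q y.im * X.a x.re = X.a x.re * X.symm.q y.im * X.d (x.re * y.im) := by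
      have : X.a x.re * X.symm.q y.im = X.symm.q y.im * X.a x.re * X.d (x.re * y.im) :=
        bp h.symm y.im x.re
      rw [this, mul_assoc, dd h, mul_one]
    refine (four (bp h x.im y.re) (hn x.im y.im) (h.ba x.re y.re) k (dS h _ (a_S _))
      ((dS h _ (a_S _)).mul_left (h.az _ _)) ((dS h _ (b_S _)).mul_left (h.bz _ _))
      (dS h _ (b_S _))).trans ?_
    congr 1
    rw [show X.d (x.im * y.im) * X.z (n * (x.im * y.im)) = ZZ X n ⟨n * (x.im * y.im), x.im * y.im⟩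
      from rfl, ← ZZ_d h n, ← ZZ_d h n, ← ZZ_z h n, ← ZZ_add h, ← ZZ_add h, ← ZZ_add h]
    congr 1
    ext <;> simp <;> ring
  · have : c.im = 0 := dz_inj h (k := c.re) (by rw [show X.d c.im * X.z c.re = 1 from e]; simp)
    rw [ZZ, this, add0 h.d_add, one_mul] at e
    exact QuadraticAlgebra.ext (h.z_inj _ e) this

theorem k_tA (h : X.Cy) (n : F4) (x : QA n) : κ (X.r 1) (AA X n x) = AA X n (star x) := by
  rw [AA, AA, H0.cj_mul, k_tp h, H0.cj_of_commute (tL h (h.aL _)), QuadraticAlgebra.re_star,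
    QuadraticAlgebra.im_star, one_mul, add_comm, h.a_add, mul_assoc]
  rfl

theorem k_tZ (h : X.Cy) (n : F4) (x : QA n) : κ (X.r 1) (ZZ X n x) = ZZ X n (star x) := by
  rw [ZZ, ZZ, H0.cj_mul, k_td h, H0.cj_of_commute (tL h (h.toFr.zL _)), QuadraticAlgebra.re_star,
    QuadraticAlgebra.im_star, one_mul, add_comm, h.z_add, mul_assoc]
  rfl

end H25.SE
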