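import Mathlib
import Cfsg.Agent.H24.Su0
import Cfsg.Agent.H6.RankThree

/-! A transfer lemma that only looks at the cosets fixed by a `2`-subgroup of the centraliser. -/

set_option autoImplicit false
set_option linter.unusedSectionVars false

open H24 H26 H26.Gold Subgroup

namespace H25.SE

theorem prod_inv {T X A : Type*} [Group T] [MulAction T X] [Fintype X] [CommGroup A]
    (hT : IsPGroup 2 T) (F : X → A) (h1 : ∀ (t : T) c, F (t • c) = F c) (h2 : ∀ c, F c * F c = 1)
    (h3 : ∀ c, (∀ t : T, t • c = c) → F c = 1) : ∏ c, F c = 1 := by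
  classical
  have := Fact.mk Nat.prime_two
  rw [show ∏ c, F c = ∏ c, id (F c) from rfl, Finset.prod_comp id F]
  refine Finset.prod_eq_one fun a ha => ?_
  obtain ⟨c0, -, rfl⟩ := Finset.mem_image.1 ha
  by_cases e : F c0 = 1
  · rw [e, id, one_pow]
  let S : SubMulAction T X := ⟨{c | F c = F c0}, fun t c hc => (h1 t c).trans hc⟩
  have k : 2 ∣ Nat.card S := by
    by_contra k
    obtain ⟨⟨c, hc⟩, hc'⟩ := hT.nonempty_fixed_point_of_prime_not_dvd_card S k
    exact e ((show F c = F c0 from hc).symm.trans (h3 c fun t => congrArg Subtype.val (hc' t)))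
  obtain ⟨n, hn⟩ := k
  rw [Nat.card_eq_fintype_card, Fintype.card_subtype] at hn
  have : (Finset.univ.filter fun c => F c = F c0).card = 2 * n := hn
  rw [this, pow_mul, id, pow_two, h2, one_pow]

theorem GT {G A : Type*} [Group G] [Finite G] [CommGroup A] (hc : commutator G = ⊤)
    {M T : Subgroup G} (hM : Odd M.index) (φ : M →* A) {x : G} (hx : x ∈ M) (h2 : x * x = 1)
    (hT : IsPGroup 2 T) (hTx : T ≤ C{x})
    (h : ∀ g (hg : g * x * g⁻¹ ∈ M), cj g T ≤ M → φ ⟨_, hg⟩ = φ ⟨x, hx⟩) : φ ⟨x, hx⟩ = 1 := by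
  classical
  have := Fact.mk Nat.prime_two
  have := Fintype.ofFinite (G ⧸ M)
  have fx : ∀ g : G, x • (g : G ⧸ M) = g ↔ g⁻¹ * x * g ∈ M := fun g => H6.smul_coe_eq_iff M x g
  have fx' : ∀ c : G ⧸ M, x • c = c ↔ c.out⁻¹ * x * c.out ∈ M := fun c => by
    conv_lhs => rw [← c.out_eq]
    exact fx c.out
  let F : G ⧸ M → A := fun c => if k : x • c = c then φ ⟨_, (fx' c).1 k⟩ else 1
  have hF : ∀ (g : G) (k : g⁻¹ * x * g ∈ M), F g = φ ⟨_, k⟩ := fun g k => by
    obtain ⟨m, e⟩ := QuotientGroup.mk_out_eq_mul M g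
    have : (⟨_, (fx' g).1 ((fx g).2 k)⟩ : M) = m⁻¹ * ⟨_, k⟩ * m := Subtype.ext (by
      change (g : G ⧸ M).out⁻¹ * x * (g : G ⧸ M).out = (m : G)⁻¹ * (g⁻¹ * x * g) * m
      rw [e]; group)
    simp only [F, dif_pos ((fx g).2 k)]
    rw [this, map_mul, map_mul, mul_right_comm, ← map_mul, inv_mul_cancel, map_one, one_mul]
  have sq : ∀ g (k : g⁻¹ * x * g ∈ M), φ ⟨_, k⟩ * φ ⟨_, k⟩ = 1 := fun g k => by
    rw [← map_mul, ← map_one φ]
    congr 1
    refine Subtype.ext ?_
    change g⁻¹ * x * g * (g⁻¹ * x * g) = 1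
    rw [show g⁻¹ * x * g * (g⁻¹ * x * g) = g⁻¹ * (x * x) * g by group, h2]; group
  have a2 : φ ⟨x, hx⟩ * φ ⟨x, hx⟩ = 1 := by simpa using sq 1 (by simpa using hx)
  let B : Finset (G ⧸ M) := Finset.univ.filter fun c => x • c = c
  have := Fintype.ofFinite (Quotient (MulAction.orbitRel (zpowers x) (G ⧸ M)))
  have e1 := MonoidHom.transfer_eq_prod_quotient_orbitRel_zpowers_quot φ x
  have e2 : MonoidHom.transfer φ x = 1 := Abelianization.commutator_subset_ker _ (hc ▸ mem_top x)
  have e3 : ∏ c ∈ B, F c = 1 := by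
    rw [e2, Finset.prod_congr rfl (g := fun q => if q.out ∈ B then F q.out else 1),
      ← Finset.prod_filter, Finset.prod_bij (t := B) (g := F) (fun q _ => q.out)
        (fun q hq => (Finset.mem_filter.1 hq).2) (fun _ _ _ _ e => Quotient.out_injective e)
        (fun c hc => ?_) fun _ _ => rfl] at e1
    · exact e1.symm
    · have : (Quotient.mk (MulAction.orbitRel (zpowers x) (G ⧸ M)) c).out = c := by
        obtain ⟨⟨_, k, rfl⟩, e⟩ := Quotient.mk_out (s := MulAction.orbitRel (zpowers x) (G ⧸ M)) c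
        exact e.symm.trans (zpow_mem (show x ∈ MulAction.stabilizer G c from
          (Finset.mem_filter.1 hc).2) k)
      exact ⟨_, Finset.mem_filter.2 ⟨Finset.mem_univ _, this.symm ▸ hc⟩, this⟩
    · intro q _
      have d : Function.minimalPeriod (x • ·) q.out ∣ 2 :=
        MulAction.pow_smul_eq_iff_minimalPeriod_dvd.1 (by rw [pow_two, h2, one_smul])
      have f := Function.minimalPeriod_eq_one_iff_isFixedPt (f := (x • ·)) (x := q.out)
      simp only [B, Finset.mem_filter, Finset.mem_univ, true_and]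
      rcases (Nat.dvd_prime Nat.prime_two).1 d with e | e
      · have k : x • q.out = q.out := f.1 e
        rw [if_pos k]
        simp only [F, dif_pos k, e, pow_one]
      · have k : ¬ x • q.out = q.out := fun k => absurd ((f.2 k).symm.trans e) (by decide)
        rw [if_neg k, ← map_one φ]
        congr 1
        exact Subtype.ext (by simp [e, pow_two, h2])
  have e4 := (twoE_of_sq h2).isPi.isPGroup Nat.prime_two |>.card_modEq_card_fixedPoints (G ⧸ M)
  have e5 : Nat.card (MulAction.fixedPoints (zpowers x) (G ⧸ M)) = B.card := by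
    rw [Nat.card_eq_fintype_card, Fintype.card_subtype]
    congr 1
    ext c
    simp only [B, Finset.mem_filter, Finset.mem_univ, true_and]
    exact ⟨fun h => h ⟨x, mem_zpowers x⟩, fun h ⟨_, k, e⟩ =>
      e ▸ zpow_mem (show x ∈ MulAction.stabilizer G c from h) k⟩
  have e6 := prod_inv hT (fun c : G ⧸ M => if x • c = c then F c * φ ⟨x, hx⟩ else 1) (fun t c => by
    obtain ⟨g, rfl⟩ := QuotientGroup.mk_surjective c
    have k : ((t : G) * g)⁻¹ * x * (t * g) = g⁻¹ * x * g := by
      rw [show ((t : G) * g)⁻¹ * x * (t * g) = g⁻¹ * ((t : G)⁻¹ * x * (t : G)⁻¹⁻¹) * g by group,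
        mem_C1_iff_conj.1 (inv_mem (hTx t.2))]
    change (if x • (((t : G) * g : G) : G ⧸ M) = ((t : G) * g : G) then F ((t : G) * g : G) * _
      else 1) = _
    simp only [fx, k]
    split_ifs with m
    · rw [hF g m, hF _ (k ▸ m)]
      simp only [k]
    · rfl) (fun c => by
    obtain ⟨g, rfl⟩ := QuotientGroup.mk_surjective c
    split_ifs with m
    · rw [hF g ((fx g).1 m), mul_mul_mul_comm, sq, a2, one_mul]
    · rw [one_mul]) (fun c hc => by
    obtain ⟨g, rfl⟩ := QuotientGroup.mk_surjective c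
    split_ifs with m
    · have := h g⁻¹ (by simpa using (fx g).1 m) fun t ht => by
        obtain ⟨s, hs, rfl⟩ := mem_cj'.1 ht
        simpa using (H6.smul_coe_eq_iff M s g).1 (hc ⟨s, hs⟩)
      simp only [inv_inv] at this
      rw [hF g ((fx g).1 m), this, a2]
    · rfl)
  rw [← Finset.prod_filter, Finset.prod_mul_distrib, Finset.prod_const] at e6
  rw [← index_eq_card, e5] at e4
  have e7 : Odd B.card := by
    obtain ⟨a, ha⟩ := hM
    unfold Nat.ModEq at e4
    exact Nat.odd_iff.2 (by omega)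
  obtain ⟨n, hn⟩ := e7
  change (∏ c ∈ B, F c) * _ ^ B.card = 1 at e6
  rwa [e3, hn, one_mul, pow_succ, pow_mul, pow_two, a2, one_pow, one_mul] at e6

end H25.SE
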