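import Mathlib
import Cfsg.Agent.H25.SEd

/-! The cyclic case: recognising the centre of the Heisenberg group. -/

set_option autoImplicit false
set_option linter.unusedSectionVars false

open H24 H26 H26.Gold Subgroup H24.Sz H24.Sz.Dat
open H9 (F4)
open H7.SJ (p2)

namespace H25.SE

local notation "κ" => H0.cj

variable {G : Type*} [Group G] [Finite G] {X : Dat G} {g u v x : G} {T D M P : Subgroup G} {n : F4}

theorem cy_cj (h : X.Cy) (g : G) : (X.cj g).Cy := ⟨h.toS3.cj g, h.cyc⟩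

section
variable (h : X.Cy) (hn : Cm X n)
include h hn

theorem k_tE (α β γ : QA n) : κ (X.r 1) (AA X n α * AA X.symm n β * ZZ X n γ) =
    AA X n (star α) * AA X.symm n (star β) * ZZ X n (star γ) := by
  rw [H0.cj_mul, H0.cj_mul, k_tA h, k_tZ h]
  congr 2
  exact k_tA h.symm n β

theorem t_NU : X.r 1 ∈ N[(hs h hn).U] := mem_N_of_finite (by
  rintro _ ⟨α, β, γ, rfl⟩
  exact ⟨_, _, _, k_tE h hn α β γ⟩)

theorem S_U : X.S ≤ (hs h hn).U :=
  S_le (fun x => AA_a h n x ▸ (hs h hn).a_U _)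
    (fun x => (show _ = X.b x from AA_a h.symm n x) ▸ (hs h hn).b_U _)
    fun x => ZZ_z h n x ▸ (hs h hn).D_U ⟨_, rfl⟩

theorem d_D (c : F4) : X.d c ∈ (hs h hn).D := ⟨_, (ZZ_d h n c).symm⟩

theorem D_L (hu : u ∈ (hs h hn).D) (h1 : u ∈ X.L) : u ∈ X.Z := by
  obtain ⟨c, rfl⟩ := hu
  rw [ZZ, dz_inj h (c := c.im) (k := c.re) (mem_C1.2 (tL h h1).symm.eq), add0 h.d_add, one_mul]
  exact z_Z _

theorem inv_conj (hu : u ∈ (hs h hn).U) (e : X.r 1 * u * (X.r 1 * u) = 1) :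
    ∃ v ∈ (hs h hn).U, v * X.r 1 * v⁻¹ = X.r 1 * u := by
  have H := hs h hn
  obtain ⟨α, β, γ, rfl⟩ := hu
  have ti := inv_eq_of_mul_eq_one_right (tt h)
  have k : ∀ w : G, X.r 1 * w * (X.r 1 * w) = κ (X.r 1) w * w := fun w => by
    rw [H0.cj, ti, mul_assoc, mul_assoc, mul_assoc]
  rw [k, k_tE h hn, H.mul, ← H.a0, H.ea 0] at e
  obtain ⟨e1, e2, e3⟩ := H.inj e
  have t : star (⟨0, 1⟩ : QA n) = ⟨0, 1⟩ + 1 := (by decide : ∀ n : F4,
    star (⟨0, 1⟩ : QA n) = ⟨0, 1⟩ + 1) n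
  generalize (⟨0, 1⟩ : QA n) = θ at t
  have a := H.eq_of e1
  have b := H.eq_of e2
  rw [b] at e3
  have c : star γ = γ + α * β := H.eq_of (by linear_combination e3)
  refine ⟨_, H.e_U (α * θ) (β * θ) ((γ + α * β * θ) * θ), ?_⟩
  rw [show ∀ w : G, w * X.r 1 * w⁻¹ = X.r 1 * (κ (X.r 1) w * w⁻¹) from fun w => by
    rw [H0.cj, ti, ← mul_assoc, ← mul_assoc, ← mul_assoc, tt h, one_mul], k_tE h hn, H.inv, H.mul]
  simp only [star_mul', star_add, a, b, c, t]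
  congr 3
  · congr 1
    linear_combination H.two (α * θ)
  · congr 1
    linear_combination H.two (β * θ)
  · linear_combination H.two (γ * θ + 2 * α * β * θ * θ + 2 * α * β * θ + α * β)

end

section
variable (h : X.Cy)
include h

theorem coset_I (c : F4) (hu : u ∈ X.S) (e : X.d c * X.r 1 * u * (X.d c * X.r 1 * u) = 1) :
    X.I (X.d c * X.r 1 * u) := by
  obtain ⟨n, hn⟩ := exists_cm h
  have k : X.d c * X.r 1 * u = X.r 1 * (κ (X.r 1) (X.d c) * u) := by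
    rw [H0.cj, inv_eq_of_mul_eq_one_right (tt h), ← mul_assoc, ← mul_assoc, ← mul_assoc, tt h, one_mul]
  rw [k] at e ⊢
  obtain ⟨v, -, hv⟩ := inv_conj h hn (mul_mem (conj_mem (t_NU h hn) ((hs h hn).D_U (d_D h hn c)))
    (S_U h hn hu)) e
  exact hv ▸ (tI h).conj v

theorem T_K (hT : TwoG T) (ht : X.r 1 ∈ T) (hu : u ∈ T) (h1 : u ∈ X.K) : u = 1 ∨ u = X.r 1 :=
  (mem_R h).1 (h.sylR.eq_of_le (hT.of_le inf_le_left) (le_inf (fun v hv => by
    rcases (mem_R h).1 hv with rfl | rfl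
    exacts [one_mem _, ht]) h.sylR.le) inf_le_right ▸ (⟨hu, h1⟩ : u ∈ T ⊓ X.K))

theorem T_L (hT : TwoG T) (hS : X.S ≤ T) (hu : u ∈ T) (h1 : u ∈ X.L) : u ∈ X.S :=
  h.toFr.syl.eq_of_le (hT.of_le inf_le_left) (le_inf hS h.toFr.S_L) inf_le_right ▸
    (⟨hu, h1⟩ : u ∈ T ⊓ X.L)

theorem no_I {E : Subgroup G} (hE : EA E) (hc : 32 < ♯E) (hv : v ∈ E) : ¬ X.I v := by
  rintro ⟨h1, h2, g, hg⟩
  have a := (h.toFr.elem (H7.SJ.ea_cj hE g) ((cj_mono g (mem_C_iff_le_C1.1 (hE.le_C hv))).trans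
    (cj_C1 g v ▸ h.toSt.C_N hg (fun e => h1 (conj_eq_one_iff'.1 e)) (conj_sq h2 g)))).1
  have b := Nat.le_of_dvd (card_pos _)
    (h.sylR.card_dvd (((H7.SJ.ea_cj hE g).two).of_le inf_le_left) inf_le_right)
  have c : ♯X.R ≤ 2 := by
    refine (card_le (B := zpowers (X.r 1)) fun w hw => ?_).trans ?_
    · rcases (mem_R h).1 hw with rfl | rfl
      exacts [one_mem _, mem_zpowers _]
    · rw [card_zpowers']
      exact Nat.le_of_dvd two_pos (orderOf_dvd_of_pow_eq_one (by rw [pow_two, tt h]))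
  rw [card_cj] at a
  omega

end

theorem inner1 (h : X.Fr) (hx : x ∈ N[X.L]) (h2 : TwoE x) (hS : x ∈ N[X.S])
    (e : ∀ s ∈ X.S, x * s * x⁻¹ * s⁻¹ ∈ X.A) : x ∈ X.S ⊔ X.K := by
  have a : x ∈ N[X.A] := mem_N_of_finite fun s hs => by
    simpa using mul_mem (e s (A_S hs)) hs
  have b : x ∈ N[X.B] := by
    rcases h.swap hS with k | k
    · exact mem_N_iff_cj.2 k.2
    · exact absurd ((cj_of_mem_N a).symm.trans k.1) h.A_ne_B
  refine h.two_lin hx a b h2 (Or.inr (Or.inr fun y => h.A_inf_B.le ⟨?_, ?_⟩))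
  · simpa [h.bi] using e _ (b_S y)
  · exact mul_mem (conj_mem b (b_B y)) (b_B y)

theorem inner (h : X.Fr) (hx : x ∈ N[X.L]) (h2 : x * x ∈ C[X.S]) (hS : x ∈ N[X.S]) (hM : EA M)
    (e : ∀ s ∈ X.S, x * s * x⁻¹ * s⁻¹ ∈ M) : x ∈ X.S ⊔ X.K := by
  obtain ⟨y, z, hy, hz, y1, z1, rfl⟩ := exists_piElt_decomp {2} x
  have zz : z ∈ zpowers (y * z * (y * z)) := H7.SJ.mem_of_odd hz (by
    obtain ⟨k, e⟩ := z1
    refine ⟨k, ?_⟩
    have e' : (y * z) ^ k = z := e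
    change (y * z * (y * z)) ^ k = z * z
    rw [(Commute.refl (y * z)).mul_zpow, e'])
  have zc : z ∈ C[X.S] := zpowers_le.2 h2 zz
  have e' : ∀ s ∈ X.S, y * s * y⁻¹ * s⁻¹ ∈ M ⊓ X.S := fun s hs =>
    ⟨by
      have := e s hs
      rwa [show y * z * s * (y * z)⁻¹ = y * (z * s * z⁻¹) * y⁻¹ by group,
        conj_eq_of_mem_C zc hs] at this,
      X.S.mul_mem (conj_mem (zpowers_le.2 hS y1) hs) (X.S.inv_mem hs)⟩
  refine mul_mem ?_ (sup_le_sup_right Z_S _ (h.cent_S (zpowers_le.2 hx z1) zc))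
  rcases h.ea_le (hM.of_le inf_le_left) inf_le_right with k | k
  · exact inner1 h (zpowers_le.2 hx y1) hy (zpowers_le.2 hS y1) fun s hs => k (e' s hs)
  · have := inner1 h.symm (zpowers_le.2 hx y1) hy (symm_S (X := X) ▸ zpowers_le.2 hS y1)
      fun s hs => k (e' s (symm_S (X := X) ▸ hs))
    rwa [symm_S] at this

/-- the hypotheses on a normal subgroup of order sixteen -/
structure Hy (X : Dat G) (T D : Subgroup G) : Prop where
  cy : X.Cy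
  two : TwoG T
  t : X.r 1 ∈ T
  S : X.S ≤ T
  le : D ≤ T
  nrm : T ≤ N[D]
  ea : EA D
  card : ♯D = 16
  noI : ∀ v ∈ D, ¬ X.I v
  gam : ∀ m ∈ T, ∀ m' ∈ T, m * m = 1 → m' * m' = 1 →
    (∀ v ∈ D, m * v * m⁻¹ = v ↔ m' * v * m'⁻¹ = v) → ∀ v ∈ D, m * v * m⁻¹ = m' * v * m'⁻¹

namespace Hy

variable (k : Hy X T D)
include k

theorem symm : Hy X.symm T D :=
  ⟨k.cy.symm, k.two, k.t, symm_S (X := X) ▸ k.S, k.le, k.nrm, k.ea, k.card, k.noI, k.gam⟩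

theorem cm (hv : v ∈ D) {s : G} (hs : s ∈ T) : v * s * v⁻¹ * s⁻¹ ∈ D := by
  have := mul_mem hv (conj_mem (k.nrm hs) (inv_mem hv))
  simpa [mul_assoc] using this

theorem b0 (hv : v ∈ D) (hc : v ∈ C{X.r 1}) : v ∈ X.S := by
  have h := k.cy
  have hN := tN h hc
  obtain ⟨s, hs, j, hj, rfl⟩ := h.toFr.mem_SK.1 (inner h.toFr hN (by rw [k.ea.sq hv]; exact one_mem _)
    (mem_N_of_finite fun s hs => T_L h k.two k.S
      (mul_mem (mul_mem (k.le hv) (k.S hs)) (inv_mem (k.le hv))) (conj_mem hN (h.toFr.S_L hs)))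
    k.ea fun s hs => k.cm hv (k.S hs))
  rcases T_K h k.two k.t ((mul_mem_cancel_left (k.S hs)).1 (k.le hv)) hj with rfl | rfl
  · simpa using hs
  · have e : s * X.r 1 = X.d 0 * X.r 1 * s := by
      rw [add0 h.d_add, one_mul, (tL h (h.toFr.S_L hs)).eq]
    exact absurd (e ▸ coset_I h 0 hs (e ▸ k.ea.sq hv)) (k.noI _ hv)

/-- commutation with the involution -/
def ph : D →* G := MonoidHom.mk' (fun v => v * X.r 1 * (v : G)⁻¹ * (X.r 1)⁻¹) fun a b => by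
  have := k.ea.comm a.2 (k.cm b.2 k.t)
  calc _ = (a : G) * (b * X.r 1 * (b : G)⁻¹ * (X.r 1)⁻¹) * (X.r 1 * (a : G)⁻¹ * (X.r 1)⁻¹) := by
        rw [coe_mul]; group
    _ = (b * X.r 1 * (b : G)⁻¹ * (X.r 1)⁻¹) * (a * X.r 1 * (a : G)⁻¹ * (X.r 1)⁻¹) := by
        rw [this]; group
    _ = _ := k.ea.comm (k.cm b.2 k.t) (k.cm a.2 k.t)

theorem ph_apply (v : D) : k.ph v = v * X.r 1 * (v : G)⁻¹ * (X.r 1)⁻¹ := rfl

theorem ph_C (v : D) : k.ph v ∈ C{X.r 1} := by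
  have := k.ea.comm v.2 (conj_mem (k.nrm k.t) v.2)
  have ti := inv_eq_of_mul_eq_one_right (tt k.cy)
  rw [mem_C1, ph_apply, k.ea.inv v.2, ti, mul_assoc, tt k.cy, mul_one]
  rw [ti] at this
  calc _ = (v : G) * (X.r 1 * v * X.r 1) * X.r 1 := by
        simp only [mul_assoc, tt k.cy, mul_one]
    _ = X.r 1 * v * X.r 1 * v * X.r 1 := by rw [this]
    _ = _ := by group

theorem ph_one {v : D} (e : k.ph v = 1) : (v : G) ∈ C{X.r 1} := by
  rw [ph_apply, mul_inv_eq_one] at e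
  exact mem_C1_iff_conj.2 e

theorem ph_cj (v : D) {s : G} (hs : s ∈ X.S) :
    k.ph ⟨s * v * s⁻¹, conj_mem (k.nrm (k.S hs)) v.2⟩ = s * k.ph v * s⁻¹ := by
  have := H0.cj_of_commute (tL k.cy (k.cy.toFr.S_L hs)).symm
  rw [ph_apply, ph_apply]
  conv_lhs => rw [← this]
  simp only [H0.cj]
  group

theorem card_ph : ♯k.ph.range ≤ 4 := by
  have a := k.ph.ker.card_mul_index
  rw [index_ker, k.card] at a
  have b : ♯k.ph.range ≤ ♯k.ph.ker := by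
    rw [← card_map_of_injective D.subtype_injective]
    refine card_le ?_
    rintro _ ⟨v, rfl⟩
    refine ⟨⟨_, k.cm v.2 k.t⟩, ?_, rfl⟩
    change k.ph _ = 1
    rw [ph_apply, mul_inv_eq_one]
    exact mem_C1_iff_conj.1 (k.ph_C v)
  nlinarith

theorem ph_Z1 (v : D) (hv : k.ph v ∈ X.A) : k.ph v ∈ X.Z := by
  have h := k.cy.toFr
  obtain ⟨x, c, e⟩ := h.mem_A.1 hv
  by_cases hx : x = 0
  · rw [e, hx, h.a0, one_mul]; exact z_Z c
  have : X.Z ≤ k.ph.range := Z_le fun y => by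
    have := k.ph.range.mul_mem ⟨_, k.ph_cj v (b_S (x⁻¹ * y))⟩ (k.ph.range.inv_mem ⟨v, rfl⟩)
    rwa [e, ← mul_assoc, mul_assoc _ (X.z c), (show Commute _ _ from h.bz _ c).inv_right.eq,
      ← mul_assoc, h.bab, mul_inv_cancel_left₀ hx, mul_assoc (X.a x), ← h.z_add, add_comm, h.z_add,
      ← mul_assoc (X.a x), h.S_z (mul_mem (a_S x) (z_S c)) y, mul_inv_cancel_right] at this
  rw [eq_of_card_ge this (h.card_Z ▸ k.card_ph)]
  exact ⟨v, rfl⟩

theorem ph_Z (v : D) : k.ph v ∈ X.Z := by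
  have m := k.cm v.2 k.t
  rcases k.cy.toFr.inv_S (k.b0 m (k.ph_C v)) (k.ea.sq m) with e | e
  · exact k.ph_Z1 v e
  · exact k.symm.ph_Z1 v e

theorem form (hv : v ∈ D) : ∃ c, ∃ s ∈ X.S, v = X.d c * s := by
  have h := k.cy
  obtain ⟨c, hc⟩ := h.toFr.mem_Z.1 (k.ph_Z ⟨v, hv⟩)
  have vt : κ v (X.r 1) = X.r 1 * X.z c := by
    rw [(tL h (h.toFr.zL c)).eq, ← hc, ph_apply, inv_mul_cancel_right]; rfl
  have yt : X.d c * v ∈ C{X.r 1} := mem_C1.2 (H0.cj_eq_self.1 (by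
    rw [← H0.cj_cj, vt, H0.cj_mul, k_dt h, H0.cj_of_commute (dS h _ (z_S _)), mul_assoc, h.toFr.zz,
      mul_one]))
  have e1 : ∀ s ∈ X.S, v * s * v⁻¹ * s⁻¹ ∈ X.S := fun s hs => k.b0 (k.cm hv (k.S hs))
    (k.ph_one (v := ⟨_, k.cm hv (k.S hs)⟩) (by
      have : (⟨_, k.cm hv (k.S hs)⟩ : D) =
          ⟨v, hv⟩ * (⟨s * v * s⁻¹, conj_mem (k.nrm (k.S hs)) hv⟩ : D)⁻¹ := Subtype.ext (by
        change _ = v * (s * v * s⁻¹)⁻¹; group)
      rw [this, map_mul, map_inv, k.ph_cj ⟨v, hv⟩ hs, hc, h.toFr.S_z hs, mul_inv_cancel_right,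
        mul_inv_cancel]))
  have e2 : ∀ s ∈ X.S, v * s * v⁻¹ ∈ X.S := fun s hs => by simpa using mul_mem (e1 s hs) hs
  have e3 : ∀ s ∈ X.S, κ (X.d c * v) s = v * s * v⁻¹ := fun s hs => by
    rw [← H0.cj_cj]; exact H0.cj_of_commute (dS h c (e2 s hs))
  obtain ⟨j, hj, o, ho, e4⟩ := h.toS1.CX le_rfl (inner h.toFr (tN h yt) (mem_C'.2 fun s hs =>
      H0.cj_eq_self.1 (by
        rw [← H0.cj_cj, e3 s hs, e3 _ (e2 s hs), show v * (v * s * v⁻¹) * v⁻¹ = v * v * s * (v * v)⁻¹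
          by group, k.ea.sq hv]; group))
    (mem_N_of_finite fun s hs => by
      rw [show X.d c * v * s * (X.d c * v)⁻¹ = _ from e3 s hs]; exact e2 s hs) k.ea fun s hs => by
      rw [show X.d c * v * s * (X.d c * v)⁻¹ = _ from e3 s hs]; exact k.cm hv (k.S hs)) (C_R h yt)
  obtain ⟨ρ, hρ, s, hs, rfl⟩ := (mem_sup_of_norm (norm_of_cent fun s hs => C_R h
    (mem_C1.2 (tL h (h.toFr.S_L hs)).symm.eq))).1 hj
  have e5 : v = X.d c * ρ * s * o := by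
    rw [mul_assoc, mul_assoc, ← mul_assoc ρ, ← e4, ← mul_assoc, dd h, one_mul]
  have c1 : Commute (X.d c * ρ * s) o :=
    ((show Commute _ _ from mem_C'.1 (h.dO c) o ho).mul_left (mem_C.1 (O_R ho) _ hρ)).mul_left
      (LO h (h.toFr.S_L hs) ho)
  have c2 : X.d c * ρ * s * (X.d c * ρ * s) ∈ X.L := by
    have c3 : Commute s (X.d c * ρ) :=
      (dS h c hs).symm.mul_right (mem_C.1 (h.sylR.le hρ) s (h.toFr.S_L hs))
    rw [mul_assoc, ← mul_assoc s, c3.eq, mul_assoc _ s, ← mul_assoc]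
    refine mul_mem ?_ (h.toFr.S_L (mul_mem hs hs))
    rcases (mem_R h).1 hρ with rfl | rfl
    · rw [mul_one, dd h]; exact one_mem _
    · nth_rw 1 [cj_sq (k_dt h c)]
      rw [mul_assoc, ← mul_assoc (X.d c), dd h, one_mul, (tL h (h.toFr.zL c)).eq, mul_assoc,
        tt h, mul_one]
      exact h.toFr.zL c
  have c4 : o * o = 1 := by
    have := k.ea.sq hv
    rw [e5, c1.symm.mul_mul_mul_comm] at this
    exact h.toFr.LK.le ⟨eq_inv_of_mul_eq_one_right this ▸ X.L.inv_mem c2, O_K (mul_mem ho ho)⟩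
  rw [eq_one_of_odd_sq (O_odd.piElt ho) c4, mul_one] at e5
  rcases (mem_R h).1 hρ with rfl | rfl
  · exact ⟨c, s, hs, by rw [e5, mul_one]⟩
  · exact absurd (e5 ▸ coset_I h c hs (e5 ▸ k.ea.sq hv)) (k.noI _ hv)

theorem fin1 (e : ∀ c, ∀ s ∈ X.S, X.d c * s ∈ D → s ∈ X.A) (hv : v ∈ D) :
    ∃ c j, v = X.d c * X.z j := by
  have h := k.cy
  have a : ∀ c x j y, X.b y * (X.d c * (X.a x * X.z j)) * (X.b y)⁻¹ =
      X.d c * (X.a x * X.z j) * X.z (x * y) := fun c x j y => by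
    change κ _ _ = _
    rw [H0.cj_mul, H0.cj_mul, H0.cj_of_commute (dS h c (b_S y)).symm,
      H0.cj_of_commute (show Commute _ _ from (h.bz y j).symm), H0.cj, h.toFr.bab, mul_assoc,
      mul_assoc, mul_assoc, ← h.z_add, ← h.z_add, add_comm]
  have b := k.gam _ (k.S (b_S 1)) _ (k.S (b_S om)) (h.toFr.bb _) (h.toFr.bb _) (fun w hw => by
    obtain ⟨c, s, hs, rfl⟩ := k.form hw
    obtain ⟨x, j, rfl⟩ := h.toFr.mem_A.1 (e c s hs hw)
    rw [a, a, mul_eq_left, mul_eq_left]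
    exact ⟨fun e => by rw [show x = 0 by simpa using h.z_inj _ e, zero_mul, h.toFr.z0], fun e => by
      rw [(mul_eq_zero.1 (h.z_inj _ e)).resolve_right (by decide), zero_mul, h.toFr.z0]⟩) v hv
  obtain ⟨c, s, hs, rfl⟩ := k.form hv
  obtain ⟨x, j, rfl⟩ := h.toFr.mem_A.1 (e c s hs hv)
  rw [a, a] at b
  have : x = 0 := (by decide : ∀ x : F4, x * 1 = x * om → x = 0) x (h.toFr.z_eq (mul_left_cancel b))
  exact ⟨c, j, by rw [this, h.toFr.a0, one_mul]⟩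

theorem fin (hv : v ∈ D) : ∃ c j, v = X.d c * X.z j := by
  have h := k.cy
  have m : ∀ c c' s s', s ∈ X.S → X.d c * s * (X.d c' * s') = X.d (c + c') * (s * s') :=
    fun c c' s s' hs => by
      rw [h.d_add, mul_assoc, ← mul_assoc s, ← (dS h c' hs).eq]; group
  have sq : ∀ c s, s ∈ X.S → X.d c * s ∈ D → s * s = 1 := fun c s hs hc => by
    have := k.ea.sq hc
    rwa [m c c s s hs, f4_add_self, add0 h.d_add, one_mul] at this
  let M : Subgroup G :=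
    { carrier := {s | s ∈ X.S ∧ ∃ c, X.d c * s ∈ D}
      mul_mem' := by
        rintro s s' ⟨hs, c, hc⟩ ⟨hs', c', hc'⟩
        exact ⟨mul_mem hs hs', _, m c c' s s' hs ▸ mul_mem hc hc'⟩
      one_mem' := ⟨one_mem _, 0, by rw [add0 h.d_add, one_mul]; exact one_mem _⟩
      inv_mem' := by
        rintro s ⟨hs, c, hc⟩
        rw [inv_eq_of_mul_eq_one_right (sq c s hs hc)]
        exact ⟨hs, c, hc⟩ }
  rcases h.toFr.ea_le (E := M) (ea_of_sq fun s ⟨hs, c, hc⟩ => sq c s hs hc) (fun s hs => hs.1) with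
    e | e
  · exact k.fin1 (fun c s hs hc => e ⟨hs, c, hc⟩) hv
  · exact k.symm.fin1 (fun c s hs hc => e ⟨symm_S (X := X) ▸ hs, c, hc⟩) hv

end Hy

end H25.SE
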