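import Mathlib
import Cfsg.Agent.H25.SEb
import Cfsg.Agent.H25.SEe

/-! The cyclic case: the Sylow subgroup and the transfer. -/

set_option autoImplicit false
set_option linter.unusedSectionVars false

open H24 H26 H26.Gold Subgroup H24.Sz H24.Sz.Dat
open H9 (F4)
open H7.SJ (p2)
open scoped commutatorElement

namespace H25.SE

local notation "κ" => H0.cj

variable {G : Type*} [Group G] [Finite G] {X : Dat G} {g u v x : G} {T : Subgroup G} {n : F4}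

variable (h : X.Cy) (hn : Cm X n) (hT : TwoG T) (ht : X.r 1 ∈ T) (hU : (hs h hn).U ≤ T)
  (hN : T ≤ N[(hs h hn).U])
include h hn hT ht hU hN

theorem cent_V (hu : u ∈ T) (e : ∀ w ∈ (hs h hn).U, u * w * u⁻¹ * w⁻¹ ∈ (hs h hn).D) :
    u ∈ (hs h hn).U := by
  have H := hs h hn
  have hD : T ≤ N[H.D] := hN.trans H.N_D
  let C : Subgroup G :=
    { carrier := {y | y ∈ T ∧ ∀ w ∈ H.U, y * w * y⁻¹ * w⁻¹ ∈ H.D}
      mul_mem' := fun {a b} ha hb => ⟨mul_mem ha.1 hb.1, fun w hw => by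
        have := mul_mem (conj_mem (hD ha.1) (hb.2 w hw)) (ha.2 w hw)
        rwa [show a * (b * w * b⁻¹ * w⁻¹) * a⁻¹ * (a * w * a⁻¹ * w⁻¹) =
          a * b * w * (a * b)⁻¹ * w⁻¹ by group] at this⟩
      one_mem' := ⟨one_mem _, fun w _ => by simp⟩
      inv_mem' := fun {a} ha => ⟨inv_mem ha.1, fun w hw => by
        have := ha.2 _ (conj_mem' (hN ha.1) hw)
        rw [← inv_mem_iff] at this
        rwa [show (a * (a⁻¹ * w * a) * a⁻¹ * (a⁻¹ * w * a)⁻¹)⁻¹ = a⁻¹ * w * a⁻¹⁻¹ * w⁻¹ by group]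
          at this⟩ }
  have UC : H.U ≤ C := fun w hw => ⟨hU hw, fun v hv => H.comm_D hw hv⟩
  have tC : X.r 1 ∉ C := fun k => by
    obtain ⟨c, e⟩ := k.2 _ (H.a_U ⟨0, 1⟩)
    rw [show X.r 1 * _ * (X.r 1)⁻¹ = _ from k_tA h n _, inv_eq_of_mul_eq_one_right (H.aa _),
      ← H.a_add, H.ea, H.ez c] at e
    exact (by decide : ∀ n : F4, star (⟨0, 1⟩ : QA n) + ⟨0, 1⟩ ≠ 0) n (H.inj e).1
  have tN' : zpowers (X.r 1) ≤ N[C] := zpowers_le.2 (mem_N_of_finite fun y hy =>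
    ⟨mul_mem (mul_mem ht hy.1) (inv_mem ht), fun w hw => by
      have := conj_mem (hD ht) (hy.2 _ (conj_mem' (hN ht) hw))
      rwa [show X.r 1 * (y * ((X.r 1)⁻¹ * w * X.r 1) * y⁻¹ * ((X.r 1)⁻¹ * w * X.r 1)⁻¹) * (X.r 1)⁻¹ =
        X.r 1 * y * (X.r 1)⁻¹ * w * (X.r 1 * y * (X.r 1)⁻¹)⁻¹ * w⁻¹ by group] at this⟩)
  have m0 : ∀ {y}, y ∈ H.U ⊔ zpowers (X.r 1) → y ∈ H.U ∨ ∃ w ∈ H.U, y = w * X.r 1 := fun hy => by
    obtain ⟨a, ha, b, hb, rfl⟩ := (mem_sup_of_norm (zpowers_le.2 (hN ht))).1 hy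
    rcases H7.SJ.mem_zp (tt h) hb with rfl | rfl
    exacts [Or.inl (by simpa using ha), Or.inr ⟨a, ha, rfl⟩]
  have key : ∀ y ∈ C, y ∈ N[H.U ⊔ zpowers (X.r 1)] → y ∈ H.U ⊔ zpowers (X.r 1) := fun y hy k => by
    rcases m0 (conj_mem k (mem_sup_right (mem_zpowers _))) with a | ⟨w, hw, a⟩
    · exact absurd (UC ((conj_mem_iff (hN hy.1)).1 a)) tC
    have b : w * X.r 1 = X.r 1 * ((X.r 1)⁻¹ * w * X.r 1) := by group
    rw [b] at a
    obtain ⟨v, hv, c⟩ := inv_conj h hn (conj_mem' (hN ht) hw) (a ▸ conj_sq (tt h) y)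
    have y1 : v⁻¹ * y ∈ C := mul_mem (inv_mem (UC hv)) hy
    have y2 : v⁻¹ * y ∈ N[X.L] := tN h (mem_C1_iff_conj.2 (by
      rw [show v⁻¹ * y * X.r 1 * (v⁻¹ * y)⁻¹ = v⁻¹ * (y * X.r 1 * y⁻¹) * v by group, a, ← c]; group))
    have y3 : ∀ s ∈ X.S, v⁻¹ * y * s * (v⁻¹ * y)⁻¹ * s⁻¹ ∈ X.Z := fun s hs =>
      D_L h hn (y1.2 s (S_U h hn hs))
        (mul_mem (conj_mem y2 (h.toFr.S_L hs)) (inv_mem (h.toFr.S_L hs)))
    obtain ⟨s, hs, j, hj, e⟩ := h.toFr.mem_SK.1 (h.toFr.aut_a y2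
      (fun x => by simpa only [h.toFr.ai] using y3 _ (a_S x))
      fun x => by simpa only [h.toFr.bi] using y3 _ (b_S x))
    refine (mul_mem_cancel_left (inv_mem (mem_sup_left hv))).1 (e ▸ mul_mem
      (mem_sup_left (S_U h hn hs)) ?_)
    rcases T_K h hT ht ((mul_mem_cancel_left (hU (S_U h hn hs))).1 (e ▸ y1.1)) hj with rfl | rfl
    exacts [one_mem _, mem_sup_right (mem_zpowers _)]
  have le : C ⊔ zpowers (X.r 1) ≤ T := sup_le (fun _ k => k.1) (zpowers_le.2 ht)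
  have := (IsPi.nil p2 (hT.of_le le)).eq_of_norm_le (sup_le_sup_right UC _) fun y ⟨y1, y2⟩ => by
    obtain ⟨a, ha, b, hb, rfl⟩ := (mem_sup_of_norm tN').1 y1
    exact mul_mem (key a ha ((mul_mem_cancel_right (norm_self _ (mem_sup_right hb))).1 y2))
      (mem_sup_right hb)
  rcases m0 (this.ge (mem_sup_left (show u ∈ C from ⟨hu, e⟩))) with a | ⟨w, hw, rfl⟩
  · exact a
  · exact absurd ((mul_mem_cancel_left (UC hw)).1 (show w * X.r 1 ∈ C from ⟨hu, e⟩)) tC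

theorem weak_U (h1 : g ∈ N[(hs h hn).D]) (h2 : cj g (hs h hn).U ≤ T) : g ∈ N[(hs h hn).U] := by
  have H := hs h hn
  obtain ⟨e, he⟩ := idem n
  refine mem_N_iff_cj.2 (H.weak (card_QA n) he (w := ⟨om, 0⟩) ((by decide : ∀ n : F4,
    (⟨om, 0⟩ : QA n) * ⟨om, 0⟩ + ⟨om, 0⟩ + 1 = 0) n) (h2.trans hN)
    (cj_of_mem_N h1 ▸ cent_cj H.U_CD g) (card_cj _ _) (fun u hu => ?_) (fun u hu v hv => ?_)
    fun u hu k => cent_V h hn hT ht hU hN (h2 hu) ?_)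
  · obtain ⟨w, hw, rfl⟩ := mem_cj'.1 hu
    rw [conj_mul]
    exact conj_mem h1 (H.sq_D hw)
  · obtain ⟨w, hw, rfl⟩ := mem_cj'.1 hu
    obtain ⟨w', hw', rfl⟩ := mem_cj'.1 hv
    rw [conj_inv, conj_inv, conj_mul, conj_mul, conj_mul]
    exact conj_mem h1 (H.comm_D hw hw')
  · rintro _ ⟨a, b, c, rfl⟩
    obtain ⟨c', e⟩ := k a b c
    rw [e, H.inv, H.mul, H.two, H.two, ← H.ez]
    exact ⟨_, rfl⟩

theorem weak_D (h1 : g * X.r 1 * g⁻¹ ∈ T) (h2 : cj g X.S ≤ T) : g ∈ N[(hs h hn).D] := by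
  have H := hs h hn
  have k : Hy (X.cj g) T H.D := ⟨cy_cj h g, hT, h1, cj_S (X := X) ▸ h2, H.D_U.trans hU,
    hN.trans H.N_D, H.eaD, H.card_D.trans (card_QA n), fun v hv e => no_I h
      (E := H.W) H.eaW (by rw [H.card_W, card_QA]; decide) (H.D_W hv) (cj_I.1 e),
    fun m hm m' hm' => H.inv_eq (hN hm) (hN hm')⟩
  refine mem_N_of_le_cj fun v hv => ?_
  obtain ⟨c, j, rfl⟩ := k.fin hv
  change g * X.d c * g⁻¹ * (g * X.z j * g⁻¹) ∈ _
  rw [conj_mul]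
  exact conj_mem_cj g ⟨⟨j, c⟩, rfl⟩

omit hn hT ht hU hN in
theorem elim [IsSimpleGroup G] : False := by
  obtain ⟨n, hn⟩ := exists_cm h
  have H := hs h hn
  have tN := t_NU h hn
  have U2 : TwoG H.U := isPi_of_card p2 (n := 12) (by rw [H.card_U, card_QA]; rfl)
  obtain ⟨T, hT, le⟩ := Sylow_superset p2 (U2.sup (H7.SJ.twoG_zp (tt h)) (zpowers_le.2 tN))
    (sup_le (norm_self _) (zpowers_le.2 tN))
  have hU : H.U ≤ T := le_sup_left.trans le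
  have ht : X.r 1 ∈ T := le (mem_sup_right (mem_zpowers _))
  have hS : X.S ≤ T := (S_U h hn).trans hU
  have syl : Syl 2 ⊤ T := hT.of_norm_le' p2 le_top fun g ⟨_, hg⟩ =>
    weak_U h hn hT.pi ht hU hT.le
      (weak_D h hn hT.pi ht hU hT.le (conj_mem hg ht) (cj_le_of_mem_N hS hg)) (cj_le_of_mem_N hU hg)
  have odd : Odd T.index := by
    have := Syl.not_dvd p2 syl
    rw [relIndex_top_right] at this
    exact Nat.not_even_iff_odd.1 fun e => this e.two_dvd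
  have perf : commutator G = ⊤ := (Normal.eq_bot_or_eq_top (H := commutator G) inferInstance).resolve_left fun e => by
    have : ⁅X.a 1, X.b 1⁆ ∈ commutator G := commutator_mem_commutator (mem_top _) (mem_top _)
    rw [e, mem_bot, commutatorElement_eq_one_iff_mul_comm, h.ba, left_eq_mul, mul_one] at this
    exact h.toFr.z1 this
  have := GT perf odd (Abelianization.of.comp (H.sg.comp (inclusion hT.le))) ht (tt h)
    (h.toFr.twoS.isPGroup p2) (fun s hs => mem_C1.2 (tL h (h.toFr.S_L hs)).symm.eq) fun g hg hg' => by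
      have a := weak_D h hn hT.pi ht hU hT.le hg hg'
      obtain ⟨c, hc, b⟩ := Sylow_Jsub p2 ((syl.of_le (hT.le.trans H.N_D) le_top).inf_nml (C_nml_N _))
        (U2.cj g) (cj_of_mem_N a ▸ cent_cj H.U_CD g)
      rw [← cj_mul] at b
      have m := weak_U h hn hT.pi ht hU hT.le (mul_mem (C_le_N _ hc) a) (b.trans inf_le_left)
      have e : H.sg ⟨_, hT.le hg⟩ = H.sg (⟨_, m⟩ * ⟨_, tN⟩ * ⟨_, m⟩⁻¹) := H.sg_eq fun v hv => by
        change _ = c * g * X.r 1 * (c * g)⁻¹ * v * (c * g * X.r 1 * (c * g)⁻¹)⁻¹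
        rw [show c * g * X.r 1 * (c * g)⁻¹ * v * (c * g * X.r 1 * (c * g)⁻¹)⁻¹ =
          c * (g * X.r 1 * g⁻¹ * (c⁻¹ * v * c⁻¹⁻¹) * (g * X.r 1 * g⁻¹)⁻¹) * c⁻¹ by group,
          conj_eq_of_mem_C (inv_mem hc) hv, conj_eq_of_mem_C hc (conj_mem (H.N_D (hT.le hg)) hv)]
      change Abelianization.of (H.sg ⟨_, hT.le hg⟩) = Abelianization.of (H.sg ⟨_, tN⟩)
      rw [e, map_mul, map_mul, map_mul, map_mul, map_inv, map_inv, mul_inv_cancel_comm]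
  have e : H.sg ⟨_, tN⟩ = starRingAut := by
    ext1 c
    have : ∀ c, Hs.ff (ZZ X n) (X.r 1) c = star c := fun c => H.ff_eq (k_tZ h n c)
    rw [H.sg_apply, this, this, star_one, one_pow, one_mul]
    rfl
  change Abelianization.of (H.sg ⟨_, tN⟩) = 1 at this
  rw [e] at this
  exact star_not n ((QuotientGroup.eq_one_iff _).1 this)

end H25.SE
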