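import Mathlib
import Cfsg.Agent.H25.Std0

/-!
# `A_{n-4}` is standard in `A_n`
-/

set_option autoImplicit false
set_option linter.unusedSectionVars false

namespace H25.Alt

open Cfsg Subgroup H23 Equiv
open scoped commutatorElement

variable {α : Type*} [Fintype α] [DecidableEq α]

/-- pointwise stabilizer of a finite set in the alternating group. -/
def Fx (t : Finset α) : Subgroup (alternatingGroup α) := (alternatingGroup.ofSubtype tᶜ).range

theorem mem_Fx {t : Finset α} {k : alternatingGroup α} :
    k ∈ Fx t ↔ ∀ x ∈ t, (k : Perm α) x = x := by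
  rw [Fx, alternatingGroup.mem_range_ofSubtype_iff]
  constructor
  · intro h x hx
    by_contra h1
    exact Finset.mem_compl.mp (h (Perm.mem_support.mpr h1)) hx
  · intro h x hx
    exact Finset.mem_compl.mpr fun h1 => Perm.mem_support.mp hx (h x h1)

theorem exists_three {t : Finset α} {y : α} (hy : y ∉ t) (x : α) (h : 4 ≤ tᶜ.card) :
    ∃ k ∈ Fx t, (k : Perm α) y ≠ y ∧ (x ≠ y → (k : Perm α) x = x) := by
  have h1 : 1 < ((tᶜ.erase y).erase x).card := by
    have := Finset.pred_card_le_card_erase (s := tᶜ) (a := y)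
    have := Finset.pred_card_le_card_erase (s := tᶜ.erase y) (a := x)
    omega
  obtain ⟨a, ha, b, hb, hab⟩ := Finset.one_lt_card.mp h1
  simp only [Finset.mem_erase, Finset.mem_compl] at ha hb
  refine ⟨⟨swap y a * swap y b, by simp [Perm.mem_alternatingGroup, Ne.symm ha.2.1,
    Ne.symm hb.2.1]⟩, mem_Fx.mpr fun z hz => ?_, ?_, fun hx => ?_⟩
  · have h2 : z ≠ y := fun e => hy (e ▸ hz)
    have h3 : z ≠ a := fun e => ha.2.2 (e ▸ hz)
    have h4 : z ≠ b := fun e => hb.2.2 (e ▸ hz)
    simp [swap_apply_of_ne_of_ne h2 h3, swap_apply_of_ne_of_ne h2 h4]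
  · simp [swap_apply_of_ne_of_ne hb.2.1 hab.symm, hb.2.1]
  · simp [swap_apply_of_ne_of_ne hx (Ne.symm ha.1), swap_apply_of_ne_of_ne hx (Ne.symm hb.1)]

theorem centralizer_Fx {t : Finset α} (h : 4 ≤ tᶜ.card) :
    centralizer ((Fx t : Subgroup _) : Set (alternatingGroup α)) = Fx tᶜ := by
  ext g
  rw [mem_Fx, mem_centralizer_iff]
  constructor
  · intro hg x hx
    have hx' : x ∉ t := Finset.mem_compl.mp hx
    by_contra hne
    obtain ⟨k, hk, h1, h2⟩ := exists_three hx' ((g : Perm α) x) h
    have h3 := congrArg (fun σ : alternatingGroup α => (σ : Perm α) x) (hg k hk)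
    simp only [coe_mul, Perm.mul_apply] at h3
    rw [h2 hne] at h3
    exact h1 ((g : Perm α).injective h3).symm
  · intro hg k hk
    apply Subtype.ext
    refine Perm.Disjoint.commute fun x => ?_
    by_cases hx : x ∈ t
    · exact Or.inl (mem_Fx.mp hk x hx)
    · exact Or.inr (hg x (Finset.mem_compl.mpr hx))

theorem apply_ne_of_invol {t : Finset α} (ht : t.card = 4) {y : alternatingGroup α}
    (hy : y ∈ Fx tᶜ) (ho : orderOf y = 2) {x : α} (hx : x ∈ t) : (y : Perm α) x ≠ x := by
  have h1 : (y : Perm α).support ⊆ t := fun z hz => by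
    by_contra h
    exact Perm.mem_support.mp hz (mem_Fx.mp hy z (Finset.mem_compl.mpr h))
  have ho' : orderOf (y : Perm α) = 2 := by rw [orderOf_coe, ho]
  have h2 : ¬ (y : Perm α).support.card ≤ 1 := fun h => by
    rw [Perm.card_support_le_one.mp h, orderOf_one] at ho'; omega
  have h3 : (y : Perm α).support.card ≠ 2 := fun h => by
    have h4 := (Perm.card_support_eq_two.mp h).sign_eq
    rw [Perm.mem_alternatingGroup.mp y.2] at h4
    exact absurd h4 (by decide)
  have h4 : (y : Perm α).support.card ≠ 3 := fun h => by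
    rw [(card_support_eq_three_iff.mp h).orderOf] at ho'; omega
  have h5 := Finset.eq_of_subset_of_card_le h1 (by omega)
  exact Perm.mem_support.mp (h5 ▸ hx)

theorem quasisimple_Fx {t : Finset α} (h : 5 ≤ tᶜ.card) : IsQuasisimple (Fx t) := by
  have h1 : 5 ≤ Nat.card (tᶜ : Finset α) := by rwa [Nat.card_eq_fintype_card, Fintype.card_coe]
  have hs := alternatingGroup.isSimpleGroup h1
  refine IsQuasisimple.of_equiv (isQuasisimple_of_simple hs fun hc => ?_)
    (MonoidHom.ofInjective alternatingGroup.ofSubtype_injective)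
  have := alternatingGroup.isMulCommutative_iff_card_le_three.mp hc
  omega

theorem standard_Fx {t : Finset α} (ht : t.card = 4) (h : 5 ≤ tᶜ.card) :
    IsStandardSubgroup (Fx t) := by
  have hC := centralizer_Fx (t := t) (by omega)
  have hq := quasisimple_Fx h
  have hne : ∀ y : alternatingGroup α, orderOf y = 2 →
      y ∈ centralizer ((Fx t : Subgroup _) : Set (alternatingGroup α)) →
      IsCompOf (Fx t) (centralizer {y}) := by
    intro y ho hy
    have hle : Fx t ≤ centralizer {y} := fun k hk => mem_centralizer_singleton_iff.mpr (hy k hk)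
    rw [hC] at hy
    refine ⟨hle, isSubnormal_subgroupOf_of_le_normalizer fun g hg =>
      H13.mem_normalizer_of_finite' fun k hk => mem_Fx.mpr fun x hx => ?_,
      (isQuasisimple_subgroupOf_iff hle).mpr hq⟩
    have h1 : (g : Perm α) x ∈ t := by
      by_contra h1
      have h2 := mem_Fx.mp hy _ (Finset.mem_compl.mpr h1)
      have h3 := congrArg (fun σ : alternatingGroup α => (σ : Perm α) x)
        (mem_centralizer_singleton_iff.mp hg)
      simp only [coe_mul, Perm.mul_apply] at h3
      rw [h2] at h3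
      exact apply_ne_of_invol ht hy ho hx ((g : Perm α).injective h3)
    simp only [coe_mul, Perm.mul_apply, coe_inv]
    rw [mem_Fx.mp hk _ h1]
    simp
  obtain ⟨x, hx, ho⟩ := H25.LB.exists_invol_of_not_odd (H := Fx tᶜ) (by
    have h1 : Nat.card (tᶜᶜ : Finset α) = 4 := by
      rw [Nat.card_eq_fintype_card, Fintype.card_coe, compl_compl, ht]
    haveI : Nontrivial (tᶜᶜ : Finset α) := Finite.one_lt_card_iff_nontrivial.mp (by omega)
    rw [Fx, ← Nat.card_congr (MonoidHom.ofInjective alternatingGroup.ofSubtype_injective).toEquiv,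
      nat_card_alternatingGroup, h1]
    decide)
  refine H25.LB.standard_of_nonembedded ho (hne x ho (hC ▸ hx)) hne fun g _ hc => ?_
  have h1 := le_centralizer_of_comm_bot (comm_bot_symm hc)
  rw [hC] at h1
  obtain ⟨y, hy1, hy2⟩ : ∃ y, y ∉ t ∧ (g : Perm α) y ∉ t := by
    by_contra h2
    push Not at h2
    have := Finset.card_le_card_of_injOn (s := tᶜ) (t := t) (g : Perm α)
      (fun y hy => h2 y (Finset.mem_compl.mp hy)) (g : Perm α).injective.injOn
    omega
  obtain ⟨k, hk, h2, -⟩ := exists_three hy1 y (by omega)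
  have h3 := mem_Fx.mp (h1 ⟨k, hk, rfl⟩) _ (Finset.mem_compl.mpr hy2)
  simp at h3
  exact h2 h3

end H25.Alt
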