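import Mathlib
import Cfsg.Agent.H24.Base5
import Cfsg.Agent.H25.Rank3

/-!
# Bridges from the relative vocabulary to the form of the listed statements
-/

set_option autoImplicit false
set_option linter.unusedSectionVars false

open Subgroup H24 Cfsg H25

namespace H25

universe u

variable {G : Type u} [Group G] [Finite G]
variable {π : Set ℕ} {H K M P X : Subgroup G} {p : ℕ}

theorem hasNPC_of_ncompl (hp : p.Prime) (h : NCompl {p} H) : HasNormalPComplement p H := by
  have := Fact.mk hp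
  obtain ⟨S⟩ : Nonempty (Sylow p H) := inferInstance
  have hsd := (ncompl_iff (syl_of_sylow hp S)).1 h
  refine ⟨S, O[{p}ᶜ, H].subgroupOf H, (pcore_nml _ H).normal, ?_⟩
  refine isComplement'_of_disjoint_and_mul_eq_univ ?_ ?_
  · rw [disjoint_iff, eq_bot_iff]
    rintro x ⟨h1, h2⟩
    have : (x : G) ∈ O[{p}ᶜ, H] ⊓ (S : Subgroup H).map H.subtype := ⟨h1, ⟨x, h2, rfl⟩⟩
    rw [hsd.inf] at this
    exact Subtype.ext this
  · refine Set.eq_univ_of_forall fun x => ?_
    obtain ⟨a, ha, _, ⟨b, hb, rfl⟩, e⟩ := hsd.isProd.mul x x.2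
    exact ⟨⟨a, pcore_le _ _ ha⟩, ha, b, hb, Subtype.ext e.symm⟩

/-- `M / L` is the relative quotient. -/
noncomputable def quoEquivSub (L : Subgroup M) [hL : L.Normal] :
    (M ⧸ L) ≃* quo M (L.map M.subtype) :=
  have := (nml_map_subtype L).normal
  (QuotientGroup.quotientMulEquivOfEq (subgroupOf_map_subtype' L).symm).trans
    (quoEquivQuotient (nml_map_subtype L).norm)

theorem rankLE_quotient (L : Subgroup M) [L.Normal] {k : ℕ}
    (h : rank (quo M (L.map M.subtype)) ≤ k) : RankLE k (M ⧸ L) := by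
  rw [← rank_top_le_iff, rank_equiv (topEquiv.trans (quoEquivSub L))]; exact h

theorem nil_commutator_congr {A B : Type*} [Group A] [Group B] (e : A ≃* B)
    (h : Group.IsNilpotent (_root_.commutator B)) : Group.IsNilpotent (_root_.commutator A) := by
  have : (_root_.commutator A).map e.toMonoidHom = _root_.commutator B := by
    rw [_root_.commutator, _root_.commutator, map_commutator, ← MonoidHom.range_eq_map,
      MonoidHom.range_eq_top.2 e.surjective]
  exact (nil_map_iff (f := e.toMonoidHom) e.injective).1 (this ▸ h)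

theorem nil_map_commutator (L : Subgroup M) [L.Normal]
    (h : Nil (quo ⁅M, M⁆ (L.map M.subtype))) :
    Group.IsNilpotent ((_root_.commutator M).map (QuotientGroup.mk' L)) := by
  have e : (_root_.commutator M).map (QuotientGroup.mk' L) = _root_.commutator (M ⧸ L) := by
    rw [_root_.commutator, _root_.commutator, map_commutator, ← MonoidHom.range_eq_map,
      MonoidHom.range_eq_top.2 (QuotientGroup.mk'_surjective L)]
  rw [e]
  refine nil_commutator_congr (quoEquivSub L) ?_
  rw [quo_comm (nml_map_subtype L).norm (nml_map_subtype L).norm, der1_eq_map] at h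
  exact (nil_map_iff (subtype_injective _)).1 h

theorem index_pPrimeCore (hp : p.Prime) (M : Subgroup G) :
    (pPrimeCore p M).index = O[{p}ᶜ, M].relIndex M := by
  rw [pcore_compl_singleton hp, relIndex, subgroupOf_map_subtype']

omit [Finite G] in
theorem hall_setOf_of_compl (h : Hall πᶜ M H) : IsPiHallOf {q | q.Prime ∧ q ∉ π} H M :=
  h.congr fun _ hp _ => ⟨fun h => ⟨hp, h⟩, fun h => h.2⟩

omit [Finite G] in
theorem hall_compl_of_setOf (h : IsPiHallOf {q | q.Prime ∧ q ∉ π} H M) : Hall πᶜ M H :=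
  Hall.congr h fun _ hp _ => ⟨fun h => h.2, fun h => ⟨hp, h⟩⟩

theorem pcore_setOf (π : Set ℕ) (M : Subgroup G) :
    piCoreOf {q | q.Prime ∧ q ∉ π} M = O[πᶜ, M] :=
  pcore_congr fun _ hp _ => ⟨fun h => h.2, fun h => ⟨hp, h⟩⟩

omit [Finite G] in
theorem uniqMax_iff (hM : IsCoatom M) :
    UniqMax X M ↔ X ≤ M ∧ ∀ L : Subgroup G, IsCoatom L → X ≤ L → L = M :=
  ⟨fun h => ⟨h.le, h.uniq⟩, fun h => ⟨hM, h.1, h.2⟩⟩

omit [Finite G] in
theorem exponent_eq_prime (hp : p.Prime) (h1 : H ≠ ⊥) (h : ∀ x ∈ H, x ^ p = 1) :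
    Monoid.exponent H = p := by
  have : Nontrivial H := (nontrivial_iff_ne_bot H).2 h1
  refine (Monoid.exponent_eq_prime_iff hp).2 fun g hg => ?_
  exact orderOf_eq_prime (hp := ⟨hp⟩) (Subtype.ext (h g g.2)) hg

omit [Finite G] in
theorem map_map_center (S : Subgroup M) :
    ((center S).map S.subtype).map M.subtype = Z[S.map M.subtype] := by
  ext x
  constructor
  · rintro ⟨_, ⟨y, hy, rfl⟩, rfl⟩
    refine ⟨⟨y, y.2, rfl⟩, mem_C.2 ?_⟩
    rintro _ ⟨z, hz, rfl⟩
    exact congrArg (fun t : S => ((t : M) : G)) (mem_center_iff.1 hy ⟨z, hz⟩)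
  · rintro ⟨⟨y, hy, rfl⟩, hc⟩
    refine ⟨y, ⟨⟨y, hy⟩, mem_center_iff.2 fun z => ?_, rfl⟩, rfl⟩
    exact Subtype.ext (Subtype.ext (mem_C.1 hc _ ⟨z, z.2, rfl⟩))

end H25
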