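import Mathlib
import Cfsg.Agent.H4.Misc
import Cfsg.Agent.H5.Misc
import Cfsg.Agent.H24.Base5

/-! # A degree bound for characters not containing an abelian `TI`-like subgroup in the kernel -/

set_option autoImplicit false
set_option linter.unusedSectionVars false

open Cfsg H4 H5 Subgroup
open scoped ComplexConjugate

namespace H25.Leon

variable {G : Type*} [Group G] [Fintype G]

theorem exists_split (H : Subgroup G) [H.Normal] [Fintype H] {θ : G → ℂ} (hθ : IsCharacter G θ) :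
    ∃ α β : G → ℂ, IsCharacter G α ∧ IsCharacter G β ∧ θ = α + β ∧ H ≤ charKer α ∧
      (∀ y, ∑ h : H, β (h * y) = 0) ∧ ∀ y, (∀ h ∈ H, h * y = y * h → h = 1) → β y = 0 := by
  refine hθ.induction (P := fun θ => ∃ α β : G → ℂ, IsCharacter G α ∧ IsCharacter G β ∧
    θ = α + β ∧ H ≤ charKer α ∧ (∀ y, ∑ h : H, β (h * y) = 0) ∧
    ∀ y, (∀ h ∈ H, h * y = y * h → h = 1) → β y = 0) ?_ (fun ψ hψ => ?_) ?_
  · exact ⟨0, 0, isCharacter_zero, isCharacter_zero, by simp, fun _ _ _ => rfl, by simp, by simp⟩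
  · by_cases h : H ≤ charKer ψ
    · exact ⟨ψ, 0, hψ.isCharacter, isCharacter_zero, by simp, h, by simp, by simp⟩
    · refine ⟨0, ψ, isCharacter_zero, hψ.isCharacter, by simp, fun _ _ _ => rfl,
        sum_normal_mul_eq_zero H hψ h, fun y hy => hψ.eq_zero_of_fpf H ?_ hy⟩
      by_contra h1
      push Not at h1
      exact h ((le_charKer_iff hψ.isCharacter).2 h1)
  · rintro φ ψ - - ⟨a, b, ha, hb, rfl, h1, h2, h3⟩ ⟨c, d, hc, hd, rfl, h4, h5, h6⟩
    refine ⟨a + c, b + d, ha.add hc, hb.add hd, by abel, fun h hh x => ?_, fun y => ?_,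
      fun y hy => ?_⟩
    · simp only [Pi.add_apply, h1 hh x, h4 hh x]
    · simp only [Pi.add_apply, Finset.sum_add_distrib, h2, h5, add_zero]
    · simp only [Pi.add_apply, h3 y hy, h6 y hy, add_zero]

theorem lower (H Z : Subgroup G) [H.Normal] [Fintype H] {θ : G → ℂ} (hθ : IsCharacter G θ)
    (hk : ∃ h ∈ H, θ h ≠ θ 1) (hHZ : H ⊓ Z = ⊥)
    (hZ : ∀ z ∈ Z, ∃ c : ℂ, ‖c‖ = 1 ∧ ∀ x, θ (x * z) = c * θ x) (S : Set G) [DecidablePred (· ∈ S)]
    (hS : ∀ y, y ∉ S → ∀ h ∈ H, h * y = y * h → h = 1) (hHS : ∀ h ∈ H, ∀ z ∈ Z, h * z ∈ S) :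
    (Nat.card G : ℝ) + Nat.card H * Nat.card Z *
      (classInner (fun h : H => θ h) (fun _ => 1)).re ^ 2 ≤
      ∑ y ∈ Finset.univ.filter (· ∈ S), ‖θ y‖ ^ 2 := by
  classical
  obtain ⟨α, β, hα, hβ, rfl, h1, h2, h3⟩ := exists_split H hθ
  have hH := card_ne_zero H
  have havg : ∀ y, ∑ h : H, (α + β) (h * y) = Nat.card H * α y := fun y => by
    simp only [Pi.add_apply, Finset.sum_add_distrib, h2, add_zero]
    exact sum_mul_of_le_charKer H h1 y
  have hc : classInner (fun h : H => (α + β) h) (fun _ => 1) = α 1 := by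
    have := havg 1
    simp only [mul_one] at this
    simp only [classInner, map_one, mul_one, this, ← mul_assoc, inv_mul_cancel₀ hH, one_mul]
  have horth : ∑ y, α y * conj (β y) = 0 := by
    refine mul_left_cancel₀ hH ?_
    calc (Nat.card H : ℂ) * ∑ y, α y * conj (β y)
        = ∑ h : H, ∑ y, α (h * y) * conj (β (h * y)) := by
          rw [Finset.sum_congr rfl fun (h : H) _ => Fintype.sum_equiv (Equiv.mulLeft (h : G))
            (fun y => α (h * y) * conj (β (h * y))) (fun y => α y * conj (β y)) fun _ => rfl]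
          simp
      _ = ∑ y, α y * conj (∑ h : H, β (h * y)) := by
          rw [Finset.sum_comm]
          refine Finset.sum_congr rfl fun y _ => ?_
          rw [map_sum, Finset.mul_sum]
          exact Finset.sum_congr rfl fun h _ => by rw [h1 h.2 y]
      _ = _ := by simp [h2]
  have hβ0 : β ≠ 0 := by
    rintro rfl
    obtain ⟨h, hh, hne⟩ := hk
    exact hne (by simpa using apply_of_mem_charKer (h1 hh))
  have hβ1 : (Nat.card G : ℝ) ≤ ∑ y, ‖β y‖ ^ 2 := by
    obtain ⟨n, hn⟩ := hβ.inner_nat hβ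
    have hn0 : n ≠ 0 := fun h => hβ0 (classInner_self_eq_zero.1 (by rw [hn, h, Nat.cast_zero]))
    have h4 := classInner_self_re β
    rw [hn, Complex.natCast_re] at h4
    have h5 : (0 : ℝ) < Nat.card G := by exact_mod_cast Nat.card_pos
    have h6 : (1 : ℝ) ≤ n := by exact_mod_cast Nat.pos_of_ne_zero hn0
    rw [h4, le_inv_mul_iff₀ h5, mul_one] at h6
    exact h6
  have hsum : ∑ y ∈ Finset.univ.filter (· ∈ S), ‖(α + β) y‖ ^ 2 =
      ∑ y ∈ Finset.univ.filter (· ∈ S), ‖α y‖ ^ 2 + ∑ y, ‖β y‖ ^ 2 := by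
    have e : ∀ y, ‖(α + β) y‖ ^ 2 = ‖α y‖ ^ 2 + (‖β y‖ ^ 2 + 2 * (α y * conj (β y)).re) :=
      fun y => by
        simp only [Pi.add_apply, ← Complex.normSq_eq_norm_sq, Complex.normSq_add]; ring
    rw [Finset.sum_congr rfl fun y _ => e y, Finset.sum_add_distrib, add_right_inj,
      Finset.sum_filter_of_ne, Finset.sum_add_distrib, ← Finset.mul_sum, ← Complex.re_sum, horth]
    · simp
    · intro y _ hy
      by_contra h
      exact hy (by simp [h3 y (hS y h)])
  obtain ⟨d, hd⟩ := hα.exists_nat_apply_one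
  have hα1 : ∀ y ∈ H ⊔ Z, y ∈ S ∧ ‖α y‖ ^ 2 = (d : ℝ) ^ 2 := fun y hy => by
    obtain ⟨h, hh, z, hz, rfl⟩ := (H24.mem_sup_of_norm (H24.norm_of_normal Z H)).1 hy
    refine ⟨hHS h hh z hz, ?_⟩
    obtain ⟨c, hc1, hc2⟩ := hZ z hz
    have e1 := havg z
    rw [Finset.sum_congr rfl fun (k : H) _ => hc2 k, ← Finset.mul_sum] at e1
    have e2 := havg 1
    simp only [mul_one] at e2
    rw [e2, mul_left_comm] at e1
    rw [h1 hh z, ← mul_left_cancel₀ hH e1, norm_mul, hc1, one_mul, hd, Complex.norm_natCast]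
  have hα2 : (Nat.card H : ℝ) * Nat.card Z * d ^ 2 ≤
      ∑ y ∈ Finset.univ.filter (· ∈ S), ‖α y‖ ^ 2 := by
    calc (Nat.card H : ℝ) * Nat.card Z * d ^ 2
        = ∑ y ∈ Finset.univ.filter (· ∈ H ⊔ Z), ‖α y‖ ^ 2 := by
          rw [Finset.sum_congr rfl fun y hy => (hα1 y (Finset.mem_filter.1 hy).2).2,
            Finset.sum_const, nsmul_eq_mul, ← Nat.cast_mul,
            ← H24.card_sup_of_inf (H24.norm_of_normal Z H) hHZ, Nat.card_eq_fintype_card,
            Fintype.card_subtype]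
      _ ≤ _ := Finset.sum_le_sum_of_subset_of_nonneg (fun y hy => Finset.mem_filter.2
          ⟨Finset.mem_univ _, (hα1 y (Finset.mem_filter.1 hy).2).1⟩) fun _ _ _ => by positivity
  rw [hc, hsum, hd, Complex.natCast_re]
  linarith

theorem upper (N : Subgroup G) [Fintype N] (X : Set G) [DecidablePred (fun y : N => (y : G) ∈ X)]
    (h1 : (1 : G) ∉ X) (hXN : ∀ x ∈ X, x ∈ N)
    (hN : ∀ g ∈ N, ∀ x ∈ X, g * x * g⁻¹ ∈ X) (hTI : ∀ g, ∀ x ∈ X, g * x * g⁻¹ ∈ X → g ∈ N)
    {χ : G → ℂ} (hχ : IsIrrCharacter G χ) :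
    ∑ y ∈ Finset.univ.filter (fun y : N => (y : G) ∈ X), ‖χ y‖ ^ 2 < Nat.card N := by
  let ι : N → ℂ := fun y => if (y : G) ∈ X then 1 else 0
  have hι : IsClassFunction N ι := fun a b => by
    refine if_congr ⟨fun h => ?_, fun h => hN _ b.2 _ h⟩ rfl rfl
    simpa [mul_assoc] using hN _ (inv_mem b.2) _ h
  have hF : IsClassFunction G (fun g => ((‖χ g‖ ^ 2 : ℝ) : ℂ)) :=
    hχ.classFun.map (fun z => ((‖z‖ ^ 2 : ℝ) : ℂ))
  have e := H4.sum_indFun_mul N ι hF
  have hval : ∀ g, indFun N ι g = 0 ∨ (indFun N ι g = 1 ∧ g ≠ 1) := fun g => by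
    by_cases h : ∃ x ∈ X, IsConj g x
    · obtain ⟨x, hx, hc⟩ := h
      have hx1 : x ≠ 1 := fun h => h1 (h ▸ hx)
      refine Or.inr ⟨?_, fun h => hx1 (by rw [h] at hc; exact isConj_one_right.1 hc)⟩
      rw [(indFun_classFun N ι).apply_of_isConj hc, show x = ((⟨x, hXN x hx⟩ : N) : G) from rfl,
        indFun_apply_of_TI N X (fun g hg t ht h => (hg (hTI g t ht h)).elim) hι
        (fun y hy => if_neg hy) _ hx fun h => hx1 (congrArg Subtype.val h)]
      exact if_pos hx
    · exact Or.inl (indFun_eq_zero N ι fun x hx => if_neg fun h' => h ⟨x, h', hx⟩)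
  have e2 : (∑ g, indFun N ι g * ((‖χ g‖ ^ 2 : ℝ) : ℂ)).re < ∑ g, ‖χ g‖ ^ 2 := by
    rw [Complex.re_sum]
    refine Finset.sum_lt_sum (fun g _ => ?_) ⟨1, Finset.mem_univ _, ?_⟩
    · rcases hval g with h | h
      · rw [h, zero_mul, Complex.zero_re]; positivity
      · rw [h.1, one_mul, Complex.ofReal_re]
    · rw [(hval 1).resolve_right fun h => h.2 rfl, zero_mul, Complex.zero_re]
      exact pow_pos (norm_pos_iff.2 hχ.apply_one_ne_zero) 2
  have e3 : ∑ g, ‖χ g‖ ^ 2 = Nat.card G := by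
    have h4 := classInner_self_re χ
    have h5 : (Nat.card G : ℝ) ≠ 0 := by exact_mod_cast Nat.card_pos.ne'
    rw [hχ.inner_self, Complex.one_re, eq_inv_mul_iff_mul_eq₀ h5, mul_one] at h4
    exact h4.symm
  have e4 : ∑ h : N, ι h * ((‖χ h‖ ^ 2 : ℝ) : ℂ) =
      ((∑ y ∈ Finset.univ.filter (fun y : N => (y : G) ∈ X), ‖χ y‖ ^ 2 : ℝ) : ℂ) := by
    rw [Finset.sum_filter, Complex.ofReal_sum]
    refine Finset.sum_congr rfl fun y _ => ?_
    simp only [ι]
    split_ifs <;> simp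
  rw [e, e4, e3, ← Complex.ofReal_natCast, ← Complex.ofReal_mul, Complex.ofReal_re,
    ← N.index_mul_card, Nat.cast_mul] at e2
  exact lt_of_mul_lt_mul_left e2 (Nat.cast_nonneg _)

theorem part_a (H : Subgroup G) [Fintype H] (hZ : H ⊓ center G = ⊥)
    (hone : ∀ g : G, g ∉ center G → ∀ a b : G,
      centralizer ({g} : Set G) ⊓ H.map (MulAut.conj a).toMonoidHom ≠ ⊥ →
      centralizer ({g} : Set G) ⊓ H.map (MulAut.conj b).toMonoidHom ≠ ⊥ →
      H.map (MulAut.conj a).toMonoidHom = H.map (MulAut.conj b).toMonoidHom)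
    {χ : G → ℂ} (hχ : IsIrrCharacter G χ) (hker : ∃ h ∈ H, χ h ≠ χ 1) :
    (Nat.card H : ℝ) * (classInner (fun h : H => χ h) (fun _ => 1)).re ^ 2 < (χ 1).re ^ 2 := by
  classical
  set N := normalizer (H : Set G) with hN
  have hHN : H ≤ N := le_normalizer
  have hZN : center G ≤ N := center_le_normalizer _
  let X : Set G := {y | y ∉ center G ∧ ∃ h ∈ H, h ≠ 1 ∧ h * y = y * h}
  have hTI : ∀ g, ∀ x ∈ X, g * x * g⁻¹ ∈ X → g ∈ N := by
    rintro g x ⟨-, h, hh, h1, e⟩ ⟨hx, k, hk, k1, e'⟩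
    refine H24.mem_N_iff_cj.2 ((hone _ hx g 1 (H24.ne_bot_of_mem (x := g * h * g⁻¹)
      ⟨H24.mem_C1.2 ?_, H24.conj_mem_cj g hh⟩ (by simpa using h1))
      (H24.ne_bot_of_mem (x := k) ⟨H24.mem_C1.2 e', ?_⟩ k1)).trans (H24.cj_one H))
    · calc g * h * g⁻¹ * (g * x * g⁻¹) = g * (h * x) * g⁻¹ := by group
        _ = _ := by rw [e]; group
    · change k ∈ H24.cj 1 H
      rwa [H24.cj_one]
  have hNX : ∀ g ∈ N, ∀ x ∈ X, g * x * g⁻¹ ∈ X := by
    rintro g hg x ⟨hx, h, hh, h1, e⟩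
    refine ⟨fun hc => hx ?_, g * h * g⁻¹, H24.conj_mem hg hh, by simpa using h1, ?_⟩
    · simpa [mul_assoc] using (inferInstance : (center G).Normal).conj_mem _ hc g⁻¹
    · calc g * h * g⁻¹ * (g * x * g⁻¹) = g * (h * x) * g⁻¹ := by group
        _ = _ := by rw [e]; group
  have hup := upper N X (fun h => h.1 (one_mem _)) (fun x hx => hTI x x hx (by simpa using hx))
    hNX hTI hχ
  haveI : (H.subgroupOf N).Normal := (H24.nml_N H).normal
  obtain ⟨d, hd0, hd⟩ := hχ.exists_nat_apply_one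
  have hcen : ∀ z ∈ center G, ‖χ z‖ = d := fun z hz => by
    rw [hχ.norm_eq_of_mem_center hz, hd, Complex.natCast_re]
  have hlo := lower (H.subgroupOf N) ((center G).subgroupOf N) (hχ.isCharacter.restrict N)
    (by obtain ⟨h, hh, e⟩ := hker; exact ⟨⟨h, hHN hh⟩, hh, e⟩)
    (eq_bot_iff.2 fun x hx => Subtype.ext (mem_bot.1 (hZ ▸ mem_inf.2 ⟨hx.1, hx.2⟩)))
    (fun z hz => by
      rw [mem_subgroupOf] at hz
      have hd1 : (d : ℂ) ≠ 0 := by exact_mod_cast hd0.ne'
      refine ⟨χ z / d, ?_, fun x => ?_⟩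
      · rw [norm_div, hcen _ hz, Complex.norm_natCast, div_self (by exact_mod_cast hd0.ne')]
      · have := apply_mul_of_mem_charCenter (center_le_charCenter hχ hz) x
        rw [hd] at this
        rw [Subgroup.coe_mul, hχ.classFun.mul_comm, div_mul_eq_mul_div, ← this,
          mul_div_cancel_left₀ _ hd1])
    {y | (y : G) ∈ X ∨ (y : G) ∈ center G}
    (fun y hy h hh e => by
      by_contra h1
      exact hy (by
        by_cases hc : (y : G) ∈ center G
        · exact Or.inr hc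
        · exact Or.inl ⟨hc, h, hh, fun h2 => h1 (Subtype.ext h2), congrArg Subtype.val e⟩))
    (fun h hh z hz => by
      rw [mem_subgroupOf] at hz
      by_cases hc : ((h * z : N) : G) ∈ center G
      · exact Or.inr hc
      · refine Or.inl ⟨hc, h, hh, fun h1 => hc (by rw [Subgroup.coe_mul, h1, one_mul]; exact hz), ?_⟩
        rw [Subgroup.coe_mul, mul_assoc, ← mem_center_iff.1 hz])
  have hsplit : ∑ y ∈ Finset.univ.filter (· ∈ {y : N | (y : G) ∈ X ∨ (y : G) ∈ center G}),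
      ‖χ y‖ ^ 2 = ∑ y ∈ Finset.univ.filter (fun y : N => (y : G) ∈ X), ‖χ y‖ ^ 2 +
      Nat.card (center G) * d ^ 2 := by
    simp only [Set.mem_ofPred_eq]
    rw [Finset.filter_or, Finset.sum_union (Finset.disjoint_filter.2 fun y _ h1 h2 => h1.1 h2),
      add_right_inj, Finset.sum_congr rfl fun y hy => by rw [hcen _ (Finset.mem_filter.1 hy).2],
      Finset.sum_const, nsmul_eq_mul, ← H24.card_subgroupOf_of_le hZN, Nat.card_eq_fintype_card,
      Fintype.card_subtype]
    simp only [mem_subgroupOf]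
  have e1 := classInner_subgroupOf hHN (fun h : H => χ h) (fun _ => 1)
  rw [H24.card_subgroupOf_of_le hHN, H24.card_subgroupOf_of_le hZN] at hlo
  erw [e1, hsplit] at hlo
  rw [hd, Complex.natCast_re]
  have h5 : (0 : ℝ) < Nat.card (center G) := by exact_mod_cast Nat.card_pos
  refine lt_of_mul_lt_mul_left ?_ h5.le
  nlinarith

theorem deg_le_inner (hab : ∀ a b : G, a * b = b * a) {θ : G → ℂ} (hθ : IsCharacter G θ) :
    (θ 1).re ≤ (classInner θ θ).re := by
  refine hθ.induction (P := fun θ => (θ 1).re ≤ (classInner θ θ).re) ?_ (fun ψ hψ => ?_) ?_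
  · simp [classInner_zero_left]
  · rw [hψ.inner_self, hψ.apply_one_of_comm hab]
  · intro φ ψ hφ hψ h1 h2
    have h3 := inner_re_nonneg hφ hψ
    have h4 := inner_re_nonneg hψ hφ
    simp only [classInner_add_left, classInner_add_right, Pi.add_apply, Complex.add_re]
    linarith

theorem part_b (H : Subgroup G) [Fintype H] (hab : ∀ a ∈ H, ∀ b ∈ H, a * b = b * a)
    (hZ : H ⊓ center G = ⊥)
    (hone : ∀ g : G, g ∉ center G → ∀ a b : G,
      centralizer ({g} : Set G) ⊓ H.map (MulAut.conj a).toMonoidHom ≠ ⊥ →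
      centralizer ({g} : Set G) ⊓ H.map (MulAut.conj b).toMonoidHom ≠ ⊥ →
      H.map (MulAut.conj a).toMonoidHom = H.map (MulAut.conj b).toMonoidHom)
    {χ : G → ℂ} (hχ : IsIrrCharacter G χ) (h1 : χ 1 ≠ 1)
    (hM : ∀ M : Subgroup G, M.Normal → H ≤ M → M = ⊤) :
    (Nat.card H : ℝ) < (1 + (χ 1).re) ^ 2 := by
  have key : ∀ η, IsCharacter G η → classInner η (fun _ => 1) = 0 → η = 0 ∨
      √(Nat.card H) * (classInner (fun h : H => η h) (fun _ => 1)).re < (η 1).re := by
    intro η hη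
    refine hη.induction (P := fun η : G → ℂ => classInner η (fun _ => 1) = 0 → η = 0 ∨
      √(Nat.card H) * (classInner (fun h : H => η h) (fun _ => 1)).re < (η 1).re)
      (fun _ => Or.inl rfl) (fun ψ hψ h0 => Or.inr ?_) ?_
    · have h2 := part_a H hZ hone hψ (by
        by_contra h
        push Not at h
        have h3 := hM _ (charKer_normal hψ.classFun) ((le_charKer_iff hψ.isCharacter).2 h)
        have h4 := hψ.eq_one_of_forall_apply_eq fun g => apply_of_mem_charKer (h3 ▸ mem_top g)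
        rw [h4, classInner_one_one] at h0
        exact one_ne_zero h0)
      refine lt_of_pow_lt_pow_left₀ 2 hψ.isCharacter.apply_one_re_nonneg ?_
      rwa [mul_pow, Real.sq_sqrt (Nat.cast_nonneg _)]
    · intro φ ψ hφ hψ h2 h3 h0
      obtain ⟨h4, h5⟩ := inner_add_eq_zero_left hφ hψ isCharacter_one h0
      rcases h2 h4 with rfl | h6
      · simpa using h3 h5
      rcases h3 h5 with rfl | h7
      · simpa using Or.inr h6
      right
      change _ * (classInner ((fun h : H => φ h) + fun h : H => ψ h) _).re < _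
      rw [classInner_add_left, Pi.add_apply, Complex.add_re, Complex.add_re]
      linarith
  obtain ⟨d, hd0, hd⟩ := hχ.exists_nat_apply_one
  have hd1 : (1 : ℝ) < d := by
    have : d ≠ 1 := fun h => h1 (by rw [hd, h, Nat.cast_one])
    exact_mod_cast (by omega : 1 < d)
  have hθ := hχ.isCharacter.mul hχ.isCharacter.conj
  have hθ1 : classInner (χ * fun g => conj (χ g)) (fun _ => 1) = 1 := by
    refine Eq.trans ?_ hχ.inner_self
    simp [classInner]
  have hη := hθ.sub_irr isIrrCharacter_one (by rw [hθ1]; exact one_ne_zero)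
  have e1 : (((χ * fun g => conj (χ g)) - fun _ => 1 : G → ℂ) 1).re = d ^ 2 - 1 := by
    simp [hd, sq]
  have e2 : classInner (fun h : H => ((χ * fun g => conj (χ g)) - fun _ => 1 : G → ℂ) h)
      (fun _ => 1) = classInner (fun h : H => χ h) (fun h : H => χ h) - 1 := by
    rw [show (fun h : H => ((χ * fun g => conj (χ g)) - fun _ => 1 : G → ℂ) h) =
      (fun h : H => χ h * conj (χ h)) - fun _ => 1 from rfl, classInner_sub_left,
      classInner_one_one]
    simp [classInner]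
  have e3 := deg_le_inner (G := H) (fun a b => Subtype.ext (hab _ a.2 _ b.2))
    (hχ.isCharacter.restrict H)
  rw [OneMemClass.coe_one, hd, Complex.natCast_re] at e3
  rw [hd, Complex.natCast_re]
  rcases key _ hη (by rw [classInner_sub_left, hθ1, classInner_one_one, sub_self]) with h | h
  · rw [h] at e1
    simp only [Pi.zero_apply, Complex.zero_re] at e1
    nlinarith
  · rw [e1, e2, Complex.sub_re, Complex.one_re] at h
    have h2 : √(Nat.card H) * (d - 1) < (1 + d) * (d - 1) := by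
      nlinarith [Real.sqrt_nonneg (Nat.card H : ℝ)]
    have h3 := lt_of_mul_lt_mul_right h2 (by linarith)
    rw [← Real.sq_sqrt (Nat.cast_nonneg (Nat.card H))]
    exact pow_lt_pow_left₀ h3 (Real.sqrt_nonneg _) two_ne_zero

end H25.Leon
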