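import Mathlib
import Cfsg.Agent.H25.Leon
import Cfsg.Agent.H5.Clifford
import Cfsg.Agent.H26.Coprime
import Cfsg.Agent.H22.SuzII1

/-! # Normal Sylow subgroups of linear groups of small degree -/

set_option autoImplicit false
set_option linter.unusedSectionVars false

open Cfsg H4 H24 H26 Subgroup
open H5 hiding cj
open scoped ComplexConjugate commutatorElement

namespace H25.Feit

universe u

variable {G : Type u} [Group G] [Fintype G] {p n : ℕ}

theorem ramified {θ : G → ℂ} (hθ : IsIrrCharacter G θ) {d : ℕ} (hd : θ 1 = d)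
    (h : ∀ x y : G, ⁅x, y⁆ ∈ charCenter θ) : Nat.card G = ♯(charCenter θ) * d ^ 2 := by
  classical
  have hG : (Nat.card G : ℝ) ≠ 0 := by exact_mod_cast Nat.card_pos.ne'
  have hd0 : (d : ℂ) ≠ 0 := hd ▸ hθ.apply_one_ne_zero
  have h0 : ∀ g, g ∉ charCenter θ → θ g = 0 := fun g hg => by
    by_contra h1
    apply hg
    have h2 : ∀ x, θ (x * g * x⁻¹ * g⁻¹) = d := fun x => by
      have := apply_mul_of_mem_charCenter (h x g) g
      rw [commutatorElement_def, inv_mul_cancel_right, hθ.classFun, hd] at this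
      exact (mul_right_cancel₀ h1 this).symm
    have h3 := hθ.sum_conj_mul g g⁻¹
    rw [Finset.sum_congr rfl fun x _ => h2 x, Finset.sum_const, Finset.card_univ,
      ← Nat.card_eq_fintype_card, nsmul_eq_mul, hθ.apply_inv, hd, eq_div_iff hd0, mul_assoc,
      mul_assoc, Complex.mul_conj, Complex.normSq_eq_norm_sq] at h3
    have h4 := mul_left_cancel₀ (H4.card_ne_zero G) h3
    rw [mem_charCenter_iff hθ.isCharacter, hd, Complex.natCast_re]
    refine (pow_left_inj₀ (norm_nonneg _) (Nat.cast_nonneg _) two_ne_zero).1 ?_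
    rw [← sq] at h4
    exact_mod_cast h4.symm
  have h4 := classInner_self_re θ
  rw [hθ.inner_self, Complex.one_re, eq_inv_mul_iff_mul_eq₀ hG, mul_one,
    ← Finset.sum_filter_of_ne (p := (· ∈ charCenter θ)) (fun g _ hg => by
      by_contra h; exact hg (by simp [h0 g h])),
    Finset.sum_congr rfl (g := fun _ => (d : ℝ) ^ 2) fun g hg => by
      rw [(mem_charCenter_iff hθ.isCharacter).1 (Finset.mem_filter.1 hg).2, hd, Complex.natCast_re],
    Finset.sum_const, nsmul_eq_mul, ← Fintype.card_subtype, ← Nat.card_eq_fintype_card] at h4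
  exact_mod_cast h4

theorem exists_con {χ : G → ℂ} (hχ : IsCharacter G χ) (hf : charKer χ = ⊥) (hn : χ 1 = n)
    {R : Subgroup G} (hR : R ≠ ⊥) :
    ∃ ψ, IsIrrCharacter G ψ ∧ ¬ R ≤ charKer ψ ∧ ∃ d : ℕ, 0 < d ∧ d ≤ n ∧ ψ 1 = d := by
  by_contra h
  push Not at h
  refine hR (eq_bot_iff.2 fun g hg => hf ▸ mem_charKer_of_constituents hχ.classFun
    fun ψ hψ h1 => ?_)
  by_contra h2
  obtain ⟨d, hd0, hd⟩ := hψ.exists_nat_apply_one
  have := hχ.degree_le_of_inner_ne_zero hψ h1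
  rw [hd, hn, Complex.natCast_re, Complex.natCast_re] at this
  exact h ψ hψ (fun h3 => h2 (h3 hg)) d hd0 (by exact_mod_cast this) hd

theorem ito_core (hp : p.Prime) {χ : G → ℂ} (hχ : IsCharacter G χ) (hf : charKer χ = ⊥)
    (hn : χ 1 = n) (hnp : n + 1 < p) {R P : Subgroup G} (hR : IsPi {p}ᶜ R) (hP : IsPi {p} P)
    [R.Normal] (hRP : R ⊔ P = ⊤) (ih : ∀ L < R, P ≤ N[L] → P ≤ C[L]) : P ≤ C[R] := by
  classical
  haveI : Fact p.Prime := ⟨hp⟩
  by_contra hne
  have hPR : P ≤ N[R] := norm_of_normal P R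
  have hcop := hR.coprime' hP
  have hnil : Nil R := by
    by_contra h
    refine hne (cents_symm (le_of_syl_le fun q hq _ => ?_))
    obtain ⟨Q, hQ, hPQ⟩ := sol_coprime_Sylow_exists hq hPR hcop (Or.inl (hP.sol hp))
    exact ⟨Q, hQ, cents_symm (ih Q (lt_of_le_of_ne hQ.le fun e => h ((e ▸ hQ.pi).nil hq)) hPQ)⟩
  have hRP' : ⁅R, P⁆ = R := by
    by_contra h
    exact hne (coprime_commGG1P hPR hcop hnil.sol (comm_eq_bot'.2
      (ih _ (lt_of_le_of_ne (comm_le_left hPR) h) (norm_comm_right R P))))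
  have hR0 : R ≠ ⊥ := fun h => hne (by rw [h, C_bot]; exact le_top)
  have h1 : P ≤ C[⁅R, R⁆] := ih _ (hnil.sol.der1_lt hR0) (norm_der1 hPR)
  have h2 : ⁅R, R⁆ ≤ C[R] := by
    have := three_subgroup (A := P) (B := ⁅R, R⁆) (K := R)
      (by rw [comm_eq_bot.2 h1, commutator_bot_left])
      (comm_eq_bot'.2 (cents_of_le h1 (comm_le_left (norm_der1 (norm_self R)))))
    rw [hRP'] at this
    exact comm_eq_bot'.1 this
  have h3 : R ⊓ C[P] ≤ ⁅R, R⁆ := by
    have hN : R ≤ N[⁅R, R⁆] := norm_der1 (norm_self R)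
    have := coprime_abel_cent_TI (quo_norm ⁅R, R⁆ hPR) (coprime_quo hcop _) (abl_quo_der1 R)
    rw [← quo_comm hN (norm_der1 hPR), hRP'] at this
    exact (quo_eq_bot (inf_le_left.trans hN)).1 (eq_bot_of_le this
      (le_inf (quo_mono _ inf_le_left) (quo_cent _ inf_le_right)))
  obtain ⟨ψ, hψ, hRψ, d, hd0, hdn, hd⟩ := exists_con hχ hf hn hR0
  obtain ⟨θ, hθ, hi⟩ := exists_irr_under R hψ
  obtain ⟨m, hm0, hm⟩ := hθ.exists_nat_apply_one
  obtain ⟨e, he⟩ := (hψ.isCharacter.restrict R).inner_nat hθ.isCharacter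
  have hdeg := clifford_degree R hψ hθ hi
  rw [he, hd, hm] at hdeg
  have hdeg' : d = e * (inertia R θ).index * m := by exact_mod_cast hdeg
  have he0 : 0 < e := Nat.pos_of_ne_zero fun h => by rw [h] at hdeg'; omega
  have hI : inertia R θ = ⊤ := by
    rw [← index_eq_one]
    have h4 : (inertia R θ).index ∣ ♯P := by
      refine (index_dvd_of_le (le_inertia R hθ.classFun)).trans ?_
      rw [← relIndex_top_right, ← hRP]
      exact (isProd_sup hPR).relIndex_dvd
    by_contra h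
    have h5 := Nat.le_of_dvd (Nat.pos_of_ne_zero index_ne_zero_of_finite)
      (hP.piNat.dvd h4 _ (Nat.minFac_prime h) (Nat.minFac_dvd _) ▸ Nat.minFac_dvd _ :
        p ∣ (inertia R θ).index)
    have h6 : (inertia R θ).index ≤ d := by
      rw [hdeg', mul_comm e, mul_assoc]; exact Nat.le_mul_of_pos_right _ (Nat.mul_pos he0 hm0)
    omega
  rw [hI, index_top, mul_one] at hdeg'
  have hres := res_eq_smul_of_invariant R hψ hθ ((inertia_eq_top_iff R).1 hI) hi
  have hiff : ∀ x : R, (x : G) ∈ charCenter ψ ↔ x ∈ charCenter θ := fun x => by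
    rw [mem_charCenter_iff hψ.isCharacter, mem_charCenter_iff hθ.isCharacter, congrFun hres x, he,
      hd, hm, hdeg', Pi.smul_apply, smul_eq_mul, norm_mul, Complex.norm_natCast,
      Complex.natCast_re, Complex.natCast_re, Nat.cast_mul,
      mul_right_inj' (by exact_mod_cast he0.ne')]
  haveI := charCenter_normal hψ.classFun
  have hD : R ⊓ charCenter ψ < R := lt_of_le_of_ne inf_le_left fun h => hRψ (by
    rw [← hRP', commutator_le]
    exact fun g hg x _ => commutator_mem_charKer hψ.classFun (h.ge hg).2 x)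
  have h4 : R ⊓ C[R] ≤ charCenter ψ := fun z hz => (hiff ⟨z, hz.1⟩).2
    (center_le_charCenter hθ (mem_center_iff.2 fun y => Subtype.ext (hz.2 y y.2)))
  have h5 : R ⊓ charCenter ψ = R ⊓ C[P] := le_antisymm
    (le_inf inf_le_left (cents_symm (ih _ hD (norm_of_normal _ _))))
    (le_inf inf_le_left (h3.trans ((le_inf (der1_le R) h2).trans h4)))
  have h6 : ♯(charCenter θ) = ♯(R ⊓ C[P]) := by
    rw [← h5, inf_comm, ← card_subgroupOf,
      show charCenter θ = (charCenter ψ).subgroupOf R from Subgroup.ext fun x => (hiff x).symm]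
  have h7 := ramified hθ hm fun x y => (hiff _).1 (h4 (mem_inf.2 ⟨⁅x, y⁆.2,
    h2 (commutator_mem_commutator x.2 y.2)⟩))
  have h8 := H22.card_modEq_cent (hP.isPGroup hp) fun g hg u hu => conj_mem (hPR hg) hu
  rw [h6] at h7
  have hm1 : m ≠ 1 := fun h => by
    rw [h, one_pow, mul_one, ← h5] at h7
    exact (card_lt hD).ne h7.symm
  obtain ⟨k, rfl⟩ : ∃ k, m = k + 1 := ⟨m - 1, by omega⟩
  have h9 : p ∣ ♯(R ⊓ C[P]) * (k * (k + 2)) := by
    rw [h7] at h8
    have := (Nat.modEq_iff_dvd' (Nat.le_mul_of_pos_right _ (pow_pos hm0 2))).1 h8.symm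
    convert this using 1
    exact Nat.eq_sub_of_add_eq (by ring)
  have h10 : k + 1 ≤ d := hdeg' ▸ Nat.le_mul_of_pos_left _ he0
  rcases (Nat.Prime.dvd_mul hp).1 h9 with h | h
  · exact (isPi_compl_iff hp).1 (hR.inf_left _) h
  rcases (Nat.Prime.dvd_mul hp).1 h with h | h
  · have := Nat.le_of_dvd (by omega) h; omega
  · have := Nat.le_of_dvd (by omega) h; omega

theorem ker_res {χ : G → ℂ} (hχ : IsCharacter G χ) (hf : charKer χ = ⊥) (H : Subgroup G) :
    charKer (fun h : H => χ h) = ⊥ := eq_bot_iff.2 fun _ hx => Subtype.ext (mem_bot.1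
  (hf ▸ (mem_charKer_iff hχ).2 (apply_of_mem_charKer (χ := fun h : H => χ h) hx)))

theorem ito (hp : p.Prime) (hnp : n + 1 < p) (m : ℕ) : ∀ (G : Type u) [Group G] [Fintype G]
    {χ : G → ℂ}, IsCharacter G χ → charKer χ = ⊥ → χ 1 = n → ∀ {R P : Subgroup G}, ♯R = m →
    IsPi {p}ᶜ R → IsPi {p} P → P ≤ N[R] → P ≤ C[R] := by
  induction m using Nat.strong_induction_on with
  | _ m ih =>
  intro G _ _ χ hχ hf hn R P hm hR hP hPR
  haveI := Fintype.ofFinite ↥(R ⊔ P)
  haveI := (nml_sup_left hPR).normal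
  have := ito_core hp (hχ.restrict (R ⊔ P)) (ker_res hχ hf _) hn (R := R.subgroupOf (R ⊔ P)) hnp
    (isPi_subgroupOf hR _) (isPi_subgroupOf hP _)
    (by rw [← subgroupOf_sup le_sup_left le_sup_right, subgroupOf_self])
    fun L hL hn' => ih _ (by
      rw [← hm, ← card_subgroupOf_of_le (le_sup_left : R ≤ R ⊔ P)]; exact card_lt hL) _
      (hχ.restrict (R ⊔ P)) (ker_res hχ hf _) hn rfl ((isPi_subgroupOf hR _).of_le hL.le)
      (isPi_subgroupOf hP _) hn'
  have h2 := cent_map this (R ⊔ P).subtype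
  rwa [map_subgroupOf' le_sup_left, map_subgroupOf' le_sup_right] at h2

theorem central_triv (hp : p.Prime) {χ : G → ℂ} (hχ : IsCharacter G χ) (hf : charKer χ = ⊥)
    (hn : χ 1 = n) (hnp : n < p) {S : Subgroup G} (hS : IsPi {p} S) (hZ : S ≤ center G)
    (hc : S ≤ commutator G) : S = ⊥ := by
  by_contra h
  obtain ⟨ψ, hψ, hSψ, d, hd0, hdn, hd⟩ := exists_con hχ hf hn h
  refine hSψ fun z hz => ?_
  obtain ⟨c, hcz⟩ := center_le_charCenter hψ (hZ hz)
  obtain ⟨δ, hδ⟩ := exists_detChar_hom hψ.isCharacter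
  have h1 := detChar_of_scalar hψ.isCharacter c.ne_zero hcz hd
  rw [hδ, show δ z = 1 from Abelianization.commutator_subset_ker δ (hc hz), Units.val_one] at h1
  have h2 : ∀ k : ℕ, ψ (z ^ k) = c ^ k * ψ 1 := fun k => by
    induction k with
    | zero => simp
    | succ k ih => rw [pow_succ', hcz, ih, pow_succ', mul_assoc]
  have h3 := h2 ♯S
  rw [orderOf_dvd_iff_pow_eq_one.1 (orderOf_dvd_card' hz), right_eq_mul₀ hψ.apply_one_ne_zero] at h3
  have h4 : (♯S).Coprime d := hS.piNat.coprime ((piNat_compl_singleton hp).2 fun h =>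
    by have := Nat.le_of_dvd hd0 h; omega)
  have h5 : (c : ℂ) = 1 := by
    rw [← pow_one (c : ℂ), ← h4.gcd_eq_one]
    exact pow_gcd_eq_one.2 ⟨h3, h1.symm⟩
  intro x
  rw [hcz, h5, one_mul]

/-- `K` has a normal Sylow `p`-subgroup. -/
def Cl (p : ℕ) (K : Subgroup G) : Prop := ∃ P, Syl p K P ∧ K ≤ N[P]

theorem core (hp : p.Prime) {χ : G → ℂ} (hχ : IsCharacter G χ) (hf : charKer χ = ⊥)
    (hn : χ 1 = n) (hnp : n + 1 < p) (ih : ∀ K : Subgroup G, K ≠ ⊤ → Cl p K) {P : Subgroup G}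
    (hP : Syl p ⊤ P) (hne : ¬ ⊤ ≤ N[P]) : ♯P < (n + 1) ^ 2 := by
  classical
  have hab : Abl P := by
    obtain ⟨m, ρ, rfl⟩ := hχ
    have hm : m = n := by simpa using hn
    refine H24.abl_iff.2 (le_C_iff.2 fun a ha b hb => congrArg Subtype.val
      (rep_comm_of_faithful_of_degree_lt (ρ.comp P.subtype) ?_ (fun q hq hd => ?_) ⟨a, ha⟩ ⟨b, hb⟩))
    · refine (injective_iff_map_eq_one _).2 fun x hx => Subtype.ext (mem_bot.1 ?_)
      exact hf ▸ (mem_charKer_rep ρ).2 hx
    · rw [hP.pi.mem hq hd, Module.finrank_fin_fun]; omega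
  have hM : ∀ M : Subgroup G, M.Normal → P ≤ M → M = ⊤ := fun M _ hPM => by
    by_contra h
    obtain ⟨Q, hQ, hn⟩ := ih M h
    rw [(hQ.eq_of_nml hn (hP.of_le hPM le_top))] at hne
    exact hne (hQ.norm_of_nml hn (norm_of_normal _ _))
  have hcomm : commutator G = ⊤ := by
    by_contra h
    obtain ⟨S, hS, hSn⟩ := ih _ h
    have h1 : ⊤ ≤ N[S] := hS.norm_of_nml hSn (norm_of_normal _ _)
    haveI : S.Normal := nml_top_iff.1 ⟨le_top, h1⟩
    have h2 : S ≤ P := hP.nml_le hS.pi ⟨le_top, h1⟩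
    have h3 := hM C[S] inferInstance (hab.cents le_rfl h2)
    have h4 := central_triv hp hχ hf hn (by omega) hS.pi
      (fun z hz => mem_center_iff.2 fun g => (mem_C.1 (h3 ▸ mem_top g) z hz).symm) hS.le
    have h5 := ito hp hnp _ G hχ hf hn rfl (hS.isPi_compl_of_eq_bot h4) hP.pi (norm_of_normal _ _)
    have h6 := hM (commutator G ⊔ P) (nml_top_iff.1 (nml_of_der1_le le_sup_left le_top))
      le_sup_right
    exact hne (h6 ▸ sup_le (norm_of_cent (cents_symm h5)) (norm_self P))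
  have hZ : P ⊓ center G = ⊥ := central_triv hp hχ hf hn (by omega) (hP.pi.inf_left _)
    inf_le_right (hcomm ▸ le_top)
  have hP0 : P ≠ ⊥ := fun h => hne (by rw [h, N_bot])
  obtain ⟨ψ, hψ, hPψ, d, hd0, hdn, hd⟩ := exists_con hχ hf hn hP0
  have hC : ∀ g, g ∉ center G → Cl p C{g} := fun g hg => ih _ fun h =>
    hg (mem_center_iff.2 fun x => mem_C1.1 (h ▸ mem_top x))
  have key : ∀ a u, u ∈ cj a P → u ≠ 1 → ∀ v, PiElt {p} v → v ∈ C{u} → v ∈ cj a P := by
    intro a u hu h1 v hv hc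
    obtain ⟨Q, hQ, hn⟩ := hC u fun h => h1 (by
      have : a⁻¹ * u * a ∈ P ⊓ center G :=
        ⟨mem_cj.1 hu, by rwa [mul_assoc, ← mem_center_iff.1 h, inv_mul_cancel_left]⟩
      rw [hZ, mem_bot] at this
      calc u = a * (a⁻¹ * u * a) * a⁻¹ := by group
        _ = 1 := by rw [this]; group)
    rw [hQ.eq_of_nml hn ((hP.cj_mem (mem_top a)).of_le ((hab.cj a).le_C.trans (C_le_C1 hu)) le_top)]
    exact hQ.mem_of_nml hn hv hc
  have h1 := Leon.part_b P (fun a ha b hb => hab.comm ha hb) hZ (fun g hg a b ha hb => by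
    obtain ⟨u, hu, hu1⟩ := exists_ne_one ha
    obtain ⟨v, hv, hv1⟩ := exists_ne_one hb
    have hu' : PiElt {p} u := (hP.pi.cj a).piElt hu.2
    have hv' : PiElt {p} v := (hP.pi.cj b).piElt hv.2
    obtain ⟨Q, hQ, hn⟩ := hC g hg
    obtain ⟨c, -, hc⟩ := Sylow_subJ hp hP hQ.pi le_top
    have h2 : u ∈ C{v} := mem_C1.2 ((hab.cj c).comm (hc (hQ.mem_of_nml hn hu' hu.1))
      (hc (hQ.mem_of_nml hn hv' hv.1)))
    have h3 := key b v hv.2 hv1 u hu' h2
    exact eq_of_card_eq (fun x hx => key b u h3 hu1 x ((hP.pi.cj a).piElt hx)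
      (mem_C1.2 ((hab.cj a).comm hx hu.2))) ((card_cj a P).trans (card_cj b P).symm))
    hψ (fun h => hPψ (le_top.trans (hcomm ▸ commutator_le_charKer_of_linear hψ.isCharacter h))) hM
  rw [hd, Complex.natCast_re] at h1
  have h2 : ♯P < (1 + d) ^ 2 := by exact_mod_cast h1
  exact h2.trans_le (Nat.pow_le_pow_left (by omega) 2)

theorem feit (hp : p.Prime) {χ : G → ℂ} (hχ : IsCharacter G χ) (hf : charKer χ = ⊥)
    (hn : χ 1 = n) (h : (n + 1) ^ 2 ≤ p ∨ (n + 1 < p ∧ ∀ K : Subgroup G, ¬ p ^ 2 ∣ ♯K → Cl p K))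
    (H : Subgroup G) : Cl p H := by
  have hnp : n + 1 < p := by
    rcases h with h | h
    · have := hp.one_lt
      rcases Nat.eq_zero_or_pos n with rfl | h0
      · omega
      · nlinarith
    · exact h.1
  refine subgroup_ind (fun H ih => ?_) H
  haveI := Fintype.ofFinite H
  obtain ⟨P, hP⟩ := Sylow_exists hp H
  by_contra hc
  have h1 := core hp (hχ.restrict H) (ker_res hχ hf H) hn hnp (fun K hK => by
    obtain ⟨Q, hQ, hQn⟩ := ih (K.map H.subtype) (lt_of_le_of_ne (map_subtype_le' K) fun e => hK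
      (by rw [← subgroupOf_map_subtype' K, e, subgroupOf_self]))
    have hQH := hQ.le.trans (map_subtype_le' K)
    rw [← map_subgroupOf' hQH] at hQ hQn
    exact ⟨_, (hall_map_iff H.subtype_injective).1 hQ, norm_of_map H.subtype_injective hQn⟩)
    ((hall_subgroupOf_top hP.le).2 hP) fun h2 => hc ⟨P, hP, by
      have := norm_map h2 H.subtype
      rwa [map_subtype_top, map_subgroupOf' hP.le] at this⟩
  rw [card_subgroupOf_of_le hP.le] at h1
  have h2 := Nat.le_of_dvd (card_pos P) (hP.pi.dvd_card fun e => hc ⟨P, hP, by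
    rw [e, N_bot]; exact le_top⟩)
  rcases h with h | h
  · omega
  · refine hc (h.2 H fun hd => ?_)
    have h3 := Nat.le_of_dvd (card_pos P) (hP.dvd_card (piNat_self_pow hp 2) hd)
    have h4 := Nat.pow_lt_pow_left hnp two_ne_zero
    omega

end H25.Feit
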