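import Mathlib
import Cfsg.Agent.H25.L5M

/-!
# Facts about the Sylow `2`-subgroup of `L₅(2)`
-/

set_option autoImplicit false
set_option maxRecDepth 100000
set_option synthInstance.maxSize 4000

namespace H25.L5

def z0 : S0 := el 1

noncomputable abbrev Q0 : Subgroup S0 := mk 127 [0, 1, 2, 3, 4, 5, 6] (by decide +kernel)
noncomputable abbrev R0 (i : Bool) : Subgroup S0 :=
  mk (cond i 399 663) (cond i [0, 1, 2, 3, 7, 8] [0, 1, 2, 4, 7, 9]) (by cases i <;> decide +kernel)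
noncomputable abbrev L0 (i : Bool) : Subgroup S0 :=
  mk (cond i 5 3) (cond i [0, 2] [0, 1]) (by cases i <;> decide +kernel)
noncomputable abbrev K0 (i : Bool) : Subgroup S0 := mk (cond i 479 703)
  (cond i [0, 1, 2, 3, 4, 6, 7, 8] [0, 1, 2, 3, 4, 5, 7, 9]) (by cases i <;> decide +kernel)
noncomputable abbrev V0 (i : Bool) : Subgroup S0 :=
  mk (cond i 43 85) (cond i [0, 1, 3, 5] [0, 2, 4, 6]) (by cases i <;> decide +kernel)
noncomputable abbrev C0 (i : Bool) : Subgroup S0 :=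
  mk (cond i 381 635) (cond i [0, 2, 3, 4, 5, 6, 8] [0, 1, 3, 4, 5, 6, 9]) (by cases i <;> decide +kernel)
noncomputable abbrev Z4 : Subgroup S0 := mk 135 [0, 1, 2, 7] (by decide +kernel)
noncomputable abbrev RR : Subgroup S0 := mk 927 [0, 1, 2, 3, 4, 7, 8, 9] (by decide +kernel)

abbrev Zz (x : S0) : Prop := x = 1 ∨ x = z0

noncomputable abbrev cm (a y : S0) : S0 := a⁻¹ * (y * a * y⁻¹)

abbrev zc3 (a b y : S0) : Prop := Zz (cm a y) ∨ Zz (cm b y) ∨ Zz (cm a y * cm b y)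

theorem z2 : z0 * z0 = 1 := by decide +kernel
theorem z1 : z0 ≠ 1 := by decide +kernel
theorem zc : ∀ s, s * z0 = z0 * s := by decide +kernel
theorem zQ : z0 ∈ Q0 := by decide +kernel
theorem zR (i : Bool) : z0 ∈ R0 i := by cases i <;> decide +kernel
theorem R_sq (i : Bool) : ∀ s ∈ R0 i, s * s = 1 := by cases i <;> decide +kernel
theorem R_comm (i : Bool) : ∀ s ∈ R0 i, ∀ t ∈ R0 i, s * t = t * s := by cases i <;> decide +kernel
theorem R_n (i : Bool) : ∀ g s, s ∈ R0 i → g * s * g⁻¹ ∈ R0 i := nml_of (by cases i <;> decide +kernel)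
theorem Q_n : ∀ g s, s ∈ Q0 → g * s * g⁻¹ ∈ Q0 := nml_of (by decide +kernel)
theorem L_n (i : Bool) : ∀ g s, s ∈ L0 i → g * s * g⁻¹ ∈ L0 i := nml_of (by cases i <;> decide +kernel)
theorem V_n (i : Bool) : ∀ g s, s ∈ V0 i → g * s * g⁻¹ ∈ V0 i := nml_of (by cases i <;> decide +kernel)
theorem Z_n : ∀ g s, s ∈ Z4 → g * s * g⁻¹ ∈ Z4 := nml_of (by decide +kernel)
theorem card_R (i : Bool) : Nat.card (R0 i) = 64 := (card_cnt _).trans (by cases i <;> decide +kernel)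
theorem card_V (i : Bool) : Nat.card (V0 i) = 16 := (card_cnt _).trans (by cases i <;> decide +kernel)
theorem card_Z : Nat.card Z4 = 16 := (card_cnt _).trans (by decide +kernel)
theorem big : ∀ x : S0, x * x = 1 → (x ∈ R0 true ∨ x ∈ R0 false) ∨
    cnt (fun y => y * y = 1 ∧ x * y = y * x) < 64 := by decide +kernel
theorem R_ne (i : Bool) : e i 8 ∈ R0 i ∧ e i 8 ∉ R0 (!i) := by cases i <;> decide +kernel
theorem Q_inv : ∀ q ∈ Q0, ∃ a ∈ Q0, a * a = 1 ∧ a * q * (a * q) = 1 := by decide +kernel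
theorem Q_sq : ∀ q ∈ Q0, Zz (q * q) := by decide +kernel
theorem bigQ : ∀ x : S0, x * x = 1 → x ∈ Q0 ∨ cnt (fun y => y * y = 1 ∧ cm x y = z0) < 32 := by
  decide +kernel
theorem bigQ' : ∀ x ∈ Q0, x * x = 1 → Zz x ∨
    32 ≤ cnt (fun y => y ∈ Q0 ∧ y * y = 1 ∧ cm x y = z0) := by decide +kernel
theorem Q_comm : ∀ t ∈ Q0, ∀ s ∈ Q0, Zz (cm t s) := by decide +kernel
theorem sq_Q : ∀ s : S0, s * s ∈ Q0 → s * s * (s * s) = 1 := by decide +kernel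
theorem out4 : ∀ t : S0, t * t = z0 → t ∈ Q0 ∨ ∃ r, r * r * (r * r) = z0 ∧ Zz (cm t (r * r)) ∧
    (t = r * r ∨ t * (r * r) * (t * (r * r)) = z0) := by decide +kernel
theorem noQ8 : ∀ a ∈ Q0, a * a = z0 → ∀ y, y * y = z0 → a * y * (a * y) = z0 → y ∈ Q0 := by
  decide +kernel
theorem out2 : ∀ t : S0, t * t = 1 → t ∈ Q0 ∨ (t ∈ R0 true ∨ t ∈ R0 false) ∨
    ∃ q ∈ Q0, q * q = z0 ∧ Zz (cm t q) ∧ (t * q ∈ R0 true ∨ t * q ∈ R0 false) := by decide +kernel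
theorem K_of (i : Bool) : ∀ y, zc3 (e i 8) (e i 256) y → zc3 (e i 128) (e i 256) y → y ∈ K0 i := by
  cases i <;> decide +kernel
theorem e_R (i : Bool) : e i 8 ∈ R0 i ∧ e i 128 ∈ R0 i ∧ e i 256 ∈ R0 i ∧ e i 16 ∈ K0 i ∧ e i 64 ∈ K0 i := by
  cases i <;> decide +kernel
theorem K_L (i : Bool) : ∀ y ∈ K0 i, (∀ a ∈ R0 i, cm a y ∈ L0 i ∧ (a ∈ Q0 → Zz (cm a y))) ∧
    (∀ a ∈ L0 i, a * y = y * a) ∧ (y ∈ R0 i ∨ ∃ a ∈ R0 i, cm a y = e i 4) := by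
  cases i <;> decide +kernel
theorem L3 (i : Bool) : ∀ c ∈ L0 i, (c ∈ Q0 ∧ c ∈ R0 i) ∧ (Zz c ∨ c = e i 4 ∨ c = e i 4 * z0) ∧
    ∀ d ∈ L0 i, Zz c ∨ Zz d ∨ Zz (c * d) := by cases i <;> decide +kernel
theorem R_y (i : Bool) : ∀ t ∈ R0 i, (t ∈ Q0 ∨ ∃ y ∈ K0 i, y ∉ R0 i ∧ Zz (cm t y)) ∧
    (Zz (cm t (e i 16)) → Zz (cm t (e i 64)) → t ∈ Q0) := by cases i <;> decide +kernel
theorem CQ (s : S0) (h : ∀ q ∈ Q0, s * q = q * s) : Zz s :=
  (show ∀ s : S0, s * el 64 = el 64 * s → s * el 32 = el 32 * s → s * el 16 = el 16 * s →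
    s * el 8 = el 8 * s → s * el 4 = el 4 * s → s * el 2 = el 2 * s → Zz s by decide +kernel) s
    (h _ (by decide +kernel)) (h _ (by decide +kernel)) (h _ (by decide +kernel))
    (h _ (by decide +kernel)) (h _ (by decide +kernel)) (h _ (by decide +kernel))

abbrev an (x : S0) : Prop := x = 1 ∨ x = z0 ∨ x * x = z0

abbrev bad (a b s : S0) : Prop := ¬ (an (s * a * s⁻¹ * a) ∧ an (s * a * s⁻¹ * b) ∧
    an (s * a * s⁻¹ * (a * b)) ∧ an (s * b * s⁻¹ * a) ∧ an (s * b * s⁻¹ * b) ∧ an (s * b * s⁻¹ * (a * b))) ∧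
  ¬ (s * a * s⁻¹ * a = a * (s * a * s⁻¹) ∧ s * a * s⁻¹ * b = b * (s * a * s⁻¹) ∧
    s * b * s⁻¹ * b = b * (s * b * s⁻¹) ∧ s * b * s⁻¹ * a = a * (s * b * s⁻¹))

theorem q8 : ∀ a ∈ Q0, a * a = z0 → ∀ b ∈ Q0, b * b = z0 → a * b ≠ b * a → an (a * b) →
    bad a b (el 128) ∨ bad a b (el 768) := by decide +kernel

end H25.L5
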