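import Mathlib
import Cfsg.Agent.H25.SyH
import Cfsg.Agent.H25.L5M1

/-!
# Sylow `2`-subgroups of type `L₅(2)`: weak and strong closure
-/

set_option autoImplicit false
set_option linter.unusedSectionVars false
set_option maxRecDepth 100000
set_option synthInstance.maxSize 4000

open Cfsg H24 H26 H26.Gold Subgroup H7.SJ H25.Tw H25.Sy
open scoped commutatorElement

namespace H25.Sy

universe u

variable {G : Type u} [Group G] [Finite G] {H L P Q S : Subgroup G} {k : G}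

theorem two_over' (hS : Syl 2 H S) (hL : L ≤ H) (hQ : TwoG Q) (hQL : Q ≤ L) (hP : TwoG P) (hPL : P ≤ L) :
    ∃ m ∈ H, ∃ l ∈ L, cj m Q ≤ S ∧ cj (m * l) P ≤ S := by
  obtain ⟨R, hR, h1⟩ := Sylow_superset p2 hQ hQL
  obtain ⟨l, hl, h2⟩ := Sylow_Jsub p2 hR hP hPL
  obtain ⟨m, hm, h3⟩ := Sylow_Jsub p2 hS hR.pi (hR.le.trans hL)
  exact ⟨m, hm, l, hl, (cj_mono m h1).trans h3, cj_mul m l P ▸ (cj_mono m h2).trans h3⟩

variable {M : Type} [Group M] {φ : M →* G}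

theorem Emb.ncard_le (h : Emb φ) {p p' : M → Prop}
    (hk : ∀ s, p s → ∃ s', φ s' = k * φ s * k⁻¹ ∧ p' s') : {s | p s}.ncard ≤ {s | p' s}.ncard := by
  have := Finite.of_injective φ h.inj
  choose! f f1 f2 using hk
  exact Set.ncard_le_ncard_of_injOn f f2 fun a ha b hb e => (h.eq' (f1 a ha) (f1 b hb)).1 e

theorem Emb.ex {X : Subgroup M} (e : H24.cj k (X.map φ) ≤ φ.range) {s : M} (hs : s ∈ X) :
    ∃ s', φ s' = k * φ s * k⁻¹ := e (conj_mem_cj k ⟨s, hs, rfl⟩)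

theorem Emb.cj_le {X : Subgroup M} (e : ∀ s ∈ X, ∃ s', φ s' = k * φ s * k⁻¹) :
    H24.cj k (X.map φ) ≤ φ.range := fun x hx => by
  obtain ⟨_, ⟨s, hs, rfl⟩, rfl⟩ := mem_cj'.1 hx
  exact e s hs

theorem Emb.mem_of (h : Emb φ) {X : Subgroup M} (hk : k ∈ N[X.map φ]) {s s' : M}
    (e : φ s' = k * φ s * k⁻¹) : s' ∈ X ↔ s ∈ X := by
  rw [← h.mem, ← h.mem (s := s), e, conj_mem_iff hk]

theorem Emb.self (g s : M) : φ (g * s * g⁻¹) = φ g * φ s * (φ g)⁻¹ := by simp only [map_mul, map_inv]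

end H25.Sy

namespace H25.L5

universe u

variable {G : Type u} [Group G] [Finite G] {φ : S0 →* G} {K L P : Subgroup G} {g k m : G}
  {a a' c q s s' t y y' : S0} {i j : Bool} (h : Emb φ)

theorem le_H : φ.range ≤ C{φ z0} := Emb.le_C zc

theorem cm_cj (e1 : φ a' = g * φ a * g⁻¹) (e2 : φ y' = g * φ y * g⁻¹) :
    φ (cm a' y') = g * φ (cm a y) * g⁻¹ :=
  Emb.mul (Emb.inv e1) (Emb.mul (Emb.mul e2 e1) (Emb.inv e2))

theorem fix_z (hg : g ∈ C{φ z0}) : φ z0 = g * φ z0 * g⁻¹ := (mem_C1_iff_conj.1 hg).symm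

include h

theorem Zz_iff (hg : g ∈ C{φ z0}) (e : φ s' = g * φ s * g⁻¹) : Zz s' ↔ Zz s :=
  or_congr (h.eq1 e) (h.eq' e (fix_z hg))

theorem wR0 (e : cj k ((R0 i).map φ) ≤ φ.range) : ∃ j, cj k ((R0 i).map φ) = (R0 j).map φ := by
  have k2 : ∀ x, φ x ∈ cj k ((R0 i).map φ) → x ∈ R0 true ∨ x ∈ R0 false := fun x hx => by
    obtain ⟨_, ⟨s, hs, rfl⟩, e1⟩ := mem_cj'.1 hx
    refine (big x ((h.sq1 e1).2 (R_sq i s hs))).resolve_right (not_lt.2 ?_)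
    rw [← ncard_cnt, ← card_R i]
    refine (Nat.card_coe_set_eq _).le.trans (h.ncard_le (k := k) fun t ht => ?_)
    obtain ⟨t', e2⟩ := Emb.ex e ht
    exact ⟨t', e2, (h.sq1 e2).2 (R_sq i t ht), (h.comm e1 e2).2 (R_comm i s hs t ht)⟩
  suffices ∃ j, cj k ((R0 i).map φ) ≤ (R0 j).map φ from this.imp fun j e =>
    eq_of_card_eq e (by rw [card_cj, h.card, h.card, card_R, card_R])
  by_contra! hn
  obtain ⟨a, a1, a2⟩ := SetLike.not_le_iff_exists.1 (hn true)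
  obtain ⟨b, b1, b2⟩ := SetLike.not_le_iff_exists.1 (hn false)
  obtain ⟨a, rfl⟩ := e a1
  obtain ⟨b, rfl⟩ := e b1
  rw [h.mem] at a2 b2
  rcases k2 (a * b) (map_mul φ a b ▸ mul_mem a1 b1) with e | e
  · exact a2 ((mul_mem_cancel_right ((k2 b b1).resolve_right b2)).1 e)
  · exact b2 ((mul_mem_cancel_left ((k2 a a1).resolve_left a2)).1 e)

theorem R_ne' : (R0 i).map φ ≠ (R0 (!i)).map φ := fun e =>
  (R_ne i).2 (h.mem.1 (e ▸ h.mem.2 (R_ne i).1))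

theorem nR : cj k ((R0 i).map φ) ≠ (R0 (!i)).map φ := fun e => by
  have h1 := h.syl_N (R_n (!i))
  obtain ⟨m, hm, e1⟩ := Sylow_trans p2 ((h.syl.cj_mem (mem_top k)).of_le
    (e ▸ norm_cj (h.syl_N (R_n i)) k) le_top) (h.syl.of_le h1 le_top)
  rw [← cj_mul] at e1
  have e2 : cj (m * k) ((R0 i).map φ) = (R0 (!i)).map φ := by rw [cj_mul, e, cj_of_mem_N hm]
  have hg := mem_N_iff_cj.2 e1.symm
  obtain ⟨j, e3⟩ := wR0 h (i := !i) (cj_le_of_mem_N (map_le_range _ _) hg)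
  have : j = i := by
    by_contra hn
    rw [show j = !i by cases i <;> simpa using hn, ← e2, cj_inj] at e3
    exact R_ne' h (e3.symm.trans e2)
  refine R_ne' h ((cj_of_mem_N (mem_of_sq (h.syl.of_le (norm_self _) le_top) le_rfl (h.syl_N (R_n i)) hg
    (mem_N_iff_cj.2 ?_))).symm.trans e2)
  rw [cj_mul, e2, e3, this]

theorem wR (i : Bool) (e : ∀ s ∈ R0 i, ∃ s', φ s' = k * φ s * k⁻¹) : k ∈ N[(R0 i).map φ] := by
  obtain ⟨j, e1⟩ := wR0 h (Emb.cj_le e)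
  by_cases e2 : j = i
  · exact mem_N_iff_cj.2 (e2 ▸ e1)
  · exact (nR h (e1.trans (by rw [show j = !i by cases i <;> simpa using e2]))).elim

theorem wQ (hk : k ∈ C{φ z0}) (e : ∀ s ∈ Q0, ∃ s', φ s' = k * φ s * k⁻¹) : k ∈ N[Q0.map φ] := by
  have k1 : ∀ s ∈ Q0, s * s = 1 → ∀ s', φ s' = k * φ s * k⁻¹ → s' ∈ Q0 := fun s hs s2 s' e1 => by
    rcases bigQ' s hs s2 with h1 | h1
    · rcases (Zz_iff h hk e1).2 h1 with rfl | rfl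
      exacts [one_mem _, zQ]
    refine (bigQ s' ((h.sq1 e1).2 s2)).resolve_right (not_lt.2 (h1.trans ?_))
    rw [← ncard_cnt, ← ncard_cnt]
    refine h.ncard_le (k := k) fun t ht => ?_
    obtain ⟨t', e2⟩ := e t ht.1
    exact ⟨t', e2, (h.sq1 e2).2 ht.2.1, (h.eq' (cm_cj e1 e2) (fix_z hk)).2 ht.2.2⟩
  refine h.mem_N fun q hq => ?_
  obtain ⟨a, ha, a2, a3⟩ := Q_inv q hq
  obtain ⟨a', e1⟩ := e a ha
  obtain ⟨q', e2⟩ := e q hq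
  exact ⟨q', (mul_mem_cancel_left (k1 a ha a2 _ e1)).1 (k1 _ (mul_mem ha hq) a3 _ (Emb.mul e1 e2)), e2⟩

theorem mem_cz' (hs : m ∈ C{φ z0}) : g ∈ cz m (zpowers (φ z0)) ↔
    g ∈ C{φ z0} ∧ (m⁻¹ * (g * m * g⁻¹) = 1 ∨ m⁻¹ * (g * m * g⁻¹) = φ z0) := by
  have e : N[zpowers (φ z0)] = C{φ z0} := le_antisymm (fun g hg => mem_C1_iff_conj.2
    ((mem_zp (Emb.sq z2) (conj_mem hg (mem_zpowers _))).resolve_left
      (by rw [conj_eq_one_iff']; exact h.ne_one z1))) (norm_zpowers_of_cent le_rfl)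
  rw [mem_cz (e ▸ hs), e]
  refine and_congr_right fun _ => ⟨mem_zp (Emb.sq z2), ?_⟩
  rintro (e | e) <;> rw [e]
  exacts [one_mem _, mem_zpowers _]

theorem mem_cz'' : φ c ∈ cz (φ s) (zpowers (φ z0)) ↔ Zz (cm s c) := by
  rw [mem_cz' h (le_H ⟨s, rfl⟩), ← map_one φ, ← map_inv, ← map_inv, ← map_mul, ← map_mul, ← map_mul,
    h.eq, h.eq, and_iff_right (le_H ⟨c, rfl⟩)]

theorem cj_cz (hk : k ∈ C{φ z0}) (e : φ s' = k * φ s * k⁻¹) (hg : g ∈ cz (φ s) (zpowers (φ z0))) :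
    k * g * k⁻¹ ∈ cz (φ s') (zpowers (φ z0)) := by
  obtain ⟨h1, h2⟩ := (mem_cz' h (le_H ⟨s, rfl⟩)).1 hg
  refine (mem_cz' h (le_H ⟨s', rfl⟩)).2 ⟨mul_mem (mul_mem hk h1) (inv_mem hk), ?_⟩
  rw [show (φ s')⁻¹ * (k * g * k⁻¹ * φ s' * (k * g * k⁻¹)⁻¹) =
    k * ((φ s)⁻¹ * (g * φ s * g⁻¹)) * k⁻¹ by rw [e]; group]
  rcases h2 with e | e <;> rw [e]
  · simp
  · exact Or.inr (mem_C1_iff_conj.1 hk)

theorem of_cz (hg : g ∈ cz (φ s) (zpowers (φ z0))) : ∃ w, Zz w ∧ φ (s * w) = g * φ s * g⁻¹ := by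
  rcases ((mem_cz' h (le_H ⟨s, rfl⟩)).1 hg).2 with e | e
  · exact ⟨1, Or.inl rfl, by rw [mul_one, ← inv_mul_eq_one.1 e]⟩
  · exact ⟨z0, Or.inr rfl, by rw [map_mul, inv_mul_eq_iff_eq_mul.1 e]⟩

omit h in
theorem Zz.mem {X : Subgroup S0} (hs : Zz s) (hz : z0 ∈ X) : s ∈ X := by
  rcases hs with rfl | rfl
  exacts [one_mem _, hz]

theorem trz0 (hk : k ∈ C{φ z0}) (e : φ t = k * φ s * k⁻¹) : ∃ g ∈ C{φ z0}, ∃ m ∈ C{φ z0}, ∃ w, Zz w ∧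
    m * φ (s * w) * m⁻¹ = g * φ t * g⁻¹ ∧ (∀ r, Zz (cm t r) → ∃ r', φ r' = g * φ r * g⁻¹) ∧
      ∀ r, Zz (cm s r) → ∃ r', φ r' = m * φ r * m⁻¹ := by
  obtain ⟨m, hm, l, hl, h1, h2⟩ := two_over' (h.syl.of_le le_H le_top)
    (L := cz (φ s) (zpowers (φ z0))) (fun g hg => ((mem_cz' h (le_H ⟨s, rfl⟩)).1 hg).1)
    (h.syl.pi.inf_left _) inf_le_right
    ((h.syl.pi.inf_left (cz (φ t) (zpowers (φ z0)))).cj k⁻¹) fun x hx => by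
      obtain ⟨y, hy, rfl⟩ := mem_cj'.1 hx
      exact cj_cz h (inv_mem hk) (Emb.symm e) hy.2
  obtain ⟨w, hw, e1⟩ := of_cz h hl
  rw [← cj_mul] at h2
  exact ⟨m * l * k⁻¹, mul_mem (mul_mem hm ((mem_cz' h (le_H ⟨s, rfl⟩)).1 hl).1) (inv_mem hk), m, hm, w, hw,
    by rw [e1, e]; group, fun r hr => h2 (conj_mem_cj _ ⟨⟨r, rfl⟩, (mem_cz'' h).2 hr⟩),
    fun r hr => h1 (conj_mem_cj _ ⟨⟨r, rfl⟩, (mem_cz'' h).2 hr⟩)⟩

theorem trz (hk : k ∈ C{φ z0}) (hs : s ∈ Q0) (e : φ t = k * φ s * k⁻¹) : ∃ g ∈ C{φ z0}, ∃ t' ∈ Q0,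
    φ t' = g * φ t * g⁻¹ ∧ ∀ r, Zz (cm t r) → ∃ r', φ r' = g * φ r * g⁻¹ := by
  obtain ⟨g, hg, m, hm, w, hw, e1, h1, h2⟩ := trz0 h hk e
  obtain ⟨t', ht, e2⟩ := Emb.of_N (wQ h hm fun q hq => h2 q (Q_comm s hs q hq)) (mul_mem hs (hw.mem zQ))
  exact ⟨g, hg, t', ht, e2.trans e1, h1⟩

theorem sc3 (hk : k ∈ C{φ z0}) (hs : s ∈ Q0) (e : φ (t * t) = k * φ s * k⁻¹) : t * t * (t * t) = 1 := by
  obtain ⟨g, -, t', ht, e1, e2⟩ := trz h hk hs e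
  obtain ⟨r, e3⟩ := e2 t (Or.inl (by group))
  exact (h.sq1 (Emb.mul e3 e3)).1 (sq_Q r ((h.rel e3 e3 e1).2 rfl ▸ ht))

theorem sc4 (hk : k ∈ C{φ z0}) (hs : s ∈ Q0) (e : φ t = k * φ s * k⁻¹) (t2 : t * t = z0) : t ∈ Q0 := by
  refine (out4 t t2).elim id fun ⟨r, r1, r2, r3⟩ => absurd ?_ z1
  rcases r3 with rfl | r3
  · exact r1 ▸ sc3 h hk hs e
  obtain ⟨g, hg, t', ht, e1, e2⟩ := trz h hk hs e
  obtain ⟨x, e3⟩ := e2 _ r2
  have ez := fix_z hg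
  exact r1 ▸ sc3 h (inv_mem hg) (noQ8 t' ht ((h.rel e1 e1 ez).2 t2) x ((h.rel e3 e3 ez).2 r1)
    ((h.rel (Emb.mul e1 e3) (Emb.mul e1 e3) ez).2 r3)) (Emb.symm e3)

theorem scK (hg : g ∈ C{φ z0}) (hR : g ∈ N[(R0 i).map φ]) (hy : y ∈ K0 i) (e : φ y' = g * φ y * g⁻¹) :
    y' ∈ K0 i := by
  have k1 : ∀ a ∈ R0 i, ∀ b ∈ R0 i, zc3 a b y' := fun a ha b hb => by
    obtain ⟨a', ha', e1⟩ := Emb.of_N (inv_mem hR) ha
    obtain ⟨b', hb', e2⟩ := Emb.of_N (inv_mem hR) hb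
    have e3 := cm_cj e1 (Emb.symm e)
    have e4 := cm_cj e2 (Emb.symm e)
    rw [zc3, ← Zz_iff h (inv_mem hg) e3, ← Zz_iff h (inv_mem hg) e4, ← Zz_iff h (inv_mem hg) (Emb.mul e3 e4)]
    exact (L3 i _ ((K_L i y hy).1 a' ha').1).2.2 _ ((K_L i y hy).1 b' hb').1
  exact K_of i y' (k1 _ (e_R i).1 _ (e_R i).2.2.1) (k1 _ (e_R i).2.1 _ (e_R i).2.2.1)

theorem scR (hk : k ∈ C{φ z0}) (hs : s ∈ Q0) (e : φ t = k * φ s * k⁻¹) (ht : t ∈ R0 i) : t ∈ Q0 := by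
  refine (R_y i t ht).1.elim id fun ⟨y, y1, y2, y3⟩ => ?_
  obtain ⟨g, hg, t', ht', e1, e2⟩ := trz h hk hs e
  have hR := wR h i fun r hr => e2 r (Or.inl (by rw [cm, R_comm i r hr t ht]; group))
  obtain ⟨y', e3⟩ := e2 y y3
  have zL : z0 ∈ L0 i := by cases i <;> decide +kernel
  have hL : g ∈ N[(L0 i).map φ] := h.mem_N fun l hl => by
    obtain ⟨a, ha, e4⟩ := (K_L i y y1).2.2.resolve_left y2
    obtain ⟨a', ha', e5⟩ := Emb.of_N hR ha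
    have e6 := ((K_L i y' (scK h hg hR y1 e3)).1 a' ha').1
    rcases (L3 i l hl).2.1 with (rfl | rfl) | rfl | rfl
    exacts [⟨1, one_mem _, Emb.one g⟩, ⟨_, zL, fix_z hg⟩, ⟨_, e6, e4 ▸ cm_cj e5 e3⟩,
      ⟨_, mul_mem e6 zL, Emb.mul (e4 ▸ cm_cj e5 e3) (fix_z hg)⟩]
  have h1 := h.syl_N (R_n i)
  have h2 := h.syl_N (L_n i)
  have h3 := (map_le_range φ (R0 i)).trans h2
  have hn : N[(R0 i).map φ] ⊓ (C[(L0 i).map φ] ⊓ centQ ((R0 i).map φ) ((L0 i).map φ)) ⊴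
      N[(R0 i).map φ] ⊓ N[(L0 i).map φ] :=
    ⟨inf_le_inf_left _ (inf_le_left.trans (C_le_N _)), norm_inf (norm_N inf_le_left)
      (norm_inf (norm_C inf_le_right) (norm_centQ inf_le_left inf_le_right))⟩
  obtain ⟨κ, ⟨k1, k2, k3⟩, k4⟩ := Sylow_Jsub p2 ((h.syl.of_le (le_inf h1 h2) le_top).inf_nml hn)
    ((h.two (K0 i)).cj g⁻¹) (cj_le_of_mem_N (by
      rintro _ ⟨y, hy, rfl⟩
      refine ⟨h1 ⟨y, rfl⟩, ?_, (mem_centQ h3).2 ⟨h2 ⟨y, rfl⟩, ?_⟩⟩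
      · rintro _ ⟨a, ha, rfl⟩
        rw [← map_mul, (K_L i y hy).2.1 a ha, map_mul]
      · rintro _ ⟨a, ha, rfl⟩
        rw [← map_commutatorElement, h.mem]
        simpa [commutatorElement_def, mul_assoc] using L_n i a _ ((K_L i y hy).1 a ha).1)
      (hn.norm (inv_mem ⟨hR, hL⟩)))
  rw [← cj_mul] at k4
  have n1 : κ * g⁻¹ ∈ C{φ z0} := mul_mem (C_le_C1 (h.mem.2 zL) k2) (inv_mem hg)
  have n2 : κ * g⁻¹ ∈ N[(K0 i).map φ] := h.mem_N fun y hy => by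
    obtain ⟨y', e4⟩ := Emb.ex (k4.trans inf_le_left) hy
    exact ⟨y', scK h n1 (mul_mem k1 (inv_mem hR)) hy e4, e4⟩
  obtain ⟨l, hl, e4⟩ := ((mem_centQ h3).1 k3).2 _ (h.mem.2 ht)
  have e5 : φ (l * t) = κ * g⁻¹ * φ t' * (κ * g⁻¹)⁻¹ := by
    rw [map_mul, e4, e1, commutatorElement_def]; group
  have k5 : ∀ y ∈ K0 i, Zz (cm (l * t) y) := fun y hy => by
    obtain ⟨y', hy', e6⟩ := Emb.of_N (inv_mem n2) hy
    exact (Zz_iff h (inv_mem n1) (cm_cj (Emb.symm e5) e6)).1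
      (((K_L i y' hy').1 t' ((h.mem_of hR e1).2 ht)).2 ht')
  exact (mul_mem_cancel_left (L3 i l hl).1.1).1 ((R_y i _ (mul_mem (L3 i l hl).1.2 ht)).2
    (k5 _ (e_R i).2.2.2.1) (k5 _ (e_R i).2.2.2.2))

theorem sc (hk : k ∈ C{φ z0}) (hs : s ∈ Q0) (e : φ t = k * φ s * k⁻¹) : t ∈ Q0 := by
  rcases (Zz_iff h hk (Emb.mul e e)).2 (Q_sq s hs) with t2 | t2
  swap
  · exact sc4 h hk hs e t2
  rcases out2 t t2 with h1 | h1 | ⟨q, hq, q1, q2, q3⟩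
  · exact h1
  · exact h1.elim (scR h hk hs e) (scR h hk hs e)
  obtain ⟨g, hg, t', ht, e1, e2⟩ := trz h hk hs e
  obtain ⟨q', e3⟩ := e2 q q2
  have := fun i => scR h (i := i) (inv_mem hg) (mul_mem ht (sc4 h hg hq e3
    ((h.rel e3 e3 (fix_z hg)).2 q1))) (Emb.symm (Emb.mul e1 e3))
  exact (mul_mem_cancel_right hq).1 (q3.elim (this _) (this _))

theorem CQ' : φ.range ⊓ C[Q0.map φ] ≤ zpowers (φ z0) := by
  rintro _ ⟨⟨s, rfl⟩, hs⟩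
  rcases CQ s fun q hq => h.mem_C.1 (C_le_C1 (h.mem.2 hq) hs) with rfl | rfl
  · rw [map_one]; exact one_mem _
  · exact mem_zpowers _

theorem cons_Q : Cons (Q0.map φ) C{φ z0} := by
  refine gold_Q (h.syl.of_le le_H le_top) (Emb.sq z2) le_rfl (h.mem.2 zQ)
    (map_le_range _ _) ?_ (fun a ha hc => mem_zp (Emb.sq z2) (CQ' h ⟨map_le_range _ _ ha, hc⟩)) ?_
    fun R hR h1 ⟨a, ha, b, hb, ab⟩ => ?_
  · rintro _ ⟨q, hq, rfl⟩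
    rw [← map_mul, ← map_one φ, h.eq, h.eq]
    exact Q_sq q hq
  · rintro _ ⟨q, hq, rfl⟩ g hg ⟨s, e⟩
    exact ⟨s, sc h hg hq e, e⟩
  obtain ⟨a, ha', rfl⟩ := hR ha
  obtain ⟨b, hb', rfl⟩ := hR hb
  have k1 : ∀ s, φ s ∈ R → an s := fun s hs => by
    have := h1 _ hs
    rwa [← map_mul, ← map_one φ, h.eq, h.eq, h.eq] at this
  have ab' : a * b ≠ b * a := fun e => ab (by rw [← map_mul, e, map_mul])
  have k2 : ∀ a b, φ a ∈ R → a * b ≠ b * a → a * a = z0 := fun a b ha e =>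
    ((k1 a ha).resolve_left (by rintro rfl; simp at e)).resolve_left (by rintro rfl; exact e (zc b).symm)
  have k3 : ∀ s, bad a b s → ∃ s ∈ φ.range, s ∉ N[R] ∧ ¬ cj s R ≤ C[R] := fun s hs => by
    refine ⟨_, ⟨s, rfl⟩, fun e => hs.1 ?_, fun e => hs.2 ?_⟩
    · have k4 : ∀ x y, φ x ∈ R → φ y ∈ R → an (s * x * s⁻¹ * y) := fun x y hx hy => k1 _ (by
        simpa only [map_mul, map_inv] using mul_mem (conj_mem e hx) hy)
      have hab : φ (a * b) ∈ R := by rw [map_mul]; exact mul_mem ha hb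
      exact ⟨k4 a a ha ha, k4 a b ha hb, k4 a _ ha hab, k4 b a hb ha, k4 b b hb hb, k4 b _ hb hab⟩
    · have k4 : ∀ x y, φ x ∈ R → φ y ∈ R → s * x * s⁻¹ * y = y * (s * x * s⁻¹) := fun x y hx hy =>
        h.inj (by simpa only [map_mul, map_inv] using mem_C'.1 (e (conj_mem_cj _ hx)) _ hy)
      exact ⟨k4 a a ha ha, k4 a b ha hb, k4 b b hb hb, k4 b a hb ha⟩
  rcases q8 a ha' (k2 a b ha ab') b hb' (k2 b a hb ab'.symm) ab'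
    (k1 _ (by rw [map_mul]; exact mul_mem ha hb)) with e | e <;> exact k3 _ e

theorem bal_z (a2 : g * g = 1) (ha : g ∈ C{φ z0}) : Od[C{g}] ⊓ C{φ z0} ≤ Od[C{φ z0}] :=
  bal1 (cons_Q h) (h.two _) ((map_le_range _ _).trans le_H) (cq_le (cons_Q h) (h.syl.of_le le_H le_top)
    (h.syl_N Q_n) ((CQ' h).trans (zpowers_le.2 (h.mem.2 zQ)))) a2 ha

end H25.L5
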