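import Mathlib
import Cfsg.Agent.H25.L5M1

/-!
# Facts about the Sylow `2`-subgroup of `L₅(2)`: the action on `Q`
-/

set_option autoImplicit false
set_option maxRecDepth 100000
set_option synthInstance.maxSize 4000

namespace H25.L5

open H28

noncomputable abbrev B0 (i : Bool) : Subgroup S0 := mk (cond i 511 767)
  (cond i [0, 1, 2, 3, 4, 5, 6, 7, 8] [0, 1, 2, 3, 4, 5, 6, 7, 9]) (by cases i <;> decide +kernel)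
noncomputable abbrev J0 (i : Bool) : Subgroup S0 :=
  mk (cond i 13 19) (cond i [0, 2, 3] [0, 1, 4]) (by cases i <;> decide +kernel)
noncomputable abbrev W0 (i : Bool) : Subgroup S0 :=
  mk (cond i 79 55) (cond i [0, 1, 2, 3, 6] [0, 1, 2, 4, 5]) (by cases i <;> decide +kernel)
noncomputable abbrev Z2 : Subgroup S0 := mk 7 [0, 1, 2] (by decide +kernel)

abbrev co (a b : S0) : Prop := a * b = b * a

def ch (i : Bool) (s : S0) : Bool :=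
  Nat.beq (Nat.land (Nat.shiftRight s.n (cond i 6 5)) 1) (Nat.land (Nat.shiftRight s.n (cond i 9 8)) 1)

theorem ch_mul (i : Bool) (b : S0) : ∀ a, ch i (a * b) = (ch i a == ch i b) :=
  gens (p := fun b => ∀ a, ch i (a * b) = (ch i a == ch i b)) (by cases i <;> decide +kernel)
    (fun b c h1 h2 a => by
      rw [← mul_assoc, h2, h1, h2]
      cases ch i a <;> cases ch i b <;> cases ch i c <;> rfl) b
    fun k hk _ => (show ∀ k < 10, ∀ a, ch i (a * el (2 ^ k)) = (ch i a == ch i (el (2 ^ k))) by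
      cases i <;> decide +kernel) k hk

noncomputable def M0 (i : Bool) : Subgroup S0 := subOf (fun s => ch i s = true)
  (by cases i <;> decide +kernel) fun a b ha hb => by rw [ch_mul, ha, hb]; rfl

theorem card_M (i : Bool) : Nat.card (M0 i) = 512 :=
  (Nat.card_coe_set_eq _).trans ((ncard_cnt fun s => ch i s = true).trans (by cases i <;> decide +kernel))

theorem B_eq (i : Bool) : B0 i = Q0 ⊔ R0 i := le_antisymm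
  (mk_le fun k hk h => ((show ∀ k < 10, (cond i 511 767).testBit k → el (2 ^ k) ∈ Q0 ∨ el (2 ^ k) ∈ R0 i by
    cases i <;> decide +kernel) k hk h).elim Subgroup.mem_sup_left Subgroup.mem_sup_right)
  (sup_le (show ∀ s ∈ Q0, s ∈ B0 i by cases i <;> decide +kernel)
    (show ∀ s ∈ R0 i, s ∈ B0 i by cases i <;> decide +kernel))
theorem B_cm (i : Bool) {r w : S0} (hr : r ∈ R0 i) (hw : w ∈ B0 i) : cm w r ∈ Q0 := by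
  rw [B_eq] at hw
  have : Q0.Normal := ⟨fun s hs g => Q_n g s hs⟩
  obtain ⟨q, hq, w, hw', rfl⟩ := Subgroup.mem_sup_of_normal_left.1 hw
  convert Q_n w⁻¹ _ (mul_mem (inv_mem hq) (Q_n r q hq)) using 1
  rw [cm, show r * (q * w) * r⁻¹ = r * q * r⁻¹ * (r * w * r⁻¹) by group, R_comm i r hr w hw']; group
theorem RB (i : Bool) : ∀ x ∈ R0 i, x ∈ B0 (!i) → x ∈ Q0 ∨ x * el 128 ∈ Q0 := by
  cases i <;> decide +kernel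
theorem toE (i : Bool) : ∀ w : S0, w * w = 1 → w ∈ B0 (!i) ∨ ∃ s ∈ R0 (!i), (e i 256)⁻¹ * (s * w * s⁻¹) ∈ Q0 := by
  cases i <;> decide +kernel
theorem B_of (i : Bool) : ∀ w ∈ R0 i, w ∈ B0 (!i) ∨ ∀ x, x ∈ B0 i ∨ cm w x ∉ Q0 := by
  cases i <;> decide +kernel
theorem J_cm (i : Bool) : ∀ q ∈ Q0, e i 256 * q * (e i 256 * q) = 1 → ∀ p ∈ Q0, cm (e i 256 * q) p ∈ J0 i := by
  cases i <;> decide +kernel
theorem J_ex (i : Bool) : ∀ j ∈ J0 i, (∃ q ∈ Q0, Zz (cm (e i 256) q * j)) ∧ (∀ p ∈ W0 i, co p j) ∧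
    ¬ co (j * e i 64) (e i 2) ∧ j ∈ Q0 := by cases i <;> decide +kernel
theorem W_of (i : Bool) : (∀ p ∈ Q0, co p (e i 8) → co p (e i 4) → p ∈ W0 i) ∧ e i 8 ∈ J0 i ∧ e i 4 ∈ J0 i ∧
    z0 ∈ J0 i ∧ e i 64 ∈ W0 i ∧ e i 256 ∉ Q0 ∧ e i 64 * e i 64 = 1 ∧ e i 256 * e i 256 = 1 ∧
    Zz (cm (e i 64) (e i 256)) ∧ ch i (e i 64) = false ∧ e i 64 ∈ Q0 := by cases i <;> decide +kernel
theorem W_B (i : Bool) : ∀ p ∈ W0 i, p ∈ Q0 ∧ (∀ k < 10, (cond i 511 767).testBit k →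
    el (2 ^ k) * p * (el (2 ^ k))⁻¹ * p⁻¹ ∈ J0 i) ∧ ∀ q ∈ W0 i, (p * p = z0 → q * q = z0 → q * p ∈ J0 i) ∧
    ((q ∈ J0 i ↔ p ∈ J0 i) → (q * q = z0 ↔ p * p = z0) →
      q * p⁻¹ ∈ J0 i ∨ q * p⁻¹ * (q * p⁻¹) = z0) := by cases i <;> decide +kernel
theorem co14 (i : Bool) : ∀ t ∈ Q0, t * t = 1 → (co t (e i 2) → (∀ s ∈ R0 (!i), co (s * t * s⁻¹) (e i 2)) ∧
    ∃ u ∈ R0 (!i), u ∉ Q0 ∧ Zz (cm t u)) ∧ (¬ co t (e i 2) → cnt (fun s => s * t = t * s) ≤ 128 ∧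
      (¬ co (t * z0) (e i 2)) ∧ ∀ u ∈ B0 (!i), Zz (cm t u) → u ∈ Q0) := by cases i <;> decide +kernel
theorem C_iff (i : Bool) : ∀ s, s ∈ C0 i ↔ s * e i 64 = e i 64 * s := by cases i <;> decide +kernel
theorem card_C (i : Bool) : Nat.card (C0 i) = 128 := (card_cnt _).trans (by cases i <;> decide +kernel)
theorem C_cm (i : Bool) : ∀ b ∈ C0 i, ∀ c ∈ C0 i, Zz (cm (b * b) c) := by cases i <;> decide +kernel
theorem C_ex (i : Bool) : ∃ b ∈ C0 i, ∃ c ∈ C0 i, cm (b * b) c = z0 := by cases i <;> decide +kernel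
theorem M_inv (i : Bool) : ∀ u, ch i u = true → u * u = 1 → (u ∈ R0 true ∨ u ∈ R0 false) ∨ co u (e i 2) ∧
    ∃ b, co b u ∧ ¬ Zz (b * b) ∧ ∃ c ∈ Q0, co c u ∧ cm (b * b) c = z0 := by cases i <;> decide +kernel
theorem R_C (i j : Bool) : ∃ r ∈ R0 j, r ∉ C0 i := by cases i <;> cases j <;> decide +kernel
theorem L_of (i : Bool) : (∀ a ∈ R0 i, a ∈ Q0 ∨ ∃ q ∈ Q0, Zz (cm a q * e i 4)) ∧
    (∀ x ∈ R0 i, x * el 128 ∈ Q0 → ∀ q ∈ Q0, cm x q ∈ Z2) ∧ (∀ l ∈ J0 i, l ∈ Z2 → l ∈ L0 i) ∧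
    el 128 ∈ R0 i ∧ el 128 ∉ Q0 ∧ z0 ∈ Z2 ∧ z0 ∈ L0 i ∧ e i 8 ∉ L0 i ∧ e i 4 ∈ L0 i ∧ ¬ Zz (e i 4) := by
  cases i <;> decide +kernel
theorem Z2_c (i : Bool) : ∀ p ∈ Z2, (p ∉ L0 i → Zz (p * e i 2) ∨ ∀ l ∈ L0 i, ¬ Zz l → Zz (p * l * z0 * e i 2)) ∧
    p ∈ Q0 ∧ ∀ s, Zz (cm p s) := by cases i <;> decide +kernel
theorem al_spec (i : Bool) : al i z0 = z0 ∧ al i (el 128) = el 128 ∧ (∀ s ∈ Q0, al i s ∈ Q0) ∧
    al i (e i 8) = e i 8 * e i 4 * z0 ∧ al i (e (!i) 8) = e (!i) 8 ∧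
    ∀ j, (∀ s ∈ R0 j, al i s ∈ R0 j) ∧ al i (e j 2) = e j 2 ∧ al i (e j 256) = e j 256 := by
  cases i <;> decide +kernel
theorem red0' (i : Bool) : ∀ q ∈ R0 i, q ∈ Q0 → q ∈ Z2 ∨ ∃ s ∈ R0 (!i), e i 8 * (s * q * s⁻¹) ∈ L0 i := by
  cases i <;> decide +kernel
theorem mv' (i : Bool) : ∀ p ∈ Z2, Zz (p * e i 2) → (∀ l ∈ L0 i, p⁻¹ * l ∈ Z2 ∧ p⁻¹ * l ∉ L0 i) ∧
    (∀ q ∈ Q0, co q p ↔ co q (e i 2)) ∧ ∃ s ∈ Q0, s * e i 2 * s⁻¹ = p := by cases i <;> decide +kernel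
theorem L_z (i : Bool) : ∀ l ∈ L0 (!i), l ∈ Z2 ∧ l ∈ V0 i ∧ (Zz l ∨ Zz (l * e i 2)) := by
  cases i <;> decide +kernel
theorem redA (i : Bool) : ∀ q ∈ Q0, q * q = 1 → (¬ co q (e i 2) → (co q (e i 4) → ∃ s ∈ R0 (!i),
    co (s * q * s⁻¹) (e i 8) ∧ co (s * q * s⁻¹) (e i 4) ∧ s * q * s⁻¹ ∉ R0 i) ∧
      (co q (e i 4) ∨ ∃ s ∈ R0 i, co (s * q * s⁻¹) (e (!i) 8) ∧ ¬ co (s * q * s⁻¹) (e i 2))) ∧
    (co q (e i 2) → co q (e i 4) → (q ∈ R0 true ∨ q ∈ R0 false) ∧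
      (q ∉ R0 i → ∃ s ∈ R0 i, e (!i) 8 * (s * q * s⁻¹) ∈ L0 (!i)) ∧ (q ∉ R0 (!i) → ∀ p ∈ Z2,
        Zz (p * e i 4) → ∃ s, s * e i 8 * s⁻¹ = q ∨ s * e i 8 * s⁻¹ = q * p)) := by
  cases i <;> decide +kernel
theorem e_not (i : Bool) : e (!i) 2 = e i 4 ∧ e (!i) 4 = e i 2 ∧ e i 2 ∈ L0 (!i) ∧ ¬ Zz (e i 2) ∧
    e i 2 ∈ Q0 ∧ e i 2 * e i 2 = 1 ∧ e i 8 ∈ Q0 ∧ e i 32 ∈ Q0 ∧ e i 32 * e i 32 = 1 ∧ e i 32 ∉ R0 (!i) ∧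
    co (e i 32) (e i 2) ∧ co (e i 32) (e (!i) 8) ∧ ¬ co (e i 32 * e (!i) 8) (e i 8) ∧ e i 4 ∈ Q0 := by
  cases i <;> decide +kernel
theorem V_c (i : Bool) : (∀ v ∈ V0 i, v ∈ Q0 ∧ v * v = 1 ∧ (Zz v ∨ ∃ s, s * e i 2 * s⁻¹ = v ∨
    s * e i 8 * s⁻¹ = v ∨ s * e i 32 * s⁻¹ = v)) ∧ z0 ∈ V0 i ∧
    ∀ q ∈ Q0, co q (e i 2) → co q (e i 8) → co q (e i 32) → q ∈ V0 i := by cases i <;> decide +kernel
theorem out_c : ∀ s : S0, s * s = 1 → (s * el 128 ∈ Q0 → s ∈ R0 true ∨ s ∈ R0 false) ∧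
    (s ∈ B0 true → s ∈ B0 false → s ∈ Q0 ∨ s * el 128 ∈ Q0) := by decide +kernel

end H25.L5
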