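import Mathlib
import Cfsg.Agent.H25.L5A
import Cfsg.Agent.H25.L5M2

/-!
# Sylow `2`-subgroups of type `L₅(2)`: the normaliser of `Q`
-/

set_option autoImplicit false
set_option linter.unusedSectionVars false
set_option maxRecDepth 100000
set_option synthInstance.maxSize 4000

open Cfsg H24 H26 H26.Gold Subgroup H7.SJ H25.Tw H25.Sy
open scoped commutatorElement

namespace H25.Sy

universe u

variable {G : Type u} [Group G] [Finite G] {K L S X : Subgroup G}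

theorem le_of_sq (hn : K ⊴ X) (hS : Syl 2 X S) (hSK : S ≤ K) (h2 : ∀ x ∈ X, x * x ∈ K) : X ≤ K := fun x hx => by
  obtain ⟨y, z, hy, hz, h3, h4, rfl⟩ := exists_piElt_decomp {2} x
  have := zpowers_le.2 hx
  exact mul_mem (le_of_idx_compl hn (hS.idx_of_ge hSK) hy.isPi (zpowers_le.2 (this h3)) (mem_zpowers y))
    (mem_of_odd hz (h2 z (this h4)))

theorem Emb.syl_card {M : Type} [Group M] {φ : M →* G} (h : Emb φ) {X : Subgroup M} {c : M}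
    (hK : φ.range ≤ K) (hL : L ≤ K ⊓ C{φ c}) (hX : X.map φ ≤ L) (hc : c ∈ X)
    (hm : ∀ k ∈ K, ∀ s, φ s = k * φ c * k⁻¹ → {r | r * s = s * r}.ncard ≤ ♯X) : Syl 2 L (X.map φ) := by
  obtain ⟨P, hP, h1⟩ := Sylow_superset p2 (h.two X) hX
  obtain ⟨k, hk, e⟩ := h.pull hK hP.pi (hP.le.trans (hL.trans inf_le_left))
  obtain ⟨s, e1⟩ := e _ (h1 (h.mem.2 hc))
  refine eq_of_card_ge h1 ?_ ▸ hP
  rw [h.card, ← card_cj k]
  refine le_trans (card_le (B := C{s}.map φ) fun x hx => ?_) ((h.card _).le.trans (le_trans ?_ (hm k hk s e1)))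
  · obtain ⟨p, hp, rfl⟩ := mem_cj'.1 hx
    obtain ⟨r, e2⟩ := e p hp
    refine ⟨r, mem_C1.2 (h.inj ?_), e2⟩
    rw [map_mul, map_mul, e1, e2, ← conj_mul', ← conj_mul', mem_C1.1 (hL (hP.le hp)).2]
  · exact ((Nat.card_coe_set_eq _).trans (congrArg _ (Set.ext fun _ => mem_C1))).le

end H25.Sy

namespace H25.L5

universe u

variable {G : Type u} [Group G] [Finite G] {φ : S0 →* G} {g k m n : G}
  {a b c p q r s s' t w : S0} {i j : Bool} (h : Emb φ)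

/-- the normaliser of `Q` in the centraliser of `z`. -/
abbrev Nq (φ : S0 →* G) : Subgroup G := C{φ z0} ⊓ N[Q0.map φ]

def Ex (φ : S0 →* G) (i : Bool) (n : G) : Prop :=
  n ∈ Nq φ ∧ n ∈ N[(R0 i).map φ] ∧ ∃ x, φ x = n * φ (e i 256) * n⁻¹ ∧ x * el 128 ∈ Q0

theorem NB (h1 : g ∈ N[Q0.map φ]) (h2 : g ∈ N[(R0 i).map φ]) : g ∈ N[(B0 i).map φ] := by
  rw [B_eq, Subgroup.map_sup]
  exact norm_sup inf_le_left inf_le_right (mem_inf.2 ⟨h1, h2⟩)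

include h

theorem T_N : φ.range ≤ Nq φ := le_inf le_H (h.syl_N Q_n)

theorem toN (hk : k ∈ C{φ z0}) (hs : s ∈ Q0) (e : φ t = k * φ s * k⁻¹) : ∃ n ∈ Nq φ, φ t = n * φ s * n⁻¹ := by
  obtain ⟨o, ho, n, hn, rfl⟩ := (mem_sup_of_norm (inf_le_left.trans (pcore_nml _ _).norm)).1 (cons_Q h hk)
  obtain ⟨r, hr, e1⟩ := Emb.of_N hn.2 hs
  have e2 : φ (t * r⁻¹) = o * (φ r * o⁻¹ * (φ r)⁻¹) := by rw [map_mul, map_inv, e, e1]; group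
  have := ((h.two Q0).inf_eq_bot (Od_odd C{φ z0})).le ⟨h.mem.2 (mul_mem (sc h hk hs e) (inv_mem hr)),
    e2 ▸ mul_mem ho ((pcore_nml _ _).conj_mem (le_H ⟨r, rfl⟩) (inv_mem ho))⟩
  rw [mem_bot, map_mul, map_inv, mul_inv_eq_one] at this
  exact ⟨n, hn, this.trans e1⟩

theorem czQ : φ s ∈ cz (φ w) (Q0.map φ) ↔ cm w s ∈ Q0 := by
  rw [mem_cz (h.syl_N Q_n ⟨w, rfl⟩), and_iff_right (h.syl_N Q_n ⟨s, rfl⟩), ← h.mem]
  simp only [cm, map_mul, map_inv]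

theorem NL (h1 : g ∈ Nq φ) (h2 : g ∈ N[(R0 i).map φ]) : g ∈ N[(L0 i).map φ] := by
  obtain ⟨f1, f2, f3, f4, f5, f6, f7, -⟩ := L_of i
  obtain ⟨l, -, e1⟩ := Emb.of_N h1.2 (e_not i).2.2.2.2.2.2.2.2.2.2.2.2.2
  have k1 : ∀ a ∈ R0 i, a ∉ Q0 → ∃ q ∈ Q0, Zz (cm a q * l) := fun a ha hq => by
    obtain ⟨a', ha', e2⟩ := Emb.of_N (inv_mem h2) ha
    obtain ⟨q, hq, e3⟩ := (f1 a' ha').resolve_left (mt (h.mem_of (inv_mem h1.2) e2).1 hq)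
    obtain ⟨q', hq', e4⟩ := Emb.of_N h1.2 hq
    exact ⟨q', hq', (Zz_iff h h1.1 (Emb.mul (cm_cj (by simpa using Emb.symm e2) e4) e1)).2 e3⟩
  obtain ⟨q, hq, e2⟩ := k1 _ (e_R i).2.2.1 (W_of i).2.2.2.2.2.1
  obtain ⟨q', hq', e3⟩ := k1 _ f4 f5
  have hl := f3 l ((mul_mem_cancel_left (by
    simpa using J_cm i 1 (one_mem _) (by simpa using (W_of i).2.2.2.2.2.2.2.1) q hq)).1
    (e2.mem (W_of i).2.2.2.1)) ((mul_mem_cancel_left (f2 _ f4 (by decide +kernel) q' hq')).1 (e3.mem f6))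
  refine h.mem_N fun s hs => ?_
  rcases (L3 i s hs).2.1 with (rfl | rfl) | rfl | rfl
  exacts [⟨1, one_mem _, Emb.one g⟩, ⟨_, f7, fix_z h1.1⟩, ⟨_, hl, e1⟩,
    ⟨_, mul_mem hl f7, Emb.mul e1 (fix_z h1.1)⟩]

section
variable (nf : ∀ n, ¬ Ex φ i n)
include nf

theorem nfL (hg : g ∈ Nq φ) (e1 : φ w = g * φ (e i 256) * g⁻¹) : w ∉ B0 (!i) := fun hw => by
  have wN := h.syl_N Q_n ⟨w, rfl⟩
  obtain ⟨m, hm, l, hl, h1, h2⟩ := two_over' (h.syl.of_le (T_N h) le_top)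
    (L := C{φ z0} ⊓ cz (φ w) (Q0.map φ)) (inf_le_inf_left _ (coq_le_N _)) (h.two (R0 (!i)))
    (by rintro _ ⟨r, hr, rfl⟩; exact ⟨le_H ⟨r, rfl⟩, (czQ h).2 (B_cm _ hr hw)⟩)
    ((h.two (R0 i)).cj g) fun x hx => by
      obtain ⟨_, ⟨r, hr, rfl⟩, rfl⟩ := mem_cj'.1 hx
      have := mul_mem (mul_mem hg (T_N h ⟨r, rfl⟩)) (inv_mem hg)
      refine ⟨this.1, (mem_cz wN).2 ⟨this.2, ?_⟩⟩
      rw [e1, ← mul_assoc, ← conj_mul', ← map_mul, R_comm i r hr _ (e_R i).2.2.1, map_mul]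
      simp [mul_assoc]
  rw [← cj_mul] at h2
  obtain ⟨l1, q, hq, l2⟩ := (mem_cz wN).1 hl.2
  have hn := mul_mem (mul_mem hm (mem_inf.2 ⟨hl.1, l1⟩)) hg
  have n1 := wR h i fun _ => Emb.ex h2
  obtain ⟨x, hx, e2⟩ := Emb.of_N n1 (e_R i).2.2.1
  have e3 : φ x = m * φ (w * q) * m⁻¹ := by rw [e2, map_mul, l2, e1]; group
  refine nf _ ⟨hn, n1, x, e2, (RB i x hx ((h.mem_of (NB hm.2 (wR h _ fun _ => Emb.ex h1)) e3).2
    (mul_mem hw (B_eq _ ▸ mem_sup_left hq)))).resolve_left (mt (h.mem_of hn.2 e2).1 (W_of i).2.2.2.2.2.1)⟩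

theorem nfE (hg : g ∈ Nq φ) (e1 : φ w = g * φ (e i 256) * g⁻¹) :
    ∃ s ∈ R0 (!i), φ s * g ∈ C{φ z0} ⊓ cz (φ (e i 256)) (Q0.map φ) := by
  obtain ⟨s, hs, e2⟩ := (toE i w ((h.sq1 e1).2 (W_of i).2.2.2.2.2.2.2.1)).resolve_left (nfL h nf hg e1)
  have := mul_mem (T_N h ⟨s, rfl⟩) hg
  refine ⟨s, hs, this.1, (mem_cz (h.syl_N Q_n ⟨_, rfl⟩)).2 ⟨this.2, _, e2, ?_⟩⟩
  rw [map_mul, map_inv, Emb.conj_conj e1]

theorem nfS : Syl 2 (C{φ z0} ⊓ cz (φ (e i 256)) (Q0.map φ)) ((B0 i).map φ) := by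
  have eB : e i 256 ∈ B0 i := B_eq i ▸ mem_sup_right (e_R i).2.2.1
  refine h.syl_of le_H inf_le_left ?_ fun k hk x hx _ h1 ⟨x', e1⟩ => ?_
  · rw [B_eq, Subgroup.map_sup]
    refine sup_le ?_ ?_ <;> rintro _ ⟨r, hr, rfl⟩ <;> refine ⟨le_H ⟨r, rfl⟩, (czQ h).2 ?_⟩
    · simpa [cm, mul_assoc] using mul_mem (Q_n (e i 256)⁻¹ r hr) (inv_mem hr)
    · exact B_cm i hr eB
  have k1 := wQ h hk fun s hs => h1 s (B_eq i ▸ mem_sup_left hs)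
  have k2 := wR h i fun s hs => h1 s (B_eq i ▸ mem_sup_right hs)
  obtain ⟨w, hw, e2⟩ := Emb.of_N k2 (e_R i).2.2.1
  rw [← conj_mem_iff (NB k1 k2), ← e1, h.mem]
  refine ((B_of i w hw).resolve_left (nfL h nf ⟨hk, k1⟩ e2) x').resolve_right (not_not.2 (h.mem.1 ?_))
  convert conj_mem k1 ((mem_cz (h.syl_N Q_n ⟨_, rfl⟩)).1 hx.2).2 using 1
  simp only [map_mul, map_inv, e1, e2]; group

theorem nf1 (hk : k ∈ Nq φ) (e1 : φ t = k * φ (e i 64) * k⁻¹) (e2 : φ w = k * φ (e i 256) * k⁻¹) :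
    ¬ co t (e i 2) := fun hc => by
  obtain ⟨f1, f2, f3, f4, f5, -, f6, f7, -, -, f8⟩ := W_of i
  have hJ : C{φ z0} ⊓ cz (φ (e i 256)) (Q0.map φ) ≤ N[(J0 i).map φ] := fun x hx => h.mem_N fun j hj => by
    obtain ⟨x1, p, hp, x2⟩ := (mem_cz (h.syl_N Q_n ⟨_, rfl⟩)).1 hx.2
    have e3 : φ (e i 256 * p) = x * φ (e i 256) * x⁻¹ := by rw [map_mul, x2]; group
    obtain ⟨⟨q, hq, e4⟩, -, -, jQ⟩ := J_ex i j hj
    obtain ⟨q', hq', e5⟩ := Emb.of_N x1 hq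
    obtain ⟨j', -, e6⟩ := Emb.of_N x1 jQ
    exact ⟨j', (mul_mem_cancel_left (J_cm i p hp ((h.sq1 e3).2 f7) q' hq')).1
      (((Zz_iff h hx.1 (Emb.mul (cm_cj e3 e5) e6)).2 e4).mem f4), e6⟩
  have hW : C{φ z0} ⊓ cz (φ (e i 256)) (Q0.map φ) ≤ N[(W0 i).map φ] := fun x hx => h.mem_N fun p hp => by
    obtain ⟨p', hp', e3⟩ := Emb.of_N (coq_le_N _ hx.2) (W_B i p hp).1
    have k1 : ∀ j ∈ J0 i, co p' j := fun j hj => by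
      obtain ⟨j', hj', e4⟩ := Emb.of_N (inv_mem (hJ hx)) hj
      exact (h.comm (Emb.symm e3) e4).1 ((J_ex i j' hj').2.1 p hp)
    exact ⟨p', f1 p' hp' (k1 _ f2) (k1 _ f3), e3⟩
  have hn : (W0 i).map φ ≤ N[(J0 i).map φ] := (map_mono fun p hp =>
    B_eq i ▸ mem_sup_left (W_B i p hp).1).trans ((nfS h nf).le.trans hJ)
  have key := le_of_sq (nml_inf_of_norm (norm_centQ hW hJ)) (nfS h nf) (le_inf (nfS h nf).le
    (map_le_iff_le_comap.2 (mk_le fun k hk e => (mem_centQ hn).2 ⟨hJ ((nfS h nf).le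
      (h.mem.2 ?_)), ?_⟩))) fun x hx => ⟨mul_mem hx hx, (mem_centQ hn).2
      ⟨hJ (mul_mem hx hx), ?_⟩⟩
  · obtain ⟨s, hs, h1⟩ := nfE h nf hk e2
    obtain ⟨j, hj, e3⟩ := ((mem_centQ hn).1 (key h1).2).2 _ (h.mem.2 f5)
    refine (J_ex i j hj).2.2.1 ?_
    rw [show j * e i 64 = s * t * s⁻¹ from h.inj (by
      rw [map_mul, e3, Emb.conj_conj e1, commutatorElement_def]; group)]
    exact ((co14 i t ((h.mem_of hk.2 e1).2 f8) ((h.sq1 e1).2 f6)).1 hc).1 s hs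
  · revert k; cases i <;> decide +kernel
  · rintro _ ⟨p, hp, rfl⟩
    rw [← map_commutatorElement, h.mem]
    exact (W_B i p hp).2.1 k hk e
  · rintro _ ⟨p, hp, rfl⟩
    obtain ⟨p', hp', e3⟩ := Emb.of_N (hW hx) hp
    obtain ⟨p'', hp'', e4⟩ := Emb.of_N (hW hx) hp'
    have e5 := Emb.mul e4 (Emb.inv e3)
    refine ⟨p'' * p'⁻¹ * (p' * p⁻¹), ?_, by simp only [map_mul, map_inv, e3, e4, commutatorElement_def]; group⟩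
    rcases ((W_B i p hp).2.2 p' hp').2 (h.mem_of (hJ hx) e3) (h.rel e3 e3 (fix_z hx.1)) with e | e
    · exact mul_mem ((h.mem_of (hJ hx) e5).2 e) e
    · exact ((W_B i _ (mul_mem hp' (inv_mem hp))).2.2 _ (mul_mem hp'' (inv_mem hp'))).1 e
        ((h.rel e5 e5 (fix_z hx.1)).2 e)

theorem nf2 (hk : k ∈ C{φ z0}) (e1 : φ t = k * φ (e i 64) * k⁻¹) : ¬ co t (e i 2) := fun hc => by
  obtain ⟨-, -, -, -, -, -, f6, -, f7, -, f8⟩ := W_of i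
  have tQ := sc h hk f8 e1
  obtain ⟨u, hu, u1, u2⟩ := ((co14 i t tQ ((h.sq1 e1).2 f6)).1 hc).2
  obtain ⟨g, hg, m, hm, w, hw, e2, h1, h2⟩ := trz0 h hk e1
  have g1 := wQ h hg fun q hq => h1 q (Q_comm t tQ q hq)
  have m1 := wQ h hm fun q hq => h2 q (Q_comm _ f8 q hq)
  obtain ⟨t1, ht1, e3⟩ := Emb.of_N m1 f8
  obtain ⟨x, e4⟩ := h2 _ f7
  obtain ⟨t2, ht2, e5⟩ := Emb.of_N g1 tQ
  obtain ⟨u', e6⟩ := h1 u u2
  have n1 := nf1 h nf ⟨hm, m1⟩ e3 e4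
  have n2 : ¬ co t2 (e i 2) := by
    rcases hw with rfl | rfl
    · rwa [show t2 = t1 from h.inj (by rw [e5, ← e2, e3, mul_one])]
    · rw [show t2 = t1 * z0 from h.inj (e5.trans (e2.symm.trans (Emb.mul e3 (fix_z hm)).symm))]
      exact ((co14 i t1 ht1 ((h.sq1 e3).2 f6)).2 n1).2.1
  obtain ⟨s, hs, e7⟩ := (toE i u' ((h.sq1 e6).2 (R_sq _ u hu))).resolve_left fun e => u1 ((h.mem_of g1 e6).1
    (((co14 i t2 ht2 ((h.sq1 e5).2 ((h.sq1 e1).2 f6))).2 n2).2.2 u' e ((Zz_iff h hg (cm_cj e5 e6)).2 u2)))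
  have g2 := inv_mem (mul_mem (T_N h ⟨s, rfl⟩) (mem_inf.2 ⟨hg, g1⟩))
  obtain ⟨q, hq, e8⟩ := Emb.of_N g2.2 e7
  refine nfL h nf g2 (w := u * q⁻¹) ?_ (B_eq _ ▸ mul_mem (mem_sup_right hu) (mem_sup_left (inv_mem hq)))
  have := Emb.mul (Emb.symm (Emb.conj_conj e6 s)) (Emb.inv e8)
  rwa [show s * u' * s⁻¹ * ((e i 256)⁻¹ * (s * u' * s⁻¹))⁻¹ = e i 256 by group] at this

theorem nfF : False := by
  have := h.simple
  obtain ⟨-, -, -, -, -, -, f6, -, -, f7, f8⟩ := W_of i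
  have hC : (C0 i).map φ ≤ C{φ (e i 64)} := by
    rintro _ ⟨s, hs, rfl⟩; exact h.mem_C.2 ((C_iff i s).1 hs)
  have kz : ∀ k b c, cm (b * b) c = z0 → (∃ b' ∈ C0 i, φ b' = k * φ b * k⁻¹) →
      (∃ c' ∈ C0 i, φ c' = k * φ c * k⁻¹) → k ∈ C{φ z0} := fun k b c e ⟨b', hb, e1⟩ ⟨c', hc, e2⟩ => by
    have e3 := e ▸ cm_cj (Emb.mul e1 e1) e2
    exact mem_C1_iff_conj.2 (((C_cm i b' hb c' hc).resolve_left (mt (h.eq1 e3).1 z1)) ▸ e3).symm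
  have h1 := (h.syl_card (L := C{φ z0} ⊓ C{φ (e i 64)}) le_H le_rfl (le_inf ((map_le_range _ _).trans le_H) hC)
    ((C_iff i _).2 rfl) fun k hk s e1 => by
      rw [ncard_cnt, card_C]
      exact ((co14 i s (sc h hk f8 e1) ((h.sq1 e1).2 f6)).2 (nf2 h nf hk e1)).1).of_norm_le p2
    (L := ⊤ ⊓ C{φ (e i 64)}) (inf_le_inf_right _ le_top) fun x hx => by
      obtain ⟨b, hb, c, hc, e⟩ := C_ex i
      exact ⟨kz x b c e (Emb.of_N hx.2 hb) (Emb.of_N hx.2 hc), hx.1.2⟩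
  obtain ⟨g, u, hu, e1⟩ := tt_simple h.syl (fun e => absurd (h.mem_C.1 (mem_C1.2 (e.comm ⟨el 32, rfl⟩
    ⟨el 4, rfl⟩))) (by decide +kernel)) (map_le_range φ (M0 i)) (by
      have := card_mul_relIndex (map_le_range φ (M0 i))
      rw [h.card, φ.range_eq_map, h.card, card_M, card_top, card_S0] at this
      rw [φ.range_eq_map]
      omega) (Emb.sq (φ := φ) f6)
  obtain ⟨k, -, e2, e3⟩ := h.ext le_top h1 (mem_top g⁻¹) (s := u) (by rw [e1]; group)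
  have k1 : ∀ j, u ∉ R0 j := fun j hj => by
    obtain ⟨r, hr, e4⟩ := R_C i j
    obtain ⟨r', hr', e5⟩ := Emb.of_N (inv_mem (wR h j fun s hs =>
      (e3 s (R_comm j s hs u hj)).imp fun _ e => e.2)) hr
    obtain ⟨r'', h2, e6⟩ := e3 r' (R_comm j r' hr' u hj)
    exact e4 ((show r'' = r from h.inj (by rw [e6, e5]; group)) ▸ h2)
  obtain ⟨u1, b, b1, -, c, -, c1, e4⟩ := (M_inv i u hu ((h.sq1 e2).1 f6)).resolve_left
    fun e => e.elim (k1 _) (k1 _)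
  exact nf2 h nf (inv_mem (kz k b c e4 (e3 b b1) (e3 c c1))) (Emb.symm e2) u1

end

/-- a good element of the normaliser of `R0 i`. -/
def Gd (φ : S0 →* G) (i : Bool) : Prop :=
  ∃ n, Ex φ i n ∧ ∃ p ∈ Z2, φ p = n * φ (e i 8) * n⁻¹ ∧ Zz (p * e i 2)

omit h in
theorem map_al {X : Subgroup S0} (hX : ∀ s ∈ X, al i s ∈ X) : X.map (φ.comp (alH i)) = X.map φ := by
  rw [← Subgroup.map_map]
  exact congrArg _ (le_antisymm (by rintro _ ⟨s, hs, rfl⟩; exact hX s hs)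
    fun s hs => ⟨_, hX s hs, al_al i s⟩)

theorem emb_al (i : Bool) : Emb (φ.comp (alH i)) :=
  ⟨h.inj.comp (Function.LeftInverse.injective (al_al i)), by
    rw [MonoidHom.range_comp, MonoidHom.range_eq_top.2 (Function.RightInverse.surjective (al_al i)),
      ← φ.range_eq_map]
    exact h.syl, h.simple⟩

omit h in
theorem gd_al (hn : Ex φ j n) (hp : p ∈ Z2) (e1 : φ p = n * φ (al i (e j 8)) * n⁻¹) (e2 : Zz (p * e j 2)) :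
    Gd (φ.comp (alH i)) j := by
  obtain ⟨f1, f2, f3, -, -, f4⟩ := al_spec i
  obtain ⟨h1, h2, x, e3, e4⟩ := hn
  have k1 : ∀ s, (φ.comp (alH i)) s = φ (al i s) := fun _ => rfl
  have k2 : ∀ p ∈ Z2, al i p = p := by cases i <;> decide +kernel
  refine ⟨n, ⟨by rwa [Nq, map_al f3, k1, f1], by rwa [map_al (f4 j).1], al i x, ?_, ?_⟩, p, hp,
    by rw [k1, k2 p hp, e1, k1], e2⟩
  · rw [k1, k1, (f4 j).2.2, ← e3]
    exact congrArg φ (al_al i x)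
  · rw [← f2, ← al_mul]
    exact f3 _ e4

theorem gd_step (i : Bool) : ∃ ψ : S0 →* G, Emb ψ ∧ Gd ψ i ∧ (Gd φ (!i) → Gd ψ (!i)) := by
  obtain ⟨n, hn⟩ : ∃ n, Ex φ i n := by
    by_contra! nf
    exact nfF h nf
  obtain ⟨h1, h2, x, e1, e2⟩ := id hn
  obtain ⟨-, f2, -, -, -, f3, f4, f5, f6, f7⟩ := L_of i
  obtain ⟨⟨q, hq, e3⟩, -, -, jQ⟩ := J_ex i _ (W_of i).2.1
  obtain ⟨q', hq', e4⟩ := Emb.of_N h1.2 hq
  obtain ⟨p, -, e5⟩ := Emb.of_N h1.2 jQ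
  have hp := (mul_mem_cancel_left (f2 x ((h.mem_of h2 e1).2 (e_R i).2.2.1) e2 q' hq')).1
    (((Zz_iff h h1.1 (Emb.mul (cm_cj e1 e4) e5)).2 e3).mem f3)
  rcases (Z2_c i p hp).1 (mt (h.mem_of (NL h h1 h2) e5).1 f5) with e6 | e6
  · exact ⟨φ, h, ⟨n, hn, p, hp, e5, e6⟩, id⟩
  obtain ⟨l, hl, e7⟩ := Emb.of_N (NL h h1 h2) f6
  refine ⟨_, emb_al h i, gd_al hn (mul_mem (mul_mem hp (by simpa using (L_z (!i) l (by simpa using hl)).1)) f3)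
    ((al_spec i).2.2.2.1 ▸ Emb.mul (Emb.mul e5 e7) (fix_z h1.1)) (e6 l hl (mt (Zz_iff h h1.1 e7).1 f7)), ?_⟩
  rintro ⟨n, hn, p, hp, e1, e2⟩
  exact gd_al hn hp ((al_spec i).2.2.2.2.1.symm ▸ e1) e2

/-- an embedding with good elements on both sides. -/
structure St (φ : S0 →* G) : Prop extends Emb φ where
  gd : ∀ i, Gd φ i

theorem exists_St : ∃ ψ : S0 →* G, St ψ := by
  obtain ⟨ψ, h1, h2, -⟩ := gd_step h true
  obtain ⟨χ, h3, h4, h5⟩ := gd_step h1 false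
  exact ⟨χ, h3, fun i => by cases i; exacts [h4, h5 h2]⟩

/-- fusion in the normaliser of `Q`. -/
def Fu (φ : S0 →* G) (a b : S0) : Prop := ∃ g ∈ Nq φ, φ b = g * φ a * g⁻¹

omit h in
theorem Fu.symm (e : Fu φ a b) : Fu φ b a := let ⟨_, h1, h2⟩ := e; ⟨_, inv_mem h1, Emb.symm h2⟩

omit h in
theorem Fu.trans (e : Fu φ a b) (e' : Fu φ b c) : Fu φ a c :=
  let ⟨_, h1, h2⟩ := e; let ⟨_, h3, h4⟩ := e'; ⟨_, mul_mem h3 h1, Emb.trans h2 h4⟩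

omit h in
theorem Fu.isConj (e : Fu φ a b) : IsConj (φ a) (φ b) := let ⟨g, _, h2⟩ := e; isConj_iff.2 ⟨g, h2.symm⟩

theorem fuT (s a : S0) : Fu φ a (s * a * s⁻¹) := ⟨_, T_N h ⟨s, rfl⟩, Emb.self s a⟩

theorem nf14 (e1 : Fu φ (e i 2) r) (hr : r ∈ Z2) : r ∈ L0 (!i) := by
  obtain ⟨k, hk, e1⟩ := e1
  obtain ⟨g, hg, m, hm, w, hw, e2, h1, h2⟩ := trz0 h hk.1 e1
  have k1 : ∀ g ∈ C{φ z0}, (∀ s, ∃ s', φ s' = g * φ s * g⁻¹) → g ∈ N[(L0 (!i)).map φ] := fun g hg e =>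
    NL h ⟨hg, wQ h hg fun s _ => e s⟩ (wR h _ fun s _ => e s)
  have f := (e_not i).2.2.1
  rw [← h.mem, ← conj_mem_iff (k1 g hg fun s => h1 s ((Z2_c i r hr).2.2 s)), ← e2]
  exact conj_mem (k1 m hm fun s => h2 s ((Z2_c i _ (L_z i _ f).1).2.2 s))
    (h.mem.2 (mul_mem f (hw.mem (L_of _).2.2.2.2.2.2.1)))

end H25.L5

namespace H25.L5.St

universe u

variable {G : Type u} [Group G] [Finite G] {φ : S0 →* G} {g k m n : G}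
  {a b c p q r s s' t w : S0} {i j : Bool} (h : St φ)

include h

theorem mvA (hq : e i 8 * q ∈ L0 i) : ∃ r ∈ Z2, r ∉ L0 i ∧ Fu φ q r := by
  obtain ⟨n, ⟨h1, h2, -⟩, p, hp, e1, e2⟩ := h.gd i
  obtain ⟨l, hl, e3⟩ := Emb.of_N (NL h.1 h1 h2) hq
  obtain ⟨f1, f2⟩ := (mv' i p hp e2).1 l hl
  exact ⟨_, f1, f2, n, h1, by simpa using Emb.mul (Emb.inv e1) e3⟩

/-- the good element on `Q`. -/
theorem mvQ (i : Bool) : ∃ n ∈ Nq φ, (∃ p ∈ Z2, Zz (p * e i 2) ∧ φ p = n * φ (e i 8) * n⁻¹) ∧ ∀ q ∈ Q0,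
    ∃ q' ∈ Q0, φ q' = n * φ q * n⁻¹ ∧ (q' ∈ R0 i ↔ q ∈ R0 i) ∧ (co q' (e i 2) ↔ co q (e i 8)) ∧
      (co q' (e i 4) ↔ co q (e i 4)) := by
  obtain ⟨n, ⟨h1, h2, -⟩, p, hp, e1, e2⟩ := h.gd i
  refine ⟨n, h1, ⟨p, hp, e2, e1⟩, fun q hq => ?_⟩
  obtain ⟨q', hq', e3⟩ := Emb.of_N h1.2 hq
  obtain ⟨l, hl, e4⟩ := Emb.of_N (NL h.1 h1 h2) (L_of i).2.2.2.2.2.2.2.2.1
  obtain ⟨f1, -, f2⟩ := L_z (!i) l (by simpa using hl)
  refine ⟨q', hq', e3, h.mem_of h2 e3, ((mv' i p hp e2).2.1 q' hq').symm.trans (h.comm e3 e1), ?_⟩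
  refine Iff.trans ?_ (h.comm e3 e4)
  rw [← (e_not i).1]
  exact ((mv' (!i) l f1 (f2.resolve_left (mt (Zz_iff h.1 h1.1 e4).1 (L_of i).2.2.2.2.2.2.2.2.2))).2.1
    q' hq').symm

theorem red45 (hq : q ∈ Q0) (q2 : q * q = 1) (hc : ¬ co q (e i 2)) : ∃ r ∈ Z2, r ∉ L0 (!i) ∧ Fu φ q r := by
  have key : ∀ q ∈ Q0, q * q = 1 → ¬ co q (e i 2) → co q (e i 4) → ∃ r ∈ Z2, r ∉ L0 (!i) ∧ Fu φ q r :=
    fun q hq q2 hc h4 => by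
      obtain ⟨s, -, f1, f2, f3⟩ := ((redA i q hq q2).1 hc).1 h4
      obtain ⟨n, hn, -, h1⟩ := h.mvQ i
      obtain ⟨q', hq', e1, g1, g2, g3⟩ := h1 _ (Q_n s q hq)
      obtain ⟨t, -, f4⟩ := ((redA i q' hq' ((h.sq1 e1).2 (H7.SJ.conj_sq q2 s))).2 (g2.2 f1) (g3.2 f2)).2.1
        (mt g1.1 f3)
      obtain ⟨r, r1, r2, r3⟩ := h.mvA f4
      exact ⟨r, r1, r2, (fuT h.1 s q).trans (Fu.trans ⟨n, hn, e1⟩ ((fuT h.1 t q').trans r3))⟩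
  rcases ((redA i q hq q2).1 hc).2 with h4 | ⟨s, -, f1, f2⟩
  · exact key q hq q2 hc h4
  obtain ⟨n, hn, -, h1⟩ := h.mvQ (!i)
  obtain ⟨q', hq', e1, -, g2, g3⟩ := h1 _ (Q_n s q hq)
  rw [(e_not i).1] at g2
  rw [(e_not i).2.1] at g3
  obtain ⟨r, r1, r2, r3⟩ := key q' hq' ((h.sq1 e1).2 (H7.SJ.conj_sq q2 s)) (mt g3.1 f2) (g2.2 f1)
  exact ⟨r, r1, r2, (fuT h.1 s q).trans (Fu.trans ⟨n, hn, e1⟩ r3)⟩

theorem red (hq : q ∈ Q0) (q2 : q * q = 1) : ∃ r ∈ Z2, Fu φ q r := by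
  have k0 : ∀ i, ¬ co q (e i 2) → ∃ r ∈ Z2, Fu φ q r := fun i hc =>
    let ⟨r, r1, _, r3⟩ := h.red45 hq q2 hc; ⟨r, r1, r3⟩
  have k1 : ∀ i, q ∈ R0 i → ∃ r ∈ Z2, Fu φ q r := fun i hi => by
    rcases red0' i q hi hq with e | ⟨s, -, e⟩
    · exact ⟨q, e, 1, one_mem _, by simp⟩
    · obtain ⟨r, r1, -, r3⟩ := h.mvA e
      exact ⟨r, r1, (fuT h.1 s q).trans r3⟩
  by_contra hn
  exact hn ((((redA true q hq q2).2 (by_contra fun e => hn (k0 _ e))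
    ((e_not true).1 ▸ by_contra fun e => hn (k0 _ e))).1).elim (k1 _) (k1 _))

theorem co_of (e1 : Fu φ (e i 2) a) (e2 : Fu φ (e i 2) b) : co a b := by
  obtain ⟨g, hg, e3⟩ := id e2
  obtain ⟨k, hk, e4⟩ := id e1
  obtain ⟨-, -, -, -, f1, f2, -⟩ := e_not i
  obtain ⟨a', ha', e5⟩ := Emb.of_N (inv_mem hg.2) ((h.mem_of hk.2 e4).2 f1)
  refine (h.comm e5 (Emb.symm e3)).1 (by_contra fun hc => ?_)
  obtain ⟨r, r1, r2, r3⟩ := h.red45 ha' ((h.sq1 e5).2 ((h.sq1 e4).2 f2)) hc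
  exact r2 (nf14 h.1 (e1.trans (Fu.trans ⟨_, inv_mem hg, e5⟩ r3)) r1)

theorem fu8 (i : Bool) : Fu φ (e i 2) (e i 8) := by
  obtain ⟨n, hn, ⟨p, hp, e1, e2⟩, -⟩ := h.mvQ i
  obtain ⟨s, -, rfl⟩ := (mv' i p hp e1).2.2
  exact (fuT h.1 s _).trans (Fu.symm ⟨n, hn, e2⟩)

theorem fu32 (i : Bool) : Fu φ (e i 2) (e i 32) := by
  obtain ⟨f1, f2, -, -, -, -, -, f3, f4, f5, f6, f7, f8, -⟩ := e_not i
  obtain ⟨n, hn, ⟨p, hp, e1, e2⟩, h1⟩ := h.mvQ (!i)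
  obtain ⟨q, hq, e3, g1, g2, g3⟩ := h1 _ f3
  rw [f1] at g2 e1
  rw [f2] at g3
  obtain ⟨s, e4 | e4⟩ := ((redA i q hq ((h.sq1 e3).2 f4)).2 (g3.2 f6) (g2.2 f7)).2.2 (mt g1.1 f5) p hp e1
  · exact (h.fu8 i).trans ((fuT h.1 s _).trans (e4 ▸ Fu.symm ⟨n, hn, e3⟩))
  · exact absurd (h.co_of ((h.fu8 i).trans ((fuT h.1 s _).trans (e4 ▸ Fu.symm ⟨n, hn, Emb.mul e3 e2⟩)))
      (h.fu8 i)) f8

theorem fuV (hs : s ∈ V0 i) (hz : ¬ Zz s) : Fu φ (e i 2) s := by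
  obtain ⟨t, rfl | rfl | rfl⟩ := ((V_c i).1 s hs).2.2.resolve_left hz
  exacts [fuT h.1 t _, (h.fu8 i).trans (fuT h.1 t _), (h.fu32 i).trans (fuT h.1 t _)]

theorem NV (i : Bool) : Nq φ ≤ N[(V0 i).map φ] := fun g hg => h.mem_N fun s hs => by
  obtain ⟨s', hs', e1⟩ := Emb.of_N hg.2 ((V_c i).1 s hs).1
  refine ⟨s', ?_, e1⟩
  by_cases hz : Zz s
  · exact ((Zz_iff h.1 hg.1 e1).2 hz).mem (V_c i).2.1
  have := (h.fuV hs hz).trans ⟨g, hg, e1⟩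
  exact (V_c i).2.2 s' hs' (h.co_of this ⟨1, one_mem _, by simp⟩) (h.co_of this (h.fu8 i))
    (h.co_of this (h.fu32 i))

theorem redO (s2 : s * s = 1) (hs : s ∉ Q0) :
    ∃ r, r * el 128 ∈ Q0 ∧ (r ∈ R0 true ∨ r ∈ R0 false) ∧ Fu φ s r := by
  have key : ∀ i, s ∉ B0 (!i) → ∃ r, r * el 128 ∈ Q0 ∧ Fu φ s r := fun i hi => by
    obtain ⟨t, -, e1⟩ := (toE i s s2).resolve_left hi
    obtain ⟨n, ⟨h1, -, x, e2, e3⟩, -⟩ := h.gd i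
    obtain ⟨q, hq, e4⟩ := Emb.of_N h1.2 e1
    exact ⟨x * q, by simpa [mul_assoc] using mul_mem (Q_n x q hq) e3, (fuT h.1 t s).trans
      ⟨n, h1, by simpa using Emb.mul e2 e4⟩⟩
  obtain ⟨r, r1, r2⟩ : ∃ r, r * el 128 ∈ Q0 ∧ Fu φ s r := by
    by_contra hn
    exact hn ⟨s, ((out_c s s2).2 (by_contra fun e => hn (key false e))
      (by_contra fun e => hn (key true e))).resolve_left hs, 1, one_mem _, by simp⟩
  obtain ⟨g, hg, e⟩ := id r2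
  exact ⟨r, r1, (out_c r ((h.sq1 e).2 s2)).1 r1, r2⟩

end H25.L5.St
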