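import Mathlib
import Cfsg.Agent.H25.L5M2

/-!
# Facts about the Sylow `2`-subgroup of `L₅(2)`: the intersection of the two groups of order `64`
-/

set_option autoImplicit false
set_option maxRecDepth 100000
set_option synthInstance.maxSize 4000

namespace H25.L5

open H28

/-- the tensors of rank one. -/
abbrev rk (s : S0) : Prop := s.n = 1 ∨ s.n = 2 ∨ s.n = 3 ∨ s.n = 4 ∨ s.n = 5 ∨ s.n = 128 ∨ s.n = 130 ∨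
  s.n = 132 ∨ s.n = 135

def b0 : S0 := el 6
def b1 : S0 := el 133

abbrev z1p (s : S0) : Prop := s = 1 ∨ s = b0 ∨ s = b1 ∨ s = el 131

noncomputable def Z1 : Subgroup S0 := subOf z1p (Or.inl rfl) fun a b ha hb =>
  (show ∀ a, z1p a → ∀ b, z1p b → z1p (a * b) by decide +kernel) a ha b hb

theorem mem_Z1 {s : S0} : s ∈ Z1 ↔ z1p s := Iff.rfl

noncomputable abbrev E0 (i : Bool) : Subgroup S0 :=
  mk (cond i 560 328) (cond i [4, 5, 9] [3, 6, 8]) (by cases i <;> decide +kernel)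
noncomputable abbrev U0 : Subgroup S0 := mk 980 [2, 4, 6, 7, 8, 9] (by decide +kernel)

theorem cm_rk : ∀ a ∈ R0 true, ∀ b ∈ R0 false, cm a b = 1 ∨ rk (cm a b) := by decide +kernel
theorem rk_cm : ∀ s ∈ Z4, rk s → ∃ a ∈ R0 true, ∃ b ∈ E0 true, b ∈ R0 false ∧ cm a b = s := by decide +kernel
theorem rk_Z : ∀ s, rk s → s ∈ Z4 ∧ s ≠ 1 ∧ (s = z0 ∨ ∃ t ∈ Q0, t * e true 2 * t⁻¹ = s ∨
    t * e false 2 * t⁻¹ = s ∨ t * el 128 * t⁻¹ = s) ∧ ((∃ t ∈ Q0, t * el 128 * t⁻¹ = s) ∨ s ∈ Q0 ∧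
      (s = z0 ∨ rk (z0 * s) ∧ ∃ t ∈ Q0, t * s * t⁻¹ = s * z0)) := by decide +kernel
theorem Z_R (i : Bool) : ∀ s ∈ Z4, s ∈ R0 i := by cases i <;> decide +kernel
theorem R_Z : ∀ s ∈ R0 true, s ∈ R0 false → s ∈ Z4 := by decide +kernel
theorem RR_eq : RR = R0 true ⊔ R0 false := le_antisymm
  (mk_le fun k hk h => ((show ∀ k < 10, Nat.testBit 927 k → el (2 ^ k) ∈ R0 true ∨ el (2 ^ k) ∈ R0 false by
    decide +kernel) k hk h).elim Subgroup.mem_sup_left Subgroup.mem_sup_right)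
  (sup_le (show ∀ s ∈ R0 true, s ∈ RR by decide +kernel) (show ∀ s ∈ R0 false, s ∈ RR by decide +kernel))
theorem grid : ∀ a ∈ Z4, rk a → rk (a * z0) → ∀ b ∈ Z4, rk b → rk (b * z0) → ¬ rk (a * b) → a ≠ b →
    ∀ i, ∃ t ∈ Q0, t * a * t⁻¹ = e i 2 ∨ t * b * t⁻¹ = e i 2 := by decide +kernel
theorem redR' (i : Bool) : (∀ s ∈ R0 i, s ∈ Z4 ∨ (∃ t ∈ Q0, t * s * t⁻¹ = s * z0) ∨
    ∃ t ∈ E0 i, Zz (e i 256 * (t * s * t⁻¹))) ∧ (∀ x ∈ R0 i, x * el 128 ∈ Q0 → x ∈ Z4 ∧ (rk x ∨ rk (x * z0)) ∨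
      ∃ t ∈ Q0, t * x * t⁻¹ = x * z0) ∧
    ∀ t ∈ Q0, t * e i 256 * t⁻¹ ≠ e i 256 * z0 ∧ t * el 128 * t⁻¹ ≠ el 128 * z0 := by
  cases i <;> decide +kernel
theorem two_V (i j : Bool) : ∀ s ∈ R0 i, s ∈ Q0 ∨ ∃ t ∈ Q0, t * s * t⁻¹ * s ∈ V0 j ∧ ¬ Zz (t * s * t⁻¹ * s) := by
  cases i <;> cases j <;> decide +kernel
theorem Z2_rk (i : Bool) : ∀ r ∈ Z2, r ∈ Z4 ∧ (rk r → r ∈ V0 i ∨ ∃ t ∈ Q0, t * r * t⁻¹ = e i 4) := by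
  cases i <;> decide +kernel
theorem cosD' (i : Bool) : ∀ c, Zz c → ∀ a ∈ R0 i, z1p a ∨ ∃ w ∈ Z4, z1p w ∧ (a * w ∈ V0 i ∧ a * w ≠ 1 ∨
    rk (a * w) ∨ ∃ t ∈ E0 i, t * (e i 256 * c) * t⁻¹ = a * w) := by cases i <;> decide +kernel
theorem RR_c : ∀ r ∈ RR, (z1p (r * r) → r ∈ R0 true ∨ r ∈ R0 false) ∧ co r b0 ∧ co r b1 ∧
    (r * r = 1 ∨ rk (r * r * b0) ∨ rk (r * r * b1)) := by decide +kernel
theorem RR_of : ∀ p ∈ Z4, p = 1 ∨ rk p ∨ (∀ q ∈ Z4, q = 1 ∨ rk q ∨ p * q = 1 ∨ rk (p * q) ∨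
    ∀ x, co x p → co x q → x ∈ RR) ∧ (rk (p * b0) ∨ z1p p) ∧ (rk (p * z0) ∨ ∃ t ∈ Q0, t * b0 * t⁻¹ = p) ∧
    (∃ t ∈ Q0, t * b0 * t⁻¹ = p ∨ t * el 134 * t⁻¹ = p) ∧ (p ∉ Q0 ∨ (∃ q ∈ Q0, Zz (cm (el 128) q * p)) ∧
      ∀ j, ∀ x ∈ R0 j, ∀ q ∈ Q0, Zz (cm x q * p) → x * el 128 ∈ Q0) := by decide +kernel
theorem Z_gen : ∀ x ∈ Z4, x ∈ Q0 ∨ ∀ a ∈ Z4, ∃ q ∈ Q0, Zz (a * cm x q) ∨ Zz (a * x * cm x q) := by
  decide +kernel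
theorem inv_b : ∀ y : S0, y * y = 1 → co y b0 → (y ∈ R0 true ∨ y ∈ R0 false) ∨
    (∃ a ∈ Q0, co a y ∧ co a b0 ∧ a * a = z0) ∧ ∃ t ∈ Q0, t * y * t⁻¹ = y * z0 := by decide +kernel
theorem card_Cb : cnt (fun s => s * b0 = b0 * s) = 512 := by decide +kernel

end H25.L5
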