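import Mathlib
import Cfsg.Agent.H25.L5B
import Cfsg.Agent.H25.L5M3
import Cfsg.Agent.H26.GMain

/-!
# Sylow `2`-subgroups of type `L₅(2)`: the fusion of the central involution
-/

set_option autoImplicit false
set_option linter.unusedSectionVars false
set_option maxRecDepth 100000
set_option synthInstance.maxSize 4000

open Cfsg H24 H26 H26.Gold Subgroup H7.SJ H25.Tw H25.Sy

namespace H25.L5

universe u

variable {G : Type u} [Group G] [Finite G] {φ : S0 →* G} {g k m n v x : G}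
  {a b c d p q r s s' t w : S0} {i j : Bool}

/-- the class of the central involution. -/
abbrev D (φ : S0 →* G) (a : G) : Prop := IsConj (φ z0) a

theorem D.conj (ha : D φ x) (g : G) : D φ (g * x * g⁻¹) := ha.trans (isConj_iff.2 ⟨g, rfl⟩)

theorem D.of (ha : D φ (φ s)) (e : φ s' = g * φ s * g⁻¹) : D φ (φ s') := e ▸ ha.conj g

theorem D.cj (ha : D φ (φ s)) (e : t * s * t⁻¹ = s') : D φ (φ s') := ha.of (e ▸ Emb.self t s)

theorem D.cj' (ha : D φ (φ s')) (e : t * s * t⁻¹ = s') : D φ (φ s) := ha.of (Emb.symm (e ▸ Emb.self t s))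

theorem Fu.mul_z (e : Fu φ a b) : Fu φ (a * z0) (b * z0) :=
  let ⟨g, h1, h2⟩ := e; ⟨g, h1, Emb.mul h2 (fix_z h1.1)⟩

/-- the normaliser of both groups of order `64`. -/
abbrev N2 (φ : S0 →* G) : Subgroup G := N[(R0 true).map φ] ⊓ N[(R0 false).map φ]

theorem mem_N2 (h1 : k ∈ N[(R0 i).map φ]) (h2 : k ∈ N[(R0 (!i)).map φ]) : k ∈ N2 φ := by
  cases i
  exacts [⟨h2, h1⟩, ⟨h1, h2⟩]

section
variable (h : Emb φ)
include h

theorem D.sq (ha : D φ x) : x * x = 1 ∧ x ≠ 1 := conj_inv' ha (Emb.sq z2) (h.ne_one z1)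

theorem D.sq' (ha : D φ (φ s)) : s * s = 1 ∧ s ≠ 1 := h.inv_of ha (Emb.sq z2) (h.ne_one z1)

theorem NZ (hk : k ∈ N2 φ) : k ∈ N[Z4.map φ] := h.mem_N fun s hs => by
  obtain ⟨s', h1, e⟩ := Emb.of_N hk.1 (Z_R _ s hs)
  exact ⟨s', R_Z s' h1 ((h.mem_of hk.2 e).2 (Z_R _ s hs)), e⟩

theorem rk_of (hk : k ∈ N2 φ) (e : φ s' = k * φ s * k⁻¹) (hs : rk s) : rk s' := by
  obtain ⟨a, ha, b, -, hb, rfl⟩ := rk_cm s (rk_Z s hs).1 hs
  obtain ⟨a', ha', e1⟩ := Emb.of_N hk.1 ha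
  obtain ⟨b', hb', e2⟩ := Emb.of_N hk.2 hb
  rw [h.inj (e.trans (cm_cj e1 e2).symm)]
  exact (cm_rk a' ha' b' hb').resolve_left (mt (h.eq1 (cm_cj e1 e2)).1 (rk_Z _ hs).2.1)

theorem rk_iff (hk : k ∈ N2 φ) (e : φ s' = k * φ s * k⁻¹) : rk s' ↔ rk s :=
  ⟨rk_of h (inv_mem hk) (Emb.symm e), rk_of h hk e⟩

theorem extR (hd : D φ (φ s)) : ∃ k, φ z0 = k * φ s * k⁻¹ ∧ ∀ i, s ∈ R0 i → k ∈ N[(R0 i).map φ] := by
  obtain ⟨k, e1, e2⟩ := h.ext0 zc hd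
  exact ⟨k, e1, fun i hs => wR h i fun r hr => e2 r (R_comm i r hr s hs)⟩

theorem extZ (hd : D φ (φ s)) (hs : s ∈ Z4) : ∃ k ∈ N2 φ, φ z0 = k * φ s * k⁻¹ :=
  let ⟨k, e1, e2⟩ := extR h hd; ⟨k, ⟨e2 _ (Z_R _ s hs), e2 _ (Z_R _ s hs)⟩, e1⟩

theorem D_rk (hs : s ∈ Z4) (hd : D φ (φ s)) : rk s :=
  let ⟨_, hk, e⟩ := extZ h hd hs; (rk_iff h hk e).1 (by decide +kernel)

theorem D_all (hd : D φ (φ (el 128))) (hs : rk s) : D φ (φ s) := by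
  obtain ⟨k, hk, e⟩ := extZ h hd (by decide +kernel)
  obtain ⟨a, ha, e1⟩ := Emb.of_N (NZ h hk) (show el 130 ∈ Z4 by decide +kernel)
  obtain ⟨b, hb, e2⟩ := Emb.of_N (NZ h hk) (show el 132 ∈ Z4 by decide +kernel)
  have key : ∀ i, D φ (φ (L5.e i 2)) := fun i => by
    obtain ⟨t, -, e3 | e3⟩ := grid a ha (rk_of h hk e1 (by decide +kernel))
      (rk_of h hk (Emb.mul e1 e) (by decide +kernel)) b hb (rk_of h hk e2 (by decide +kernel))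
      (rk_of h hk (Emb.mul e2 e) (by decide +kernel)) (mt (rk_iff h hk (Emb.mul e1 e2)).1 (by decide +kernel))
      (mt (h.eq' e1 e2).1 (by decide +kernel)) i
    · exact ((hd.cj (t := el 32) (by decide +kernel)).of e1).cj e3
    · exact ((hd.cj (t := el 64) (by decide +kernel)).of e2).cj e3
  rcases (rk_Z s hs).2.2.1 with rfl | ⟨t, -, e | e | e⟩
  exacts [IsConj.refl _, (key _).cj e, (key _).cj e, hd.cj e]

theorem D_24 (hd : ∀ i, D φ (φ (e i 2))) : D φ (φ (el 128)) := by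
  obtain ⟨k, hk, e⟩ := extZ h (hd true) (by decide +kernel)
  obtain ⟨a, ha, e1⟩ := Emb.of_N (NZ h hk) (show L5.e false 2 ∈ Z4 by decide +kernel)
  rcases (rk_Z a (rk_of h hk e1 (by decide +kernel))).2.2.2 with ⟨t, -, e2⟩ | ⟨-, e2 | ⟨e2, -⟩⟩
  · exact ((hd false).of e1).cj' e2
  · exact absurd ((h.eq' e1 e).1 e2) (by decide +kernel)
  · exact absurd ((rk_iff h hk (Emb.mul e e1)).1 e2) (by decide +kernel)

theorem bal_D (ha : D φ x) (v2 : v * v = 1) (hv : v ∈ C{x}) : Od[C{v}] ⊓ C{x} ≤ Od[C{x}] := by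
  obtain ⟨g, rfl⟩ := isConj_iff.1 ha
  rw [← cj_C1, mem_cj'] at hv
  obtain ⟨w, hw, rfl⟩ := hv
  rw [← cj_C1, ← cj_C1, pcore_cj, pcore_cj, ← cj_inf, cj_le_cj]
  exact bal_z h (by rwa [← conj_mul', conj_eq_one_iff'] at v2) hw

end

namespace St

variable (h : St φ)
include h

theorem e23 (i : Bool) : ∃ x ∈ Z4, (rk x ∨ rk (x * z0)) ∧ Fu φ (e i 256) x := by
  obtain ⟨n, ⟨h1, h2, x, e1, e2⟩, -⟩ := h.gd i
  rcases (redR' i).2.1 x ((h.mem_of h2 e1).2 (e_R i).2.2.1) e2 with e3 | ⟨t, ht, e3⟩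
  · exact ⟨x, e3.1, e3.2, n, h1, e1⟩
  obtain ⟨t', ht', e4⟩ := Emb.of_N (inv_mem h1.2) ht
  have e5 := Emb.symm e1
  exact absurd ((h.eq' (Emb.mul (Emb.mul e4 e5) (Emb.inv e4)) (Emb.mul e5 (fix_z (inv_mem h1.1)))).2 e3)
    ((redR' i).2.2 t' ht').1

theorem redR (hs : s ∈ R0 i) : (∃ r ∈ Z4, Fu φ s r) ∨ ∃ t ∈ Q0, t * s * t⁻¹ = s * z0 := by
  rcases (redR' i).1 s hs with e | e | ⟨t, -, e⟩
  · exact Or.inl ⟨s, e, 1, one_mem _, by simp⟩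
  · exact Or.inr e
  obtain ⟨x, hx, -, e1⟩ := h.e23 i
  have e2 := (W_of i).2.2.2.2.2.2.2.1
  rcases e with e | e
  · exact Or.inl ⟨x, hx, (fuT h.1 t s).trans (mul_left_cancel (e.trans e2.symm) ▸ e1)⟩
  · exact Or.inl ⟨_, mul_mem hx (by decide +kernel), (fuT h.1 t s).trans
      ((show t * s * t⁻¹ = L5.e i 256 * z0 by rw [← e, ← mul_assoc, e2, one_mul]) ▸ e1.mul_z)⟩

theorem red_all (s2 : s * s = 1) : ∃ i, ∃ r ∈ R0 i, Fu φ s r ∧ (s ∈ Q0 → r ∈ Z2) ∧ (s ∉ Q0 → r ∉ Q0) := by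
  by_cases hs : s ∈ Q0
  · obtain ⟨r, r1, r2⟩ := h.red hs s2
    exact ⟨true, r, Z_R _ r (Z2_rk true r r1).1, r2, fun _ => r1, fun e => absurd hs e⟩
  obtain ⟨r, -, r1, g, hg, e⟩ := h.redO s2 hs
  exact r1.elim (fun r1 => ⟨_, r, r1, ⟨g, hg, e⟩, fun e => absurd e hs, fun _ => mt (h.mem_of hg.2 e).1 hs⟩)
    fun r1 => ⟨_, r, r1, ⟨g, hg, e⟩, fun e => absurd e hs, fun _ => mt (h.mem_of hg.2 e).1 hs⟩

theorem D24 : D φ (φ (el 128)) := by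
  by_contra hn
  have k1 : ∀ r ∈ Z4, D φ (φ r) → r ∈ Q0 ∧ (r = z0 ∨ rk (z0 * r) ∧ ∃ t ∈ Q0, t * r * t⁻¹ = r * z0) :=
    fun r hr hd => (rk_Z r (D_rk h.1 hr hd)).2.2.2.resolve_left fun ⟨t, _, e⟩ => hn (hd.cj' e)
  have k2 : ∀ i, ∀ d ∈ R0 i, D φ (φ d) → d ≠ z0 → D φ (φ (d * z0)) := fun i d hd h1 h2 => by
    rcases h.redR hd with ⟨r, hr, g, hg, e⟩ | ⟨t, -, e⟩
    · obtain ⟨-, t, -, e1⟩ := (k1 r hr (h1.of e)).2.resolve_left (mt (h.eq' e (fix_z hg.1)).1 h2)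
      exact ((h1.of e).cj e1).of (Emb.symm (Emb.mul e (fix_z hg.1)))
    · exact h1.cj e
  have k3 : ∀ i, ∀ s ∈ R0 i, D φ (φ s) → s ∈ Q0 := fun i s hs hd => by
    by_contra hq
    obtain ⟨k, e1, e2⟩ := extR h.1 hd
    refine hn (D_24 h.1 fun j => ?_)
    obtain ⟨t, -, f1, f2⟩ := (two_V i j s hs).resolve_left hq
    obtain ⟨d, hd', e3⟩ := Emb.of_N (e2 i hs) (R_n i t s hs)
    exact ((k2 i d hd' ((hd.cj rfl).of e3) (mt (h.eq' e3 e1).1 fun e => f2 (Or.inl (by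
      rw [e, R_sq i s hs])))).of (Emb.symm (Emb.mul e3 e1))).trans (h.fuV f1 f2).isConj.symm
  refine hn (D_24 h.1 fun i => by_contra fun hi => ?_)
  rw [← (e_not i).2.1] at hi
  generalize (!i) = j at hi
  have k4 : ∀ s, D φ (φ s) → s ∈ V0 j := fun s hd => by
    obtain ⟨i, r, r1, ⟨g, hg, e1⟩, r2, r3⟩ := h.red_all (hd.sq' h.1).1
    have r4 := r2 (by_contra fun e => r3 e (k3 i r r1 (hd.of e1)))
    exact (h.mem_of (h.NV j hg) e1).1 (((Z2_rk j r r4).2 (D_rk h.1 (Z2_rk j r r4).1 (hd.of e1))).resolve_right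
      fun ⟨t, _, e⟩ => hi ((hd.of e1).cj e))
  obtain ⟨r, r1, r2⟩ := h.zstar z2 z1 (c := el 32) (s' := el 4) (by decide +kernel)
  have k5 : D φ (φ (e j 2)) := r1.trans (h.fuV (k4 r r1) fun e => e.elim (D.sq' h.1 r1).2 r2).isConj.symm
  have := h.simple
  rcases goldschmidt h.syl (A := (V0 j).map φ) (ne_bot_of_mem (h.mem.2 (V_c j).2.1) (h.ne_one z1))
    (ea_of_sq (by rintro _ ⟨w, hw, rfl⟩; exact Emb.sq ((V_c j).1 w hw).2.1)).abl ⟨map_le_range _ _, by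
      rintro _ ⟨s, hs, rfl⟩ g ⟨t, e1⟩
      by_cases hz : Zz s
      · rcases hz with rfl | rfl
        · simp
        · exact ⟨t, k4 t (D.of (IsConj.refl _) e1), e1⟩
      · exact ⟨t, k4 t (D.of (k5.trans (h.fuV hs hz).isConj) e1), e1⟩⟩ with e1 | ⟨H, hH⟩
  · exact absurd (h.mem_C.1 (mem_C1.2 (e1.comm ⟨el 32, rfl⟩ ⟨el 4, rfl⟩))) (by decide +kernel)
  · exact hn (isConj_iff.2 (H26.BR.conj_of_se hH (ord2 (Emb.sq z2) (h.ne_one z1))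
      (ord2 (Emb.sq (by decide +kernel)) (h.ne_one (by decide +kernel)))))

theorem D_iff (hs : s ∈ Z4) : D φ (φ s) ↔ rk s := ⟨D_rk h.1 hs, D_all h.1 h.D24⟩

theorem D_V (hs : s ∈ V0 i) (s1 : s ≠ 1) : D φ (φ s) := by
  by_cases hz : Zz s
  · rw [hz.resolve_left s1]
  · exact (D_all h.1 h.D24 (by cases i <;> decide +kernel)).trans (h.fuV hs hz).isConj

theorem cosD (ha : a ∈ R0 i) (hz : ¬ z1p a) : ∃ w, z1p w ∧ D φ (φ (a * w)) := by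
  obtain ⟨c, hc, hd⟩ : ∃ c, Zz c ∧ D φ (φ (e i 256 * c)) := by
    obtain ⟨x, -, e1 | e1, e2⟩ := h.e23 i
    · exact ⟨1, Or.inl rfl, (mul_one (e i 256)).symm ▸ (D_all h.1 h.D24 e1).trans e2.isConj.symm⟩
    · exact ⟨z0, Or.inr rfl, (D_all h.1 h.D24 e1).trans e2.mul_z.isConj.symm⟩
  obtain ⟨w, -, w1, e1 | e1 | ⟨t, -, e1⟩⟩ := (cosD' i c hc a ha).resolve_left hz
  exacts [⟨w, w1, h.D_V e1.1 e1.2⟩, ⟨w, w1, D_all h.1 h.D24 e1⟩, ⟨w, w1, hd.cj e1⟩]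

end St

end H25.L5
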