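import Mathlib
import Cfsg.Agent.H25.L5C

/-!
# Sylow `2`-subgroups of type `L₅(2)`: the core of the centraliser of the central involution
-/

set_option autoImplicit false
set_option linter.unusedSectionVars false
set_option maxRecDepth 100000
set_option synthInstance.maxSize 4000

open Cfsg H24 H26 H26.Gold Subgroup H7.SJ H25.Tw H25.Sy

namespace H25.Sy

universe u

variable {G : Type u} [Group G] [Finite G] {H M P Z : Subgroup G} {a b c : G}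

theorem se_comm (hH : IsStronglyEmbedded H) (hr : H8.Suz.Rank2 G) (hP : TwoG P) (hPH : P ≤ H) (ha : a ∈ P)
    (hb : b ∈ P) (a2 : a * a = 1) (b2 : b * b = 1) : a * b = b * a := by
  by_cases a1 : a = 1
  · simp [a1]
  by_cases b1 : b = 1
  · simp [b1]
  obtain ⟨Q, hQ⟩ := H26.BR.ls_top hH hr
  have := hQ.comm a (mem_top _) ⟨a1, a2⟩ (H26.BR.fix_one.2 (hPH ha)) b
    (hQ.inv_mem b (mem_top _) ⟨b1, b2⟩ (H26.BR.fix_one.2 (hPH hb)))
  have := (hP.inf_eq_bot ((isPi_compl_iff p2).2 (H26.BR.odd_Ker (H26.BR.se_cosets hH)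
    (H26.BR.exists_move hH.1)).not_two_dvd_nat)).le
    (mem_inf.2 ⟨mul_mem (mul_mem (mul_mem ha hb) (inv_mem ha)) (inv_mem hb), this⟩)
  rwa [mem_bot, mul_inv_eq_one, mul_inv_eq_iff_eq_mul] at this

theorem se_le (hM : M ≤ H) (h : ∀ t ∈ M, t ≠ 1 → t * t = 1 → ∀ g ∈ H, g * t * g⁻¹ ∈ M → g ∈ M)
    (hP : TwoG P) (hPM : P ≤ M) (ha : a ∈ P) (hb : b ∈ P) (hc : c ∈ P) (a2 : a * a = 1) (b2 : b * b = 1)
    (c2 : c * c = 1) (c1 : c ≠ 1) (ac : a ≠ c) (h1 : a * c = c * a) (h2 : a * b ≠ b * a) : H ≤ M := by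
  by_contra e
  have se : IsStronglyEmbedded (M.subgroupOf H) := by
    refine ⟨fun h1 => e (subgroupOf_eq_top.1 h1), ?_, fun g hg => ?_⟩
    · rw [card_subgroupOf_of_le hM, even_iff_two_dvd, ← ord2 c2 c1]
      exact orderOf_dvd_card' (hPM hc)
    · by_contra h1
      obtain ⟨s, ⟨s1, s2⟩, s3⟩ := exists_orderOf_eq p2 (even_iff_two_dvd.1 (Nat.not_odd_iff_even.1 h1))
      obtain ⟨r, r1, rfl⟩ := s2
      rw [MulEquiv.coe_toMonoidHom, MulAut.conj_apply] at s1 s3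
      rw [orderOf_conj] at s3
      exact hg (h r r1 (fun h => H6.ne_one_of_orderOf_two s3 (Subtype.ext h))
        (congrArg Subtype.val (H6.mul_self_of_orderOf_two s3)) g g.2 s1)
  have k := fun x (hx : x ∈ P) => hM (hPM hx)
  exact h2 (congrArg Subtype.val (se_comm se ⟨⟨a, k a ha⟩, ⟨c, k c hc⟩, fun e => h2 (by
    rw [show a = 1 from congrArg Subtype.val e]; simp), fun e => c1 (congrArg Subtype.val e),
    fun e => ac (congrArg Subtype.val e), Subtype.ext a2, Subtype.ext c2, Subtype.ext h1⟩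
    (isPi_subgroupOf hP H) (comap_mono hPM) (a := ⟨a, k a ha⟩) (b := ⟨b, k b hb⟩) ha hb (Subtype.ext a2)
    (Subtype.ext b2)))

theorem se_mod (hN : H ≤ N[Z]) (hZ : Z ≤ M) (hM : M ≤ H)
    (h : ∀ t ∈ M, t ∉ Z → t * t ∈ Z → ∀ g ∈ H, g * t * g⁻¹ ∈ M → g ∈ M)
    (hP : TwoG P) (hPM : P ≤ M) (ha : a ∈ P) (hb : b ∈ P) (hc : c ∈ P) (a2 : a * a = 1) (b2 : b * b = 1)
    (c2 : c * c = 1) (c1 : c ∉ Z) (ac : a⁻¹ * c ∉ Z) (h1 : a * c = c * a) (h2 : (a * b)⁻¹ * (b * a) ∉ Z) :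
    H ≤ M := by
  have nM : Z ⊴ M := ⟨hZ, hM.trans hN⟩
  have k := fun x (hx : x ∈ P) => nM.norm (hPM hx)
  have k2 : ∀ x ∈ P, ∀ y ∈ P, cs Z x * cs Z y = cs Z (x * y) := fun x hx y hy =>
    (ap_mul _ (k x hx) (k y hy)).symm
  refine le_of_quo_le hN nM (se_le (quo_mono Z hM) (fun x hx x1 x2 y hy => ?_) (hP.quo Z) (quo_mono Z hPM)
    (cs_mem_quo ha (k a ha)) (cs_mem_quo hb (k b hb)) (cs_mem_quo hc (k c hc))
    ((cs_sq (k a ha)).2 (a2 ▸ one_mem _)) ((cs_sq (k b hb)).2 (b2 ▸ one_mem _))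
    ((cs_sq (k c hc)).2 (c2 ▸ one_mem _)) ((cs_eq_one (k c hc)).not.2 c1)
    ((cs_eq_cs (k a ha) (k c hc)).not.2 ac) (by rw [k2 a ha c hc, k2 c hc a ha, h1]) ?_)
  · obtain ⟨s, hs, s1, rfl⟩ := mem_quo.1 hx
    obtain ⟨g, hg, g1, rfl⟩ := mem_quo.1 hy
    rw [conj_quo nM g1 s1]
    exact fun h2 => cs_mem_quo (h s hs ((cs_eq_one s1).not.1 x1) ((cs_sq s1).1 x2) g hg h2) g1
  · rw [k2 a ha b hb, k2 b hb a ha]
    exact (cs_eq_cs (k _ (mul_mem ha hb)) (k _ (mul_mem hb ha))).not.2 h2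

end H25.Sy

namespace H25.L5

universe u

variable {G : Type u} [Group G] [Finite G] {φ : S0 →* G} {g k m n v x y : G} {Θ : Subgroup G}
  {a b c d p q r s s' t w : S0} {i j : Bool}

section
variable (h : Emb φ)
include h

theorem nc (hy : y ∈ C{φ z0}) (hR : y ∈ N[(R0 i).map φ]) : ∃ n ∈ Nq φ, n ∈ N[(R0 i).map φ] ∧
    ∀ a ∈ R0 i, n * φ a * n⁻¹ = y * φ a * y⁻¹ := by
  have hB : (B0 i).map φ ≤ N[Od[C{φ z0}]] := ((map_le_range _ _).trans le_H).trans (pcore_nml _ _).norm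
  have hn : y ∈ N[Od[C{φ z0}] ⊔ (B0 i).map φ] := by
    rw [B_eq, Subgroup.map_sup, ← sup_assoc]
    exact norm_sup inf_le_left inf_le_right
      (mem_inf.2 ⟨((cons_Q h).nml ((map_le_range _ _).trans le_H)).norm hy, hR⟩)
  obtain ⟨u, hu, e1⟩ := Sylow_Jsub p2 (syl_sup (Od_odd _) (h.two _) hB) ((h.two (B0 i)).cj y)
    (cj_le_of_mem_N le_sup_right hn)
  rw [sup_comm] at hu
  obtain ⟨_, ⟨s, -, rfl⟩, o, ho, rfl⟩ := (mem_sup_of_norm' hB).1 hu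
  rw [← cj_mul, mul_assoc, cj_mul, cj_le_iff] at e1
  have e2 := e1.trans (cj_le_of_mem (map_le_range _ _) (inv_mem ⟨s, rfl⟩))
  have h1 := mul_mem (pcore_le _ _ ho) hy
  have h2 := wR h i fun s hs => Emb.ex e2 (B_eq i ▸ mem_sup_right hs)
  refine ⟨o * y, ⟨h1, wQ h h1 fun s hs => Emb.ex e2 (B_eq i ▸ mem_sup_left hs)⟩, h2, fun a ha => ?_⟩
  have h3 := cents_of_inf_eq_bot (A := Od[C{φ z0}] ⊓ N[(R0 i).map φ]) inf_le_right
    (norm_inf (((map_le_range _ _).trans le_H).trans (pcore_nml _ _).norm) (norm_N (norm_self _)))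
    (((Od_odd _).inf_left _).inf_eq_bot' (h.two _)) ⟨ho, (mul_mem_cancel_right hR).1 h2⟩
  rw [← conj_eq_of_mem_C h3 (conj_mem hR (h.mem.2 ha))]; group

theorem NZ_of (hy : y ∈ C{φ z0}) (hR : y ∈ N[(R0 i).map φ]) (hp : p ∈ Z4) (p1 : p ≠ 1) (p2 : ¬ rk p)
    (hc : y ∈ C{φ p}) : y ∈ N[Z4.map φ] := by
  obtain ⟨n, h1, h2, h3⟩ := nc h hy hR
  have e1 : φ p = n * φ p * n⁻¹ := by rw [h3 p (Z_R i p hp), mem_C1_iff_conj.1 hc]
  obtain ⟨x, hx, xQ, x', hx', e2⟩ : ∃ x ∈ Z4, x ∉ Q0 ∧ ∃ x' ∈ Z4, φ x' = n * φ x * n⁻¹ := by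
    rcases (((RR_of p hp).resolve_left p1).resolve_left p2).2.2.2.2 with e | ⟨⟨q, hq, e2⟩, f⟩
    · exact ⟨p, hp, e, p, hp, e1⟩
    obtain ⟨x, hx, e3⟩ := Emb.of_N h2 (L_of i).2.2.2.1
    obtain ⟨q', hq', e4⟩ := Emb.of_N h1.2 hq
    refine ⟨_, by decide +kernel, by decide +kernel, x, (((redR' i).2.1 x hx (f i x hx q' hq'
      ((Zz_iff h h1.1 (Emb.mul (cm_cj e3 e4) e1)).2 e2))).resolve_right fun ⟨t, ht, e5⟩ => ?_).1, e3⟩
    obtain ⟨t', ht', e6⟩ := Emb.of_N (inv_mem h1.2) ht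
    have e7 := Emb.symm e3
    exact ((redR' i).2.2 t' ht').2 ((h.eq' (Emb.mul (Emb.mul e6 e7) (Emb.inv e6))
      (Emb.mul e7 (fix_z (inv_mem h1.1)))).2 e5)
  refine h.mem_N fun a ha => ?_
  obtain ⟨a', -, e3⟩ := Emb.of_N h2 (Z_R i a ha)
  obtain ⟨q, hq, e4⟩ := (Z_gen x hx).resolve_left xQ a ha
  obtain ⟨q', -, e5⟩ := Emb.of_N h1.2 hq
  have h4 := mul_mem (inv_mem hx') (Z_n q' x' hx')
  have zZ : z0 ∈ Z4 := by decide +kernel
  refine ⟨a', ?_, e3.trans (h3 a (Z_R i a ha))⟩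
  rcases e4 with e4 | e4
  · exact (mul_mem_cancel_right h4).1 (((Zz_iff h h1.1 (Emb.mul e3 (cm_cj e2 e5))).2 e4).mem zZ)
  · exact (mul_mem_cancel_right hx').1 ((mul_mem_cancel_right h4).1
      (((Zz_iff h h1.1 (Emb.mul (Emb.mul e3 e2) (cm_cj e2 e5))).2 e4).mem zZ))

theorem NZ_D (hk : k ∈ C{φ b0}) (hR : k ∈ N[(R0 i).map φ]) (hd : d ∈ Z4) (hD : D φ (φ d)) (hs : s ∈ Z4)
    (e1 : φ s = k * φ d * k⁻¹) : k ∈ N[Z4.map φ] := by
  obtain ⟨m, hm, e2⟩ := extZ h hD hd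
  have m1 : m ∈ N[(R0 i).map φ] := by cases i; exacts [hm.2, hm.1]
  obtain ⟨p, hp, e3⟩ := Emb.of_N (NZ h hm) (show b0 ∈ Z4 by decide +kernel)
  have hn := mul_mem m1 (inv_mem hR)
  have e4 := Emb.trans (Emb.symm e1) e2
  have e5 := Emb.trans (Emb.symm (mem_C1_iff_conj.1 hk).symm) e3
  obtain ⟨c, hc, e6⟩ := Sylow_Jsub p2 (h.syl.of_le (le_inf (h.syl_N (R_n i)) (h.syl_N Z_n)) le_top)
    ((h.two (R0 (!i))).cj (m * k⁻¹)) fun x hx => by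
      obtain ⟨_, ⟨r, hr, rfl⟩, rfl⟩ := mem_cj'.1 hx
      have h1 := mul_mem (mul_mem hn (h.syl_N (R_n i) ⟨r, rfl⟩)) (inv_mem hn)
      refine ⟨h1, NZ_of h ?_ h1 hp (mt (h.eq1 e3).1 (by decide +kernel))
        (mt (rk_iff h hm e3).1 (by decide +kernel)) ?_⟩
      · rw [e4, ← cj_C1]
        exact conj_mem_cj _ (h.mem_C.2 (R_comm _ r hr s (Z_R _ s hs)))
      · rw [e5, ← cj_C1]
        exact conj_mem_cj _ (h.mem_C.2 (R_comm _ r hr _ (Z_R _ _ (by decide +kernel))))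
  rw [← cj_mul] at e6
  exact inv_mem_iff.1 ((mul_mem_cancel_left (NZ h hm)).1 ((mul_mem_cancel_left (mem_inf.1 hc).2).1
    (NZ h (mem_N2 (mul_mem (mem_inf.1 hc).1 hn) (wR h _ fun _ => Emb.ex e6)))))

end

namespace St

variable (h : St φ)
include h

theorem z1_of (hs : s ∈ Z4) (h1 : ¬ D φ (φ s)) (h2 : ¬ D φ (φ (s * b0))) : z1p s :=
  (RR_of s hs).elim Or.inl fun e => (e.resolve_left (mt (h.D_iff hs).2 h1)).2.1.resolve_left
    (mt (h.D_iff (mul_mem hs (by decide +kernel))).2 h2)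

theorem nD (hs : z1p s) : ¬ D φ (φ s) := fun e =>
  (show ∀ s, z1p s → s ∈ Z4 ∧ ¬ rk s by decide +kernel) s hs |>.elim fun h1 h2 => h2 ((h.D_iff h1).1 e)

theorem lemI (hk : k ∈ C{φ b0}) (hR : k ∈ N[(R0 i).map φ]) (e1 : φ b1 = k * φ s * k⁻¹) : z1p s := by
  have bZ : b0 ∈ Z4 := by decide +kernel
  have eb := (mem_C1_iff_conj.1 hk).symm
  have hZ : Z4.map φ ≤ (R0 i).map φ := map_mono (Z_R i)
  have h1 := cj_le_of_mem_N hZ (inv_mem hR)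
  have h2 := card_sup ((ea_of_sq (by
    rintro _ ⟨w, hw, rfl⟩; exact Emb.sq (R_sq i w hw))).abl.norm h1 hZ)
  have h3 := card_le (sup_le hZ h1)
  rw [card_cj, h.card, card_Z] at h2
  rw [h.card, card_R] at h3
  obtain ⟨_, ⟨⟨w, hw, rfl⟩, h4⟩, h5⟩ := SetLike.not_le_iff_exists.1 fun e :
      Z4.map φ ⊓ cj k⁻¹ (Z4.map φ) ≤ zpowers (φ b0) => by
    have := card_le e
    rw [card_zpowers', ord2 (Emb.sq (by decide +kernel)) (h.ne_one (by decide +kernel))] at this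
    nlinarith
  replace h4 := mem_cj.1 h4
  rw [inv_inv] at h4
  obtain ⟨w', hw', e2⟩ := h4
  have k1 : k ∈ N[Z4.map φ] → z1p s := fun e => h.z1_of ((h.mem_of e e1).1 (by decide +kernel))
    (fun e => h.nD (by decide +kernel) (e.of e1)) fun e => h.nD (by decide +kernel) (e.of (Emb.mul e1 eb))
  by_cases d1 : D φ (φ w)
  · exact k1 (NZ_D h.1 hk hR hw d1 hw' e2)
  by_cases d2 : D φ (φ (w * b0))
  · exact k1 (NZ_D h.1 hk hR (mul_mem hw bZ) d2 (mul_mem hw' bZ) (Emb.mul e2 eb))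
  have h6 := h.z1_of hw d1 d2
  rcases h.z1_of hw' (fun e => d1 (e.of (Emb.symm e2))) fun e => d2 (e.of (Emb.symm (Emb.mul e2 eb)))
    with e | e | e | e
  · exact absurd ((h.eq1 e2).1 e ▸ map_one φ ▸ one_mem _) h5
  · exact absurd ((h.eq' e2 eb).1 e ▸ mem_zpowers _) h5
  · exact (h.eq' e2 e1).1 e ▸ h6
  · exact (h.eq' (Emb.mul e2 eb) e1).1 (by rw [e]; decide +kernel) ▸
      mem_Z1.1 (mul_mem (mem_Z1.2 h6) (by rw [mem_Z1]; decide +kernel))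

omit h in
theorem C_Z1 : C[Z1.map φ] = C{φ b0} ⊓ C{φ b1} := le_antisymm
  (le_inf (C_le_C1 ⟨_, Or.inr (Or.inl rfl), rfl⟩) (C_le_C1 ⟨_, Or.inr (Or.inr (Or.inl rfl)), rfl⟩))
  fun x hx => by
    rintro _ ⟨s, rfl | rfl | rfl | rfl, rfl⟩
    · simp
    · exact (mem_C1.1 hx.1).symm
    · exact (mem_C1.1 hx.2).symm
    · rw [show el 131 = b0 * b1 by decide +kernel, map_mul, mul_assoc, ← mem_C1.1 hx.2, ← mul_assoc,
        ← mem_C1.1 hx.1, mul_assoc]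

theorem sylR : Syl 2 (C{φ b0} ⊓ C{φ b1}) (RR.map φ) := by
  refine h.syl_of le_top le_top ?_ fun k _ x hx _ h1 ⟨x', e1⟩ => ?_
  · rintro _ ⟨r, hr, rfl⟩
    exact ⟨h.mem_C.2 (RR_c r hr).2.1, h.mem_C.2 (RR_c r hr).2.2.1⟩
  have hk : k ∈ N2 φ := ⟨wR h.1 _ fun s hs => h1 s (RR_eq ▸ mem_sup_left hs),
    wR h.1 _ fun s hs => h1 s (RR_eq ▸ mem_sup_right hs)⟩
  obtain ⟨p, hp, e2⟩ := Emb.of_N (NZ h.1 hk) (show b0 ∈ Z4 by decide +kernel)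
  obtain ⟨q, hq, e3⟩ := Emb.of_N (NZ h.1 hk) (show b1 ∈ Z4 by decide +kernel)
  have k1 : ∀ {s s'}, φ s' = k * φ s * k⁻¹ → x ∈ C{φ s} → co x' s' := fun e hx => h.mem_C.1 (by
    rw [e, e1, ← cj_C1]; exact conj_mem_cj k hx)
  have hn : k ∈ N[RR.map φ] := by
    rw [RR_eq, Subgroup.map_sup]
    exact norm_sup inf_le_left inf_le_right hk
  rw [← conj_mem_iff hn, ← e1, h.mem]
  exact (((((((RR_of p hp).resolve_left (mt (h.eq1 e2).1 (by decide +kernel))).resolve_left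
    (mt (rk_iff h.1 hk e2).1 (by decide +kernel))).1 q hq).resolve_left
    (mt (h.eq1 e3).1 (by decide +kernel))).resolve_left (mt (rk_iff h.1 hk e3).1 (by decide +kernel))).resolve_left
    (mt (h.eq1 (Emb.mul e2 e3)).1 (by decide +kernel))).resolve_left
    (mt (rk_iff h.1 hk (Emb.mul e2 e3)).1 (by decide +kernel)) x' (k1 e2 hx.1) (k1 e3 hx.2)

theorem Cb_le : C{φ b0} ≤ Od[C{φ b0}] ⊔ (C{φ b0} ⊓ cz (φ b1) (zpowers (φ b0))) := by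
  have b2 : φ b0 * φ b0 = 1 := Emb.sq (by decide +kernel)
  have hS := h.syl_card (K := ⊤) (L := C{φ b0}) (X := C{b0}) le_top (le_inf le_top le_rfl) h.map_C
    (self_mem_C1 _) fun k _ s e1 => by
      have h1 := (C{s}).card_mul_index
      have h2 : (C{s}).index ≠ 1 := fun e => by
        rcases CQ s fun q _ => (mem_C1.1 ((index_eq_one.1 e).ge (mem_top q))).symm with e | e
        · exact absurd ((h.eq1 e1).1 e) (by decide +kernel)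
        · exact h.nD (Or.inr (Or.inl rfl)) (D.of (IsConj.refl _) (Emb.symm (e ▸ e1)))
      have h3 : ∀ s : S0, ♯C{s} = {r | r * s = s * r}.ncard := fun s =>
        (Nat.card_coe_set_eq _).trans (congrArg _ (Set.ext fun _ => mem_C1))
      rw [← h3, h3 b0, ncard_cnt, card_Cb]
      rw [card_S0] at h1
      have := (C{s}).index_ne_zero_of_finite
      have h4 : 2 ≤ (C{s}).index := by omega
      nlinarith
  refine zstar_mod (C_zpowers _).ge hS (zpowers_le.2 (h.mem.2 (self_mem_C1 _)))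
    (h.mem.2 (mem_C1.2 (by decide +kernel)))
    (fun e => (mem_zp b2 e).elim (h.ne_one (by decide +kernel)) (mt h.eq.1 (by decide +kernel)))
    (by rw [Emb.sq (by decide +kernel)]; exact one_mem _) fun g hg ⟨y, hy, e1⟩ => ?_
  obtain ⟨k, hk, e2, e3⟩ := ext_conj h.sylR (h.two (C{b0} ⊓ C{y})) (by
    rintro _ ⟨s, hs, rfl⟩
    exact ⟨h.mem_C.2 (mem_C1.1 hs.1), h.mem_C.2 (mem_C1.1 hs.2)⟩) (inv_mem hg) (Emb.symm e1).symm
  have eb := (mem_C1_iff_conj.1 hk).symm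
  have k1 : ∀ s, co s b0 → co s y → ∃ s' ∈ RR, φ s' = k * φ s * k⁻¹ := fun s h1 h2 =>
    e3 (conj_mem_cj k ⟨s, ⟨mem_C1.2 h1, mem_C1.2 h2⟩, rfl⟩)
  have k2 : ∀ i, y ∈ R0 i → z1p y := fun i hi => h.lemI hk (wR h.1 i fun s hs => (k1 s
    (R_comm i s hs _ (Z_R i _ (by decide +kernel))) (R_comm i s hs y hi)).imp fun _ e => e.2) e2.symm
  rcases inv_b y ((h.sq1 e1).2 (by decide +kernel)) (mem_C1.1 hy) with e | ⟨⟨a, -, a1, a2, a3⟩, t, -, e⟩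
  · rw [← e1]
    rcases e.elim (k2 _) (k2 _) with e | e | e | e
    · exact absurd ((h.eq1 e1).1 e) (by decide +kernel)
    · exact absurd ((h.eq' e1 (mem_C1_iff_conj.1 hg).symm).1 e) (by decide +kernel)
    · simp [e]
    · rw [e, ← map_inv, ← map_mul, show b1⁻¹ * el 131 = b0 by decide +kernel]
      exact mem_zpowers _
  obtain ⟨a', ha', e4⟩ := k1 a a2 a1
  have e5 := a3 ▸ Emb.mul e4 e4
  rcases (RR_c a' ha').2.2.2 with e6 | e6 | e6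
  · exact absurd ((h.eq1 e5).1 e6) z1
  · exact absurd ((h.D_iff (by decide +kernel)).1 ((D_all h.1 h.D24 e6).of (Emb.symm (Emb.mul e5 eb))))
      (by decide +kernel)
  · exact absurd ((((D_all h.1 h.D24 e6).of (Emb.symm (Emb.mul e5 e2.symm))).cj' (e.trans (zc y))).of
      e2.symm) (h.nD (by decide +kernel))

variable (hΘ : Th ((V0 true).map φ) Θ)
include hΘ

theorem H_le : C{φ z0} ≤ N[Θ] :=
  (cons_Q h.1).trans (sup_le ((hΘ.le _ (h.mem.2 (V_c _).2.1) (h.ne_one z1)).trans (norm_self _))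
    ((h.NV true).trans (hΘ.norm _ le_rfl (by rw [h.card, card_V]; omega))))

omit hΘ in
theorem four_L : EA ((L0 false).map φ) ∧ 4 ≤ ♯((L0 false).map φ) ∧ (L0 false).map φ ≤ (V0 true).map φ ∧
    ∀ w ∈ (L0 false).map φ, w ≠ 1 → D φ w :=
  ⟨ea_of_sq (by rintro _ ⟨w, hw, rfl⟩; exact Emb.sq (R_sq _ w (L3 _ w hw).1.2)),
    by rw [h.card, card_cnt]; decide +kernel, map_mono fun s hs => (L_z true s hs).2.1, by
    rintro _ ⟨w, hw, rfl⟩ w1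
    exact h.D_V (L_z true w hw).2.1 fun e => w1 (by rw [e, map_one])⟩

theorem NR_le (i : Bool) : N[(R0 i).map φ] ≤ N[Θ] := fun g hg => by
  obtain ⟨f1, f2, f3, f4⟩ := h.four_L
  have h1 : (L0 false).map φ ≤ (R0 i).map φ := map_mono fun s hs => Z_R i s (Z2_rk i s (L_z true s hs).1).1
  have h2 := (ea_of_sq (A := (R0 i).map φ) (by
    rintro _ ⟨w, hw, rfl⟩; exact Emb.sq (R_sq i w hw))).abl.cents (cj_le_of_mem_N h1 hg) h1
  refine hΘ.conn (ea_of_sq (by rintro _ ⟨w, hw, rfl⟩; exact Emb.sq ((V_c _).1 w hw).2.1)) f3 f2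
    (ea_cj f1 g) (by rwa [card_cj]) h2 (cj_mono g f3) fun v hv _ w hw w1 => ?_
  obtain ⟨u, hu, rfl⟩ := mem_cj'.1 hw
  exact bal_D h.1 ((f4 u hu fun e => w1 (by simp [e])).conj g) (f1.sq hv) (C_le_C1 hw (cents_symm h2 hv))

theorem extM (hd : D φ (φ s)) : ∃ m ∈ N[Θ], φ z0 = m * φ s * m⁻¹ := by
  obtain ⟨i, r, hr, ⟨g, hg, e1⟩, -⟩ := h.red_all (hd.sq' h.1).1
  obtain ⟨k, e2, e3⟩ := extR h.1 (hd.of e1)
  exact ⟨_, mul_mem (h.NR_le hΘ i (e3 i hr)) (h.H_le hΘ hg.1), Emb.trans e1 e2⟩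

theorem fixM (hd : D φ x) (hx : x ∈ N[Θ]) (hg : g * x * g⁻¹ ∈ N[Θ]) : g ∈ N[Θ] := by
  have key : ∀ x ∈ N[Θ], D φ x → ∃ m ∈ N[Θ], φ z0 = m * x * m⁻¹ := fun x hx hd => by
    obtain ⟨m, hm, r, e1⟩ := h.pull1 (le_H.trans (h.H_le hΘ)) (twoE_of_sq (hd.sq h.1).1) hx
    obtain ⟨m', hm', e2⟩ := h.extM hΘ (e1 ▸ hd.conj m)
    exact ⟨_, mul_mem hm' hm, by rw [e2, e1]; group⟩
  obtain ⟨m, hm, e1⟩ := key x hx hd
  obtain ⟨m', hm', e2⟩ := key _ hg (hd.conj g)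
  exact (mul_mem_cancel_left hm').1 ((mul_mem_cancel_right (inv_mem hm)).1 (h.H_le hΘ
    (mem_C1_iff_conj.2 (by conv_lhs => rw [e1]
                           rw [e2]; group))))

theorem CZ_le : C{φ b0} ⊓ C{φ b1} ≤ N[Θ] := by
  have hT := le_H.trans (h.H_le hΘ)
  have hR : RR.map φ ≤ C[Z1.map φ] ⊓ N[Θ] := le_inf (C_Z1 (φ := φ) ▸ h.sylR.le) ((map_le_range _ _).trans hT)
  have hZ : Z1.map φ ≤ RR.map φ := map_mono (show ∀ s, z1p s → s ∈ RR by decide +kernel)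
  rw [← C_Z1]
  refine (se_mod (C_le_N _) (hZ.trans hR) inf_le_left (fun t ht t1 t2 g hg e1 => ⟨hg, ?_⟩) (h.two RR) hR
    (a := φ (el 8)) (b := φ (el 16)) (c := φ (el 2)) (h.mem.2 (by decide +kernel))
    (h.mem.2 (by decide +kernel)) (h.mem.2 (by decide +kernel)) (Emb.sq (by decide +kernel))
    (Emb.sq (by decide +kernel)) (Emb.sq (by decide +kernel)) ?_ ?_ (mem_C1.1 (h.mem_C.2 (by decide +kernel)))
    ?_).trans inf_le_right
  · obtain ⟨w, hw, e2⟩ := id t2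
    obtain ⟨m, hm, e3⟩ := Sylow_Jsub p2 ((C_Z1 (φ := φ) ▸ h.sylR).of_le hR inf_le_left)
      (piElt_of_pow_eq_one (piNat_self_pow p2 2) (show t ^ 2 ^ 2 = 1 by
        rw [show t ^ 2 ^ 2 = t * t * (t * t) by norm_num [pow_succ, mul_assoc], ← e2]
        exact Emb.sq ((show ∀ s, z1p s → s * s = 1 by decide +kernel) w hw))).isPi (zpowers_le.2 ht)
    obtain ⟨r, hr, e4⟩ := e3 (conj_mem_cj m (mem_zpowers t))
    have m1 := C_le_N _ hm.1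
    obtain ⟨u, hu, e5⟩ : ∃ u, z1p u ∧ D φ (φ (r * u)) := ((RR_c r hr).1 (mem_Z1.1 (h.mem.1 (by
      rw [map_mul, e4, ← conj_mul']; exact conj_mem m1 t2)))).elim
      (fun e => h.cosD e fun e => t1 ((conj_mem_iff m1).1 (e4 ▸ h.mem.2 e)))
      fun e => h.cosD e fun e => t1 ((conj_mem_iff m1).1 (e4 ▸ h.mem.2 e))
    have uZ : φ u ∈ Z1.map φ := h.mem.2 hu
    rw [map_mul, e4, ← conj_eq_of_mem_C hm.1 uZ, ← conj_mul'] at e5
    refine h.fixM hΘ (e5.trans (isConj_iff.2 ⟨m, rfl⟩).symm) (mul_mem ht.2 (hT ⟨u, rfl⟩)) ?_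
    rw [conj_mul', conj_eq_of_mem_C hg uZ]
    exact mul_mem e1.2 (hT ⟨u, rfl⟩)
  all_goals simp only [← map_mul, ← map_inv, h.mem, mem_Z1]; decide +kernel

theorem CZ4_le (hs : s ∈ Z4) (s1 : s ≠ 1) : C{φ s} ≤ N[Θ] := by
  have key : ∀ s t, C{φ t} ≤ N[Θ] → (∃ m ∈ N[Θ], φ t = m * φ s * m⁻¹) → C{φ s} ≤ N[Θ] :=
    fun s t h1 ⟨m, hm, e1⟩ => by
      rw [e1, ← cj_C1, cj_le_iff] at h1
      exact h1.trans (cj_le_of_mem le_rfl (inv_mem hm))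
  have hT := le_H.trans (h.H_le hΘ)
  by_cases hd : rk s
  · exact key _ _ (h.H_le hΘ) (h.extM hΘ ((h.D_iff hs).2 hd))
  have hb : C{φ b0} ≤ N[Θ] := by
    obtain ⟨f1, f2, f3, f4⟩ := h.four_L
    have h1 : (L0 false).map φ ≤ C{φ b0} := by
      rintro _ ⟨s, hs, rfl⟩
      exact h.mem_C.2 (R_comm _ s (L3 _ s hs).1.2 _ (by decide +kernel))
    refine h.Cb_le.trans (sup_le (gen1 f1 f2 (Od_odd _) (h1.trans (pcore_nml _ _).norm) fun a ha a1 =>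
      ((bal_D h.1 (f4 a ha a1) (Emb.sq (by decide +kernel)) (mem_C1_comm.1 (h1 ha))).trans
        (hΘ.le a (f3 ha) a1)).trans (norm_self _)) fun g hg => ?_)
    rcases mem_zp (Emb.sq (by decide +kernel)) ((mem_cz (norm_zpowers_of_cent le_rfl
      (h.mem_C.2 (by decide +kernel)))).1 hg.2).2 with e1 | e1
    · exact h.CZ_le hΘ ⟨hg.1, mem_C1_iff_conj.2 (inv_mul_eq_one.1 e1).symm⟩
    · refine (mul_mem_cancel_left (hT ⟨el 96, rfl⟩)).1 (h.CZ_le hΘ ⟨mul_mem (h.mem_C.2 (by decide +kernel))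
        hg.1, mem_C1_iff_conj.2 ?_⟩)
      rw [← Emb.conj_conj (s' := b1 * b0) (by rw [map_mul, inv_mul_eq_iff_eq_mul.1 e1])]
      exact congrArg φ (by decide +kernel)
  obtain ⟨t, -, rfl | rfl⟩ := (((RR_of s hs).resolve_left s1).resolve_left hd).2.2.2.1
  · exact key _ _ hb ⟨_, inv_mem (hT ⟨t, rfl⟩), Emb.symm (Emb.self t b0)⟩
  obtain ⟨k, hk, e1⟩ := extZ h.1 h.D24 (by decide +kernel)
  obtain ⟨y, hy, e2⟩ := Emb.of_N (NZ h.1 hk) (show el 134 ∈ Z4 by decide +kernel)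
  obtain ⟨u, -, rfl⟩ := (((RR_of y hy).resolve_left (mt (h.eq1 e2).1 (by decide +kernel))).resolve_left
    (mt (rk_iff h.1 hk e2).1 (by decide +kernel))).2.2.1.resolve_left
    (mt (rk_iff h.1 hk (Emb.mul e2 e1)).1 (by decide +kernel))
  exact key _ _ hb ⟨_, mul_mem (inv_mem (hT ⟨u, rfl⟩)) (mul_mem (h.NR_le hΘ _ hk.1) (inv_mem (hT ⟨t, rfl⟩))),
    Emb.trans (Emb.trans (Emb.symm (Emb.self t _)) e2) (Emb.symm (Emb.self u b0))⟩

omit hΘ in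
theorem Od_z (hG : H1175 G) : Od[C{φ z0}] = ⊥ := by
  obtain ⟨Θ, hΘ⟩ := sigTh (ea_of_sq (A := (V0 true).map φ) (by
    rintro _ ⟨w, hw, rfl⟩; exact Emb.sq ((V_c _).1 w hw).2.1)) (by rw [h.card, card_V]; omega) (by
    rintro _ ⟨a, ha, rfl⟩ - _ ⟨b, hb, rfl⟩ b1
    exact bal_D h.1 (h.D_V hb fun e => b1 (by rw [e, map_one])) (Emb.sq ((V_c _).1 a ha).2.1)
      (h.mem_C.2 ((show ∀ a ∈ V0 true, ∀ b ∈ V0 true, a * b = b * a by decide +kernel) a ha b hb)))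
  refine eq_bot_of_le (h.kill hG zc z2 z1 hΘ.odd (h.H_le hΘ) (fun s hs => ⟨h.extM hΘ hs, fun s1 => ?_⟩)
    (s := b0) (by decide +kernel) (by decide +kernel) (h.nD (by decide +kernel)))
    (hΘ.le _ (h.mem.2 (V_c _).2.1) (h.ne_one z1))
  have key : ∀ t, C{φ t} ≤ N[Θ] → (∃ m ∈ N[Θ], φ t = m * φ (s * z0) * m⁻¹) → C{φ (z0 * s)} ≤ N[Θ] :=
    fun t h1 ⟨m, hm, e1⟩ => by
      rw [e1, ← cj_C1, cj_le_iff, zc] at h1
      exact h1.trans (cj_le_of_mem le_rfl (inv_mem hm))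
  obtain ⟨i, r, hr, e1, -⟩ := h.red_all (D.sq' h.1 hs).1
  rcases h.redR hr with ⟨r', hr', e2⟩ | ⟨t, -, e2⟩
  · obtain ⟨g, hg, e3⟩ := (e1.trans e2).mul_z
    exact key _ (h.CZ4_le hΘ (mul_mem hr' (by decide +kernel)) (mt (h.eq1 e3).1 fun e =>
      s1 (mul_right_cancel (e.trans z2.symm)))) ⟨g, h.H_le hΘ hg.1, e3⟩
  · exact key _ (h.H_le hΘ) (h.extM hΘ ((D.cj (hs.trans e1.isConj) e2).trans e1.mul_z.isConj.symm))

end St

end H25.L5
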