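import Mathlib
import Cfsg.Agent.H25.L5D
import Cfsg.Agent.H25.L5T
import Cfsg.Agent.H28.HeldMain
import Cfsg.Agent.H7.SmallTools
import Cfsg.Agent.S1175

/-!
# Simple groups with a Sylow `2`-subgroup of type `L₅(2)`
-/

set_option autoImplicit false
set_option linter.unusedSectionVars false
set_option maxRecDepth 100000
set_option synthInstance.maxSize 4000

open Cfsg H24 H26 H26.Gold Subgroup H7.SJ H25.Tw H25.Sy

namespace H25.L5

universe u

variable {G : Type u} [Group G] [Finite G] {φ : S0 →* G}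

theorem h1175 [IsSimpleGroup G] : H1175 G := fun M S z hM z2 z1 hz hS hzS hc h2 h3 => by
  obtain ⟨T, rfl⟩ := hS.exists_sylow_top Nat.prime_two
  exact Cfsg.Agent.S1175.result M hM z (ord2 z2 z1) hz ⟨T, hzS, fun s hs => mem_C1.1 (hc hs)⟩ h2 h3

theorem dvd_cls (h : Emb φ) {X : Subgroup G} {c : S0} (P : S0 → Prop) [DecidablePred P]
    (h1 : ∀ g ∈ X, ∃ s, P s ∧ φ s = g * φ c * g⁻¹) (h2 : ∀ s, P s → ∃ g ∈ X, φ s = g * φ c * g⁻¹) :
    cnt P ∣ ♯X := by
  rw [← cls_card X (φ c), ← ncard_cnt, ← Set.ncard_image_of_injective _ h.inj]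
  refine Dvd.dvd.mul_right (dvd_of_eq (congrArg _ (Set.ext fun y => ⟨?_, ?_⟩))) _
  · rintro ⟨s, hs, rfl⟩
    exact h2 s hs
  · rintro ⟨g, hg, rfl⟩
    exact h1 g hg

theorem CV0 : ∀ s, co s (el 2) → co s (el 8) → co s (el 32) → s ∈ V0 true := by decide +kernel

theorem six : ∀ s ∈ V0 true, s ∈ R0 true → ¬ Zz s → (∃ t, t * e true 8 * t⁻¹ = s) ∨
    ∀ p ∈ Z2, Zz (p * e true 2) → ∃ t, t * p * t⁻¹ = s := by decide +kernel

theorem VU : V0 true ⊓ U0 = ⊥ ∧ V0 true ⊔ U0 = ⊤ :=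
  ⟨eq_bot_iff.2 fun s hs => (show ∀ s ∈ V0 true, s ∈ U0 → s = 1 by decide +kernel) s hs.1 hs.2,
    eq_top_iff.2 fun s _ => gens (p := (· ∈ V0 true ⊔ U0)) (one_mem _) (fun _ _ => mul_mem) s fun k hk _ =>
      ((show ∀ k < 10, el (2 ^ k) ∈ V0 true ∨ el (2 ^ k) ∈ U0 by decide +kernel) k hk).elim
        mem_sup_left mem_sup_right⟩

namespace St

variable (h : St φ)
include h

theorem H_N : C{φ z0} ≤ Nq φ := by
  have := h.simple
  have h1 := cons_Q h.1
  rwa [Cons, h.Od_z h1175, bot_sup_eq] at h1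

theorem C_V : C{φ z0} ⊓ C[(V0 true).map φ] ≤ (V0 true).map φ := by
  have := h.simple
  have hn : C{φ z0} ⊓ C[(V0 true).map φ] ⊴ C{φ z0} := nml_inf_of_norm (norm_C (h.H_N.trans (h.NV true)))
  have hV : (V0 true).map φ ≤ C[(V0 true).map φ] := (ea_of_sq (A := (V0 true).map φ) (by
    rintro _ ⟨w, hw, rfl⟩; exact Emb.sq ((V_c _).1 w hw).2.1)).abl.cents le_rfl le_rfl
  have hS := (h.syl.of_le le_H le_top).inf_nml hn
  have e1 : φ.range ⊓ (C{φ z0} ⊓ C[(V0 true).map φ]) = (V0 true).map φ := by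
    refine le_antisymm ?_ (le_inf (map_le_range _ _) (le_inf ((map_le_range _ _).trans le_H) hV))
    rintro _ ⟨⟨s, rfl⟩, -, h1⟩
    have k : ∀ v ∈ V0 true, co s v := fun v hv => h.mem_C.1 (C_le_C1 (h.mem.2 hv) h1)
    exact h.mem.2 (CV0 s (k _ (by decide +kernel)) (k _ (by decide +kernel)) (k _ (by decide +kernel)))
  rw [e1] at hS
  refine (burn_mod (inf_le_right.trans (C_le_N _)) inf_le_right hS le_rfl fun g hg a ha =>
    mul_mem (inv_mem ha) (conj_mem hg.2 ha)).trans (sup_le ?_ le_rfl)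
  exact ((hn.pcore_le _).trans (h.Od_z h1175).le).trans bot_le

theorem card_H : 21504 ≤ ♯C{φ z0} := by
  have h1 : 1024 ∣ ♯C{φ z0} := by
    rw [← card_S0, ← card_top, ← h.card, ← φ.range_eq_map]
    exact card_dvd_of_le le_H
  have h2 := dvd_cls h.1 (X := C{φ z0}) (c := e true 2) (fun s => s ∈ V0 true ∧ ¬ Zz s) (fun g hg => by
    obtain ⟨s, hs, e1⟩ := Emb.of_N (h.NV true (h.H_N hg)) (show e true 2 ∈ V0 true by decide +kernel)
    exact ⟨s, ⟨hs, mt (Zz_iff h.1 hg e1).1 (by decide +kernel)⟩, e1⟩) fun s hs =>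
      let ⟨g, hg, e1⟩ := h.fuV hs.1 hs.2; ⟨g, hg.1, e1⟩
  have h3 := (dvd_cls h.1 (X := Nq φ ⊓ N[(R0 true).map φ]) (c := e true 8)
    (fun s => s ∈ V0 true ∧ s ∈ R0 true ∧ ¬ Zz s) (fun g hg => by
      obtain ⟨s, hs, e1⟩ := Emb.of_N (h.NV true hg.1) (show e true 8 ∈ V0 true by decide +kernel)
      exact ⟨s, ⟨hs, (h.mem_of hg.2 e1).2 (e_R _).1, mt (Zz_iff h.1 hg.1.1 e1).1 (by decide +kernel)⟩, e1⟩)
    fun s hs => by
      have hT := le_inf (T_N h.1) (h.syl_N (R_n true))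
      obtain ⟨n, ⟨h1, h2, -⟩, p, hp, e1, e2⟩ := h.gd true
      rcases six s hs.1 hs.2.1 hs.2.2 with ⟨t, rfl⟩ | e3
      · exact ⟨_, hT ⟨t, rfl⟩, Emb.self t _⟩
      obtain ⟨t, rfl⟩ := e3 p hp e2
      exact ⟨_, mul_mem (hT ⟨t, rfl⟩) (mem_inf.2 ⟨h1, h2⟩), Emb.conj_conj e1 t⟩).trans
    (card_dvd_of_le (inf_le_left.trans inf_le_left))
  rw [show cnt _ = 7 * 2 by decide +kernel] at h2
  rw [show cnt _ = 3 * 2 by decide +kernel] at h3
  exact Nat.le_of_dvd Nat.card_pos ((show Nat.Coprime (1024 * 7) 3 by norm_num).mul_dvd_of_dvd_of_dvd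
    ((show Nat.Coprime 1024 7 by norm_num).mul_dvd_of_dvd_of_dvd h1 (Dvd.dvd.trans (Dvd.intro _ rfl) h2))
    (Dvd.dvd.trans (Dvd.intro _ rfl) h3))

theorem cent (s : Matrix.SpecialLinearGroup (Fin 5) (ZMod 2))
    (hs : (s : Matrix (Fin 5) (Fin 5) (ZMod 2)) = Matrix.transvection 0 1 1) : Nonempty (C{φ z0} ≃* C{s}) :=
  split5 (K := U0.map φ) ((map_le_range _ _).trans le_H) (h.H_N.trans (h.NV true)) (ea_of_sq (by
    rintro _ ⟨w, hw, rfl⟩; exact Emb.sq ((V_c _).1 w hw).2.1)) (by rw [h.card, card_V])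
    ((map_le_range _ _).trans le_H) (by rw [← map_inf _ _ _ h.inj, VU.1, Subgroup.map_bot])
    (by rw [← Subgroup.map_sup, VU.2, ← φ.range_eq_map]; exact h.syl.of_le le_H le_top) h.C_V
    (h.mem.2 (V_c _).2.1) (h.ne_one z1) le_rfl h.card_H s hs

end St

/-- the Sylow subgroup of `L₅(2)`. -/
theorem exists_equiv (P : Sylow 2 H28.L5) : Nonempty (S0 ≃* (P : Subgroup H28.L5)) := by
  let f : S0 →* H28.L5 := (Subgroup.subtype _).comp (H28.Hc.equiv.toMonoidHom.comp toH)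
  have hf : Function.Injective f :=
    Subtype.val_injective.comp (H28.Hc.equiv.injective.comp fun _ _ => tH_inj)
  have hc : Nat.card f.range = 2 ^ (Nat.card H28.L5).factorization 2 := by
    rw [← Nat.card_congr (MonoidHom.ofInjective hf).toEquiv, card_S0, H28.Held.card_L5,
      show 9999360 = 2 ^ 10 * 9765 from rfl,
      Nat.factorization_mul_apply_of_coprime (by norm_num), Nat.factorization_pow_self Nat.prime_two,
      Nat.factorization_eq_zero_of_not_dvd (by norm_num)]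
    norm_num
  exact ⟨(MonoidHom.ofInjective hf).trans ((Sylow.ofCard f.range hc).equiv P)⟩

/-- A simple group with a Sylow `2`-subgroup of type `L₅(2)` has an involution whose centraliser is
isomorphic to the centraliser of a transvection. -/
theorem exists_cent [IsSimpleGroup G] (S : Sylow 2 G) (P : Sylow 2 H28.L5)
    (a : (S : Subgroup G) ≃* (P : Subgroup H28.L5)) (s : H28.L5)
    (hs : (s : Matrix (Fin 5) (Fin 5) (ZMod 2)) = Matrix.transvection 0 1 1) :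
    ∃ z : G, orderOf z = 2 ∧ Nonempty (C{z} ≃* C{s}) := by
  obtain ⟨b⟩ := exists_equiv P
  let e := b.trans a.symm
  obtain ⟨ψ, h⟩ := exists_St (φ := (S : Subgroup G).subtype.comp e.toMonoidHom)
    ⟨Subtype.val_injective.comp e.injective, by
      rw [MonoidHom.range_comp, MonoidHom.range_eq_top.2 e.surjective, map_subtype_top]
      exact syl_top_of_sylow p2 S, inferInstance⟩
  exact ⟨_, ord2 (Emb.sq z2) (h.ne_one z1), h.cent s hs⟩

theorem psl_equiv {F : Type*} [Field F] [Fintype F] (hF : Fintype.card F = 2) :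
    Nonempty (Matrix.ProjectiveSpecialLinearGroup (Fin 5) F ≃* H28.L5) :=
  ⟨(H7.pslCongr (FiniteField.ringEquivOfCardEq (hF.trans (ZMod.card 2).symm))).trans
    ((QuotientGroup.quotientMulEquivOfEq (Subgroup.card_eq_one.1
      (H7.card_center_sl (F := ZMod 2) (q := 2) (by simp) 5 (by norm_num)))).trans QuotientGroup.quotientBot)⟩

end H25.L5
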