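import Mathlib
import Cfsg.Agent.H23.Components
import Cfsg.Agent.H25.Std0
import Cfsg.Agent.H7.SL

/-!
Involution centralizers in linear groups: transvections in characteristic two, and the
hyperplane involutions in odd characteristic.
-/

set_option autoImplicit false
set_option linter.unusedSectionVars false

namespace H25.Lin

open Cfsg Subgroup H23 Matrix
open scoped commutatorElement

section transv

variable {ι F : Type*} [Fintype ι] [DecidableEq ι] [Field F]

/-- commuting with an elementary matrix. -/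
theorem comm_transvection_iff {i j : ι} (A : Matrix ι ι F) :
    A * Matrix.transvection i j 1 = Matrix.transvection i j 1 * A ↔
      (∀ a, a ≠ i → A a i = 0) ∧ (∀ b, b ≠ j → A j b = 0) ∧ A i i = A j j := by
  have h0 : A * Matrix.transvection i j 1 = Matrix.transvection i j 1 * A ↔
      A * Matrix.single i j (1 : F) = Matrix.single i j 1 * A := by
    simp only [Matrix.transvection, mul_add, add_mul, mul_one, one_mul, add_right_inj]
  rw [h0]
  constructor
  · intro h
    refine ⟨fun a ha => ?_, fun b hb => ?_, ?_⟩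
    · have := congrFun (congrFun h a) j
      rwa [Matrix.mul_single_apply_same, Matrix.single_mul_apply_of_ne _ _ _ _ _ ha,
        mul_one] at this
    · have := congrFun (congrFun h i) b
      rw [Matrix.single_mul_apply_same, Matrix.mul_single_apply_of_ne _ _ _ _ _ hb,
        one_mul] at this
      exact this.symm
    · have := congrFun (congrFun h i) j
      rwa [Matrix.single_mul_apply_same, Matrix.mul_single_apply_same, mul_one, one_mul] at this
  · rintro ⟨h1, h2, h3⟩
    ext a b
    by_cases ha : a = i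
    · subst ha
      by_cases hb : b = j
      · subst hb
        rw [Matrix.single_mul_apply_same, Matrix.mul_single_apply_same, mul_one, one_mul, h3]
      · rw [Matrix.single_mul_apply_same, Matrix.mul_single_apply_of_ne _ _ _ _ _ hb, one_mul,
          h2 b hb]
    · rw [Matrix.single_mul_apply_of_ne _ _ _ _ _ ha]
      by_cases hb : b = j
      · subst hb
        rw [Matrix.mul_single_apply_same, h1 a ha, zero_mul]
      · rw [Matrix.mul_single_apply_of_ne _ _ _ _ _ hb]

theorem sl_col_ne_zero (g : SpecialLinearGroup ι F) (i : ι)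
    (h : ∀ a, a ≠ i → g.1 a i = 0) : g.1 i i ≠ 0 := by
  intro h0
  have : g.1.det = 0 := by
    apply Matrix.det_eq_zero_of_column_eq_zero i
    intro a
    by_cases ha : a = i
    · rw [ha, h0]
    · exact h a ha
  rw [g.2] at this
  exact one_ne_zero this

theorem eq_one_of_card_two [Fintype F] (hF : Fintype.card F = 2) {x : F} (hx : x ≠ 0) :
    x = 1 := by
  classical
  by_contra h1
  have : ({0, 1, x} : Finset F).card ≤ Fintype.card F := Finset.card_le_univ _
  rw [Finset.card_insert_of_notMem (by simp [hx.symm]),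
    Finset.card_insert_of_notMem (by simp [Ne.symm h1]), Finset.card_singleton] at this
  omega

/-- the transvections with centre `e_i` inside a subgroup fixing `e_i`. -/
def rowSub (C : Subgroup (SpecialLinearGroup ι F)) (i : ι)
    (hC : ∀ g ∈ C, g.1 *ᵥ Pi.single i 1 = Pi.single i 1) : Subgroup C where
  carrier := {g | ∀ x : ι → F, ∃ c : F, g.1.1 *ᵥ x = x + c • Pi.single i 1}
  one_mem' := fun x => ⟨0, by simp⟩
  mul_mem' := by
    intro a b ha hb x
    obtain ⟨c, hc⟩ := hb x
    obtain ⟨d, hd⟩ := ha x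
    refine ⟨d + c, ?_⟩
    have : (a * b).1.1 = a.1.1 * b.1.1 := rfl
    rw [this, ← Matrix.mulVec_mulVec, hc, Matrix.mulVec_add, Matrix.mulVec_smul, hd, hC a.1 a.2,
      add_smul, add_assoc]
  inv_mem' := by
    intro a ha x
    obtain ⟨c, hc⟩ := ha ((a⁻¹).1.1 *ᵥ x)
    refine ⟨-c, ?_⟩
    have h1 : a.1.1 * (a⁻¹).1.1 = 1 := by
      have : (a * a⁻¹).1.1 = a.1.1 * (a⁻¹).1.1 := rfl
      rw [← this, mul_inv_cancel]; rfl
    rw [Matrix.mulVec_mulVec, h1, Matrix.one_mulVec] at hc
    rw [neg_smul, ← sub_eq_add_neg, eq_sub_iff_add_eq]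
    exact hc.symm

theorem rowSub_normal (C : Subgroup (SpecialLinearGroup ι F)) (i : ι)
    (hC : ∀ g ∈ C, g.1 *ᵥ Pi.single i 1 = Pi.single i 1) : (rowSub C i hC).Normal := by
  refine ⟨fun a ha h x => ?_⟩
  obtain ⟨c, hc⟩ := ha ((h⁻¹).1.1 *ᵥ x)
  refine ⟨c, ?_⟩
  have e1 : (h * a * h⁻¹).1.1 = h.1.1 * a.1.1 * (h⁻¹).1.1 := rfl
  have h1 : h.1.1 * (h⁻¹).1.1 = 1 := by
    have : (h * h⁻¹).1.1 = h.1.1 * (h⁻¹).1.1 := rfl
    rw [← this, mul_inv_cancel]; rfl
  rw [e1, ← Matrix.mulVec_mulVec, ← Matrix.mulVec_mulVec, hc, Matrix.mulVec_add,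
    Matrix.mulVec_smul, hC h.1 h.2, Matrix.mulVec_mulVec, h1, Matrix.one_mulVec]

theorem rowSub_isPGroup (h2 : (2 : F) = 0) (C : Subgroup (SpecialLinearGroup ι F)) (i : ι)
    (hC : ∀ g ∈ C, g.1 *ᵥ Pi.single i 1 = Pi.single i 1) : IsPGroup 2 (rowSub C i hC) := by
  intro g
  refine ⟨1, ?_⟩
  apply Subtype.ext; apply Subtype.ext; apply Subtype.ext
  have e1 : (g ^ 2 ^ 1).1.1.1 = g.1.1.1 * g.1.1.1 := by
    rw [pow_one, pow_two]; rfl
  rw [e1]
  change _ = (1 : Matrix ι ι F)
  apply Matrix.toLin'.injective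
  apply LinearMap.ext
  intro x
  obtain ⟨c, hc⟩ := g.2 x
  rw [Matrix.toLin'_apply, Matrix.toLin'_apply, ← Matrix.mulVec_mulVec, hc, Matrix.mulVec_add,
    Matrix.mulVec_smul, hc, hC _ g.1.2, Matrix.one_mulVec, add_assoc, ← add_smul, ← two_mul, h2,
    zero_mul, zero_smul, add_zero]

theorem fstar_centralizer_transvection [Fintype F] (hF : Fintype.card F = 2) {i j : ι}
    (hij : i ≠ j) (t : SpecialLinearGroup ι F) (ht : t.1 = Matrix.transvection i j 1) :
    generalizedFittingSubgroup (centralizer ({t} : Set (SpecialLinearGroup ι F))) =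
      pCore 2 (centralizer ({t} : Set (SpecialLinearGroup ι F))) := by
  haveI : Fact (Nat.Prime 2) := ⟨Nat.prime_two⟩
  have h2 : (2 : F) = 0 := by
    have := FiniteField.cast_card_eq_zero F
    rw [hF] at this
    exact_mod_cast this
  set C := centralizer ({t} : Set (SpecialLinearGroup ι F)) with hCdef
  have hmem : ∀ g : SpecialLinearGroup ι F, g ∈ C ↔
      (∀ a, a ≠ i → g.1 a i = 0) ∧ (∀ b, b ≠ j → g.1 j b = 0) ∧ g.1 i i = g.1 j j := by
    intro g
    rw [← comm_transvection_iff, ← ht, hCdef, mem_centralizer_singleton_iff]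
    constructor
    · intro h; exact congrArg Subtype.val h
    · intro h; exact Subtype.ext h
  have hii : ∀ g ∈ C, g.1 i i = 1 := fun g hg =>
    eq_one_of_card_two hF (sl_col_ne_zero g i ((hmem g).1 hg).1)
  have hC : ∀ g ∈ C, g.1 *ᵥ Pi.single i 1 = Pi.single i 1 := by
    intro g hg
    ext a
    rw [Matrix.mulVec_single_one]
    by_cases ha : a = i
    · subst ha; simp [hii g hg]
    · simp [ha, ((hmem g).1 hg).1 a ha]
  rw [fstar_eq_pCore_iff]
  have hR : rowSub C i hC ≤ pCore 2 C :=
    H2.le_pCore (rowSub_normal C i hC) (rowSub_isPGroup h2 C i hC)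
  intro g hg
  apply hR
  have hrow : ∀ k, k ≠ i → (∀ b, b ≠ k → g.1.1 k b = 0) ∧ g.1.1 k k = 1 := by
    intro k hk
    let s : SpecialLinearGroup ι F := SpecialLinearGroup.transvection hk.symm 1
    have hs : s.1 = Matrix.transvection i k 1 := rfl
    have hsC : s ∈ C := by
      rw [hmem, hs]
      refine ⟨fun a ha => ?_, fun b hb => ?_, ?_⟩
      · simp [Matrix.transvection, ha, Matrix.single, hk]
      · simp [Matrix.transvection, Ne.symm hb, Matrix.single, hij]
      · simp [Matrix.transvection, Matrix.single, hij, hk]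
    have hsR : (⟨s, hsC⟩ : C) ∈ rowSub C i hC := by
      intro x
      refine ⟨x k, ?_⟩
      change s.1 *ᵥ x = _
      rw [hs, Matrix.transvection, Matrix.add_mulVec, Matrix.one_mulVec, Matrix.single_mulVec]
      congr 1
      ext a
      by_cases ha : a = i
      · subst ha; simp
      · simp [ha]
    have hc := (mem_centralizer_iff.1 hg) _ (hR hsR)
    have hc' : g.1.1 * Matrix.transvection i k 1 = Matrix.transvection i k 1 * g.1.1 := by
      rw [← hs]
      exact (congrArg (fun z : C => z.1.1) hc).symm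
    rw [comm_transvection_iff] at hc'
    exact ⟨hc'.2.1, hc'.2.2 ▸ hii g.1 g.2⟩
  intro x
  refine ⟨(g.1.1 *ᵥ x) i - x i, ?_⟩
  ext a
  by_cases ha : a = i
  · subst ha; simp
  · have := hrow a ha
    simp only [Pi.add_apply, Pi.smul_apply, Pi.single_apply, ha, if_false, smul_zero, add_zero]
    rw [Matrix.mulVec, dotProduct, Finset.sum_eq_single a, this.2, one_mul]
    · intro b _ hb; rw [this.1 b hb, zero_mul]
    · intro h; exact absurd (Finset.mem_univ a) h

end transv

section block

variable {ι κ F : Type*} [Fintype ι] [DecidableEq ι] [Fintype κ] [DecidableEq κ] [Field F]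

/-- `M ⊕ 1`. -/
def blk (e : κ ⊕ Fin 1 ≃ ι) (M : Matrix κ κ F) : Matrix ι ι F :=
  (Matrix.fromBlocks M 0 0 (1 : Matrix (Fin 1) (Fin 1) F)).submatrix e.symm e.symm

variable (e : κ ⊕ Fin 1 ≃ ι)

theorem blk_mul (M N : Matrix κ κ F) : blk e (M * N) = blk e M * blk e N := by
  unfold blk
  rw [Matrix.submatrix_mul_equiv, Matrix.fromBlocks_multiply]
  simp

theorem blk_one : blk e (1 : Matrix κ κ F) = 1 := by
  unfold blk
  rw [Matrix.fromBlocks_one, Matrix.submatrix_one_equiv]

theorem det_blk (M : Matrix κ κ F) : (blk e M).det = M.det := by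
  unfold blk
  rw [Matrix.det_submatrix_equiv_self, Matrix.det_fromBlocks_zero₂₁, Matrix.det_one, mul_one]

theorem blk_ll (M : Matrix κ κ F) (a b : κ) : blk e M (e (Sum.inl a)) (e (Sum.inl b)) = M a b := by
  simp [blk]

theorem blk_lr (M : Matrix κ κ F) (a : κ) : blk e M (e (Sum.inl a)) (e (Sum.inr 0)) = 0 := by
  simp [blk]

theorem blk_rl (M : Matrix κ κ F) (a : κ) : blk e M (e (Sum.inr 0)) (e (Sum.inl a)) = 0 := by
  simp [blk]

theorem blk_rr (M : Matrix κ κ F) : blk e M (e (Sum.inr 0)) (e (Sum.inr 0)) = 1 := by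
  simp [blk]

theorem idx_cases (a : ι) : a = e (Sum.inr 0) ∨ ∃ b, a = e (Sum.inl b) := by
  obtain ⟨x, rfl⟩ := e.surjective a
  rcases x with b | u
  · exact Or.inr ⟨b, rfl⟩
  · left; rw [Subsingleton.elim u 0]

theorem inl_ne (b : κ) : e (Sum.inl b) ≠ e (Sum.inr 0) := fun h => by
  simpa using e.injective h

/-- block diagonal with respect to the index `l`. -/
def IsBlk (l : ι) (A : Matrix ι ι F) : Prop := (∀ a, a ≠ l → A a l = 0) ∧ ∀ b, b ≠ l → A l b = 0

theorem isBlk_blk (M : Matrix κ κ F) : IsBlk (e (Sum.inr 0)) (blk e M) := by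
  constructor
  · intro a ha
    rcases idx_cases e a with h | ⟨b, rfl⟩
    · exact absurd h ha
    · exact blk_lr e M b
  · intro a ha
    rcases idx_cases e a with h | ⟨b, rfl⟩
    · exact absurd h ha
    · exact blk_rl e M b

theorem eq_blk {A : Matrix ι ι F} (h : IsBlk (e (Sum.inr 0)) A)
    (h1 : A (e (Sum.inr 0)) (e (Sum.inr 0)) = 1) :
    A = blk e (A.submatrix (fun a => e (Sum.inl a)) (fun a => e (Sum.inl a))) := by
  ext a b
  rcases idx_cases e a with rfl | ⟨a, rfl⟩ <;> rcases idx_cases e b with rfl | ⟨b, rfl⟩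
  · rw [blk_rr, h1]
  · rw [blk_rl, h.2 _ (inl_ne e b)]
  · rw [blk_lr, h.1 _ (inl_ne e a)]
  · rw [blk_ll]; rfl

theorem IsBlk.mul_apply {l : ι} {A : Matrix ι ι F} (h : IsBlk l A) (B : Matrix ι ι F) :
    (A * B) l l = A l l * B l l := by
  rw [Matrix.mul_apply, Finset.sum_eq_single l]
  · intro b _ hb; rw [h.2 b hb, zero_mul]
  · intro h; exact absurd (Finset.mem_univ l) h

theorem comm_diagonal_iff (h2 : (2 : F) ≠ 0) (l : ι) {c : F} (hc : c ≠ 0) (A : Matrix ι ι F) :
    A * Matrix.diagonal (fun a => if a = l then c else -c) =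
      Matrix.diagonal (fun a => if a = l then c else -c) * A ↔ IsBlk l A := by
  constructor
  · intro h
    constructor
    · intro a ha
      have := congrFun (congrFun h a) l
      rw [Matrix.mul_diagonal, Matrix.diagonal_mul, if_pos rfl, if_neg ha] at this
      have h3 : (2 * c) * A a l = 0 := by linear_combination this
      exact (mul_eq_zero.1 h3).resolve_left (mul_ne_zero h2 hc)
    · intro a ha
      have := congrFun (congrFun h l) a
      rw [Matrix.mul_diagonal, Matrix.diagonal_mul, if_pos rfl, if_neg ha] at this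
      have h3 : (2 * c) * A l a = 0 := by linear_combination -this
      exact (mul_eq_zero.1 h3).resolve_left (mul_ne_zero h2 hc)
  · intro h
    ext a b
    rw [Matrix.mul_diagonal, Matrix.diagonal_mul]
    by_cases ha : a = l <;> by_cases hb : b = l
    · rw [if_pos ha, if_pos hb, mul_comm]
    · subst ha; rw [h.2 b hb, zero_mul, mul_zero]
    · subst hb; rw [h.1 a ha, zero_mul, mul_zero]
    · rw [if_neg ha, if_neg hb, mul_comm]

/-- the block embedding `SL(κ) → SL(ι)`. -/
def blkSL : SpecialLinearGroup κ F →* SpecialLinearGroup ι F where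
  toFun g := ⟨blk e g.1, by rw [det_blk, g.2]⟩
  map_one' := Subtype.ext (blk_one e)
  map_mul' g h := Subtype.ext (blk_mul e g.1 h.1)

theorem blkSL_coe (g : SpecialLinearGroup κ F) : (blkSL e g).1 = blk e g.1 := rfl

theorem blkSL_injective : Function.Injective (blkSL e (F := F)) := by
  intro g h hgh
  apply Subtype.ext
  ext a b
  have := congrFun (congrFun (congrArg Subtype.val hgh) (e (Sum.inl a))) (e (Sum.inl b))
  rwa [blkSL_coe, blkSL_coe, blk_ll, blk_ll] at this

theorem mem_range_blkSL (g : SpecialLinearGroup ι F) :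
    g ∈ (blkSL e (F := F)).range ↔
      IsBlk (e (Sum.inr 0)) g.1 ∧ g.1 (e (Sum.inr 0)) (e (Sum.inr 0)) = 1 := by
  constructor
  · rintro ⟨h, rfl⟩
    exact ⟨isBlk_blk e h.1, blk_rr e h.1⟩
  · rintro ⟨h1, h2⟩
    have h3 := eq_blk e h1 h2
    refine ⟨⟨g.1.submatrix (fun a => e (Sum.inl a)) (fun a => e (Sum.inl a)), ?_⟩,
      Subtype.ext h3.symm⟩
    rw [← det_blk e, ← h3, g.2]

theorem isQuasisimple_range_blkSL (hq : IsQuasisimple (SpecialLinearGroup κ F)) :
    IsQuasisimple (blkSL e (F := F)).range :=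
  IsQuasisimple.of_equiv hq (MonoidHom.ofInjective (blkSL_injective e))

theorem isQuasisimple_sl (h3 : 3 ≤ Fintype.card κ) : IsQuasisimple (SpecialLinearGroup κ F) :=
  ⟨⟨H7.sl_commutator_eq_top h3⟩, H7.psl_simple h3⟩

theorem isQuasisimple_sl_two (hF : ∃ a : F, a ≠ 0 ∧ a ^ 2 ≠ 1) :
    IsQuasisimple (SpecialLinearGroup (Fin 2) F) := by
  obtain ⟨a, ha, hasq⟩ := hF
  exact ⟨⟨Matrix.SL2.commutator_eq_top ha hasq⟩,
    Matrix.ProjectiveSpecialLinearGroup.rank_two_simple' ⟨a, ha, hasq⟩⟩

theorem blk_normal {H : Type*} [Group H] (toMat : H →* Matrix ι ι F) (l : ι) {C K : Subgroup H}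
    (hC : ∀ g ∈ C, IsBlk l (toMat g))
    (hK : ∀ g ∈ C, g ∈ K ↔ toMat g l l = 1 ∧ (toMat g).det = 1) :
    (K.subgroupOf C).Normal ∧ ⁅C, C⁆ ≤ K := by
  let ν : C →* F × F :=
    { toFun := fun g => (toMat g l l, (toMat g).det)
      map_one' := by simp
      map_mul' := fun g h => by
        rw [Subgroup.coe_mul, map_mul, (hC g g.2).mul_apply, Matrix.det_mul]; rfl }
  have hker : K.subgroupOf C = ν.ker := by
    ext g
    rw [mem_subgroupOf, MonoidHom.mem_ker, hK g g.2]
    exact Prod.mk_eq_one.symm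
  refine ⟨hker ▸ inferInstance, ?_⟩
  rw [Subgroup.commutator_le]
  intro a ha b hb
  have : ⁅(⟨a, ha⟩ : C), ⟨b, hb⟩⁆ ∈ K.subgroupOf C := by
    rw [hker, MonoidHom.mem_ker, commutatorElement_def, map_mul, map_mul, map_mul,
      mul_comm (ν ⟨a, ha⟩) (ν ⟨b, hb⟩), mul_assoc (ν ⟨b, hb⟩), ← map_mul, mul_inv_cancel, map_one,
      mul_one, ← map_mul, mul_inv_cancel, map_one]
  exact this

/-- the centralizer of the block `SL` consists of diagonal matrices, scalar on the block. -/
theorem centralizer_blk (h2 : 2 ≤ Fintype.card κ) {g : SpecialLinearGroup ι F}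
    (hg : g ∈ centralizer ((blkSL e (F := F)).range : Set (SpecialLinearGroup ι F))) :
    ∃ μ ν : F, g.1 = Matrix.diagonal (fun a => if a = e (Sum.inr 0) then ν else μ) := by
  haveI : Nontrivial κ := Fintype.one_lt_card_iff_nontrivial.1 h2
  have key : ∀ a b : κ, a ≠ b →
      (∀ c, c ≠ e (Sum.inl a) → g.1 c (e (Sum.inl a)) = 0) ∧
      (∀ c, c ≠ e (Sum.inl b) → g.1 (e (Sum.inl b)) c = 0) ∧
      g.1 (e (Sum.inl a)) (e (Sum.inl a)) = g.1 (e (Sum.inl b)) (e (Sum.inl b)) := by
    intro a b hab
    have hab' : e (Sum.inl a) ≠ e (Sum.inl b) := fun h => hab (by simpa using e.injective h)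
    have hs : SpecialLinearGroup.transvection hab' (1 : F) ∈ (blkSL e (F := F)).range := by
      rw [mem_range_blkSL]
      have e1 : (SpecialLinearGroup.transvection hab' (1 : F)).1 =
        Matrix.transvection (e (Sum.inl a)) (e (Sum.inl b)) 1 := rfl
      rw [e1]
      refine ⟨⟨fun c hc => ?_, fun c hc => ?_⟩, ?_⟩
      · simp [Matrix.transvection, Matrix.single, hc]
      · simp [Matrix.transvection, Matrix.single, Ne.symm hc]
      · simp [Matrix.transvection, Matrix.single]
    have hc := (mem_centralizer_iff.1 hg) _ hs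
    rw [← comm_transvection_iff]
    exact (congrArg Subtype.val hc).symm
  obtain ⟨a0, -⟩ := exists_pair_ne κ
  refine ⟨g.1 (e (Sum.inl a0)) (e (Sum.inl a0)), g.1 (e (Sum.inr 0)) (e (Sum.inr 0)), ?_⟩
  ext a b
  by_cases hab : a = b
  · subst hab
    rw [Matrix.diagonal_apply_eq]
    rcases idx_cases e a with rfl | ⟨a, rfl⟩
    · rw [if_pos rfl]
    · rw [if_neg (inl_ne e a)]
      by_cases h : a = a0
      · rw [h]
      · exact (key a a0 h).2.2
  · rw [Matrix.diagonal_apply_ne _ hab]
    rcases idx_cases e a with rfl | ⟨a, rfl⟩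
    · rcases idx_cases e b with rfl | ⟨b, rfl⟩
      · exact absurd rfl hab
      · obtain ⟨c, hc⟩ := exists_ne b
        exact (key b c hc.symm).1 _ hab
    · obtain ⟨c, hc⟩ := exists_ne a
      exact (key c a hc).2.1 _ (Ne.symm hab)

theorem two_ne_zero_of_odd [Fintype F] (hF : Odd (Fintype.card F)) : (2 : F) ≠ 0 := by
  intro h
  have h1 := FiniteField.cast_card_eq_zero F
  obtain ⟨k, hk⟩ := hF
  rw [hk] at h1
  push_cast at h1
  rw [h, zero_mul, zero_add] at h1
  exact one_ne_zero h1

theorem standard_blk [Finite F] (h2 : (2 : F) ≠ 0) (h3 : 3 ≤ Fintype.card κ)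
    (hev : Even (Fintype.card κ)) (t : SpecialLinearGroup ι F)
    (ht : t.1 = Matrix.diagonal (fun a => if a = e (Sum.inr 0) then (1 : F) else -1)) :
    IsStandardSubgroup ((layer (centralizer ({t} : Set (SpecialLinearGroup ι F)))).map
      (centralizer ({t} : Set (SpecialLinearGroup ι F))).subtype) := by
  classical
  haveI : Nontrivial κ := Fintype.one_lt_card_iff_nontrivial.1 (by omega)
  set l := e (Sum.inr 0) with hl
  set C := centralizer ({t} : Set (SpecialLinearGroup ι F)) with hCdef
  set K := (blkSL e (F := F)).range with hKdef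
  have hmem : ∀ g : SpecialLinearGroup ι F, g ∈ C ↔ IsBlk l g.1 := by
    intro g
    rw [← comm_diagonal_iff h2 l one_ne_zero, ← ht, hCdef, mem_centralizer_singleton_iff]
    constructor
    · intro h; exact congrArg Subtype.val h
    · intro h; exact Subtype.ext h
  have hKC : K ≤ C := fun g hg => (hmem g).2 ((mem_range_blkSL e g).1 hg).1
  let toMat : SpecialLinearGroup ι F →* Matrix ι ι F :=
    { toFun := fun g => g.1, map_one' := rfl, map_mul' := fun _ _ => rfl }
  obtain ⟨hn, hcomm⟩ := blk_normal toMat l (C := C) (K := K) (fun g hg => (hmem g).1 hg)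
    (fun g hg => by
      rw [hKdef, mem_range_blkSL]
      exact ⟨fun h => ⟨h.2, g.2⟩, fun h => ⟨(hmem g).1 hg, h.1⟩⟩)
  have hq : IsQuasisimple K := isQuasisimple_range_blkSL e (isQuasisimple_sl h3)
  have hcomp : IsComponent (K.subgroupOf C) :=
    ⟨hn.isSubnormal, (isQuasisimple_subgroupOf_iff hKC).2 hq⟩
  have hlay : (layer C).map C.subtype = K := by
    apply le_antisymm
    · have h1 : (layer C).map C.subtype = ⁅(layer C).map C.subtype, (layer C).map C.subtype⁆ := by
        rw [← map_commutator, layer_perfect]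
      rw [h1]
      exact (commutator_mono (map_subtype_le _) (map_subtype_le _)).trans hcomm
    · exact le_map_subtype_layer hKC hcomp
  rw [hlay]
  obtain ⟨a0, -⟩ := exists_pair_ne κ
  have hto : orderOf t = 2 := by
    apply orderOf_eq_prime
    · apply Subtype.ext
      rw [pow_two]
      change t.1 * t.1 = 1
      rw [ht, Matrix.diagonal_mul_diagonal, ← Matrix.diagonal_one]
      congr 1
      ext a
      split_ifs <;> simp
    · intro h
      have := congrFun (congrFun (congrArg Subtype.val h) (e (Sum.inl a0))) (e (Sum.inl a0))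
      rw [ht, Matrix.diagonal_apply_eq, if_neg (inl_ne e a0)] at this
      apply h2
      have h4 : (1 : SpecialLinearGroup ι F).1 (e (Sum.inl a0)) (e (Sum.inl a0)) = 1 := by simp
      rw [h4] at this
      linear_combination -this
  refine H25.LB.standard_of_nonembedded hto ⟨hKC, hcomp⟩ ?_ ?_
  · intro y hy hyK
    obtain ⟨μ, ν, hyd⟩ := centralizer_blk e (by omega) hyK
    have hy2 : y.1 * y.1 = 1 := by
      have : y * y = 1 := by rw [← pow_two, ← hy, pow_orderOf_eq_one]
      exact congrArg Subtype.val this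
    rw [hyd, Matrix.diagonal_mul_diagonal] at hy2
    have hμ : μ * μ = 1 := by
      have := congrFun (congrFun hy2 (e (Sum.inl a0))) (e (Sum.inl a0))
      rwa [Matrix.diagonal_apply_eq, if_neg (inl_ne e a0), Matrix.one_apply_eq] at this
    have hdet : ν = 1 := by
      have h5 := y.2
      rw [hyd, Matrix.det_diagonal, ← e.prod_comp, Fintype.prod_sum_type] at h5
      simp only [inl_ne e, if_false, Finset.prod_const, Finset.card_univ, Fin.prod_univ_one,
        if_true] at h5
      obtain ⟨k, hk⟩ := hev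
      rw [hk, ← two_mul, pow_mul, pow_two, hμ, one_pow, one_mul] at h5
      exact h5
    have hyt : y = t := by
      rcases mul_self_eq_one_iff.1 hμ with h | h
      · exfalso
        have : y = 1 := by
          apply Subtype.ext
          rw [hyd, h, hdet]
          simp
        rw [this, orderOf_one] at hy
        omega
      · apply Subtype.ext
        rw [hyd, ht, h, hdet]
    rw [hyt]
    exact ⟨hKC, hcomp⟩
  · intro g _ hc
    have hq' : IsQuasisimple (K.map (MulAut.conj g).toMonoidHom) :=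
      (isQuasisimple_map_iff_of_injective (MulAut.conj g).injective).2 hq
    apply IsQuasisimple.comm_ne_bot hq'
    have hle : K.map (MulAut.conj g).toMonoidHom ≤ centralizer (K : Set (SpecialLinearGroup ι F)) :=
      commutator_eq_bot_iff_le_centralizer.1 (comm_bot_symm hc)
    rw [eq_bot_iff, Subgroup.commutator_le]
    intro a ha b hb
    obtain ⟨μ, ν, h1⟩ := centralizer_blk e (by omega) (hle ha)
    obtain ⟨μ', ν', h1'⟩ := centralizer_blk e (by omega) (hle hb)
    rw [mem_bot, commutatorElement_eq_one_iff_mul_comm]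
    apply Subtype.ext
    change a.1 * b.1 = b.1 * a.1
    rw [h1, h1', Matrix.diagonal_mul_diagonal, Matrix.diagonal_mul_diagonal]
    congr 1
    ext c
    rw [mul_comm]

include e in
theorem gl_component [Finite F] (h2 : (2 : F) ≠ 0) (hκ : 2 ≤ Fintype.card κ)
    (hq : IsQuasisimple (SpecialLinearGroup κ F)) :
    ∃ t : GL ι F, orderOf t = 2 ∧ t ∉ center (GL ι F) ∧
      HasComponent (↥(centralizer ({t} : Set (GL ι F))) ⧸
        oddCore ↥(centralizer ({t} : Set (GL ι F)))) := by
  classical
  haveI : Nontrivial κ := Fintype.one_lt_card_iff_nontrivial.1 hκ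
  set l := e (Sum.inr 0) with hl
  let D : Matrix ι ι F := Matrix.diagonal (fun a => if a = l then (-1 : F) else -(-1))
  have hDD : D * D = 1 := by
    rw [Matrix.diagonal_mul_diagonal, ← Matrix.diagonal_one]
    congr 1
    ext a
    split_ifs <;> simp
  let t : GL ι F := ⟨D, D, hDD, hDD⟩
  have hm1 : (-1 : F) ≠ 0 := neg_ne_zero.2 one_ne_zero
  set C := centralizer ({t} : Set (GL ι F)) with hCdef
  have hmem : ∀ g : GL ι F, g ∈ C ↔ IsBlk l (g : Matrix ι ι F) := by
    intro g
    rw [← comm_diagonal_iff h2 l hm1, hCdef, mem_centralizer_singleton_iff]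
    constructor
    · intro h; exact congrArg Units.val h
    · intro h; exact Units.ext h
  obtain ⟨a0, b0, hab⟩ := exists_pair_ne κ
  have hneg : (-1 : F) ≠ 1 := fun h => h2 (by linear_combination -h)
  refine ⟨t, ?_, ?_, ?_⟩
  · apply orderOf_eq_prime
    · apply Units.ext
      rw [pow_two]
      exact hDD
    · intro h
      have h1 : D = 1 := congrArg (fun g : GL ι F => (g : Matrix ι ι F)) h
      have h3 : D l l = -1 := by simp [D]
      rw [h1, Matrix.one_apply_eq] at h3
      exact hneg h3.symm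
  · intro h
    let s : GL ι F := SpecialLinearGroup.toGL
      (SpecialLinearGroup.transvection (inl_ne e a0) (1 : F))
    have hs : s ∈ C := mem_centralizer_singleton_iff.2 (mem_center_iff.1 h s)
    have := ((hmem s).1 hs).1 _ (inl_ne e a0)
    change Matrix.transvection (e (Sum.inl a0)) l (1 : F) (e (Sum.inl a0)) l = 0 at this
    rw [Matrix.transvection, Matrix.add_apply, Matrix.one_apply_ne (inl_ne e a0),
      Matrix.single_apply_same, zero_add] at this
    exact one_ne_zero this
  · set K := ((blkSL e (F := F)).range).map SpecialLinearGroup.toGL with hKdef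
    have hKmem : ∀ g : GL ι F, g ∈ K ↔ IsBlk l (g : Matrix ι ι F) ∧
        (g : Matrix ι ι F) l l = 1 ∧ (g : Matrix ι ι F).det = 1 := by
      intro g
      constructor
      · rintro ⟨h, hh, rfl⟩
        have := (mem_range_blkSL e h).1 hh
        exact ⟨this.1, this.2, h.2⟩
      · rintro ⟨h1, h3, h4⟩
        exact ⟨⟨g, h4⟩, (mem_range_blkSL e _).2 ⟨h1, h3⟩, Units.ext rfl⟩
    have hKC : K ≤ C := fun g hg => (hmem g).2 ((hKmem g).1 hg).1
    obtain ⟨hn, -⟩ := blk_normal (Units.coeHom (Matrix ι ι F)) l (C := C) (K := K)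
      (fun g hg => (hmem g).1 hg)
      (fun g hg => by
        rw [hKmem]
        exact ⟨fun h => h.2, fun h => ⟨(hmem g).1 hg, h⟩⟩)
    have hqK : IsQuasisimple K :=
      (isQuasisimple_map_iff_of_injective SpecialLinearGroup.toGL_injective).2
        (isQuasisimple_range_blkSL e hq)
    have hcomp : IsComponent (K.subgroupOf C) :=
      ⟨hn.isSubnormal, (isQuasisimple_subgroupOf_iff hKC).2 hqK⟩
    refine ⟨_, IsComponent.map hcomp (QuotientGroup.mk'_surjective (oddCore C)) ?_⟩
    rw [Ne, Subgroup.map_eq_bot_iff, QuotientGroup.ker_mk']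
    intro hle
    let u : SpecialLinearGroup κ F := SpecialLinearGroup.diag2n hab (-1) hm1
    have hu : orderOf u = 2 := by
      apply orderOf_eq_prime
      · apply Subtype.ext
        rw [pow_two]
        change u.1 * u.1 = 1
        rw [SpecialLinearGroup.diag2n_coe, Matrix.diagonal_mul_diagonal, ← Matrix.diagonal_one]
        congr 1
        ext a
        split_ifs <;> simp
      · intro h
        have := congrFun (congrFun (congrArg Subtype.val h) a0) a0
        rw [SpecialLinearGroup.diag2n_coe, Matrix.diagonal_apply_eq, if_pos rfl] at this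
        apply hneg
        rw [this]; simp
    let w : GL ι F := SpecialLinearGroup.toGL (blkSL e u)
    have hw : orderOf w = 2 := by
      rw [orderOf_injective _ SpecialLinearGroup.toGL_injective,
        orderOf_injective _ (blkSL_injective e), hu]
    have hwK : w ∈ K := ⟨_, ⟨u, rfl⟩, rfl⟩
    have hcop : (Nat.card (opp 2 C)).Coprime 2 := opp_cop 2 C
    have hwO : w ∈ opp 2 C := ⟨⟨w, hKC hwK⟩, hle hwK, rfl⟩
    have := H25.LB.even_card_of_invol hwO hw
    rw [cop_two_iff_odd, ← Nat.not_even_iff_odd] at hcop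
    exact hcop this

end block

end H25.Lin
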