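import Mathlib
import Cfsg.Agent.H4.Misc
import Cfsg.Agent.H5.Brauer

/-! # Brauer's splitting field theorem -/

set_option autoImplicit false
set_option linter.unusedSectionVars false

open Cfsg H4 Module
open scoped ComplexConjugate

namespace H25.Split

variable {G : Type*} [Group G] {K : Type} [Field K] (u : K →+* ℂ)

/-- `χ` is afforded by a representation over `K`. -/
def KC (χ : G → ℂ) : Prop :=
  ∃ (n : ℕ) (σ : Representation K G (Fin n → K)), χ = fun g => u (σ.character g)

theorem kc_of_rep {V : Type*} [AddCommGroup V] [Module K V] [FiniteDimensional K V]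
    (ρ : Representation K G V) : KC u (fun g => u (ρ.character g)) :=
  ⟨finrank K V, repTransport ρ (Module.finBasis K V).equivFun, by
    rw [← Representation.char_iso (repTransportEquiv ρ (Module.finBasis K V).equivFun)]⟩

variable {u}

theorem KC.exists_rep {χ : G → ℂ} (h : KC u χ) : ∃ (n : ℕ) (ρ : Representation ℂ G (Fin n → ℂ)),
    ρ.character = χ ∧ ∀ g i j, LinearMap.toMatrix' (ρ g) i j ∈ u.range := by
  obtain ⟨n, ρ, rfl⟩ := h
  let ρ' : Representation ℂ G (Fin n → ℂ) :=
    { toFun := fun g => Matrix.toLin' ((LinearMap.toMatrix' (ρ g)).map u)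
      map_one' := by
        rw [map_one, Module.End.one_eq_id, LinearMap.toMatrix'_id,
          Matrix.map_one _ (map_zero u) (map_one u), Matrix.toLin'_one, Module.End.one_eq_id]
      map_mul' := fun g h => by
        rw [map_mul, Module.End.mul_eq_comp, LinearMap.toMatrix'_comp, Matrix.map_mul,
          Matrix.toLin'_mul, Module.End.mul_eq_comp] }
  refine ⟨n, ρ', funext fun g => ?_, fun g i j => ?_⟩
  · change LinearMap.trace ℂ _ (Matrix.toLin' ((LinearMap.toMatrix' (ρ g)).map u)) =
      u (LinearMap.trace K _ (ρ g))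
    rw [Matrix.trace_toLin'_eq, ← Matrix.toLin'_toMatrix' (ρ g), Matrix.trace_toLin'_eq,
      LinearMap.toMatrix'_toLin', Matrix.trace, Matrix.trace, map_sum]
    rfl
  · change LinearMap.toMatrix' (Matrix.toLin' ((LinearMap.toMatrix' (ρ g)).map u)) i j ∈ _
    rw [LinearMap.toMatrix'_toLin']
    exact ⟨_, rfl⟩

theorem KC.isChar {χ : G → ℂ} (h : KC u χ) : IsCharacter G χ := by
  obtain ⟨n, ρ, h1, -⟩ := h.exists_rep
  exact ⟨n, ρ, h1⟩

theorem kc_zero : KC u (0 : G → ℂ) :=
  ⟨0, 1, funext fun g => by simp [Representation.character]⟩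

theorem KC.add {χ ψ : G → ℂ} (h : KC u χ) (h' : KC u ψ) : KC u (χ + ψ) := by
  obtain ⟨n, ρ, rfl⟩ := h
  obtain ⟨m, σ, rfl⟩ := h'
  have := kc_of_rep u (ρ.prod σ)
  rw [rep_char_prod] at this
  convert this using 1
  ext g; simp

theorem card_ne (u : K →+* ℂ) [Finite G] : (Nat.card G : K) ≠ 0 := fun h =>
  card_ne_zero G (by rw [← map_natCast u, h, map_zero])

theorem inner_eq [Fintype G] {V W : Type*} [AddCommGroup V] [Module K V]
    [FiniteDimensional K V] [AddCommGroup W] [Module K W] [FiniteDimensional K W]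
    (ρ : Representation K G V) (σ : Representation K G W) :
    classInner (fun g => u (σ.character g)) (fun g => u (ρ.character g)) =
      finrank K (ρ.IntertwiningMap σ) := by
  have := invertibleOfNonzero (card_ne (G := G) u)
  rw [← map_natCast u, ← Representation.card_inv_mul_sum_char_mul_char_eq_finrank, classInner,
    map_mul, map_inv₀, map_natCast, map_sum]
  congr 1
  refine Finset.sum_congr rfl fun g _ => ?_
  rw [map_mul, ← (kc_of_rep u ρ).isChar.apply_inv]

theorem cancel [Finite G] {ψ : G → ℂ} (hψ : KC u ψ) :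
    ∀ χ : G → ℂ, IsCharacter G χ → KC u (χ + ψ) → KC u χ := by
  have := Fintype.ofFinite G
  have : NeZero (Nat.card G : K) := ⟨card_ne u⟩
  obtain ⟨n, ρ, rfl⟩ := hψ
  refine rep_induction (k := K) (G := G) (fun V _ _ _ ρ => ∀ χ : G → ℂ, IsCharacter G χ →
    KC u (χ + fun g => u (ρ.character g)) → KC u χ) ?_ ?_ ?_ _ ρ
  · intro V _ _ _ _ ρ χ _ h
    convert h using 1
    ext g
    simp [Representation.character, Subsingleton.elim (ρ g) 0]
  · rintro V _ _ _ ρ _ χ hχ ⟨m, σ, h⟩
    have h1 := inner_eq (u := u) ρ σ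
    obtain ⟨k, hk⟩ := hχ.inner_nat (kc_of_rep u ρ).isChar
    rw [← h, classInner_add_left, hk, inner_eq] at h1
    have h3 : 0 < finrank K (ρ.IntertwiningMap ρ) := by
      haveI := nontrivial_of_irreducible ρ
      haveI : Nontrivial (ρ.IntertwiningMap ρ) := by
        obtain ⟨v, hv⟩ := exists_ne (0 : V)
        exact ⟨⟨Representation.IntertwiningMap.id ρ, 0, fun e => hv (by
          simpa using congrArg (fun f : ρ.IntertwiningMap ρ => f v) e)⟩⟩
      exact finrank_pos
    have h2 : 0 < finrank K (ρ.IntertwiningMap σ) := by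
      have : k + finrank K (ρ.IntertwiningMap ρ) = finrank K (ρ.IntertwiningMap σ) := by
        exact_mod_cast h1
      omega
    have := Module.nontrivial_of_finrank_pos h2
    obtain ⟨f, hf⟩ := exists_ne (0 : ρ.IntertwiningMap σ)
    have hf := (Representation.IsIrreducible.injective_or_eq_zero f).resolve_right hf
    obtain ⟨T', hT⟩ := exists_isCompl f.range
    have e2 := rep_char_eq_add_of_isCompl σ _ T' hT
    have e3 : ρ.character = f.range.toRepresentation.character :=
      Representation.char_iso (Representation.Equiv.mk (LinearEquiv.ofInjective f.toLinearMap hf)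
        fun g => by
          refine LinearMap.ext fun v => Subtype.ext ?_
          exact f.isIntertwining _ _ g v)
    convert kc_of_rep u T'.toRepresentation using 1
    ext g
    have := congrFun h g
    simp only [Pi.add_apply, e2, ← e3, map_add] at this
    linear_combination this
  · intro V _ _ _ ρ U U' hU ih ih' χ hχ h
    refine ih χ hχ (ih' _ (hχ.add (kc_of_rep u _).isChar) ?_)
    convert h using 1
    ext g
    simp [rep_char_eq_add_of_isCompl ρ U U' hU, add_assoc]

/-- the left regular action on functions. -/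
def reg (K : Type) [Field K] (G : Type*) [Group G] : Representation K G (G → K) where
  toFun g := LinearMap.funLeft K K (fun x => g⁻¹ * x)
  map_one' := by ext; simp
  map_mul' g h := by ext; simp [mul_assoc]

theorem kc_ind [Fintype G] (E : Subgroup G) (lam : E →* Kˣ) :
    KC u (indFun E fun e => u (lam e)) := by
  classical
  haveI := Fintype.ofFinite E
  let W : Subrepresentation (reg K G) :=
    { toSubmodule :=
        { carrier := {f | ∀ (x : G) (e : E), (lam e : K) * f (x * e) = f x}
          add_mem' := fun {a b} ha hb x e => by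
            simp only [Pi.add_apply, mul_add, ha x e, hb x e]
          zero_mem' := fun x e => by simp
          smul_mem' := fun c f hf x e => by
            simp only [Pi.smul_apply, smul_eq_mul, mul_left_comm _ c, hf x e] }
      apply_mem_toSubmodule := fun g f hf x e => by
        have := hf (g⁻¹ * x) e
        simpa [reg, mul_assoc] using this }
  let p : (G → K) →ₗ[K] (G → K) :=
    (Nat.card E : K)⁻¹ • ∑ e : E, (lam e : K) • LinearMap.funLeft K K (fun x => x * (e : G))
  have hp : ∀ f x, p f x = (Nat.card E : K)⁻¹ * ∑ e : E, (lam e : K) * f (x * e) := by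
    intro f x
    simp [p, LinearMap.funLeft_apply]
  have hpW : ∀ f, p f ∈ W.toSubmodule := fun f x e => by
    rw [hp, hp, mul_left_comm, Finset.mul_sum]
    congr 1
    refine Fintype.sum_equiv (Equiv.mulLeft e) _ _ fun d => ?_
    simp [mul_assoc]
  have hpid : ∀ f ∈ W.toSubmodule, p f = f := fun f hf => funext fun x => by
    rw [hp, Finset.sum_congr rfl fun e _ => hf x e, Finset.sum_const, Finset.card_univ,
      ← Nat.card_eq_fintype_card, nsmul_eq_mul, ← mul_assoc, inv_mul_cancel₀ (card_ne u), one_mul]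
  convert kc_of_rep u W.toRepresentation using 1
  ext g
  have h1 : ∀ f, (reg K G g ∘ₗ p) f ∈ W.toSubmodule := fun f =>
    W.apply_mem_toSubmodule g (hpW f)
  have h2 : W.toRepresentation.character g = LinearMap.trace K _ (reg K G g ∘ₗ p) := by
    rw [← LinearMap.trace_restrict_eq_of_forall_mem W.toSubmodule _ h1]
    unfold Representation.character
    congr 1
    ext f x
    simp [Subrepresentation.toRepresentation, hpid f f.2]
  rw [h2, LinearMap.trace_eq_matrix_trace K (Pi.basisFun K G), Matrix.trace, map_sum, indFun_apply,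
    Finset.mul_sum]
  refine Finset.sum_congr rfl fun x _ => ?_
  rw [Matrix.diag_apply, LinearMap.toMatrix_apply]
  simp only [Pi.basisFun_apply, Pi.basisFun_repr, LinearMap.comp_apply]
  change _ = u (p (Pi.single x 1) (g⁻¹ * x))
  rw [hp, map_mul, map_inv₀, map_natCast, map_sum]
  congr 1
  have h3 : ∀ e : G, g⁻¹ * x * e = x → e = x⁻¹ * g * x := fun e h => by
    calc e = x⁻¹ * g * (g⁻¹ * x * e) := by group
      _ = _ := by rw [h]
  by_cases hx : x⁻¹ * g * x ∈ E
  · rw [extendByZero_of_mem _ _ hx, Finset.sum_eq_single ⟨_, hx⟩]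
    · simp [mul_assoc]
    · intro e _ he
      rw [Pi.single_eq_of_ne, mul_zero, map_zero]
      intro h
      exact he (Subtype.ext (h3 _ h))
    · simp
  · rw [extendByZero_of_not_mem _ _ hx]
    refine (Finset.sum_eq_zero fun e _ => ?_).symm
    rw [Pi.single_eq_of_ne, mul_zero, map_zero]
    intro h
    exact hx (h3 _ h ▸ e.2)

theorem kc_of_roots [Finite G] (hu : ∀ z : ℂ, z ^ Monoid.exponent G = 1 → z ∈ u.range)
    {χ : G → ℂ} (hχ : IsCharacter G χ) : KC u χ := by
  haveI := Fintype.ofFinite G
  have key : ∀ θ ∈ AddSubgroup.closure {g | ∃ (E : Subgroup G) (lam : E →* ℂˣ), H5.Elem E ∧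
      g = indFun E (fun e => (lam e : ℂ))}, ∃ a b, KC u a ∧ KC u b ∧ θ + b = a := by
    intro θ hθ
    induction hθ using AddSubgroup.closure_induction with
    | mem x hx =>
      obtain ⟨E, lam, -, rfl⟩ := hx
      have h1 : ∀ e : E, ∃ k : K, u k = lam e := fun e => hu _ (by
        rw [← Units.val_pow_eq_pow_val, ← map_pow,
          show e ^ Monoid.exponent G = 1 from Subtype.ext (Monoid.pow_exponent_eq_one _), map_one,
          Units.val_one])
      choose k hk using h1
      let mu : E →* K :=
        { toFun := k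
          map_one' := u.injective (by simp [hk])
          map_mul' := fun a b => u.injective (by simp [hk]) }
      refine ⟨_, 0, ?_, kc_zero, add_zero _⟩
      convert kc_ind (u := u) E mu.toHomUnits using 3
      exact (hk _).symm
    | zero => exact ⟨0, 0, kc_zero, kc_zero, add_zero _⟩
    | add x y _ _ hx hy =>
      obtain ⟨a, b, ha, hb, rfl⟩ := hx
      obtain ⟨c, d, hc, hd, rfl⟩ := hy
      exact ⟨_, _, ha.add hc, hb.add hd, by abel⟩
    | neg x _ hx =>
      obtain ⟨a, b, ha, hb, rfl⟩ := hx
      exact ⟨b, _, hb, ha, by abel⟩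
  obtain ⟨a, b, ha, hb, rfl⟩ := key χ (H5.mem_closure_linear_elem hχ.isGen)
  exact cancel hb χ hχ ha

theorem brauer [Finite G] (n : ℕ) (ρ : Representation ℂ G (Fin n → ℂ)) :
    ∃ σ : Representation ℂ G (Fin n → ℂ), Nonempty (ρ.Equiv σ) ∧ ∀ g : G, ∀ i j : Fin n,
      LinearMap.toMatrix' (σ g) i j ∈ Algebra.adjoin ℚ
        ({Complex.exp (2 * Real.pi * Complex.I / (Monoid.exponent G : ℂ))} : Set ℂ) := by
  have hm : Monoid.exponent G ≠ 0 := Monoid.exponent_ne_zero_of_finite
  have hζ := Complex.isPrimitiveRoot_exp _ hm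
  generalize Complex.exp (2 * Real.pi * Complex.I / (Monoid.exponent G : ℂ)) = ζ at hζ
  haveI : NeZero (Monoid.exponent G) := ⟨hm⟩
  have halg : IsAlgebraic ℚ ζ := ((hζ.isIntegral (Nat.pos_of_ne_zero hm)).tower_top).isAlgebraic
  rw [← IntermediateField.adjoin_simple_toSubalgebra_of_isAlgebraic halg]
  obtain ⟨m, σ, h1, h2⟩ := (kc_of_roots (u := algebraMap (IntermediateField.adjoin ℚ {ζ}) ℂ)
    (fun z hz => by
      obtain ⟨i, -, rfl⟩ := hζ.eq_pow_of_pow_eq_one hz
      exact ⟨⟨_, pow_mem (IntermediateField.mem_adjoin_simple_self ℚ ζ) i⟩, rfl⟩)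
    (isCharacter_of_rep ρ)).exists_rep
  have h3 : m = n := by
    have := congrFun h1 1
    simpa using this
  subst h3
  refine ⟨σ, nonempty_equiv_of_character_eq _ _ h1.symm, fun g i j => ?_⟩
  obtain ⟨k, hk⟩ := h2 g i j
  rw [← hk]
  exact k.2

end H25.Split
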