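import Mathlib
import Cfsg.Agent.H28.M5

/-!
# Groups of order `1024` given as `Q : R` with `|Q| = 128`, `|R| = 8` by tables
-/

set_option autoImplicit false

namespace H25.Sy

open H29

/-- entry `n` of a table with entries of `w` bits (`m = 2 ^ w - 1`). -/
def lk (T w m n : ℕ) : ℕ := Nat.land (Nat.shiftRight T (Nat.mul w n)) m

theorem lk7_lt (T n : ℕ) : lk T 7 127 n < 128 := Nat.and_lt_two_pow _ (n := 7) (by norm_num)
theorem lk3_lt (T n : ℕ) : lk T 3 7 n < 8 := Nat.and_lt_two_pow _ (n := 3) (by norm_num)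
theorem lk10_lt (T n : ℕ) : lk T 10 1023 n < 1024 := Nat.and_lt_two_pow _ (n := 10) (by norm_num)

/-- the product of two numbers. -/
noncomputable def mulN (qt act rt a b : ℕ) : ℕ := lit a fun a => lit b fun b =>
  lit (Nat.shiftRight a 7) fun r =>
  Nat.add (lk qt 7 127 (Nat.add (Nat.mul 128 (Nat.land a 127))
    (lk act 7 127 (Nat.add (Nat.mul 128 r) (Nat.land b 127)))))
    (Nat.mul 128 (lk rt 3 7 (Nat.add (Nat.mul 8 r) (Nat.shiftRight b 7))))

theorem mulN_eq (qt act rt a b : ℕ) : mulN qt act rt a b =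
    lk qt 7 127 (128 * (a % 128) + lk act 7 127 (128 * (a / 128) + b % 128)) +
      128 * lk rt 3 7 (8 * (a / 128) + b / 128) := by
  have h1 : ∀ a : ℕ, Nat.land a 127 = a % 128 := fun a => Nat.and_two_pow_sub_one_eq_mod a 7
  have h2 : ∀ a : ℕ, Nat.shiftRight a 7 = a / 128 := fun a => Nat.shiftRight_eq_div_pow a 7
  simp only [mulN, lit_eq, h1, h2]
  rfl

theorem mulN_lt (qt act rt a b : ℕ) : mulN qt act rt a b < 1024 := by
  rw [mulN_eq]
  have := lk7_lt qt (128 * (a % 128) + lk act 7 127 (128 * (a / 128) + b % 128))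
  have := lk3_lt rt (8 * (a / 128) + b / 128)
  omega

theorem map_mulN {N : Type*} [Monoid N] {qt act rt : ℕ} {mq mr : ℕ → N}
    (hq : ∀ a < 128, ∀ b < 128, mq (lk qt 7 127 (128 * a + b)) = mq a * mq b)
    (hr : ∀ a < 8, ∀ b < 8, mr (lk rt 3 7 (8 * a + b)) = mr a * mr b)
    (ha : ∀ a < 8, ∀ b < 128, mr a * mq b = mq (lk act 7 127 (128 * a + b)) * mr a)
    {a b : ℕ} (h1 : a < 1024) (h2 : b < 1024) :
    mq (mulN qt act rt a b % 128) * mr (mulN qt act rt a b / 128) =
      mq (a % 128) * mr (a / 128) * (mq (b % 128) * mr (b / 128)) := by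
  have l1 := lk7_lt qt (128 * (a % 128) + lk act 7 127 (128 * (a / 128) + b % 128))
  rw [mulN_eq, Nat.add_mul_mod_self_left, Nat.mod_eq_of_lt l1, Nat.add_mul_div_left _ _ (by norm_num),
    Nat.div_eq_of_lt l1, zero_add, hq _ (by omega) _ (lk7_lt _ _), hr _ (by omega) _ (by omega),
    mul_assoc, mul_assoc, ← mul_assoc (mr _) (mq _), ha _ (by omega) _ (by omega), mul_assoc]

/-- all numbers below `n` pass the test. -/
noncomputable def alN (n : ℕ) (p : ℕ → Bool) : Bool :=
  Nat.rec (motive := fun _ => Bool) true (fun m ih => and2 (p m) ih) n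

theorem alN_iff {p : ℕ → Bool} : ∀ {n : ℕ}, alN n p = true ↔ ∀ i < n, p i = true
  | 0 => by simp [alN]
  | n + 1 => by
    rw [show alN (n + 1) p = and2 (p n) (alN n p) from rfl, and2_true, alN_iff,
      Nat.forall_lt_succ_right, and_comm]

end H25.Sy
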