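import Cfsg.Agent.H12.TIG
import Cfsg.Agent.H7.SyG

/-! TI, block H: the `Z*` lemma and the centraliser of a point. -/

set_option autoImplicit false
set_option linter.unusedSectionVars false
set_option linter.unusedVariables false

namespace H12.TI.TH

open Cfsg H24 Subgroup H26.Gold
open scoped commutatorElement

universe u

variable {G : Type u} [Group G] [Finite G] {Ω : Set (Subgroup G)}
  {A B C D F I J P Q R S T U : Subgroup G} {a a' b c d d' g i j j' p r s t w x y ρ κ : G}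

theorem inv_of_sq (h : x * x = 1) : x⁻¹ = x := inv_eq_of_mul_eq_one_right h

theorem mem_zp2 (h : x * x = 1) (hy : y ∈ zpowers x) : y = 1 ∨ y = x := by
  obtain ⟨k, rfl⟩ := hy
  obtain ⟨j, rfl | rfl⟩ := Int.even_or_odd' k <;> simp [zpow_add, zpow_mul, sq, h]

theorem mem_of_sq_odd (ho : Odd (orderOf x)) (h : x * x ∈ R) : x ∈ R := by
  obtain ⟨k, hk⟩ := ho
  have : x = (x * x) ^ (k + 1) := by
    rw [← sq, ← pow_mul, show 2 * (k + 1) = orderOf x + 1 by omega, pow_succ, pow_orderOf_eq_one,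
      one_mul]
  rw [this]; exact pow_mem h _

theorem cj_com (h : j * j = 1) : j * ⁅j, r⁆ * j⁻¹ = ⁅j, r⁆⁻¹ := by
  rw [commutatorElement_inv, commutatorElement_def, commutatorElement_def, inv_of_sq h]
  simp only [← mul_assoc, h, one_mul]

theorem ZL (hJ : ∀ x ∈ J, x * x = 1) (h4 : 4 ≤ ♯J) (hn : J ≤ N[R])
    (h1 : ∀ j ∈ J, j ≠ 1 → ∀ r ∈ R, j * (r * j * r⁻¹) = r * j * r⁻¹ * j → r * j * r⁻¹ = j)
    (h2 : ∀ j ∈ J, j ≠ 1 → ∀ x ∈ R, Odd (orderOf x) → x * j = j * x → x ∈ C[J]) : J ≤ C[R] := by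
  intro j hj
  by_cases j1 : j = 1
  · rw [j1]; exact one_mem _
  have jn : zpowers j ≤ N[R] := zpowers_le.2 (hn hj)
  have mH : ∀ g ∈ R ⊔ zpowers j, ∃ r ∈ R, g = r ∨ g = r * j := fun g hg => by
    obtain ⟨r, r1, y, y1, rfl⟩ := (mem_sup_of_norm jn).1 hg
    rcases mem_zp2 (hJ j hj) y1 with rfl | rfl
    exacts [⟨r, r1, Or.inl (mul_one _)⟩, ⟨r, r1, Or.inr rfl⟩]
  have z := zstar_sub' (H := R ⊔ zpowers j) (mem_sup_right (mem_zpowers j)) j1 (hJ j hj) fun g hg e => by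
    obtain ⟨r, r1, rfl | rfl⟩ := mH g hg
    · exact h1 j hj j1 _ r1 e
    · have : r * j * j * (r * j)⁻¹ = r * j * r⁻¹ := by group
      rw [this] at e ⊢
      exact h1 j hj j1 _ r1 e
  have on : J ≤ N[Od[R ⊔ zpowers j]] := norm_pcore _ (norm_sup hn (norm_zpowers_of_cent
    fun x hx => mem_C1.2 (commSq hJ hx hj)))
  have oc : Od[R ⊔ zpowers j] ≤ C[J] := H7.SJ.gen1 (ea_of_sq hJ) h4 (Od_odd _) on fun a ha a1 x hx => by
    have xo : Odd (orderOf x) := oddE_iff.1 ((Od_odd _).piElt hx.1)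
    refine h2 a ha a1 x (mem_of_sq_odd xo ?_) xo (mem_C1.1 hx.2)
    obtain ⟨r, r1, e | e⟩ := mH x (pcore_le _ _ hx.1)
    · rw [e]; exact mul_mem r1 r1
    · rw [e, show r * j * (r * j) = r * (j * r * j⁻¹) * (j * j) by group, hJ j hj, mul_one]
      exact mul_mem r1 (conj_mem (hn hj) r1)
  refine mem_C'.2 fun r hr => ?_
  have m : ⁅j, r⁆ ∈ Od[R ⊔ zpowers j] := z (commutator_mem_commutator (mem_zpowers j) (mem_sup_left hr))
  have e := mem_C.1 (oc m) j hj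
  rw [← commutatorElement_eq_one_iff_mul_comm]
  refine eq_one_of_odd_sq ((Od_odd _).piElt m) ?_
  have := cj_com (r := r) (hJ j hj)
  rw [e, mul_inv_cancel_right] at this
  exact mul_eq_one_iff_eq_inv.2 this

theorem two_dih {n : ℕ} (hx : x * x = 1) (hy : y * y = 1) (h : (x * y) ^ 2 ^ n = 1) :
    ∃ T : Subgroup G, IsPi {2} T ∧ x ∈ T ∧ y ∈ T := by
  refine ⟨zpowers (x * y) ⊔ zpowers x, IsPi.sup (piElt_of_pow_eq_one ((piNat_self Nat.prime_two).pow n) h).isPi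
    (twoE_of_sq hx).isPi (zpowers_le.2 (invMemN (invPair hx hy))), mem_sup_right (mem_zpowers x), ?_⟩
  have : y = x * (x * y) := by rw [← mul_assoc, hx, one_mul]
  rw [this]
  exact mul_mem (mem_sup_right (mem_zpowers x)) (this ▸ mem_sup_left (mem_zpowers _))

theorem cj_self_of_C (hκ : κ ∈ C[A]) : cj κ A = A := cj_of_mem_C hκ

theorem top_K (h : Sit Ω) (hA : Top Ω A B) (hx : x ∈ N[A]) : Top Ω A (cj x B) := by
  have := h.top_cj hA x
  rwa [cj_of_mem_N hx] at this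

theorem ax_cj (hx : x ∈ N[A]) : ax A (cj x B) = cj x (ax A B) := by
  rw [cj_ax, cj_of_mem_N hx]

theorem ax_cj' (hx : x ∈ N[A]) : ax (cj x B) A = cj x (ax B A) := by
  rw [cj_ax, cj_of_mem_N hx]

theorem ax_K (hκ : κ ∈ C[A]) : ax A (cj κ B) = ax A B := by
  rw [ax_cj (C_le_N A hκ), cj_of_mem_C (C_anti (show ax A B ≤ A from inf_le_left) hκ)]

/-- commuting elements of two lines with the same axis -/
theorem mem_W (h : Sit Ω) (hg : Good Ω) (hA : Top Ω A B) (hC : Adj Ω A C) (e : ax A C = ax A B)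
    (hj : j ∈ ax B A) (j1 : j ≠ 1) (hj' : j' ∈ ax C A) {n : ℕ} (hn : (j * j') ^ 2 ^ n = 1) :
    j' ∈ Wl A B := by
  by_cases j1' : j' = 1
  · rw [j1']; exact one_mem _
  obtain ⟨T, T1, T2, T3⟩ := two_dih (h.sq B hA.r j hj.1) (h.sq C hC.r j' hj'.1) hn
  have c1 := (h.fam1 hA hC e hj j1 hj' j1' (h.fam2 hA hC e hj hj' T1 T2 T3)).1
  refine hg.cw A B hA j' ⟨j1', C, hC.r, hj'.1⟩ ?_
  rw [Wl, C_sup]
  exact ⟨mem_C.2 fun i hi => h.commAx hC.l hC.r (e ▸ hi) hj', cents_symm c1 hj'⟩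

theorem ul (h : Sit Ω) (hg : Good Ω) (hA : Top Ω A B) (h4 : 4 ≤ ♯(ax A B)) :
    ∀ κ ∈ C[A], ∃ a ∈ A, ∃ c ∈ C[A ⊔ B], κ = a * c := by
  have JN : ax B A ≤ N[A] := inf_le_right
  have KN : C[A] ≤ N[A] := C_le_N A
  have AJ : A ⊓ ax B A = ⊥ := eq_bot_of_le (h.ti A hA.l B hA.r hA.ne) (inf_le_inf_left _ inf_le_left)
  have sqJ : ∀ j ∈ ax B A, j * j = 1 := fun j hj => h.sq B hA.r j hj.1
  have cK : ∀ j ∈ ax B A, ∀ κ ∈ C[A], j * κ * j⁻¹ ∈ C[A] := fun j hj κ hκ =>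
    conj_mem (N_le_NC A (JN hj)) hκ
  have IC : ax A B ≤ C[ax B A] := le_C_iff.2 fun i hi j hj => h.commAx hA.l hA.r hi hj
  have z := ZL (J := quo (ax B A) A) (R := quo C[A] A) ?_ ?_ (quo_norm _ (JN.trans (N_le_NC A))) ?_ ?_
  · intro κ hκ
    obtain ⟨j, hj, j1⟩ := exists_ne_one (h.adj_symm hA.toAdj).nb
    have e := mem_C'.1 (z (cs_mem_quo hj (JN hj))) _ (cs_mem_quo hκ (KN hκ))
    rw [← ap_mul _ (JN hj) (KN hκ), ← ap_mul _ (KN hκ) (JN hj),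
      cs_eq_cs (mul_mem (JN hj) (KN hκ)) (mul_mem (KN hκ) (JN hj))] at e
    have e2 : j * (κ * j * κ⁻¹) ∈ A := by
      have := conj_mem (KN hκ) e
      rwa [show κ * ((j * κ)⁻¹ * (κ * j)) * κ⁻¹ = j⁻¹ * (κ * j * κ⁻¹) by group, inv_of_sq (sqJ j hj)] at this
    have tC := top_K h hA (KN hκ)
    have jC : κ * j * κ⁻¹ ∈ ax (cj κ B) A := ax_cj' (KN hκ) ▸ conj_mem_cj κ hj
    have jW := mem_W h hg hA tC.toAdj (ax_K hκ) hj j1 jC (n := 1) (by
      rw [pow_one, sq]; exact h.sq A hA.l _ e2)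
    rcases hg.ln A B hA _ tC.r (ne_bot_of_mem ⟨jC.1, jW⟩ (by simpa using j1)) with k | ⟨a, a1, a2⟩
    · exact absurd k.symm tC.ne
    have aK : a ∈ C[A] := mem_C.2 fun x hx => h.comm hA.l hx a1
    have k1 : a⁻¹ * κ ∈ C[A] := mul_mem (inv_mem aK) hκ
    have k2 : a⁻¹ * κ ∈ N[B] := cj_eq_cj_iff.1 a2
    obtain ⟨i, i1, c, c1, e3⟩ := h.CK hA.toAdj k1 hj j1 (h.comm_of hA.toAdj (KN k1) k2 hj (by
      rw [commutatorElement_def, mul_assoc, mul_assoc, ← mul_assoc j]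
      exact mul_mem k1 (cK j hj _ (inv_mem k1))))
    exact ⟨a * i, mul_mem a1 i1.1, c, c1, by rw [mul_assoc, ← e3, mul_inv_cancel_left]⟩
  · intro x hx
    obtain ⟨j, hj, -, rfl⟩ := mem_quo.1 hx
    rw [← ap_mul _ (JN hj) (JN hj), sqJ j hj, ap_one]
  · rw [card_quo_of_inf JN AJ, ← h.card_ax hA.toAdj]; exact h4
  · intro x hx x1 y hy e
    obtain ⟨j, hj, -, rfl⟩ := mem_quo.1 hx
    obtain ⟨κ, hκ, -, rfl⟩ := mem_quo.1 hy
    have j1 : j ≠ 1 := fun k => x1 (by rw [k]; exact ap_one _)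
    have tC := top_K h hA (KN hκ)
    have jC : κ * j * κ⁻¹ ∈ ax (cj κ B) A := ax_cj' (KN hκ) ▸ conj_mem_cj κ hj
    rw [← ap_conj _ (KN hκ) (JN hj)] at e ⊢
    have jK : j * (κ * j * κ⁻¹) ∈ C[A] := by
      have := mul_mem (cK j hj κ hκ) (inv_mem hκ)
      rwa [inv_of_sq (sqJ j hj), mul_assoc, mul_assoc, ← mul_assoc κ] at this
    generalize κ * j * κ⁻¹ = k at e jC jK ⊢
    have kN : k ∈ N[A] := jC.2
    have sk := h.sq _ tC.r k jC.1
    rw [← ap_mul _ (JN hj) kN, ← ap_mul _ kN (JN hj),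
      cs_eq_cs (mul_mem (JN hj) kN) (mul_mem kN (JN hj))] at e
    have jW := mem_W h hg hA tC.toAdj (ax_K hκ) hj j1 jC (n := 2) (by
      have := h.sq A hA.l _ (inv_mem e)
      rw [mul_inv_rev, inv_inv, mul_inv_rev, inv_of_sq sk, inv_of_sq (sqJ j hj)] at this
      rw [← this]; simp only [pow_succ, pow_zero, one_mul, mul_assoc]; norm_num [pow_succ, mul_assoc])
    obtain ⟨a, a1, a2⟩ := h.exists_not_mem hA.toAdj
    have := h.cent_Wl hA.toAdj a1 a2 (mul_mem (axLeW' A B hj) jW) (mem_C.1 jK a a1)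
    rw [eq_comm, cs_eq_cs (JN hj) kN, inv_of_sq (sqJ j hj)]
    exact this.1
  · intro x hx x1 y hy yo e
    obtain ⟨j, hj, -, rfl⟩ := mem_quo.1 hx
    obtain ⟨κ, hκ, -, rfl⟩ := mem_quo.1 hy
    have j1 : j ≠ 1 := fun k => x1 (by rw [k]; exact ap_one _)
    obtain ⟨m, hm⟩ := yo
    have p1 : cs A κ ^ (2 * m + 1) = 1 := hm ▸ pow_orderOf_eq_one _
    have p2 : κ ^ (2 * m + 1) ∈ A := by
      rw [← cs_eq_one (pow_mem (KN hκ) _)]; exact (ap_pow _ (KN hκ) _).trans p1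
    have p3 : cs A (κ ^ (2 * m + 2)) = cs A κ := by
      refine (ap_pow _ (KN hκ) _).trans ?_
      rw [pow_succ, p1, one_mul]
    have p4 : (κ ^ (2 * m + 2)) ^ (2 * m + 1) = 1 := by
      rw [← pow_mul, show (2 * m + 2) * (2 * m + 1) = (2 * m + 1) * 2 * (m + 1) by ring, pow_mul,
        pow_mul, sq, h.sq A hA.l _ p2, one_pow]
    have yK : κ ^ (2 * m + 2) ∈ C[A] := pow_mem hκ _
    rw [← p3] at e ⊢
    generalize κ ^ (2 * m + 2) = y at e p4 yK ⊢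
    rw [← ap_mul _ (JN hj) (KN yK), ← ap_mul _ (KN yK) (JN hj),
      cs_eq_cs (mul_mem (KN yK) (JN hj)) (mul_mem (JN hj) (KN yK))] at e
    have e1 : y⁻¹ * (j * y * j⁻¹) ∈ A := by
      have := conj_mem (JN hj) e
      rwa [show j * ((y * j)⁻¹ * (j * y)) * j⁻¹ = y⁻¹ * (j * y * j⁻¹) by group] at this
    have e2 : y⁻¹ * (j * y * j⁻¹) = 1 := by
      generalize ha : y⁻¹ * (j * y * j⁻¹) = a at e1
      have c : Commute y a := (mem_C'.1 yK a e1)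
      have : (y * a) ^ (2 * m + 1) = 1 := by
        rw [← ha, mul_inv_cancel_left, conj_pow, p4, mul_one, mul_inv_cancel]
      rwa [c.mul_pow, p4, one_mul, pow_succ, pow_mul, sq, h.sq A hA.l a e1, one_pow, one_mul] at this
    obtain ⟨i, i1, c, c1, rfl⟩ := h.CK hA.toAdj yK hj j1 (by
      rw [inv_mul_eq_one, eq_mul_inv_iff_mul_eq] at e2; exact e2)
    exact quo_cent A (A := zpowers (i * c)) (zpowers_le.2 (mul_mem (IC i1)
      (C_anti (inf_le_left.trans le_sup_right) c1))) (cs_mem_quo (mem_zpowers _) (KN yK))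

end H12.TI.TH
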