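import Cfsg.Agent.H12.TIJ
import Cfsg.Agent.H15.LX

/-! TI, block P: non-top lines, I. -/

set_option autoImplicit false
set_option linter.unusedSectionVars false
set_option linter.unusedVariables false

namespace H12.TI.TP

open Cfsg H24 Subgroup TJ
open scoped commutatorElement

universe u

variable {G : Type u} [Group G] [Finite G] {Ω : Set (Subgroup G)}
  {A B C D : Subgroup G} {a g i j j' k x : G}

variable {K : Type} [Field K] [Fintype K] {n : ℕ} {ι : (Fin n → K) → G}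
  {f f' : Module.Dual K (Fin n → K)} {u v w : Fin n → K} {U : Submodule K (Fin n → K)}
  {β : (Fin n → K) →ₗ[K] (Fin n → K)}

theorem exists_act (hl : Lin Ω A ι) (hx : x ∈ N[A]) :
    ∃ (H : (Fin n → K) →+ (Fin n → K)) (σ : K ≃+* K), (∀ v, x * ι v * x⁻¹ = ι (H v)) ∧
      ∀ (c : K) v, H (c • v) = σ c • H v := by
  choose H hH using fun v => (hl.mem _).1 (conj_mem hx (memA hl v))
  obtain ⟨σ, hσ⟩ := hl.semi x hx
  refine ⟨AddMonoidHom.mk' H fun v w => hl.inj ?_, σ, fun v => (hH v).symm, fun c v => hl.inj ?_⟩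
  · rw [hH, hl.mul, hl.mul, hH, hH]; group
  · exact (hH _).trans (hσ c v _ (hH v).symm)

theorem cardA (hl : Lin Ω A ι) : ♯A = Fintype.card K ^ n := by
  rw [← Nat.card_congr (Equiv.ofBijective (fun v => (⟨ι v, memA hl v⟩ : A))
    ⟨fun v w e => hl.inj (congrArg Subtype.val e), fun x => by
      obtain ⟨v, hv⟩ := (hl.mem x).1 x.2; exact ⟨v, Subtype.ext hv⟩⟩)]
  simp

theorem q_lt (h : Sit Ω) (hl : Lin Ω A ι) (hB : Adj Ω A B) : Fintype.card K < ♯(ax B A) := by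
  have h1 := h.card_le_sq hB
  rw [cardA hl, h.card_ax hB] at h1
  have h2 : 1 < Fintype.card K := Fintype.one_lt_card
  have h3 := Nat.pow_lt_pow_right h2 (show 2 < n from hl.three)
  exact lt_of_pow_lt_pow_left₀ 2 (Nat.zero_le _) (h3.trans_le h1)

theorem smul_mem (h : Sit Ω) (hl : Lin Ω A ι) (hB : Adj Ω A B) (hv : ι v ∈ N[B]) (c : K) :
    ι (c • v) ∈ N[B] := by
  by_cases v0 : v = 0
  · rw [v0, smul_zero, ι0 hl]; exact one_mem _
  obtain ⟨j, j1, j2⟩ := exists_ne_one (h.adj_symm hB).nb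
  have sj := h.sq B hB.r j j1.1
  obtain ⟨k, k1, k2⟩ := SetLike.exists_of_lt (lt_of_card_lt (zpowers_le.2 j1) (by
    have := q_lt h hl hB
    have h2 : 1 < Fintype.card K := Fintype.one_lt_card
    rw [card_zpowers']
    have := orderOf_le_of_pow_eq_one two_pos (show j ^ 2 = 1 by rw [sq, sj])
    omega))
  have k3 : k ≠ 1 := neOne k2
  have k4 : j * k ≠ 1 := fun e => k2 (by rw [eq_inv_of_mul_eq_one_right e]; exact inv_mem (mem_zpowers j))
  have fx : ∀ x ∈ ax B A, x ≠ 1 → ∀ w, ι w ∈ N[B] ↔ x * ι w * x⁻¹ = ι w := fun x x1 x2 w => by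
    rw [← h.cent_iff hB x1 x2 (memA hl w), mul_inv_eq_iff_eq_mul, eq_comm]
  obtain ⟨σ, hσ⟩ := hl.semi j j1.2
  obtain ⟨τ, hτ⟩ := hl.semi k k1.2
  have e1 := fun c => hσ c v v ((fx j j1 j2 v).1 hv)
  have e2 := fun c => hτ c v v ((fx k k1 k3 v).1 hv)
  have cn : ∀ c d : K, ι (c • v) = ι (d • v) → c = d := fun c d e =>
    smul_left_injective K v0 (hl.inj e)
  have ss : σ (σ c) = c := cn _ _ (by
    rw [← e1, ← e1, show j * (j * ι (c • v) * j⁻¹) * j⁻¹ = (j * j) * ι (c • v) * (j * j)⁻¹ by group, sj]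
    group)
  have st : ∀ c, σ c = c → τ c = c := fun c e => cn _ _ (by
    rw [← e2]; exact (fx k k1 k3 _).1 ((fx j j1 j2 _).2 (by rw [e1, e])))
  have a1 := st (c + σ c) (by rw [map_add, ss, add_comm])
  have a2 := st (c * σ c) (by rw [map_mul, ss, mul_comm])
  have a3 : (τ c - c) * (τ c - σ c) = 0 := by
    have : τ c * τ c - τ (c + σ c) * τ c + τ (c * σ c) = 0 := by
      rw [← map_mul, ← map_mul, ← map_sub, ← map_add, show c * c - (c + σ c) * c + c * σ c = 0 by ring,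
        map_zero]
    rw [a1, a2] at this
    linear_combination this
  rcases mul_eq_zero.1 a3 with a | a
  · exact (fx k k1 k3 _).2 (by rw [e2, sub_eq_zero.1 a])
  · refine (fx (j * k) (mul_mem j1 k1) k4 _).2 ?_
    rw [show j * k * ι (c • v) * (j * k)⁻¹ = j * (k * ι (c • v) * k⁻¹) * j⁻¹ by group, e2,
      sub_eq_zero.1 a, e1, ss]

/-- `j` acts as `1 + β` -/
def Bt (ι : (Fin n → K) → G) (j : G) (β : (Fin n → K) →ₗ[K] (Fin n → K)) : Prop :=
  ∀ v, j * ι v * j⁻¹ = ι (v + β v)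

/-- a non-top line -/
structure NT (Ω : Set (Subgroup G)) (A B : Subgroup G) (ι : (Fin n → K) → G)
    (U : Submodule K (Fin n → K)) : Prop where
  st : St Ω
  hl : Lin Ω A ι
  ad : Adj Ω A B
  nt : ¬ Top Ω A B
  hU : ∀ v, v ∈ U ↔ ι v ∈ N[B]

theorem exists_NT (h : St Ω) (hl : Lin Ω A ι) (hB : Adj Ω A B) (nt : ¬ Top Ω A B) :
    ∃ U, NT Ω A B ι U :=
  ⟨{ carrier := {v | ι v ∈ N[B]}
     zero_mem' := by change ι 0 ∈ N[B]; rw [ι0 hl]; exact one_mem _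
     add_mem' := fun {v w} h1 h2 => by change ι (v + w) ∈ N[B]; rw [hl.mul]; exact mul_mem h1 h2
     smul_mem' := fun c v hv => smul_mem h.toSit hl hB hv c }, h, hl, hB, nt, fun _ => Iff.rfl⟩

theorem tv_bt (t : Tv ι j u f) : Bt ι j (f.smulRight u) := t

theorem comm_C (hl : Lin Ω A ι) {β' : (Fin n → K) →ₗ[K] (Fin n → K)} (t : Bt ι j β) (t' : Bt ι k β')
    (e : ∀ v, β (β' v) = β' (β v)) : ⁅j, k⁆ ∈ C[A] := by
  have e1 : ∀ v, (j * k) * ι v * (j * k)⁻¹ = (k * j) * ι v * (k * j)⁻¹ := fun v => by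
    rw [show (j * k) * ι v * (j * k)⁻¹ = j * (k * ι v * k⁻¹) * j⁻¹ by group,
      show (k * j) * ι v * (k * j)⁻¹ = k * (j * ι v * j⁻¹) * k⁻¹ by group, t, t', t, t', map_add, map_add, e]
    congr 1; abel
  have jN : j ∈ N[A] := mem_N_of_finite fun x hx => by
    obtain ⟨v, rfl⟩ := (hl.mem x).1 hx
    rw [t v]; exact memA hl _
  have kN : k ∈ N[A] := mem_N_of_finite fun x hx => by
    obtain ⟨v, rfl⟩ := (hl.mem x).1 hx
    rw [t' v]; exact memA hl _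
  refine tv_C hl fun v => ?_
  obtain ⟨w, hw⟩ := (hl.mem _).1 (conj_mem' (mul_mem kN jN) (memA hl v))
  have : ι v = (k * j) * ι w * (k * j)⁻¹ := by rw [hw]; group
  calc _ = (j * k) * ((k * j)⁻¹ * ι v * (k * j)) * (j * k)⁻¹ := by rw [commutatorElement_def]; group
    _ = _ := by rw [← hw, e1, ← this]

namespace NT

variable (h : NT Ω A B ι U)
include h

theorem s : Sit Ω := h.st.toSit

theorem memI : ι v ∈ ax A B ↔ v ∈ U := ⟨fun m => (h.hU v).2 m.2, fun m => ⟨memA h.hl v, (h.hU v).1 m⟩⟩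

theorem exU : ∃ u ∈ U, u ≠ 0 := by
  obtain ⟨i, i1, i2⟩ := exists_ne_one h.ad.nb
  obtain ⟨u, rfl⟩ := (h.hl.mem i).1 i1.1
  exact ⟨u, h.memI.1 i1, fun e => i2 ((ι_eq_one h.hl).2 e)⟩

theorem exN : ∃ v, v ∉ U := by
  obtain ⟨a, a1, a2⟩ := h.s.exists_not_mem h.ad
  obtain ⟨v, rfl⟩ := (h.hl.mem a).1 a1
  exact ⟨v, fun m => a2 ((h.hU v).1 m)⟩

theorem exβ (hj : j ∈ ax B A) : ∃ β, Bt ι j β := by
  obtain ⟨H, σ, h1, h2⟩ := exists_act h.hl hj.2
  obtain ⟨u, u1, u2⟩ := h.exU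
  have fx : ∀ u ∈ U, H u = u := fun u hu => h.hl.inj (by
    rw [← h1, ← h.s.commAx h.ad.l h.ad.r (h.memI.2 hu) hj, mul_inv_cancel_right])
  have e : ∀ c, σ c = c := fun c => smul_left_injective K u2 (by
    have := h2 c u
    rw [fx _ (U.smul_mem c u1), fx u u1] at this
    exact this.symm)
  refine ⟨{ toFun := fun v => H v - v
            map_add' := fun v w => by rw [map_add]; abel
            map_smul' := fun c v => by rw [h2, e, smul_sub]; rfl }, fun v => ?_⟩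
  rw [h1]; congr 1
  change _ = v + (H v - v)
  abel

theorem βc (hj : j ∈ ax B A) (t : Bt ι j β) (v : Fin n → K) : ι (β v) = ⁅ι v, j⁆ := by
  have := TH.cj_eq h.s h.hl.pt (memA h.hl v) (h.s.sq B h.ad.r j hj.1)
  rw [t, h.hl.mul] at this
  exact mul_left_cancel this

theorem βU (hj : j ∈ ax B A) (t : Bt ι j β) (v : Fin n → K) : β v ∈ U :=
  h.memI.1 (h.βc hj t v ▸ h.s.comm_mem h.ad (memA h.hl v) hj)

theorem β0 (hj : j ∈ ax B A) (t : Bt ι j β) (hu : u ∈ U) : β u = 0 := by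
  have := t u
  rw [← h.s.commAx h.ad.l h.ad.r (h.memI.2 hu) hj, mul_inv_cancel_right] at this
  exact left_eq_add.1 (h.hl.inj this)

theorem exAx (hf : f ≠ 0) (a : ∀ u ∈ U, f u = 0) : ∃ C, IsAx Ω A ι f C :=
  h.hl.all_rad h.s hf fun v hv => a v ((h.hU v).2 (h.s.rad_le h.ad hv))

theorem HY (φ : Module.Dual K (Fin n → K)) : ∃ w, w ∉ U ∧ φ w = 0 := by
  by_contra k
  push Not at k
  obtain ⟨v, hv⟩ := h.exN
  have a : ∀ u ∈ U, φ u = 0 := fun u hu => by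
    by_contra e
    refine k (v - (φ v / φ u) • u) (fun m => hv ?_) (by simp [e])
    simpa using U.add_mem m (U.smul_mem (φ v / φ u) hu)
  obtain ⟨C, hC⟩ := h.exAx (fun e => k v hv (by rw [e]; rfl)) a
  refine h.nt (h.s.top_of_le hC.top h.ad (card_le fun x hx => ?_))
  obtain ⟨w, rfl⟩ := (h.hl.mem x).1 hx.1
  exact h.memI.2 (by_contra fun m => k w m ((TJ.memI h.hl hC).1 hx))

theorem exf {W : Submodule K (Fin n → K)} (hv : v ∉ W) :
    ∃ f : Module.Dual K (Fin n → K), (∀ u ∈ W, f u = 0) ∧ f v = 1 := by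
  obtain ⟨f, f1, f2⟩ := Submodule.exists_dual_map_eq_bot_of_notMem hv inferInstance
  refine ⟨(f v)⁻¹ • f, fun u hu => ?_, by simp [f1]⟩
  have : f u ∈ W.map f := Submodule.mem_map_of_mem hu
  rw [f2, Submodule.mem_bot] at this
  simp [this]

/-- two elements with the same value -/
theorem fix2 (hC : IsAx Ω A ι f C) (x1 : x ∈ N[A]) (x2 : x ∈ N[ax A C]) :
    ∃ w, x * ι w ∈ N[C] := by
  obtain ⟨-, a, a1, a2⟩ := h.st.uniq.norm h.s hC.top x1 x2
  obtain ⟨w, rfl⟩ := (h.hl.mem a).1 a1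
  exact ⟨w, a2⟩

theorem fix3 (hC : IsAx Ω A ι f C) (hk : k * k = 1) (x2 : k ∈ N[ax A C]) (h1 : j * ι v ∈ N[C])
    (h2 : k * ι w ∈ N[C]) (e : f v = f w) : j * k ∈ N[C] := by
  have m : ι v * (ι w)⁻¹ ∈ ax A C := by
    rw [TH.inv_of_sq (h.s.sq A h.hl.pt _ (memA h.hl w)), ← h.hl.mul, TJ.memI h.hl hC, map_add, e,
      two0 h.s h.hl]
  have := mul_mem (mul_mem h1 (inv_mem h2)) (inv_mem (conj_mem x2 m).2)
  rwa [show j * ι v * (k * ι w)⁻¹ * (k * (ι v * (ι w)⁻¹) * k⁻¹)⁻¹ =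
    j * (ι v * (ι w)⁻¹) * (k * k)⁻¹ * (k * k) * (ι v * (ι w)⁻¹)⁻¹ * k⁻¹ by group, hk, inv_one, mul_one,
    mul_one, mul_inv_cancel_right, TH.inv_of_sq hk] at this

theorem nI (hC : IsAx Ω A ι f C) (t : Bt ι j β) (e : ∀ v, f (β v) = 0) : j ∈ N[ax A C] :=
  mem_N_of_finite fun x hx => by
    obtain ⟨w, rfl⟩ := (h.hl.mem x).1 hx.1
    rw [t, TJ.memI h.hl hC, map_add, e, add_zero]
    exact (TJ.memI h.hl hC).1 hx

theorem cmm (hC : IsAx Ω A ι f C) (hj : j ∈ ax B A) (jC : j ∈ N[C]) (t : Bt ι j β)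
    (e : ∀ v, f (β v) = 0) (hg : g ∈ ax C A) (tg : Tv ι g u f) (hu : u ∈ U) : j * g = g * j :=
  h.s.comm_of hC.top.toAdj hj.2 jC hg (comm_C h.hl t (tv_bt tg) fun v => by simp [e, h.β0 hj t hu])

theorem N2 (hC : IsAx Ω A ι f C) (a : ∀ u ∈ U, f u = 0) (hg : g ∈ ax C A) (tg : Tv ι g u f)
    (hu : u ∈ U) : g ∈ C[Wl A B] := by
  have s := h.s
  have nI : ∀ j ∈ ax B A, j ∈ N[ax A C] := fun j hj => by
    obtain ⟨β, t⟩ := h.exβ hj
    exact h.nI hC t fun v => a _ (h.βU hj t v)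
  choose w hw using fun j : ax B A => h.fix2 hC j.2.2 (nI j j.2)
  have := Fintype.ofFinite (ax B A)
  obtain ⟨j, k, ne, e⟩ := Fintype.exists_ne_map_eq_of_card_lt (α := ax B A) (fun j => f (w j))
    (by rw [← Nat.card_eq_fintype_card (α := ax B A)]; exact q_lt s h.hl h.ad)
  have sk := s.sq B h.ad.r k k.2.1
  have m := h.fix3 hC sk (nI k k.2) (hw j) (hw k) e
  have jk : (j : G) * k ∈ ax B A := mul_mem j.2 k.2
  obtain ⟨β, t⟩ := h.exβ jk
  have gB : g ∈ N[B] := s.C1_le h.ad.r jk.1 (fun e => ne (Subtype.ext (by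
    rw [eq_inv_of_mul_eq_one_left e, TH.inv_of_sq sk])))
    (mem_C1.2 (h.cmm hC jk m t (fun v => a _ (h.βU jk t v)) hg tg hu).symm)
  rw [Wl, C_sup]
  refine ⟨mem_C'.2 fun i hi => ?_, mem_C'.2 fun j hj => ?_⟩
  · obtain ⟨v, rfl⟩ := (h.hl.mem i).1 hi.1
    exact (tv_comm h.hl tg).2 (by rw [a v (h.memI.1 hi), zero_smul])
  · obtain ⟨β, t⟩ := h.exβ hj
    exact s.comm_of h.ad hg.2 gB hj (comm_C h.hl (tv_bt tg) t fun v => by
      simp [a _ (h.βU hj t v), h.β0 hj t hu])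

theorem N2' (hC : IsAx Ω A ι f C) (a : ∀ u ∈ U, f u = 0) : Adj Ω C B := by
  obtain ⟨u, u1, u2⟩ := h.exU
  obtain ⟨g, g1, g2⟩ := h.hl.ext f C hC u (a u u1)
  obtain ⟨j, j1, j2⟩ := exists_ne_one (h.s.adj_symm h.ad).nb
  exact h.s.adj_of_mem hC.top.r h.ad.r (fun e => h.nt (e ▸ hC.top)) j1.1 j2
    (h.s.C1_le hC.top.r g1.1 (neOne (tv_notA h.s h.hl hC.ne u2 g2))
      (mem_C1.2 (mem_C.1 (h.N2 hC a g1 g2 u1) j (axLeW' A B j1))))

end NT

end H12.TI.TP
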