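import Cfsg.Agent.H25.TP1

/-! TI, block P: non-top lines, II. -/

set_option autoImplicit false
set_option linter.unusedSectionVars false
set_option linter.unusedVariables false

namespace H12.TI.TP

open Cfsg H24 Subgroup TJ
open scoped commutatorElement

universe u

variable {G : Type u} [Group G] [Finite G] {Ω : Set (Subgroup G)}
  {A B B' C D : Subgroup G} {a g i j j' k x η : G}

variable {K : Type} [Field K] [Fintype K] {n : ℕ} {ι : (Fin n → K) → G}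
  {f f' f1 f2 : Module.Dual K (Fin n → K)} {u v w : Fin n → K} {U U' : Submodule K (Fin n → K)}
  {β β' : (Fin n → K) →ₗ[K] (Fin n → K)} {H : (Fin n → K) →+ (Fin n → K)} {σ : K ≃+* K}

theorem comm_C' (hl : Lin Ω A ι) (jN : j ∈ N[A]) (kN : k ∈ N[A])
    (e1 : ∀ v, j * (k * ι v * k⁻¹) * j⁻¹ = k * (j * ι v * j⁻¹) * k⁻¹) : ⁅j, k⁆ ∈ C[A] := by
  refine tv_C hl fun v => ?_
  obtain ⟨w, hw⟩ := (hl.mem _).1 (conj_mem' (mul_mem kN jN) (memA hl v))
  have : ι v = k * (j * ι w * j⁻¹) * k⁻¹ := by rw [hw]; group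
  calc _ = j * (k * ((k * j)⁻¹ * ι v * (k * j)) * k⁻¹) * j⁻¹ := by rw [commutatorElement_def]; group
    _ = _ := by rw [← hw, e1, ← this]

theorem card_two (k2 : ∀ c : K, c = 0 ∨ c = 1) : Fintype.card K = 2 := by
  classical
  refine le_antisymm ?_ Fintype.one_lt_card
  calc _ ≤ ({0, 1} : Finset K).card := Finset.card_le_card fun c _ => by simpa using k2 c
    _ ≤ 2 := Finset.card_le_two

theorem three_sum (k2 : ∀ c : K, c = 0 ∨ c = 1) (t : (1 : K) + 1 = 0) (a b c d e g : K)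
    (h1 : ¬ (a = 0 ∧ b = 0)) (h2 : ¬ (c = 0 ∧ d = 0)) (h3 : ¬ (e = 0 ∧ g = 0))
    (h4 : ¬ (c + a = 0 ∧ d + b = 0)) (h5 : ¬ (e + c = 0 ∧ g + d = 0)) (h6 : ¬ (e + a = 0 ∧ g + b = 0)) :
    e + c + a = 0 ∧ g + d + b = 0 := by
  rcases k2 a with rfl | rfl <;> rcases k2 b with rfl | rfl <;> rcases k2 c with rfl | rfl <;>
    rcases k2 d with rfl | rfl <;> rcases k2 e with rfl | rfl <;> rcases k2 g with rfl | rfl <;>
    simp_all

/-- `η ∈ ⟨A, B⟩` is odd and acts as `H` -/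
structure Et (Ω : Set (Subgroup G)) (A B : Subgroup G) (ι : (Fin n → K) → G) (η : G)
    (H : (Fin n → K) →+ (Fin n → K)) (σ : K ≃+* K) : Prop where
  m : η ∈ A ⊔ B
  nA : η ∈ N[A]
  nB : η ∈ N[B]
  od : Od Ω (Wl A B) η
  act : ∀ v, η * ι v * η⁻¹ = ι (H v)
  sm : ∀ (c : K) v, H (c • v) = σ c • H v

namespace NT

variable (h : NT Ω A B ι U)
include h

theorem eqv (e : u + v = 0) : u = v := by
  rw [← add_zero u, ← add_self h.s h.hl v, ← add_assoc, e, zero_add]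

theorem eqc {c d : K} (e : c + d = 0) : c = d := by
  rw [← add_zero c, ← two0 h.s h.hl d, ← add_assoc, e, zero_add]

theorem exη (hv : v ∉ U) (hw : w ∉ U) (e : v + w ∉ U) : ∃ η H σ, Et Ω A B ι η H σ ∧ H v = w := by
  obtain ⟨η, h1, h2, h3, h4, h5⟩ := h.s.exists_h h.ad (memA h.hl v) (fun m => hv ((h.hU v).2 m))
    (memA h.hl w) fun m => hw ((h.hU w).2 m)
  obtain ⟨H, σ, h6, h7⟩ := exists_act h.hl h2
  exact ⟨η, H, σ, ⟨h1, h2, h3, h5 fun m => e ((h.hU _).2 (h.hl.mul v w ▸ m)), h6, h7⟩,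
    h.hl.inj ((h6 v).symm.trans h4)⟩

theorem βmul (hj : j ∈ ax B A) (hk : k ∈ ax B A) (t : Bt ι j β) (t' : Bt ι k β') :
    Bt ι (j * k) (β + β') := fun v => by
  rw [show j * k * ι v * (j * k)⁻¹ = j * (k * ι v * k⁻¹) * j⁻¹ by group, t', t, map_add,
    h.β0 hj t (h.βU hk t' v), LinearMap.add_apply]
  congr 1; abel

variable (e : Et Ω A B ι η H σ)
include e

theorem HU : H v ∈ U ↔ v ∈ U := by
  rw [h.hU, h.hU, ← e.act, conj_mem_iff (norm_self _ e.nB)]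

theorem H0 (k : H v = 0) : v = 0 := by
  have := e.act v
  rwa [k, ι0 h.hl, conj_eq_one_iff', ι_eq_one h.hl] at this

theorem Z (a : ∀ u ∈ U, f u = 0) (hu : u ∈ U) (hv : v ∉ U) (k : σ (f v) • H u + f (H v) • u = 0)
    (w : Fin n → K) : σ (f w) • H u + f (H w) • u = 0 := by
  by_cases f0 : f = 0
  · simp [f0]
  obtain ⟨C, hC⟩ := h.exAx f0 a
  obtain ⟨j, j1, t⟩ := h.hl.ext f C hC u (a u hu)
  have m := inv_mem (h.s.comm_CW h.ad (h.N2 hC a j1 t hu) e.m)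
  rw [commutatorElement_inv, commutatorElement_def, TH.inv_of_sq (h.s.sq C hC.top.r j j1.1)] at m
  have ac : ∀ w, j * η * j * η⁻¹ * ι (H w) * (j * η * j * η⁻¹)⁻¹ =
      ι (H w + (σ (f w) • H u + f (H w) • u)) := fun w => by
    rw [← e.act, show j * η * j * η⁻¹ * (η * ι w * η⁻¹) * (j * η * j * η⁻¹)⁻¹ =
      j * (η * (j * ι w * j⁻¹) * η⁻¹) * j⁻¹ by group, t, e.act, t, map_add, e.sm, map_add, map_smul,
      a _ ((h.HU e).2 hu), smul_zero, add_zero, add_assoc]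
  have m2 := h.s.cent_Wl h.ad (memA h.hl (H v)) (fun m => hv ((h.HU e).1 ((h.hU _).2 m))) m (by
    have := ac v
    rw [k, add_zero, mul_inv_eq_iff_eq_mul] at this
    exact this.symm)
  have := ac w
  rw [h.s.comm h.hl.pt m2.1 (memA h.hl _), mul_inv_cancel_right] at this
  exact left_eq_add.1 (h.hl.inj this)

theorem σ1 {μ : K} (k : ∀ u ∈ U, H u = μ • u) (c : K) : σ c = c := by
  obtain ⟨u, u1, u2⟩ := h.exU
  have μ0 : μ ≠ 0 := fun z => u2 (h.H0 e (by rw [k u u1, z, zero_smul]))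
  have := e.sm c u
  rw [k _ (U.smul_mem c u1), k u u1, smul_smul, smul_smul] at this
  exact (mul_left_cancel₀ μ0 ((smul_left_injective K u2 this).trans (mul_comm _ _))).symm

theorem allδ (k : ∀ u ∈ U, ∀ f : Module.Dual K (Fin n → K), (∀ u ∈ U, f u = 0) →
    ∀ w, σ (f w) • H u + f (H w) • u = 0) : False := by
  obtain ⟨v, hv⟩ := h.exN
  obtain ⟨f, a, fv⟩ := h.exf hv
  have k1 : ∀ u ∈ U, H u = f (H v) • u := fun u hu => h.eqv (by simpa [fv] using k u hu f a v)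
  generalize f (H v) = μ at k1
  obtain ⟨u, u1, u2⟩ := h.exU
  have k2 : ∀ w, H w + μ • w ∈ U := fun w => by
    by_contra m
    obtain ⟨g, g1, g2⟩ := h.exf m
    have := k u u1 g g1 w
    rw [h.σ1 e k1, k1 u u1, smul_smul, ← add_smul, smul_eq_zero] at this
    rw [map_add, map_smul, smul_eq_mul, add_comm, mul_comm, this.resolve_right u2] at g2
    exact zero_ne_one g2
  obtain ⟨j, j1, j2⟩ := exists_ne_one (h.s.adj_symm h.ad).nb
  obtain ⟨β, t⟩ := h.exβ j1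
  refine j2 (e.od.fpf h.s h.ad (axLeW' A B j1) (h.s.comm_of h.ad e.nA e.nB j1
    (comm_C' h.hl e.nA j1.2 fun w => ?_)))
  rw [t, e.act, e.act, t, map_add, k1 _ (h.βU j1 t w)]
  have := h.β0 j1 t (k2 w)
  rw [map_add, map_smul] at this
  rw [h.eqv this]

theorem nofix (hv : v ∉ U) : H v + v ∉ U := fun m =>
  e.od.nofix h.s (h.s.gl_Wl h.ad) (h.s.on_Wl h.ad) e.nA (memA h.hl v)
    (h.s.notW h.ad (memA h.hl v) fun k => hv ((h.hU v).2 k))
    (by rw [e.act, ← h.hl.mul]; exact axLeW A B (h.memI.2 m))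

omit e

theorem q2 (c : K) : c = 0 ∨ c = 1 := by
  by_contra k
  push Not at k
  obtain ⟨v, hv⟩ := h.exN
  have nm : ∀ d : K, d ≠ 0 → d • v ∉ U := fun d d0 m => hv (by simpa [d0] using U.smul_mem d⁻¹ m)
  obtain ⟨η, H, σ, e, hH⟩ := h.exη hv (nm c k.1) (by
    have := nm (1 + c) fun z => k.2 (h.eqc z).symm
    rwa [add_smul, one_smul] at this)
  obtain ⟨f1, a1, b1⟩ := h.exf hv
  obtain ⟨w, w1, w2⟩ := h.HY f1
  obtain ⟨f, a, b⟩ := h.exf (W := U ⊔ Submodule.span K {v}) (v := w) fun m => by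
    obtain ⟨u, u1, y, y1, rfl⟩ := Submodule.mem_sup.1 m
    obtain ⟨d, rfl⟩ := Submodule.mem_span_singleton.1 y1
    have : d = 0 := by simpa [a1 u u1, b1] using w2
    exact w1 (by simpa [this] using u1)
  have a' : ∀ u ∈ U, f u = 0 := fun u hu => a u (Submodule.mem_sup_left hu)
  have fv : f v = 0 := a v (Submodule.mem_sup_right (Submodule.mem_span_singleton_self v))
  have k1 : ∀ u ∈ U, H u = f (H w) • u := fun u hu => h.eqv (by
    simpa [b] using h.Z e a' hu hv (by simp [hH, fv]) w)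
  generalize f (H w) = μ at k1
  refine h.allδ e fun u hu g ga => ?_
  let H' : (Fin n → K) →ₗ[K] (Fin n → K) :=
    { toFun := H, map_add' := H.map_add, map_smul' := fun c v => by rw [e.sm, h.σ1 e k1]; rfl }
  obtain ⟨y, y1, y2⟩ := h.HY (μ • g + g ∘ₗ H')
  refine h.Z e ga hu y1 ?_
  rw [h.σ1 e k1, k1 u hu, smul_smul, ← add_smul, mul_comm]
  change μ * g y + g (H y) = 0 at y2
  rw [y2, zero_smul]

theorem c2 : ∃ η f1 f2, η ∈ N[A] ∧ η ∈ N[B] ∧ Od Ω (Wl A B) η ∧ η ^ 3 = 1 ∧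
    ∀ w, w ∈ U ↔ (f1 : Module.Dual K (Fin n → K)) w = 0 ∧ (f2 : Module.Dual K (Fin n → K)) w = 0 := by
  obtain ⟨v, hv⟩ := h.exN
  obtain ⟨f1, a1, b1⟩ := h.exf hv
  obtain ⟨w, w1, w2⟩ := h.HY f1
  obtain ⟨η, H, σ, e, -⟩ := h.exη hv w1 fun m => by simpa [b1, w2] using a1 _ m
  have s1 : ∀ c, σ c = c := fun c => by rcases h.q2 c with rfl | rfl <;> simp
  let H' : (Fin n → K) →ₗ[K] (Fin n → K) :=
    { toFun := H, map_add' := H.map_add, map_smul' := fun c v => by rw [e.sm, s1]; rfl }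
  obtain ⟨u, hu, f, a, k⟩ : ∃ u ∈ U, ∃ f : Module.Dual K (Fin n → K), (∀ u ∈ U, f u = 0) ∧
      ¬ ∀ w, σ (f w) • H u + f (H w) • u = 0 := by
    by_contra k
    exact h.allδ e fun u hu f a => by_contra fun z => k ⟨u, hu, f, a, z⟩
  have mU : ∀ w, w ∈ U ↔ f w = 0 ∧ (f ∘ₗ H') w = 0 := fun w =>
    ⟨fun m => ⟨a w m, a _ ((h.HU e).2 m)⟩, fun m => by_contra fun z => k (h.Z e a hu z (by
      have : f (H w) = 0 := m.2
      simp [m.1, this]))⟩
  refine ⟨η, f, f ∘ₗ H', e.nA, e.nB, e.od, by_contra fun k => ?_, mU⟩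
  generalize f ∘ₗ H' = g at mU
  have ts : ∀ x y z, x ∉ U → y ∉ U → z ∉ U → y + x ∉ U → z + y ∉ U → z + x ∉ U → z + y + x ∈ U :=
    fun x y z h1 h2 h3 h4 h5 h6 => by
      simp only [mU, map_add] at h1 h2 h3 h4 h5 h6 ⊢
      exact three_sum h.q2 (two0 h.s h.hl 1) _ _ _ _ _ _ h1 h2 h3 h4 h5 h6
  have t1 : ∀ x, x ∉ U → H (H x) + H x + x ∈ U := fun x hx => by
    have n1 : H x ∉ U := fun m => hx ((h.HU e).1 m)
    refine ts _ _ _ hx n1 (fun m => n1 ((h.HU e).1 m)) (h.nofix e hx) (h.nofix e n1) ?_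
    have := h.nofix e (h.nofix e hx)
    rwa [map_add, add_assoc, ← add_assoc (H x), add_self h.s h.hl, zero_add] at this
  have t2 : H (H (H v)) + v ∈ U := by
    have := U.add_mem (t1 _ fun m => hv ((h.HU e).1 m)) (t1 v hv)
    rwa [show H (H (H v)) + H (H v) + H v + (H (H v) + H v + v) =
      H (H (H v)) + v + (H (H v) + H (H v)) + (H v + H v) by abel, add_self h.s h.hl,
      add_self h.s h.hl, add_zero, add_zero] at this
  refine (e.od.pow h.s (h.s.gl_Wl h.ad) k).nofix h.s (h.s.gl_Wl h.ad) (h.s.on_Wl h.ad) (pow_mem e.nA 3)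
    (memA h.hl v) (h.s.notW h.ad (memA h.hl v) fun k => hv ((h.hU v).2 k)) ?_
  rw [show η ^ 3 * ι v * (η ^ 3)⁻¹ = η * (η * (η * ι v * η⁻¹) * η⁻¹) * η⁻¹ by
    rw [pow_three]; group, e.act, e.act, e.act,
    ← h.hl.mul]
  exact axLeW A B (h.memI.2 t2)

theorem exv (m : ∀ w, w ∈ U ↔ f1 w = 0 ∧ f2 w = 0) : ∃ v1 v2, ∀ j β, j ∈ ax B A → Bt ι j β →
    ∀ v, β v = f1 v • β v1 + f2 v • β v2 := by
  obtain ⟨v1, a1, a2⟩ := h.HY f2
  obtain ⟨v2, b1, b2⟩ := h.HY f1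
  have a3 : f1 v1 = 1 := (h.q2 _).resolve_left fun e => a1 ((m _).2 ⟨e, a2⟩)
  have b3 : f2 v2 = 1 := (h.q2 _).resolve_left fun e => b1 ((m _).2 ⟨b2, e⟩)
  refine ⟨v1, v2, fun j β hj t v => ?_⟩
  have := h.β0 hj t ((m (v - (f1 v • v1 + f2 v • v2))).2 (by simp [a2, a3, b2, b3]))
  rwa [map_sub, map_add, map_smul, map_smul, sub_eq_zero] at this

theorem L8b (hC : IsAx Ω A ι f C) (hj : j ∈ ax B A) (j1 : j ≠ 1) (jC : j ∈ N[C]) (t : Bt ι j β)
    (e : ∀ v, f (β v) = 0) : ∀ i ∈ U, f i = 0 := by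
  have s := h.s
  obtain ⟨u, u1, u2, u3⟩ : ∃ u ∈ U, u ≠ 0 ∧ f u = 0 := by
    obtain ⟨u, u1, u2⟩ := h.exU
    obtain ⟨x, x1, x2⟩ := SetLike.exists_of_lt (lt_of_card_lt (zpowers_le.2 (h.memI.2 u1)) (by
      have := q_lt s h.hl h.ad
      have h2 : 1 < Fintype.card K := Fintype.one_lt_card
      rw [card_zpowers', s.card_ax h.ad]
      have := orderOf_le_of_pow_eq_one two_pos (show ι u ^ 2 = 1 by
        rw [sq, s.sq A h.hl.pt _ (memA h.hl u)])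
      omega))
    obtain ⟨v, rfl⟩ := (h.hl.mem x).1 x1.1
    have v1 := h.memI.1 x1
    rcases h.q2 (f u) with a | a
    · exact ⟨u, u1, u2, a⟩
    rcases h.q2 (f v) with b | b
    · exact ⟨v, v1, fun z => x2 (by rw [z, ι0 h.hl]; exact one_mem _), b⟩
    exact ⟨u + v, U.add_mem u1 v1, fun z => x2 (h.eqv z ▸ mem_zpowers _), by
      rw [map_add, a, b, two0 s h.hl]⟩
  obtain ⟨g, g1, tg⟩ := h.hl.ext f C hC u u3
  have gB : g ∈ N[B] := s.C1_le h.ad.r hj.1 j1 (mem_C1.2 (h.cmm hC hj jC t e g1 tg u1).symm)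
  have gJ : g ∈ N[ax B A] := norm_inf (X := zpowers g) (zpowers_le.2 gB)
    (norm_of_le (zpowers_le.2 g1.2)) (mem_zpowers g)
  have gi := TH.inv_of_sq (s.sq C hC.top.r g g1.1)
  intro i hi
  obtain ⟨v, hv⟩ := h.exN
  obtain ⟨k, k1, k2⟩ := s.comm_surj h.ad (memA h.hl v) (fun m => hv ((h.hU v).2 m)) (h.memI.2 hi)
  obtain ⟨γ, tk⟩ := h.exβ k1
  rw [← h.βc k1 tk, h.hl.inj.eq_iff] at k2
  have m : k * (g * k * g⁻¹) ∈ ax B A := mul_mem k1 (conj_mem gJ k1)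
  have ac : ∀ w, k * (g * k * g⁻¹) * ι w * (k * (g * k * g⁻¹))⁻¹ = ι (w + f (γ w) • u) := fun w => by
    have : k * (g * k * g⁻¹) * ι w * (k * (g * k * g⁻¹))⁻¹ =
        k * (g * (k * (g⁻¹ * ι w * g⁻¹⁻¹) * k⁻¹) * g⁻¹) * k⁻¹ := by group
    rw [this, inv_inv, show g⁻¹ * ι w * g = g * ι w * g⁻¹ by rw [gi], tg, tk, tg, tk]
    congr 1
    have e1 := add_self s h.hl (f w • u)
    have e2 := add_self s h.hl (γ w)
    simp only [map_add, map_smul, u3, h.β0 k1 tk u1, h.β0 k1 tk (h.βU k1 tk w), smul_eq_mul, mul_zero,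
      add_zero, smul_zero, add_smul]
    linear_combination (norm := module) e1 + e2
  obtain ⟨w, w1, w2⟩ := h.HY (f ∘ₗ γ)
  have one : k * (g * k * g⁻¹) = 1 := by_contra fun z => w1 ((h.hU w).2
    ((s.cent_iff h.ad m z (memA h.hl w)).1 (by
      have := ac w
      rw [show f (γ w) = 0 from w2, zero_smul, add_zero, mul_inv_eq_iff_eq_mul] at this
      exact this.symm)))
  have := ac v
  rw [one, one_mul, inv_one, mul_one, h.hl.inj.eq_iff, left_eq_add, k2, smul_eq_zero] at this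
  exact this.resolve_right u2

theorem L8 (m : ∀ w, w ∈ U ↔ f1 w = 0 ∧ f2 w = 0) (hC : IsAx Ω A ι f C) (h8 : 8 < ♯(ax B A)) :
    ∀ i ∈ U, f i = 0 := by
  classical
  have s := h.s
  obtain ⟨v1, v2, hv⟩ := h.exv m
  choose b hb using fun j : ax B A => h.exβ j.2
  have := Fintype.ofFinite (ax B A)
  obtain ⟨y, hy⟩ := Fintype.exists_lt_card_fiber_of_mul_lt_card (n := 2)
    (fun j : ax B A => (f (b j v1), f (b j v2)))
    (by rw [Fintype.card_prod, card_two h.q2, ← Nat.card_eq_fintype_card]; exact h8)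
  obtain ⟨j1, m1, j2, m2, j3, m3, n12, n13, n23⟩ := Finset.two_lt_card.1 hy
  simp only [Finset.mem_filter, Finset.mem_univ, true_and] at m1 m2 m3
  have sq : ∀ j : ax B A, (j : G) * j = 1 := fun j => s.sq B h.ad.r j j.2.1
  have ne : ∀ j k : ax B A, j ≠ k → (j : G) * k ≠ 1 := fun j k n e => n (Subtype.ext (by
    rw [eq_inv_of_mul_eq_one_left e, TH.inv_of_sq (sq k)]))
  have z : ∀ j k : ax B A, (f (b j v1), f (b j v2)) = (f (b k v1), f (b k v2)) →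
      ∀ v, f ((b j + b k) v) = 0 := fun j k e v => by
    rw [LinearMap.add_apply, hv _ _ j.2 (hb j) v, hv _ _ k.2 (hb k) v]
    simp only [map_add, map_smul, (Prod.mk.inj e).1, (Prod.mk.inj e).2]
    exact two0 s h.hl _
  have nI : ∀ j k : ax B A, (f (b j v1), f (b j v2)) = (f (b k v1), f (b k v2)) →
      (j : G) * k ∈ N[ax A C] := fun j k e => h.nI hC (h.βmul j.2 k.2 (hb j) (hb k)) (z j k e)
  have fin : ∀ j k : ax B A, j ≠ k → (f (b j v1), f (b j v2)) = (f (b k v1), f (b k v2)) →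
      (j : G) * k ∈ N[C] → ∀ i ∈ U, f i = 0 := fun j k n e c =>
    h.L8b hC (mul_mem j.2 k.2) (ne j k n) c (h.βmul j.2 k.2 (hb j) (hb k)) (z j k e)
  obtain ⟨w, hw⟩ := h.fix2 hC (mul_mem j2.2 j1.2).2 (nI j2 j1 (m2.trans m1.symm))
  obtain ⟨w', hw'⟩ := h.fix2 hC (mul_mem j1.2 j3.2).2 (nI j1 j3 (m1.trans m3.symm))
  rcases h.q2 (f w) with a | a
  · exact fin j2 j1 n12.symm (m2.trans m1.symm) (by
      simpa using mul_mem hw (inv_mem ((hC.iff w).2 a)))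
  rcases h.q2 (f w') with a' | a'
  · exact fin j1 j3 n13 (m1.trans m3.symm) (by
      simpa using mul_mem hw' (inv_mem ((hC.iff w').2 a')))
  refine fin j2 j3 n23 (m2.trans m3.symm) ?_
  have := h.fix3 hC (s.sq B h.ad.r _ (mul_mem j1.2 j3.2).1) (nI j1 j3 (m1.trans m3.symm)) hw hw'
    (a.trans a'.symm)
  rwa [mul_assoc, ← mul_assoc (j1 : G), sq j1, one_mul] at this

theorem main (hL : CL Ω) : (Fintype.card K = 2 ∧ n = 4 ∧ rad Ω A = ⊥) ∨ ax A B = rad Ω A := by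
  have s := h.s
  have rl : rad Ω A ≤ ax A B := le_inf (radLe A) (s.rad_le h.ad)
  refine (em (ax A B = rad Ω A)).symm.imp_left fun ne => ?_
  obtain ⟨η, f1, f2, e1, e2, e3, e4, m⟩ := h.c2
  obtain ⟨x, x1, x2⟩ := SetLike.exists_of_lt (lt_of_le_of_ne rl (Ne.symm ne))
  rw [memRad, not_and] at x2
  have x3 := x2 x1.1
  push Not at x3
  obtain ⟨C, tC, x3⟩ := x3
  obtain ⟨f, hC⟩ := h.hl.exf C tC
  obtain ⟨i, rfl⟩ := (h.hl.mem x).1 x1.1
  have l8 : ♯(ax A B) ≤ 8 := by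
    rw [s.card_ax h.ad]
    exact le_of_not_gt fun k => x3 ((hC.iff i).2 (h.L8 m hC k i (h.memI.1 x1)))
  have md : ∀ T ≤ ax A B, η ∈ N[T] → ♯T % 3 = 1 := fun T hT hn => by
    have := H15.XP.card_modEq_cent Nat.prime_three e4 hn
    rwa [show T ⊓ C{η} = ⊥ from eq_bot_iff.2 fun y hy => mem_bot.2
      (e3.fpf s h.ad (axLeW A B (hT hy.1)) (mem_C1.1 hy.2).symm), Subgroup.card_bot] at this
  have m1 := md _ le_rfl (norm_inf (X := zpowers η) (zpowers_le.2 e1) (norm_of_le (zpowers_le.2 e2))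
    (mem_zpowers η))
  have m2 := md _ rl (mem_N_iff_cj.2 (by rw [cj_rad s, cj_of_mem_N e1]))
  have q := card_two h.q2
  have l1 := q_lt s h.hl h.ad
  rw [← s.card_ax h.ad, q] at l1
  have l2 := ((s.two h.hl.pt).of_le (show ax A B ≤ A from inf_le_left)).dvd_card h.ad.nb
  have c4 : ♯(ax A B) = 4 := by omega
  have l3 := TH.two_mul_le (lt_of_le_of_ne rl (Ne.symm ne))
  refine ⟨q, ?_, card_eq_one'.1 (by omega)⟩
  have a1 := s.card_le_sq h.ad
  have a2 : ♯(ax A B) < ♯(ax A C) := lt_of_not_ge fun k => h.nt (s.top_of_le tC h.ad k)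
  have a3 : 2 * ♯(ax A C) ≤ ♯A := TH.two_mul_le (lt_of_le_of_ne inf_le_left fun k => x3 (k.ge x1.1).2)
  rw [cardA h.hl, q, c4] at a1
  rw [cardA h.hl, q] at a3
  have b1 : n ≤ 4 := (Nat.pow_le_pow_iff_right (by norm_num : 1 < 2)).1 a1
  have b2 : 3 < n := (Nat.pow_lt_pow_iff_right (by norm_num : 1 < 2)).1 (by omega)
  omega

theorem adj2 (h' : NT Ω A B' ι U') (e : ax A B' = ax A B) (ne : B ≠ B') : Adj Ω B B' := by
  have s := h.s
  obtain rfl : U' = U := Submodule.ext fun v => by rw [← h.memI, ← h'.memI, e]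
  obtain ⟨-, f1, f2, -, -, -, -, m⟩ := h.c2
  obtain ⟨v1, v2, hv⟩ := h.exv m
  obtain ⟨j, j1, j2⟩ := exists_ne_one (s.adj_symm h.ad).nb
  obtain ⟨k, k1, k2⟩ := exists_ne_one (s.adj_symm h'.ad).nb
  obtain ⟨β, t⟩ := h.exβ j1
  have ex : ∀ (f : Module.Dual K (Fin n → K)) u, (∀ u ∈ U', f u = 0) → u ∈ U' →
      ∃ g, Tv ι g u f ∧ g ∈ C{j} ∧ g ∈ C{k} := fun f u a hu => by
    by_cases f0 : f = 0
    · exact ⟨1, fun v => by simp [f0], one_mem _, one_mem _⟩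
    obtain ⟨C, hC⟩ := h.exAx f0 a
    obtain ⟨g, g1, g2⟩ := h.hl.ext f C hC u (a u hu)
    exact ⟨g, g2, C_le_C1 (axLeW' A B j1) (h.N2 hC a g1 g2 hu),
      C_le_C1 (axLeW' A B' k1) (h'.N2 hC a g1 g2 hu)⟩
  have a1 : ∀ u ∈ U', f1 u = 0 := fun u hu => ((m u).1 hu).1
  have a2 : ∀ u ∈ U', f2 u = 0 := fun u hu => ((m u).1 hu).2
  obtain ⟨g, g1, g2, g3⟩ := ex f1 _ a1 (h.βU j1 t v1)
  obtain ⟨l, l1, l2, l3⟩ := ex f2 _ a2 (h.βU j1 t v2)
  have kA : g * l * j ∈ A := h.st.cent A h.hl.pt (tv_C h.hl fun v => by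
    rw [show g * l * j * ι v * (g * l * j)⁻¹ = g * (l * (j * ι v * j⁻¹) * l⁻¹) * g⁻¹ by group, t, l1, g1]
    congr 1
    have e1 := add_self s h.hl (β v)
    have e2 := hv j β j1 t v
    simp only [map_add, map_smul, a1 _ (h.βU j1 t _), a2 _ (h.βU j1 t _), add_zero, smul_zero]
    linear_combination (norm := module) e1 - e2)
  have kI : g * l * j ∈ ax A B' := e ▸ ⟨kA, (s.cent_iff h.ad j1 j2 kA).1
    (mem_C1.1 (mul_mem (mul_mem g2 l2) (self_mem_C1 j)))⟩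
  have : j ∈ C{k} := by
    have := mul_mem (inv_mem (mul_mem g3 l3)) (mem_C1.2 (s.commAx h'.ad.l h'.ad.r kI k1))
    rwa [inv_mul_cancel_left] at this
  exact s.adj_symm (s.adj_of_mem h'.ad.r h.ad.r ne.symm j1.1 j2 (s.C1_le h'.ad.r k1.1 k2 this))

end NT

end H12.TI.TP
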