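import Mathlib

import Cfsg.Agent.H25.U5M

/-!
# Facts about the Sylow `2`-subgroup of `U₅(2)`
-/

set_option autoImplicit false
set_option linter.unusedSectionVars false
set_option maxRecDepth 100000
set_option synthInstance.maxSize 4000

open H25.Sy

namespace H25.U5


def z0 : S0 := el 1
def x1 : S0 := el 128
def u0 : S0 := el 2

/-- `s = q + 128 r` with `q < a`, `r < b`. -/
def In (a b : ℕ) (s : S0) : Prop := s.n % 128 < a ∧ s.n / 128 < b

noncomputable instance (a b : ℕ) (s : S0) : Decidable (In a b s) :=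
  decidable_of_iff (H29.lit s.n (fun n => H29.and2 (Nat.blt (Nat.land n 127) a)
    (Nat.blt (Nat.shiftRight n 7) b)) = true) (by
      rw [H29.lit_eq, H29.and2_true, Nat.blt_eq, Nat.blt_eq, In,
        show Nat.land s.n 127 = s.n % 128 from Nat.and_two_pow_sub_one_eq_mod _ 7,
        show Nat.shiftRight s.n 7 = s.n / 128 from Nat.shiftRight_eq_div_pow _ 7])

noncomputable instance decIn (a b : ℕ) (p : S0 → Prop) [DecidablePred p] : Decidable (∀ s, In a b s → p s) :=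
  decidable_of_iff (alN (min b 8) (fun r => alN (min a 128) fun q => decide (p (el (q + 128 * r)))) = true) (by
    simp only [alN_iff, decide_eq_true_eq]
    refine ⟨fun h s hs => ?_, fun h r hr q hq => h _ ?_⟩
    · have := s.lt
      have := h (s.n / 128) (by have := hs.2; omega) (s.n % 128) (by have := hs.1; omega)
      rwa [Nat.mod_add_div, el_n] at this
    · have : (el (q + 128 * r)).n = q + 128 * r :=
        (Nat.and_two_pow_sub_one_eq_mod _ 10).trans (Nat.mod_eq_of_lt (by omega))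
      rw [In, this]
      omega)

/-- the subgroup of the `q + 128 r` with `q < a`, `r < b`. -/
def mk (a b : ℕ) (h : In a b 1 ∧ ∀ s, In a b s → In a b s⁻¹ ∧ ∀ t, In a b t → In a b (s * t)) :
    Subgroup S0 where
  carrier := {s | In a b s}
  one_mem' := h.1
  inv_mem' hs := (h.2 _ hs).1
  mul_mem' hs ht := (h.2 _ hs).2 _ ht

noncomputable instance (a b : ℕ) (h) (s : S0) : Decidable (s ∈ mk a b h) :=
  inferInstanceAs (Decidable (In a b s))

noncomputable instance (a b : ℕ) (h) (p : S0 → Prop) [DecidablePred p] : Decidable (∀ s ∈ mk a b h, p s) :=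
  decIn a b p

noncomputable instance (a b : ℕ) (h) (p : S0 → Prop) [DecidablePred p] : Decidable (∃ s ∈ mk a b h, p s) :=
  decidable_of_iff (¬ ∀ s ∈ mk a b h, ¬ p s) (by simp)

abbrev Q0 : Subgroup S0 := mk 128 1 (by decide +kernel)
abbrev W0 : Subgroup S0 := mk 8 2 (by decide +kernel)
abbrev P0 : Subgroup S0 := mk 32 8 (by decide +kernel)

/-- the five conjugates of `z` in the Sylow subgroup. -/
abbrev dl (s : S0) : Prop := s.n = 1 ∨ s.n = 128 ∨ s.n = 131 ∨ s.n = 133 ∨ s.n = 135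

theorem z2 : z0 * z0 = 1 := by decide +kernel
theorem z1 : z0 ≠ 1 := by decide +kernel
theorem zc : ∀ s, s * z0 = z0 * s := by decide +kernel
theorem dl_W : ∀ s, dl s → s ∈ W0 ∧ s * s = 1 ∧ ∃ p ∈ P0, p * p = s := by decide +kernel
theorem W_dl : ∀ w ∈ W0, ∃ a, dl a ∧ (w = a ∨ ∃ b, dl b ∧ w = a * b) := by decide +kernel
theorem sq_W : ∀ s : S0, s * s * (s * s) = 1 → s * s ∈ W0 := by decide +kernel
theorem P_W : ∀ w ∈ W0, ∀ p ∈ P0, p * w = w * p := by decide +kernel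
theorem W_P : ∀ s ∈ W0, s ∈ P0 := by decide +kernel
theorem mem_P : ∀ x, dl x → x ≠ z0 → ∀ s, s * x = x * s → s ∈ P0 := by decide +kernel
theorem sq_P : ∀ p ∈ P0, (p * p = 1 → p ∈ W0) ∧ (p * p = 1 ∨ dl (p * p)) := by decide +kernel
theorem inv_WQ : ∀ s : S0, s * s = 1 → s ∈ W0 ∨ s ∈ Q0 := by decide +kernel
theorem Q_W : ∀ u ∈ Q0, u * u = 1 → u ∉ W0 → (∃ j, j * u = u * j ∧ j * j = z0) ∧
    ∃ a ∈ Q0, (a * u = u * a ∧ a * a = 1) ∧ ∃ b ∈ Q0, b * u = u * b ∧ b * b = 1 ∧ a * b ≠ b * a := by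
  decide +kernel
theorem dl_conj : ∀ x, dl x → x ≠ z0 → ∃ g ∈ Q0, g * x1 * g⁻¹ = x := by decide +kernel
theorem W_Q : ∀ s ∈ W0, s ∈ Q0 ∨ dl s ∨ dl (s * z0) := by decide +kernel
theorem Q_dl : ∀ s ∈ Q0, dl s → s = z0 := by decide +kernel
theorem Q_inv : ∀ q ∈ Q0, ∃ a ∈ Q0, a * a = 1 ∧ a * q * (a * q) = 1 := by decide +kernel
theorem Q_sq : ∀ q ∈ Q0, q * q = 1 ∨ q * q = z0 := by decide +kernel
theorem Q_n (g s : S0) (h : s ∈ Q0) : g * s * g⁻¹ ∈ Q0 := by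
  have h1 : ∀ g : S0, g * (el (128 * (g.n / 128)))⁻¹ ∈ Q0 := by decide +kernel
  have h2 : ∀ r < 8, ∀ s ∈ Q0, el (128 * r) * s * (el (128 * r))⁻¹ ∈ Q0 := by decide +kernel
  have := g.lt
  convert mul_mem (mul_mem (h1 g) (h2 (g.n / 128) (by omega) s h)) (inv_mem (h1 g)) using 1
  group
theorem W_n : ∀ g s, s ∈ W0 → g * s * g⁻¹ ∈ W0 := by
  have : ∀ s ∈ W0, ∀ g : S0, g * s * g⁻¹ ∈ W0 := by decide +kernel
  exact fun g s h => this s h g
theorem out8 : ∀ t : S0, t * t = z0 → t ∉ Q0 → ∃ s : S0, s * s * (s * s) ≠ 1 ∧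
    (t⁻¹ * (s * t * s⁻¹) = 1 ∨ t⁻¹ * (s * t * s⁻¹) = z0) := by decide +kernel
theorem in4 : ∀ t ∈ Q0, t * t = z0 → ∀ s : S0,
    t⁻¹ * (s * t * s⁻¹) = 1 ∨ t⁻¹ * (s * t * s⁻¹) = z0 → s * s * (s * s) = 1 := by decide +kernel
theorem Q_comm : ∀ t ∈ Q0, ∀ s ∈ Q0, t⁻¹ * (s * t * s⁻¹) = 1 ∨ t⁻¹ * (s * t * s⁻¹) = z0 := by
  decide +kernel
theorem CQ (s : S0) (h : ∀ q ∈ Q0, s * q = q * s) : s = 1 ∨ s = z0 :=
  (show ∀ s : S0, s * el 64 = el 64 * s → s * el 32 = el 32 * s → s * el 16 = el 16 * s →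
    s * el 8 = el 8 * s → s * el 4 = el 4 * s → s * el 2 = el 2 * s → s = 1 ∨ s = z0 by decide +kernel) s
    (h _ (by decide +kernel)) (h _ (by decide +kernel)) (h _ (by decide +kernel))
    (h _ (by decide +kernel)) (h _ (by decide +kernel)) (h _ (by decide +kernel))

abbrev an (x : S0) : Prop := x = 1 ∨ x = z0 ∨ x * x = z0

abbrev bad (a b s : S0) : Prop := ¬ (an (s * a * s⁻¹ * a) ∧ an (s * a * s⁻¹ * b) ∧
    an (s * a * s⁻¹ * (a * b)) ∧ an (s * b * s⁻¹ * a) ∧ an (s * b * s⁻¹ * b) ∧ an (s * b * s⁻¹ * (a * b))) ∧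
  ¬ (s * a * s⁻¹ * a = a * (s * a * s⁻¹) ∧ s * a * s⁻¹ * b = b * (s * a * s⁻¹) ∧
    s * b * s⁻¹ * b = b * (s * b * s⁻¹) ∧ s * b * s⁻¹ * a = a * (s * b * s⁻¹))

theorem q8 : ∀ a ∈ Q0, a * a = z0 → ∀ b ∈ Q0, b * b = z0 → a * b ≠ b * a → an (a * b) →
    bad a b (el 256) ∨ bad a b (el 384) ∨ bad a b (el 512) := by decide +kernel

theorem dl_comm : ∀ a, dl a → ∀ b, dl b → a * b = b * a ∧ (a ≠ z0 → b ≠ z0 → a * b ∈ Q0) ∧
    (a ≠ b → ¬ dl (a * b) ∧ a * b ≠ 1 ∧ ∀ y, dl y → dl (y * (a * b)) → y = a ∨ y = b) := by decide +kernel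

theorem W_c : ∀ w ∈ W0, w = 1 ∨ dl w ∨ ∃ a, dl a ∧ ∃ b, dl b ∧ a ≠ b ∧ w = a * b := by decide +kernel

theorem third : ∀ a ∈ Q0, ∀ b ∈ Q0, ∀ u ∈ Q0, a * u = u * a ∨ b * u = u * b ∨ a * b * u = u * (a * b) := by
  intro a ha b hb u hu
  have : ∀ a ∈ Q0, ∀ u ∈ Q0, a * u = u * a ∨ a * u = u * a * z0 := by decide +kernel
  refine (this a ha u hu).imp_right fun e => (this b hb u hu).imp_right fun e' => ?_
  rw [mul_assoc, e', ← mul_assoc, ← mul_assoc, e, mul_assoc _ z0, ← zc b, mul_assoc, mul_assoc b, z2, mul_one,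
    mul_assoc]

theorem W_sq : ∀ w ∈ W0, w * w = 1 := by decide +kernel

theorem ncard_S0 (p : S0 → Prop) [DecidablePred p] : {s | p s}.ncard = (Finset.univ.filter p).card := by
  rw [← Set.ncard_coe_finset]; congr 1; ext; simp

theorem card_of (K : Subgroup S0) [DecidablePred (· ∈ K)] :
    Nat.card K = (Finset.univ.filter (· ∈ K)).card := by
  rw [Nat.card_eq_fintype_card, Fintype.card_subtype]

theorem card_Q0 : Nat.card Q0 = 128 := (card_of _).trans (by decide +kernel)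
theorem card_W0 : Nat.card W0 = 16 := (card_of _).trans (by decide +kernel)
theorem card_dl : {s | dl s}.ncard = 5 := (ncard_S0 _).trans (by decide +kernel)
theorem card_inv : {s | s ∈ Q0 ∧ s * s = 1 ∧ s ≠ 1 ∧ s ≠ z0}.ncard = 54 :=
  (ncard_S0 _).trans (by decide +kernel)

end H25.U5
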