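import Mathlib
import Cfsg.Agent.H25.SyG
import Cfsg.Agent.H25.U5M1

/-!
# Sylow `2`-subgroups of type `U₅(2)`: fusion and the centraliser of the central involution
-/

set_option autoImplicit false
set_option linter.unusedSectionVars false
set_option maxRecDepth 100000
set_option synthInstance.maxSize 4000

open Cfsg H24 H26 H26.Gold Subgroup H7.SJ H25.Tw H25.Sy

namespace H25.Sy

universe u

variable {G : Type u} [Group G] [Finite G] {H L Q S : Subgroup G} {x : G}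

theorem two_over (hS : Syl 2 H S) (hL : L ≤ H) (hQ : TwoG Q) (hQL : Q ≤ L) (hx : TwoE x) (hxL : x ∈ L) :
    ∃ m ∈ H, ∃ l ∈ L, cj m Q ≤ S ∧ m * (l * x * l⁻¹) * m⁻¹ ∈ S := by
  obtain ⟨R, hR, h1⟩ := Sylow_superset p2 hQ hQL
  obtain ⟨l, hl, h2⟩ := Sylow_Jsub p2 hR hx.isPi (zpowers_le.2 hxL)
  obtain ⟨m, hm, h3⟩ := Sylow_Jsub p2 hS hR.pi (hR.le.trans hL)
  exact ⟨m, hm, l, hl, (cj_mono m h1).trans h3, h3 (conj_mem_cj m (h2 (conj_mem_cj l (mem_zpowers x))))⟩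

end H25.Sy

namespace H25.U5

universe u

variable {G : Type u} [Group G] [Finite G] {φ : S0 →* G} {K L P : Subgroup G} {a b g k y : G}
  {c s s' : S0} (h : Emb φ)

/-- the class of the central involution. -/
abbrev D (φ : S0 →* G) (a : G) : Prop := IsConj (φ z0) a

theorem D.conj (ha : D φ a) (g : G) : D φ (g * a * g⁻¹) := ha.trans (isConj_iff.2 ⟨g, rfl⟩)

theorem D.of (ha : D φ (φ s)) (e : φ s' = g * φ s * g⁻¹) : D φ (φ s') := e ▸ ha.conj g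

theorem le_H : φ.range ≤ C{φ z0} := Emb.le_C zc

include h

theorem D.sq (ha : D φ a) : a * a = 1 ∧ a ≠ 1 := conj_inv' ha (Emb.sq z2) (h.ne_one z1)

theorem D.sq' (ha : D φ (φ s)) : s * s = 1 ∧ s ≠ 1 := h.inv_of ha (Emb.sq z2) (h.ne_one z1)

theorem mem_NW (hg : ∀ s, dl s → ∃ s' ∈ W0, φ s' = g * φ s * g⁻¹) : g ∈ N[W0.map φ] :=
  h.mem_N fun w hw => by
    obtain ⟨a, ha, rfl | ⟨b, hb, rfl⟩⟩ := W_dl w hw
    · exact hg _ ha
    · obtain ⟨a', h1, e1⟩ := hg a ha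
      obtain ⟨b', h2, e2⟩ := hg b hb
      exact ⟨_, mul_mem h1 h2, Emb.mul e1 e2⟩

theorem extW (hs : s ∈ W0) (hd : D φ (φ s)) : dl s ∧ ∃ g ∈ N[W0.map φ], φ z0 = g * φ s * g⁻¹ := by
  obtain ⟨g, e1, e2⟩ := h.ext0 zc hd
  have hW : g ∈ N[W0.map φ] := mem_NW h fun d hd => by
    obtain ⟨-, d2, p, hp, rfl⟩ := dl_W d hd
    obtain ⟨p', e⟩ := e2 p (P_W s hs p hp)
    exact ⟨_, sq_W p' ((h.sq1 (Emb.mul e e)).2 d2), Emb.mul e e⟩
  refine ⟨?_, g, hW, e1⟩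
  have hP : g ∈ N[P0.map φ] := h.mem_N fun p hp => by
    obtain ⟨p', e⟩ := e2 p (P_W s hs p hp)
    obtain ⟨w, hw, e3⟩ := Emb.of_N (inv_mem hW) (show x1 ∈ W0 by decide +kernel)
    exact ⟨p', mem_P x1 (by decide +kernel) (by decide +kernel) p'
      ((h.comm (Emb.symm e) e3).1 (P_W w hw p hp)), e⟩
  obtain ⟨p, hp, e⟩ := Emb.of_N (inv_mem hP) (show el 8 ∈ P0 by decide +kernel)
  have := (h.rel e e (Emb.symm e1)).2 (by decide +kernel)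
  exact this ▸ (sq_P p hp).2.resolve_left (this ▸ (hd.sq' h).2)

theorem dl_of (hd : D φ (φ s)) : dl s := by
  by_cases hs : s ∈ W0
  · exact (extW h hs hd).1
  obtain ⟨⟨j, j1, j2⟩, a, -, ⟨a1, a2⟩, b, -, b1, b2, ab⟩ :=
    Q_W s ((inv_WQ s (hd.sq' h).1).resolve_left hs) (hd.sq' h).1 hs
  obtain ⟨g, e1, e2⟩ := h.ext0 zc hd
  obtain ⟨j', ej⟩ := e2 j j1
  obtain ⟨a', ea⟩ := e2 a a1
  obtain ⟨b', eb⟩ := e2 b b1
  have e3 := Emb.mul ej ej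
  rw [j2] at e3
  have h1 := (extW h (sq_W j' ((h.sq1 e3).2 z2)) (D.of (IsConj.refl _) e3)).1
  have h2 : j' * j' ≠ z0 := fun e => hs ((h.eq' e3 e1).1 e ▸ (by decide +kernel))
  have h3 := (sq_P a' (mem_P _ h1 h2 a' ((h.comm ea e3).2 (zc a)))).1 ((h.sq1 ea).2 a2)
  exact absurd ((h.comm ea eb).1 (P_W _ ((sq_P b' (mem_P _ h1 h2 b' ((h.comm eb e3).2 (zc b)))).1
    ((h.sq1 eb).2 b2)) _ (W_P _ h3))) ab

theorem D_x1 : D φ (φ x1) := by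
  obtain ⟨r, h1, h2⟩ := h.zstar z2 z1 (c := x1) (s' := el 32) (by decide +kernel)
  obtain ⟨g, -, rfl⟩ := dl_conj r (dl_of h h1) h2
  exact h1.trans (Emb.conj g x1).symm

theorem D_iff : D φ (φ s) ↔ dl s := ⟨dl_of h, fun hs => by
  by_cases e : s = z0
  · rw [e]
  obtain ⟨g, -, rfl⟩ := dl_conj s hs e
  exact (D_x1 h).trans (Emb.conj g x1)⟩

theorem D.comm (hP : TwoG P) (ha : D φ a) (hb : D φ b) (aP : a ∈ P) (bP : b ∈ P) : a * b = b * a := by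
  obtain ⟨k, -, e⟩ := h.pull le_top hP le_top
  obtain ⟨s, e1⟩ := e a aP
  obtain ⟨t, e2⟩ := e b bP
  have := congrArg φ (dl_comm s (dl_of h (e1 ▸ ha.conj k)) t (dl_of h (e2 ▸ hb.conj k))).1
  rw [map_mul, map_mul, e1, e2, ← conj_mul', ← conj_mul'] at this
  simpa using this

theorem sc_inv (hk : k ∈ C{φ z0}) (hs : s ∈ Q0) (s2 : s * s = 1) (e : φ s' = k * φ s * k⁻¹) : s' ∈ Q0 := by
  have ez := (mem_C1_iff_conj.1 hk).symm
  rcases inv_WQ s' ((h.sq1 e).2 s2) with h1 | h1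
  swap
  · exact h1
  rcases W_Q s' h1 with h2 | h2 | h2
  · exact h2
  · rw [(h.eq' e ez).2 (Q_dl s hs (dl_of h (D.of ((D_iff h).2 h2) (Emb.symm e))))]
    decide +kernel
  · have h3 := Q_dl _ (mul_mem hs (by decide +kernel))
      (dl_of h (D.of ((D_iff h).2 h2) (Emb.symm (Emb.mul e ez))))
    rw [(h.eq1 e).2 (mul_eq_right.1 h3)]
    exact one_mem _

theorem weak (hk : k ∈ C{φ z0}) (e : cj k (Q0.map φ) ≤ φ.range) : k ∈ N[Q0.map φ] :=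
  h.mem_N fun q hq => by
    obtain ⟨a, ha, a2, a3⟩ := Q_inv q hq
    obtain ⟨a', e1⟩ := e (conj_mem_cj k ⟨a, ha, rfl⟩)
    obtain ⟨q', e2⟩ := e (conj_mem_cj k ⟨q, hq, rfl⟩)
    exact ⟨q', (mul_mem_cancel_left (sc_inv h hk ha a2 e1)).1
      (sc_inv h hk (mul_mem ha hq) a3 (Emb.mul e1 e2)), e2⟩

theorem mem_cz' (hs : φ s ∈ C{φ z0}) : g ∈ cz (φ s) (zpowers (φ z0)) ↔
    g ∈ C{φ z0} ∧ ((φ s)⁻¹ * (g * φ s * g⁻¹) = 1 ∨ (φ s)⁻¹ * (g * φ s * g⁻¹) = φ z0) := by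
  have e : N[zpowers (φ z0)] = C{φ z0} := le_antisymm (fun g hg => mem_C1_iff_conj.2
    ((mem_zp (Emb.sq z2) (conj_mem hg (mem_zpowers _))).resolve_left
      (by rw [conj_eq_one_iff']; exact h.ne_one z1))) (norm_zpowers_of_cent le_rfl)
  rw [mem_cz (e ▸ hs), e]
  refine and_congr_right fun _ => ⟨mem_zp (Emb.sq z2), ?_⟩
  rintro (e | e) <;> rw [e]
  exacts [one_mem _, mem_zpowers _]

theorem mem_cz'' : φ c ∈ cz (φ s) (zpowers (φ z0)) ↔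
    s⁻¹ * (c * s * c⁻¹) = 1 ∨ s⁻¹ * (c * s * c⁻¹) = z0 := by
  rw [mem_cz' h (le_H ⟨s, rfl⟩), ← map_one φ, ← map_inv, ← map_inv, ← map_mul, ← map_mul, ← map_mul,
    h.eq, h.eq, and_iff_right (le_H ⟨c, rfl⟩)]

theorem cj_cz (hk : k ∈ C{φ z0}) (e : φ s' = k * φ s * k⁻¹) (hg : g ∈ cz (φ s) (zpowers (φ z0))) :
    k * g * k⁻¹ ∈ cz (φ s') (zpowers (φ z0)) := by
  obtain ⟨h1, h2⟩ := (mem_cz' h (le_H ⟨s, rfl⟩)).1 hg
  refine (mem_cz' h (le_H ⟨s', rfl⟩)).2 ⟨mul_mem (mul_mem hk h1) (inv_mem hk), ?_⟩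
  rw [show (φ s')⁻¹ * (k * g * k⁻¹ * φ s' * (k * g * k⁻¹)⁻¹) =
    k * ((φ s)⁻¹ * (g * φ s * g⁻¹)) * k⁻¹ by rw [e]; group]
  rcases h2 with e | e <;> rw [e]
  · simp
  · exact Or.inr (mem_C1_iff_conj.1 hk)

theorem sc (hk : k ∈ C{φ z0}) (hs : s ∈ Q0) (e : φ s' = k * φ s * k⁻¹) : s' ∈ Q0 := by
  rcases Q_sq s hs with s2 | s2
  · exact sc_inv h hk hs s2 e
  by_contra hn
  obtain ⟨r, r1, r2⟩ := out8 s' ((h.rel e e (mem_C1_iff_conj.1 hk).symm).2 s2) hn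
  obtain ⟨m, hm, l, hl, h1, r', h2⟩ := two_over (h.syl.of_le le_H le_top)
    (L := cz (φ s) (zpowers (φ z0))) (fun g hg => ((mem_cz' h (le_H ⟨s, rfl⟩)).1 hg).1) (h.two Q0)
    (by rintro _ ⟨q, hq, rfl⟩; exact (mem_cz'' h).2 (Q_comm s hs q hq))
    ((h.twoE r).conj k⁻¹) (cj_cz h (inv_mem hk) (Emb.symm e) ((mem_cz'' h).2 r2))
  obtain ⟨t, ht, e1⟩ := Emb.of_N (weak h hm h1) hs
  have e2 : φ r' = m * l * k⁻¹ * φ r * (m * l * k⁻¹)⁻¹ := by rw [h2]; group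
  refine r1 ((h.sq1 (Emb.mul e2 e2)).1 (in4 t ht ((h.rel e1 e1 (mem_C1_iff_conj.1 hm).symm).2 s2) r'
    ((mem_cz'' h).1 ?_)))
  rw [h2]
  exact cj_cz h hm e1 (mul_mem (mul_mem hl (cj_cz h (inv_mem hk) (Emb.symm e) ((mem_cz'' h).2 r2)))
    (inv_mem hl))

theorem CQ' : φ.range ⊓ C[Q0.map φ] ≤ zpowers (φ z0) := by
  rintro _ ⟨⟨s, rfl⟩, hs⟩
  rcases CQ s fun q hq => h.mem_C.1 (C_le_C1 (h.mem.2 hq) hs) with rfl | rfl
  · rw [map_one]; exact one_mem _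
  · exact mem_zpowers _

theorem cons_Q : Cons (Q0.map φ) C{φ z0} := by
  refine gold_Q (h.syl.of_le le_H le_top) (Emb.sq z2) le_rfl (h.mem.2 (by decide +kernel))
    (map_le_range _ _) ?_ (fun a ha hc => mem_zp (Emb.sq z2) (CQ' h ⟨map_le_range _ _ ha, hc⟩)) ?_
    fun R hR h1 ⟨a, ha, b, hb, ab⟩ => ?_
  · rintro _ ⟨q, hq, rfl⟩
    rw [← map_mul, ← map_one φ, h.eq, h.eq]
    exact Q_sq q hq
  · rintro _ ⟨q, hq, rfl⟩ g hg ⟨s, e⟩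
    exact ⟨s, sc h hg hq e, e⟩
  obtain ⟨a, ha', rfl⟩ := hR ha
  obtain ⟨b, hb', rfl⟩ := hR hb
  have k1 : ∀ s, φ s ∈ R → an s := fun s hs => by
    have := h1 _ hs
    rwa [← map_mul, ← map_one φ, h.eq, h.eq, h.eq] at this
  have ab' : a * b ≠ b * a := fun e => ab (by rw [← map_mul, e, map_mul])
  have k2 : ∀ a b, φ a ∈ R → a * b ≠ b * a → a * a = z0 := fun a b ha e =>
    ((k1 a ha).resolve_left (by rintro rfl; simp at e)).resolve_left (by rintro rfl; exact e (zc b).symm)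
  have k3 : ∀ s, bad a b s → ∃ s ∈ φ.range, s ∉ N[R] ∧ ¬ cj s R ≤ C[R] := fun s hs => by
    refine ⟨_, ⟨s, rfl⟩, fun e => hs.1 ?_, fun e => hs.2 ?_⟩
    · have k4 : ∀ x y, φ x ∈ R → φ y ∈ R → an (s * x * s⁻¹ * y) := fun x y hx hy => k1 _ (by
        simpa only [map_mul, map_inv] using mul_mem (conj_mem e hx) hy)
      have hab : φ (a * b) ∈ R := by rw [map_mul]; exact mul_mem ha hb
      exact ⟨k4 a a ha ha, k4 a b ha hb, k4 a _ ha hab, k4 b a hb ha, k4 b b hb hb, k4 b _ hb hab⟩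
    · have k4 : ∀ x y, φ x ∈ R → φ y ∈ R → s * x * s⁻¹ * y = y * (s * x * s⁻¹) := fun x y hx hy =>
        h.inj (by simpa only [map_mul, map_inv] using mem_C'.1 (e (conj_mem_cj _ hx)) _ hy)
      exact ⟨k4 a a ha ha, k4 a b ha hb, k4 b b hb hb, k4 b a hb ha⟩
  rcases q8 a ha' (k2 a b ha ab') b hb' (k2 b a hb ab'.symm) ab'
    (k1 _ (by rw [map_mul]; exact mul_mem ha hb)) with e | e | e <;> exact k3 _ e

theorem bal_z (a2 : a * a = 1) (ha : a ∈ C{φ z0}) : Od[C{a}] ⊓ C{φ z0} ≤ Od[C{φ z0}] :=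
  bal1 (cons_Q h) (h.two _) ((map_le_range _ _).trans le_H) (cq_le (cons_Q h) (h.syl.of_le le_H le_top)
    (h.syl_N Q_n) ((CQ' h).trans (zpowers_le.2 (h.mem.2 (by decide +kernel))))) a2 ha

end H25.U5
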