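import Mathlib
import Cfsg.Agent.H25.SyH
import Cfsg.Agent.H25.U5F

/-!
# Sylow `2`-subgroups of type `U₅(2)`: the cores of the centralisers of involutions
-/

set_option autoImplicit false
set_option linter.unusedSectionVars false
set_option maxRecDepth 100000
set_option synthInstance.maxSize 4000

open Cfsg H24 H26 H26.Gold Subgroup H7.SJ H25.Tw H25.Sy

namespace H25.U5

universe u

variable {G : Type u} [Group G] [Finite G] {φ : S0 →* G} {K L P Θ : Subgroup G} {a b g k v y : G}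
  {c s s' : S0} (h : Emb φ)

theorem dz : dl z0 := by decide +kernel
theorem dx : dl x1 := by decide +kernel
theorem xz : x1 ≠ z0 := by decide +kernel

theorem ea_W : EA (W0.map φ) := ea_of_sq (by rintro _ ⟨w, hw, rfl⟩; exact Emb.sq (W_sq w hw))

include h

theorem D.two (ha : D φ a) : TwoE a := twoE_of_sq (ha.sq h).1

theorem W_le (hs : s ∈ W0) : W0.map φ ≤ C{φ s} := mem_C_iff_le_C1.1 (ea_W.le_C (h.mem.2 hs))

theorem mem_W (hy : D φ y) (hT : y ∈ φ.range) : y ∈ W0.map φ := by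
  obtain ⟨s, rfl⟩ := hT
  exact h.mem.2 (dl_W s (dl_of h hy)).1

theorem three (hP : TwoG P) (ha : D φ a) (hb : D φ b) (hy : D φ y) (aP : a ∈ P) (bP : b ∈ P) (yP : y ∈ P)
    (ab : a ≠ b) : ¬ D φ (a * b) ∧ (D φ (y * (a * b)) → y = a ∨ y = b) := by
  obtain ⟨k, -, e⟩ := h.pull le_top hP le_top
  obtain ⟨r, e1⟩ := e a aP
  obtain ⟨s, e2⟩ := e b bP
  obtain ⟨t, e3⟩ := e y yP
  have k1 : ∀ {s t : S0} {a b : G}, φ s = k * a * k⁻¹ → φ t = k * b * k⁻¹ → s = t → a = b := fun e e' e'' =>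
    mul_left_cancel (mul_right_cancel (e.symm.trans (e'' ▸ e')))
  obtain ⟨f1, -, f2⟩ := (dl_comm r (dl_of h (e1 ▸ ha.conj k)) s (dl_of h (e2 ▸ hb.conj k))).2.2
    fun e => ab (k1 e1 e2 e)
  refine ⟨fun hd => f1 (dl_of h ?_), fun hd => (f2 t (dl_of h (e3 ▸ hy.conj k)) (dl_of h ?_)).imp
    (k1 e3 e1) (k1 e3 e2)⟩
  · rw [map_mul, e1, e2, ← conj_mul']; exact hd.conj k
  · rw [map_mul, map_mul, e1, e2, e3, ← conj_mul', ← conj_mul']; exact hd.conj k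

theorem pairW (hs : dl s) (hc : dl c) (e : s ≠ c) :
    ∃ g ∈ N[W0.map φ], φ s = g * φ z0 * g⁻¹ ∧ φ c = g * φ x1 * g⁻¹ := by
  obtain ⟨g, hg, e1⟩ := (extW h (dl_W s hs).1 ((D_iff h).2 hs)).2
  obtain ⟨r, -, e2⟩ := Emb.of_N hg (dl_W c hc).1
  obtain ⟨t, -, rfl⟩ := dl_conj r (dl_of h (D.of ((D_iff h).2 hc) e2)) fun e3 => e ((h.eq' e1 e2).1 e3.symm)
  refine ⟨g⁻¹ * φ t, mul_mem (inv_mem hg) (h.syl_N W_n ⟨t, rfl⟩), Emb.trans ?_ (Emb.symm e1),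
    Emb.trans ?_ (Emb.symm e2)⟩
  · exact (mem_C1_iff_conj.1 (le_H ⟨t, rfl⟩)).symm
  · simp only [map_mul, map_inv]

theorem mul_Q (ha : D φ a) (hb : D φ b) (aH : a ∈ C{φ z0}) (bH : b ∈ C{φ z0}) (a1 : a ≠ φ z0)
    (b1 : b ≠ φ z0) (ab : a * b = b * a) : a * b ∈ Od[C{φ z0}] ⊔ Q0.map φ := by
  obtain ⟨k, hk, e⟩ := h.pull le_H (H8.PC.two_of_comm (ha.two h) (hb.two h) ab)
    (sup_le (zpowers_le.2 aH) (zpowers_le.2 bH))
  obtain ⟨r, e1⟩ := e a (mem_sup_left (mem_zpowers _))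
  obtain ⟨s, e2⟩ := e b (mem_sup_right (mem_zpowers _))
  have k1 : ∀ {s : S0} {a : G}, φ s = k * a * k⁻¹ → a ≠ φ z0 → s ≠ z0 := fun e e' e'' =>
    e' (mul_left_cancel (mul_right_cancel (e.symm.trans (e'' ▸ (mem_C1_iff_conj.1 hk).symm))))
  rw [← conj_mem_iff (((cons_Q h).nml ((map_le_range _ _).trans le_H)).norm hk), conj_mul', ← e1, ← e2,
    ← map_mul]
  exact mem_sup_right (h.mem.2 ((dl_comm r (dl_of h (e1 ▸ ha.conj k)) s (dl_of h (e2 ▸ hb.conj k))).2.1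
    (k1 e1 a1) (k1 e2 b1)))

theorem line_sub (hy : D φ y) (yz : y ∈ C{φ z0}) (yx : y ∈ C{φ x1}) :
    y ∈ (Od[C{φ z0}] ⊓ C{φ x1}) ⊔ W0.map φ := by
  by_cases e : y = φ z0
  · exact mem_sup_right (e ▸ h.mem.2 (dl_W _ dz).1)
  have xT : φ x1 ∈ φ.range := ⟨_, rfl⟩
  have TO : φ.range ≤ N[Od[C{φ z0}]] := le_H.trans (pcore_nml _ _).norm
  have h1 := (coprime_cent_mulG (isProd_sup ((map_le_range φ Q0).trans TO)) (zpowers_le.2 (TO xT))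
    (zpowers_le.2 (h.syl_N Q_n xT)) (cop ((Od_odd _).inf_left _) ((D_x1 h).two h).isPi)
    (Or.inr (abl_zpowers _).sol)).sup_eq
  rw [C_zpowers] at h1
  have h2 : φ.range ⊓ C{φ x1} ≤ N[Od[C{φ z0}] ⊓ C{φ x1}] :=
    norm_inf (inf_le_left.trans TO) (norm_C1 inf_le_right)
  have h3 : y ∈ (Od[C{φ z0}] ⊓ C{φ x1}) ⊔ (φ.range ⊓ C{φ x1}) :=
    (mul_mem_cancel_right (mem_sup_right (mem_inf.2 ⟨xT, self_mem_C1 _⟩))).1
      (sup_le_sup_left (inf_le_inf_right _ (map_le_range φ Q0)) _ (h1.ge ⟨mul_Q h hy (D_x1 h) yz (le_H xT) e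
        (mt h.eq.1 xz) (mem_C1.1 yx), mul_mem yx (self_mem_C1 _)⟩))
  obtain ⟨m, hm, h4⟩ := Sylow_Jsub p2 (syl_sup ((Od_odd _).inf_left _) (h.syl.pi.inf_left _) h2)
    (hy.two h).isPi (zpowers_le.2 h3)
  exact (conj_mem_iff (sup_le (norm_of_le le_sup_left) (norm_sup h2 (inf_le_left.trans (h.syl_N W_n))) hm)).1
    (mem_sup_right (mem_W h (hy.conj m) (h4 (conj_mem_cj m (mem_zpowers y))).1))

theorem cons_c0 : Cons (W0.map φ) C{φ (z0 * x1)} := by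
  have cW : z0 * x1 ∈ W0 := by decide +kernel
  have c2 : φ (z0 * x1) * φ (z0 * x1) = 1 := Emb.sq (W_sq _ cW)
  have zW := h.mem.2 (dl_W _ dz).1
  have xW := h.mem.2 (dl_W _ dx).1
  have ex : φ z0 * φ (z0 * x1) = φ x1 := by rw [← map_mul, ← mul_assoc, z2, one_mul]
  have ez : φ x1 * φ (z0 * x1) = φ z0 := by rw [← map_mul]; exact congrArg φ (by decide +kernel)
  have cx : ∀ g ∈ C{φ (z0 * x1)}, g * φ x1 * g⁻¹ = g * φ z0 * g⁻¹ * φ (z0 * x1) := fun g hg => by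
    rw [← ex, conj_mul', mem_C1_iff_conj.1 hg]
  obtain ⟨S, hS, h1⟩ := Sylow_superset p2 (h.two W0) (W_le h cW)
  have h2 := zstar_mod (C_zpowers _).ge hS (zpowers_le.2 (h1 (h.mem.2 cW))) (h1 zW)
    (fun e => (mem_zp c2 e).elim (h.ne_one z1) (mt h.eq.1 (by decide +kernel)))
    (by rw [Emb.sq z2]; exact one_mem _) fun g hg e => by
      rcases (three h hS.pi (IsConj.refl _) (D_x1 h) (D.conj (IsConj.refl _) g) (h1 zW) (h1 xW) e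
        (mt h.eq.1 xz.symm)).2 (by rw [← map_mul, ← cx g hg]; exact (D_x1 h).conj g) with e | e <;> rw [e]
      · simp
      · rw [← ex, inv_mul_cancel_left]; exact mem_zpowers _
  have h3 : ∀ g ∈ C{φ (z0 * x1)} ⊓ cz (φ z0) (zpowers (φ (z0 * x1))), g ∈ N[C{φ z0} ⊓ C{φ x1}] :=
    fun g hg => by
      rw [mem_N_iff_cj, cj_inf, cj_C1, cj_C1, cx g hg.1]
      rcases mem_zp c2 ((mem_cz (norm_zpowers_of_cent le_rfl (W_le h cW zW))).1 hg.2).2 with e | e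
      · rw [← inv_mul_eq_one.1 e, ex]
      · rw [inv_mul_eq_iff_eq_mul.1 e, ex, ez, inf_comm]
  have h4 : C{φ z0} ⊓ C{φ x1} ≤ C{φ (z0 * x1)} := fun g hg => by
    rw [mem_C1_iff_conj, map_mul, conj_mul', mem_C1_iff_conj.1 hg.1, mem_C1_iff_conj.1 hg.2]
  have h5 : Od[C{φ z0}] ⊓ C{φ x1} ≤ Od[C{φ (z0 * x1)}] :=
    ((le_inf inf_le_left (inf_le_inf_right _ (pcore_le _ _))).trans (pcore_inf_le _ inf_le_left)).trans
      (Od_cover h2 inf_le_left (Od_odd _) ((pcore_le _ _).trans h4) (norm_pcore _ h3))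
  refine cons_of_nml (h.two _) (Od_odd _) (pcore_nml _ _) ⟨sup_le (pcore_le _ _) (W_le h cW),
    h2.trans (sup_le (norm_of_le le_sup_left) fun g hg => mem_N_of_cj_le ?_)⟩
  rw [cj_sup, cj_of_mem_N ((pcore_nml _ _).norm hg.1)]
  refine sup_le le_sup_left fun w hw' => ?_
  obtain ⟨_, ⟨w, hw, rfl⟩, rfl⟩ := mem_cj'.1 hw'
  have key : ∀ s, dl s → g * φ s * g⁻¹ ∈ Od[C{φ (z0 * x1)}] ⊔ W0.map φ := fun s hs => by
    have := conj_mem (h3 g hg) ⟨W_le h (dl_W _ dz).1 (h.mem.2 (dl_W s hs).1),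
      W_le h (dl_W _ dx).1 (h.mem.2 (dl_W s hs).1)⟩
    exact sup_le_sup_right h5 _ (line_sub h (((D_iff h).2 hs).conj g) this.1 this.2)
  obtain ⟨a, ha, rfl | ⟨b, hb, rfl⟩⟩ := W_dl w hw
  · exact key _ ha
  · rw [map_mul φ a b, conj_mul']; exact mul_mem (key a ha) (key b hb)

theorem cons_c (hs : s ∈ W0) (s1 : s ≠ 1) (hd : ¬ dl s) : Cons (W0.map φ) C{φ s} := by
  obtain ⟨a, ha, b, hb, ab, rfl⟩ := ((W_c s hs).resolve_left s1).resolve_left hd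
  obtain ⟨g, hg, e1, e2⟩ := pairW h ha hb ab
  have := (cons_c0 h).cj g
  rwa [cj_of_mem_N hg, cj_C1, ← Emb.mul e1 e2] at this

theorem bal_D (ha : D φ a) (v2 : v * v = 1) (hv : v ∈ C{a}) : Od[C{v}] ⊓ C{a} ≤ Od[C{a}] := by
  obtain ⟨g, rfl⟩ := isConj_iff.1 ha
  rw [← cj_C1, mem_cj'] at hv
  obtain ⟨w, hw, rfl⟩ := hv
  rw [← cj_C1, ← cj_C1, pcore_cj, pcore_cj, ← cj_inf, cj_le_cj]
  exact bal_z h (by rwa [← conj_mul', conj_eq_one_iff'] at v2) hw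

theorem bal_W (hs : s ∈ W0) (s1 : s ≠ 1) (v2 : v * v = 1) (vz : v ∈ C{φ z0}) (vs : v ∈ C{φ s}) :
    Od[C{v}] ⊓ C{φ s} ≤ Od[C{φ s}] := by
  by_cases hd : dl s
  · exact bal_D h ((D_iff h).2 hd) v2 vs
  · exact balW2 ea_W (h.mem.2 (dl_W _ dz).1) (h.mem.2 hs) (cons_c h hs s1 hd) (mem_C1_comm.1 vz)
      (bal_z h v2 vz)

theorem four_z (s2 : s * s = 1) (s1 : s ≠ 1) (sz : s ≠ z0) :
    EA (zpowers (φ z0) ⊔ zpowers (φ s)) ∧ 4 ≤ ♯(zpowers (φ z0) ⊔ zpowers (φ s)) :=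
  have := four_of (Emb.sq z2) (Emb.sq s2) (h.ne_one z1) (h.ne_one s1) (mt h.eq.1 sz.symm)
    (mem_C1.1 (le_H ⟨s, rfl⟩)).symm
  ⟨this.1, this.2.1⟩

omit h in
theorem exists_u (hs : s ∈ Q0) (hk : k ∈ N[Q0.map φ]) :
    ∃ u ∈ W0, u ≠ 1 ∧ u ≠ z0 ∧ ∃ u', u' * s = s * u' ∧ φ u' = k * φ u * k⁻¹ := by
  obtain ⟨a, ha, e1⟩ := Emb.of_N hk (show el 2 ∈ Q0 by decide +kernel)
  obtain ⟨b, hb, e2⟩ := Emb.of_N hk (show el 4 ∈ Q0 by decide +kernel)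
  rcases third a ha b hb s hs with e | e | e
  · exact ⟨_, by decide +kernel, by decide +kernel, by decide +kernel, a, e, e1⟩
  · exact ⟨_, by decide +kernel, by decide +kernel, by decide +kernel, b, e, e2⟩
  · exact ⟨_, by decide +kernel, by decide +kernel, by decide +kernel, _, e, Emb.mul e1 e2⟩

theorem H_le (hΘ : Th (W0.map φ) Θ) : C{φ z0} ≤ N[Θ] := by
  have zW := h.mem.2 (dl_W _ dz).1
  refine (cons_Q h).trans (sup_le ((hΘ.le _ zW (h.ne_one z1)).trans (norm_self _)) fun n hn => ?_)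
  obtain ⟨u, hu, u1, uz, u', e1, e2⟩ := exists_u (show u0 ∈ Q0 by decide +kernel) hn.2
  have ez := (mem_C1_iff_conj.1 hn.1).symm
  obtain ⟨f1, f2⟩ := four_z h (s := u0) (by decide +kernel) (by decide +kernel) (by decide +kernel)
  obtain ⟨f3, f4⟩ := four_z h ((h.sq1 e2).2 (W_sq u hu)) (mt (h.eq1 e2).1 u1) (mt (h.eq' e2 ez).1 uz)
  have hc : zpowers (φ z0) ⊔ zpowers (φ u') ≤ C[zpowers (φ z0) ⊔ zpowers (φ u0)] := by
    rw [C_sup, C_zpowers, C_zpowers, sup_le_iff, zpowers_le, zpowers_le]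
    exact ⟨⟨self_mem_C1 _, h.mem_C.2 (zc _).symm⟩, ⟨le_H ⟨_, rfl⟩, h.mem_C.2 e1⟩⟩
  have hg : zpowers (φ z0) ⊔ zpowers (φ u') ≤ cj n (W0.map φ) := by
    rw [sup_le_iff, zpowers_le, zpowers_le, e2]
    exact ⟨ez ▸ conj_mem_cj n zW, conj_mem_cj n (h.mem.2 hu)⟩
  refine hΘ.conn ea_W (sup_le (zpowers_le.2 zW) (zpowers_le.2 (h.mem.2 (by decide +kernel)))) f2 f3 f4 hc hg
    fun v hv _ w hw w1 => ?_
  have hv' := mem_C_iff_le_C1.1 (cents_symm hc hv)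
  obtain ⟨_, ⟨w, hw', rfl⟩, rfl⟩ := mem_cj'.1 (hg hw)
  have := cj_mono n (bal_W h hw' (fun e => w1 (by simp [e])) (v := n⁻¹ * v * n)
    (by simpa using H7.SJ.conj_sq (f1.sq hv) n⁻¹)
    (mul_mem (mul_mem (inv_mem hn.1) (mem_C1_comm.1 (hv' (mem_sup_left (mem_zpowers _))))) hn.1)
    (by rw [← mem_cj, cj_C1]; exact mem_C1_comm.1 (hv' hw)))
  simpa [cj_inf, ← pcore_cj, cj_C1, mul_assoc] using this

theorem Od_W (hG : H1175 G) (hs : s ∈ W0) (s1 : s ≠ 1) : Od[C{φ s}] = ⊥ := by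
  have zW := h.mem.2 (dl_W _ dz).1
  obtain ⟨Θ, hΘ⟩ := sigTh (ea_W (φ := φ)) (by rw [h.card, card_W0]; omega) (by
    rintro a ha - _ ⟨b, hb, rfl⟩ b1
    exact bal_W h hb (fun e => b1 (by simp [e])) (ea_W.sq ha) (W_le h (dl_W _ dz).1 ha) (W_le h hb ha))
  have hW := hΘ.norm _ le_rfl (by rw [h.card, card_W0]; omega)
  refine eq_bot_of_le (h.kill hG zc z2 z1 hΘ.odd (H_le h hΘ) (fun r hr => ⟨?_, fun e => ?_⟩)
    (s := u0) (by decide +kernel) (by decide +kernel) (mt (dl_of h) (by decide +kernel)))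
    (hΘ.le _ (h.mem.2 hs) (h.ne_one s1))
  · obtain ⟨g, hg, e⟩ := (extW h (dl_W r (dl_of h hr)).1 hr).2
    exact ⟨g, hW hg, e⟩
  · obtain ⟨f1, f2, -⟩ := (dl_comm _ dz r (dl_of h hr)).2.2 e.symm
    have f3 := mul_mem (dl_W _ dz).1 (dl_W r (dl_of h hr)).1
    exact (cons_c h f3 f2 f1).trans (sup_le ((hΘ.le _ (h.mem.2 f3) (h.ne_one f2)).trans (norm_self _))
      (inf_le_right.trans hW))

end H25.U5
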