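import Mathlib
import Cfsg.Agent.H25.U5C

/-!
# Sylow `2`-subgroups of type `U₅(2)`: the generalized quadrangle
-/

set_option autoImplicit false
set_option linter.unusedSectionVars false
set_option maxRecDepth 100000
set_option synthInstance.maxSize 4000

open Cfsg H24 H26 H26.Gold Subgroup H7.SJ H25.Tw H25.Sy

namespace H25.Sy

universe u

variable {G : Type u} [Group G] [Finite G] {M : Type} [Group M] {φ : M →* G} {w : G}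

theorem Emb.exists_ext (h : Emb φ) (hw : TwoE w) :
    ∃ k s, φ s = k * w * k⁻¹ ∧ Syl 2 C{φ s} (C{s}.map φ) := by
  obtain ⟨S, hS, h1⟩ := Sylow_superset p2 hw.isPi (zpowers_le_C1 w)
  obtain ⟨k, -, e⟩ := h.pull le_top hS.pi le_top
  obtain ⟨s, e1⟩ := e w (h1 (mem_zpowers w))
  have h2 := hS.cj k
  rw [cj_C1, ← e1] at h2
  refine ⟨k, s, e1, h2.of_ge h.map_C (h.two _) fun x hx => ?_⟩
  obtain ⟨p, hp, rfl⟩ := mem_cj'.1 hx
  obtain ⟨r, e2⟩ := e p hp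
  exact ⟨r, mem_C1.2 (h.mem_C.1 (e2 ▸ h2.le hx)), e2⟩

end H25.Sy

namespace H25.U5

universe u

variable {G : Type u} [Group G] [Finite G] {φ : S0 →* G} {K L P Θ : Subgroup G} {a b g k u v x y : G}
  {c s s' : S0} (h : Emb φ)

include h

theorem three' (ha : D φ a) (hb : D φ b) (hy : D φ y) (ab : a ≠ b) (c1 : a ∈ C{b}) (c2 : y ∈ C{a})
    (c3 : y ∈ C{b}) : ¬ D φ (a * b) ∧ (D φ (y * (a * b)) → y = a ∨ y = b) :=
  three h ((H8.PC.two_of_comm (ha.two h) (hb.two h) (mem_C1.1 c1)).sup (hy.two h).isPi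
    (zpowers_le.2 (norm_sup (norm_zpowers_of_cent inf_le_left) (norm_zpowers_of_cent inf_le_right)
      (mem_inf.2 ⟨c2, c3⟩)))) ha hb hy (mem_sup_left (mem_sup_left (mem_zpowers _)))
    (mem_sup_left (mem_sup_right (mem_zpowers _))) (mem_sup_right (mem_zpowers _)) ab

theorem conj_x1 (hb : D φ b) (bz : b ∈ C{φ z0}) (b1 : b ≠ φ z0) : ∃ g ∈ C{φ z0}, g * φ x1 * g⁻¹ = b := by
  obtain ⟨m, hm, r, e⟩ := h.pull1 le_H (hb.two h) bz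
  obtain ⟨t, -, rfl⟩ := dl_conj r (dl_of h (e ▸ hb.conj m)) fun e1 =>
    b1 (mul_left_cancel (mul_right_cancel (e.symm.trans (e1 ▸ (mem_C1_iff_conj.1 hm).symm))))
  refine ⟨m⁻¹ * φ t, mul_mem (inv_mem hm) (le_H ⟨t, rfl⟩), ?_⟩
  rw [map_mul, map_mul, map_inv] at e
  rw [show m⁻¹ * φ t * φ x1 * (m⁻¹ * φ t)⁻¹ = m⁻¹ * (φ t * φ x1 * (φ t)⁻¹) * m by group, e]; group

theorem exists_emb (ha : D φ a) (hb : D φ b) (ab : a ≠ b) (hc : a ∈ C{b}) :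
    ∃ ψ : S0 →* G, Emb ψ ∧ ψ z0 = a ∧ ψ x1 = b := by
  obtain ⟨g, rfl⟩ := isConj_iff.1 ha
  obtain ⟨m, hm, e⟩ := conj_x1 h (hb.conj g⁻¹) (by rw [inv_inv, ← mem_cj, cj_C1]; exact mem_C1_comm.1 hc)
    fun e => ab (by rw [← e]; group)
  refine ⟨_, h.cj (g * m), ?_, ?_⟩
  · show g * m * φ z0 * (g * m)⁻¹ = _
    conv_rhs => rw [← mem_C1_iff_conj.1 hm]
    group
  · show g * m * φ x1 * (g * m)⁻¹ = _
    rw [show g * m * φ x1 * (g * m)⁻¹ = g * (m * φ x1 * m⁻¹) * g⁻¹ by group, e]; group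

variable (hG : H1175 G)
include hG

theorem Od_z : Od[C{φ z0}] = ⊥ := Od_W h hG (dl_W _ dz).1 z1

theorem H_N : C{φ z0} ≤ N[Q0.map φ] :=
  (cons_Q h).trans (sup_le ((Od_z h hG).le.trans bot_le) inf_le_right)

theorem line_W (hy : D φ y) (yz : y ∈ C{φ z0}) (yx : y ∈ C{φ x1}) : ∃ s, dl s ∧ φ s = y := by
  have := line_sub h hy yz yx
  rw [Od_z h hG, bot_inf_eq, bot_sup_eq] at this
  obtain ⟨s, -, rfl⟩ := this
  exact ⟨s, dl_of h hy, rfl⟩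

theorem D_c (hs : s ∈ W0) (s1 : s ≠ 1) (hd : ¬ dl s) (hy : D φ y) (ys : y ∈ C{φ s}) :
    ∃ s, dl s ∧ φ s = y := by
  have hP := (h.two W0).sup (hy.two h).isPi (zpowers_le.2 ((cons_c h hs s1 hd).trans
    (sup_le ((Od_W h hG hs s1).le.trans bot_le) inf_le_right) ys))
  have yP : y ∈ W0.map φ ⊔ zpowers y := mem_sup_right (mem_zpowers y)
  exact line_W h hG hy
    (mem_C1.2 (D.comm h hP hy (IsConj.refl _) yP (mem_sup_left (h.mem.2 (dl_W _ dz).1))))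
    (mem_C1.2 (D.comm h hP hy (D_x1 h) yP (mem_sup_left (h.mem.2 (dl_W _ dx).1))))

theorem star (u2 : u * u = 1) (u1 : u ≠ 1) (hu : ¬ D φ u) (ha : D φ a) (hb : D φ b) (au : a ∈ C{u})
    (bu : b ∈ C{u}) : a * b = b * a := by
  obtain ⟨k, s, e, hS⟩ := h.exists_ext (twoE_of_sq u2)
  obtain ⟨s2, s1⟩ := h.inv_of (isConj_iff.2 ⟨k, e.symm⟩) u2 u1
  have hd : ¬ dl s := fun e1 => hu (((D_iff h).2 e1).trans (isConj_iff.2 ⟨k, e.symm⟩).symm)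
  have k1 : ∀ a ∈ C{u}, k * a * k⁻¹ ∈ C{φ s} := fun a ha => by rw [e, ← cj_C1]; exact conj_mem_cj k ha
  suffices k * a * k⁻¹ * (k * b * k⁻¹) = k * b * k⁻¹ * (k * a * k⁻¹) by
    rw [← conj_mul', ← conj_mul'] at this; simpa using this
  by_cases hs : s ∈ W0
  · obtain ⟨r, hr, e1⟩ := D_c h hG hs s1 hd (ha.conj k) (k1 a au)
    obtain ⟨t, ht, e2⟩ := D_c h hG hs s1 hd (hb.conj k) (k1 b bu)
    rw [← e1, ← e2, ← map_mul, ← map_mul, (dl_comm r hr t ht).1]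
  have k2 : ∀ y ∈ C{s}.map φ, D φ y → y = φ z0 := by
    rintro _ ⟨r, hr, rfl⟩ hy
    by_contra hn
    exact hs ((sq_P s (mem_P r (dl_of h hy) (fun e => hn (e ▸ rfl)) s (mem_C1.1 hr).symm)).1 s2)
  have sz : φ s ∈ C{φ z0} := le_H ⟨s, rfl⟩
  have h1 := zstar_cov hS (h.mem.2 (mem_C1.2 (zc s).symm)) (h.ne_one z1) (Emb.sq z2) fun g _ e =>
    k2 _ e (D.conj (IsConj.refl _) g)
  obtain ⟨w, hw, w1, wz, w', e1, e2⟩ := exists_u (φ := φ) ((inv_WQ s s2).resolve_left hs) (one_mem _)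
  rw [one_mul, inv_one, mul_one, h.eq] at e2
  subst e2
  obtain ⟨f1, f2⟩ := four_z h (W_sq _ hw) w1 wz
  have hV : zpowers (φ z0) ⊔ zpowers (φ w') ≤ C{φ s} :=
    sup_le (zpowers_le.2 (mem_C1_comm.1 sz)) (zpowers_le.2 (h.mem_C.2 e1))
  have h2 : Od[C{φ s}] ≤ ⊥ := gen1 f1 f2 (Od_odd _) (hV.trans (pcore_nml _ _).norm) fun v hv v1 => by
    obtain ⟨r, hr, rfl⟩ := sup_le (zpowers_le.2 (h.mem.2 (dl_W _ dz).1)) (zpowers_le.2 (h.mem.2 hw)) hv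
    have r1 : r ≠ 1 := fun e => v1 (by simp [e])
    exact (bal_W h hr r1 (Emb.sq s2) sz (mem_C1_comm.1 (hV hv))).trans (Od_W h hG hr r1).le
  have k3 : ∀ y ∈ C{φ s}, D φ y → y = φ z0 := fun y hy hd => by
    obtain ⟨m, hm, e⟩ := Sylow_Jsub p2 hS (hd.two h).isPi (zpowers_le.2 hy)
    have := k2 _ (e (conj_mem_cj m (mem_zpowers y))) (hd.conj m)
    rw [← mem_C1_iff_conj.1 (h1.trans (sup_le (h2.trans bot_le) inf_le_right) hm)] at this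
    exact mul_left_cancel (mul_right_cancel this)
  rw [k3 _ (k1 a au) (ha.conj k), k3 _ (k1 b bu) (hb.conj k)]

theorem gq (hy : D φ y) : ∃ s, dl s ∧ y ∈ C{φ s} := by
  have uW : u0 ∈ W0 := by decide +kernel
  have u1 : u0 ≠ 1 := by decide +kernel
  have ud : ¬ dl u0 := by decide +kernel
  have u2 : φ u0 * φ u0 = 1 := Emb.sq (W_sq _ uW)
  have key : ∀ w, D φ w → w ∈ C{y} → w ∈ C{φ u0} → ∃ s, dl s ∧ y ∈ C{φ s} := fun w hw w1 w2 => by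
    obtain ⟨s, hs, rfl⟩ := D_c h hG uW u1 ud hw w2
    exact ⟨s, hs, mem_C1_comm.1 w1⟩
  obtain ⟨w, -, w1, w2, w3, w4, -⟩ := dih (mem_top y) (mem_top _) (hy.sq h).1 u2 fun g _ e =>
    ud (dl_of h (e ▸ hy.conj g))
  by_cases hw : D φ w
  · exact key w hw w3 w4
  have h1 := star h hG w2 w1 hw hy (hy.conj (φ u0)) (mem_C1_comm.1 w3)
    (mul_mem (mul_mem (mem_C1_comm.1 w4) (mem_C1_comm.1 w3)) (inv_mem (mem_C1_comm.1 w4)))
  obtain ⟨k, -, e⟩ := h.pull le_top ((H8.PC.two_of_comm (hy.two h) ((hy.two h).conj _) h1).sup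
    (h.twoE u0).isPi (zpowers_le.2 (mem_N_iff_cj.2 (by
      rw [cj_sup, cj_zpowers, cj_zpowers, sup_comm,
        show φ u0 * (φ u0 * y * (φ u0)⁻¹) * (φ u0)⁻¹ = φ u0 * φ u0 * y * (φ u0 * φ u0)⁻¹ by group, u2]
      simp)))) le_top
  have k1 : ∀ a, (∃ s, φ s = k * a * k⁻¹) → k⁻¹ * φ z0 * k⁻¹⁻¹ ∈ C{a} := fun a ⟨s, e⟩ => by
    rw [inv_inv, ← mem_cj, cj_C1, ← e]; exact h.mem_C.2 (zc s).symm
  exact key _ (D.conj (IsConj.refl _) k⁻¹) (k1 _ (e _ (mem_sup_left (mem_sup_left (mem_zpowers _)))))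
    (k1 _ (e _ (mem_sup_right (mem_zpowers _))))

/-- the line through two collinear points. -/
abbrev Ln (φ : S0 →* G) (a b : G) : Set G := {y | D φ y ∧ y ∈ C{a} ∧ y ∈ C{b}}

theorem line (ha : D φ a) (hb : D φ b) (ab : a ≠ b) (hc : a ∈ C{b}) :
    (Ln φ a b).ncard = 5 ∧ (∀ x ∈ Ln φ a b, ∀ y ∈ Ln φ a b, x ∈ C{y}) ∧
      (∀ y, D φ y → y ∈ C{a * b} → y ∈ Ln φ a b) ∧ ∀ y, D φ y → ∃ d ∈ Ln φ a b, y ∈ C{d} := by
  obtain ⟨ψ, h', rfl, rfl⟩ := exists_emb h ha hb ab hc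
  have e : Ln φ (ψ z0) (ψ x1) = ψ '' {s | dl s} := Set.ext fun y =>
    ⟨fun hy => line_W h' hG (ha.symm.trans hy.1) hy.2.1 hy.2.2, by
      rintro ⟨s, hs, rfl⟩
      exact ⟨ha.trans ((D_iff h').2 hs), le_H ⟨s, rfl⟩, h'.mem_C.2 (dl_comm s hs _ dx).1⟩⟩
  rw [e, Set.ncard_image_of_injective _ h'.inj, ← map_mul]
  refine ⟨card_dl, ?_, fun y hy hc => D_c h' hG (by decide +kernel) (by decide +kernel) (by decide +kernel)
    (ha.symm.trans hy) hc, fun y hy => ?_⟩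
  · rintro _ ⟨s, hs, rfl⟩ _ ⟨t, ht, rfl⟩
    exact h'.mem_C.2 (dl_comm s hs t ht).1
  · obtain ⟨s, hs, e⟩ := gq h' hG (ha.symm.trans hy)
    exact ⟨_, ⟨s, hs, rfl⟩, e⟩

/-- the points collinear with `a`. -/
abbrev Nb (φ : S0 →* G) (a : G) : Set G := {y | D φ y ∧ y ∈ C{a} ∧ y ≠ a}

omit h hG in
theorem card_Nb (ha : D φ a) : (Nb φ a).ncard = (Nb φ (φ z0)).ncard := by
  obtain ⟨g, rfl⟩ := isConj_iff.1 ha
  rw [← Set.ncard_image_of_injective (Nb φ (φ z0)) (conj_injective' g)]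
  congr 1
  ext y
  refine ⟨fun hy => ⟨g⁻¹ * y * g⁻¹⁻¹, ⟨hy.1.conj _, ?_, fun e => hy.2.2 (by rw [← e]; group)⟩, by simp [mul_assoc]⟩,
    ?_⟩
  · rw [inv_inv, ← mem_cj, cj_C1]; exact hy.2.1
  · rintro ⟨y, hy, rfl⟩
    exact ⟨hy.1.conj g, cj_C1 g _ ▸ conj_mem_cj g hy.2.1, fun e => hy.2.2 (conj_injective' g e)⟩

theorem line_z (hx : x ∈ Nb φ (φ z0)) : (Ln φ (φ z0) x \ {φ z0}).ncard = 4 ∧ (Ln φ (φ z0) x \ {x}).ncard = 4 ∧
    ((Ln φ (φ z0) x \ {φ z0}) \ {x}).ncard = 3 := by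
  have h1 := (line h hG (IsConj.refl _) hx.1 hx.2.2.symm (mem_C1_comm.1 hx.2.1)).1
  have h2 := Set.ncard_sdiff_singleton_of_mem (s := Ln φ (φ z0) x)
    ⟨IsConj.refl _, self_mem_C1 _, mem_C1_comm.1 hx.2.1⟩
  have h3 : x ∈ Ln φ (φ z0) x := ⟨hx.1, hx.2.1, self_mem_C1 _⟩
  rw [h2, Set.ncard_sdiff_singleton_of_mem h3, Set.ncard_sdiff_singleton_of_mem (Set.mem_sdiff_of_mem h3 hx.2.2), h2, h1]
  omega

theorem k_le : (Nb φ (φ z0)).ncard ≤ 36 := by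
  have := dc (fun x u => x * u ∈ Nb φ (φ z0) ∧ x ∈ C{u}) (Nb φ (φ z0))
    (φ '' {s | s ∈ Q0 ∧ s * s = 1 ∧ s ≠ 1 ∧ s ≠ z0}) (m := 3) (n := 2) (fun x hx => ?_) fun u hu => ?_
  · rw [Set.ncard_image_of_injective _ h.inj, card_inv] at this
    omega
  · rw [← (line_z h hG hx).2.2, ← Set.ncard_image_of_injective _ (mul_right_injective x)]
    refine Set.ncard_le_ncard ?_
    rintro _ ⟨y, ⟨⟨hy, y1⟩, y2⟩, rfl⟩
    have xy := mem_C1_comm.1 hy.2.2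
    have x2 := (hx.1.sq h).1
    have := mul_Q h hx.1 hy.1 hx.2.1 hy.2.1 hx.2.2 y1 (mem_C1.1 xy)
    rw [Od_z h hG, bot_sup_eq] at this
    obtain ⟨s, hs, e⟩ := this
    refine ⟨⟨s, ⟨hs, h.inj ?_, fun e1 => y2 ?_, fun e1 => ?_⟩, e⟩, ?_, mem_C1_comm.1
      (mul_mem (self_mem_C1 x) hy.2.2)⟩
    · rw [map_mul, e, map_one, mul_assoc, ← mul_assoc y, ← mem_C1.1 xy, mul_assoc, (hy.1.sq h).1, mul_one, x2]
    · rw [e1, map_one] at e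
      exact mul_left_cancel (e.symm.trans x2.symm)
    · exact (three' h hx.1 hy.1 hy.1 (Ne.symm y2) xy hy.2.2 (self_mem_C1 _)).1 (by rw [← e, e1])
    · show x * (x * y) ∈ _
      rw [← mul_assoc, x2, one_mul]
      exact ⟨hy.1, hy.2.1, y1⟩
  · rcases Set.eq_empty_or_nonempty {x | x ∈ Nb φ (φ z0) ∧ x * u ∈ Nb φ (φ z0) ∧ x ∈ C{u}} with
      e | ⟨x, hx, x1, x2⟩
    · rw [e]; simp
    obtain ⟨s, hs, rfl⟩ := hu
    have e : x * (x * φ s) = φ s := by rw [← mul_assoc, (hx.1.sq h).1, one_mul]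
    have ne : x ≠ x * φ s := fun e => h.ne_one hs.2.2.1 (left_eq_mul.1 e)
    have hc : x ∈ C{x * φ s} := mem_C1_comm.1 (mul_mem (self_mem_C1 x) (mem_C1_comm.1 x2))
    refine (Set.ncard_le_ncard (t := {x, x * φ s}) fun y hy => ?_).trans (Set.ncard_pair ne).le
    have := (line h hG hx.1 x1.1 ne hc).2.2.1 y hy.1.1 (e.symm ▸ hy.2.2)
    exact (three' h hx.1 x1.1 hy.1.1 ne hc this.2.1 this.2.2).2 (e.symm ▸ hy.2.1.1)

theorem far_le : {y | D φ y ∧ y ∉ C{φ z0}}.ncard ≤ 4 * ((Nb φ (φ z0)).ncard - 4) := by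
  have h1 := dc (fun y x => x ∈ C{y}) {y | D φ y ∧ y ∉ C{φ z0}} (Nb φ (φ z0))
    (m := ((Nb φ (φ z0)).ncard + 3) / 4) (n := (Nb φ (φ z0)).ncard - 4) (fun y hy => ?_) fun x hx => ?_
  · have h2 : 0 < (Nb φ (φ z0)).ncard :=
      (Set.ncard_pos).2 ⟨_, D_x1 h, le_H ⟨_, rfl⟩, mt h.eq.1 xz⟩
    refine Nat.le_of_mul_le_mul_left ?_ h2
    have h3 : (Nb φ (φ z0)).ncard ≤ 4 * (((Nb φ (φ z0)).ncard + 3) / 4) := by omega
    nlinarith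
  · have := dc (fun x d => x ∈ C{d}) (Nb φ (φ z0)) {x | x ∈ Nb φ (φ z0) ∧ x ∈ C{y}} (m := 1) (n := 4)
      (fun x hx => ?_) fun d hd => ?_
    · omega
    · obtain ⟨-, f1, -, f2⟩ := line h hG (IsConj.refl _) hx.1 hx.2.2.symm (mem_C1_comm.1 hx.2.1)
      obtain ⟨d, hd, e⟩ := f2 y hy.1
      exact (Set.ncard_pos).2 ⟨d, ⟨⟨hd.1, hd.2.1, fun e1 => hy.2 (e1 ▸ e)⟩, mem_C1_comm.1 e⟩,
        mem_C1_comm.1 hd.2.2⟩
    · rw [← (line_z h hG hd.1).1]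
      exact Set.ncard_le_ncard fun x hx => ⟨⟨hx.1.1, hx.1.2.1, hx.2⟩, hx.1.2.2⟩
  · rw [← card_Nb hx.1, ← (line_z h hG hx).2.1]
    refine Nat.le_sub_of_add_le ?_
    rw [← Set.ncard_union_eq (Set.disjoint_left.2 fun y h1 h2 => h1.1.2 h2.1.2.1)]
    refine Set.ncard_le_ncard ?_
    rintro y (hy | hy)
    · exact ⟨hy.1.1, mem_C1_comm.1 hy.2, fun e => hy.1.2 (e ▸ hx.2.1)⟩
    · exact ⟨hy.1.1, hy.1.2.2, hy.2⟩

theorem far_cls (hy : D φ y) (yz : y ∉ C{φ z0}) :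
    cls (Q0.map φ) y = {y | D φ y ∧ y ∉ C{φ z0}} ∧ 36 ≤ (Nb φ (φ z0)).ncard := by
  have h1 : Q0.map φ ⊓ C{y} = ⊥ := eq_bot_iff.2 (by
    rintro _ ⟨⟨q, hq, rfl⟩, e⟩
    by_contra q1
    refine yz (mem_C1_comm.1 ?_)
    rcases Q_sq q hq with q2 | q2
    · by_cases qz : q = z0
      · exact qz ▸ e
      exact mem_C1.2 (star h hG (Emb.sq q2) q1 (fun e => qz (Q_dl q hq (dl_of h e))) (IsConj.refl _) hy
        (h.mem_C.2 (zc q).symm) (mem_C1_comm.1 e))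
    · rw [← q2, map_mul]; exact mul_mem e e)
  have h2 := cls_card (Q0.map φ) y
  rw [h1, card_bot, h.card, card_Q0] at h2
  have h3 : cls (Q0.map φ) y ⊆ {y | D φ y ∧ y ∉ C{φ z0}} := by
    rintro _ ⟨g, hg, rfl⟩
    have := le_H (map_le_range _ _ hg)
    exact ⟨hy.conj g, fun e => yz ((mul_mem_cancel_left this).1 ((mul_mem_cancel_right (inv_mem this)).1 e))⟩
  have h4 := far_le h hG
  have h5 := k_le h hG
  have h6 := Set.ncard_le_ncard h3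
  exact ⟨Set.eq_of_subset_of_ncard_le h3 (by omega), by omega⟩

end H25.U5
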