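import Mathlib
import Cfsg.Agent.H25.U5D
import Cfsg.Agent.H16.SymRep
import Cfsg.Agent.S0245
import Cfsg.Agent.S1175
import Cfsg.Agent.S1616
import Cfsg.Agent.S1617

/-!
# Simple groups with a Sylow `2`-subgroup of type `U₅(2)`
-/

set_option autoImplicit false
set_option linter.unusedSectionVars false
set_option maxRecDepth 100000
set_option synthInstance.maxSize 4000

open Cfsg H24 H26 H26.Gold Subgroup H7.SJ H25.Tw H25.Sy
open scoped commutatorElement

namespace H25.Sy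

universe u

variable {G : Type u} [Group G] [Finite G] {M : Type} [Group M] {φ : M →* G}

theorem h1175 [IsSimpleGroup G] : H1175 G := fun M S z hM z2 z1 hz hS hzS hc h2 h3 => by
  obtain ⟨T, rfl⟩ := hS.exists_sylow_top Nat.prime_two
  exact Cfsg.Agent.S1175.result M hM z (ord2 z2 z1) hz ⟨T, hzS, fun s hs => mem_C1.1 (hc hs)⟩ h2 h3

theorem Emb.two_part (h : Emb φ) {a c m : ℕ} (hc : Odd c) (hm : Odd m) (e : c * Nat.card G = 2 ^ a * m) :
    Nat.card M = 2 ^ a := by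
  have k : ∀ n, Odd n → PiNat {2}ᶜ n := fun n hn => (piNat_compl_singleton p2).2 hn.not_two_dvd_nat
  rw [← card_top, ← h.syl.card, mul_left_comm] at e
  rw [← pi_part_unique h.syl.pi (PiNat.mul (k c hc) h.syl.idx) (piNat_self_pow p2 a) (k m hm) e,
    φ.range_eq_map, h.card, card_top]

theorem exists_Emb [IsSimpleGroup G] (S : Sylow 2 G) (e : M ≃* (S : Subgroup G)) : ∃ φ : M →* G, Emb φ :=
  ⟨(S : Subgroup G).subtype.comp e.toMonoidHom, Subtype.val_injective.comp e.injective, by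
    rw [MonoidHom.range_comp, MonoidHom.range_eq_top.2 e.surjective, map_subtype_top]
    exact syl_top_of_sylow p2 S, inferInstance⟩

theorem Emb.not_sol (h : Emb φ) {a b : M} (hab : a * b ≠ b * a) :
    (∀ N : Subgroup G, N.Normal → Group.IsSolvable N → N = ⊥) ∧ commutator G = ⊤ := by
  have := h.simple
  have k : ¬ Abl (⊤ : Subgroup G) := fun e =>
    hab (h.inj (by simpa only [map_mul] using e.comm (mem_top _) (mem_top _)))
  have k1 : ⁅(⊤ : Subgroup G), ⊤⁆ = ⊤ := (h.nml (der1_nml _).norm).resolve_left fun e => k (der1_eq_bot.1 e)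
  refine ⟨fun N hN hs => hN.eq_bot_or_eq_top.resolve_right fun e => k ?_, k1⟩
  subst e
  rw [perfect_eq_bot k1 hs]; exact abl_bot

end H25.Sy

namespace H25.U5

universe u

variable {G : Type u} [Group G] [Finite G] {φ : S0 →* G} (h : Emb φ)

include h

theorem gen_D : closure {y | D φ y} = ⊤ :=
  (h.nml (norm_closure (S := {y | D φ y}) fun g _ _ hy =>
    Subgroup.subset_closure (D.conj hy g))).resolve_left
    (ne_bot_of_mem (Subgroup.subset_closure (IsConj.refl _)) (h.ne_one z1))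

theorem exists_far : ∃ y, D φ y ∧ y ∉ C{φ z0} := by
  by_contra hn
  push Not at hn
  have h1 : ⊤ ≤ C{φ z0} := (gen_D h).ge.trans ((closure_le _).2 hn)
  obtain ⟨g, e⟩ := isConj_iff.1 (D_x1 h)
  exact xz (h.inj (e.symm.trans (mem_C1_iff_conj.1 (h1 (mem_top g)))))

theorem three_tr : IsThreeTranspositionClass {y | D φ y} := by
  have := h.simple
  refine Cfsg.Agent.S1617.result (h.not_sol (a := x1) (b := el 32) (by decide +kernel)).1
    (fun d hd => ord2 (D.sq h hd).1 (D.sq h hd).2) ⟨_, IsConj.refl _, rfl⟩ (gen_D h) fun x hx => ?_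
  obtain ⟨g, rfl⟩ := isConj_iff.1 hx
  obtain ⟨ψ, h', e⟩ : ∃ ψ : S0 →* G, Emb ψ ∧ ψ z0 = g * φ z0 * g⁻¹ := ⟨_, h.cj g, rfl⟩
  rw [← e] at hx ⊢
  obtain ⟨y, hy, yz⟩ := exists_far h'
  have k : ∀ a : G, a ∈ {w | ∃ g, Commute g (ψ z0) ∧ g * a * g⁻¹ = w} := fun a =>
    ⟨1, Commute.one_left _, by simp⟩
  have k1 : ∀ a ∈ C{ψ z0}, ∀ b ∈ {w | ∃ g, Commute g (ψ z0) ∧ g * a * g⁻¹ = w}, b ∈ C{ψ z0} := by
    rintro a ha _ ⟨g, hg, rfl⟩
    exact mul_mem (mul_mem (mem_C1.2 hg) ha) (inv_mem (mem_C1.2 hg))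
  refine ⟨ψ x1, hx.trans (D_x1 h'), y, hx.trans hy, fun e => ?_, fun e => yz (k1 _ (self_mem_C1 _) _ (e ▸ k y)),
    fun e => yz (k1 _ (le_H ⟨_, rfl⟩) _ (e ▸ k y)), Set.ext fun d => ⟨fun hd => ?_, ?_⟩⟩
  · obtain ⟨g, hg, e⟩ := e ▸ k (ψ x1)
    exact xz (h'.inj (e.symm.trans (mem_C1_iff_conj.1 (mem_C1.2 hg))))
  · by_cases e1 : d = ψ z0
    · exact Or.inl (Or.inl (by rw [e1]; exact k _))
    by_cases e2 : d ∈ C{ψ z0}
    · obtain ⟨g, hg, e⟩ := conj_x1 h' (hx.symm.trans hd) e2 e1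
      exact Or.inl (Or.inr ⟨g, mem_C1.1 hg, e⟩)
    obtain ⟨g, hg, e⟩ := (far_cls h' h1175 hy yz).1.ge ⟨hx.symm.trans hd, e2⟩
    exact Or.inr ⟨g, mem_C1.1 (le_H (map_le_range _ _ hg)), e.symm⟩
  · rintro ((⟨g, -, rfl⟩ | ⟨g, -, rfl⟩) | ⟨g, -, rfl⟩)
    exacts [D.conj hx g, D.conj (hx.trans (D_x1 h')) g, D.conj (hx.trans hy) g]

theorem main {F : Type*} [Field F] [Fintype F] (hF : Fintype.card F = 4) : Nonempty (G ≃* PSU 5 F 2) := by
  have := h.simple
  obtain ⟨h1, h2⟩ := h.not_sol (a := x1) (b := el 32) (by decide +kernel)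
  have hN : {y | y ∈ {y | D φ y} ∧ y ≠ φ z0 ∧ Commute (φ z0) y} = Nb φ (φ z0) := Set.ext fun y =>
    ⟨fun e => ⟨e.1, mem_C1.2 e.2.2.symm, e.2.1⟩, fun e => ⟨e.1, e.2.2, (mem_C1.1 e.2.1).symm⟩⟩
  rcases Cfsg.Agent.S1616.result h1 (by rw [h2]; exact h2) (three_tr h) (φ z0) (IsConj.refl _) (by
    rw [hN]
    intro e
    have k : ∀ s, dl s → s ≠ z0 → φ s ∈ Nb φ (φ z0) := fun s hs e =>
      ⟨(D_iff h).2 hs, le_H ⟨s, rfl⟩, mt h.eq.1 e⟩
    have a1 := k x1 dx xz
    have a2 := k (el 131) (by decide +kernel) (by decide +kernel)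
    have a3 := mul_mem (subset_closure a1) (subset_closure a2)
    have a4 : φ x1 * φ (el 131) ∈ O[{2}, closure (Nb φ (φ z0))] :=
      pcore_max ((h.two Q0).inf_left _) (nml_inf_of_norm' ((closure_le _).2 fun y hy => H_N h h1175 hy.2.1))
        ⟨map_mul φ _ _ ▸ h.mem.2 (by decide +kernel), a3⟩
    rw [pcore_singleton p2] at a4
    obtain ⟨c, hc, e1⟩ := a4
    obtain ⟨f1, -, f2, -⟩ := line h h1175 a1.1 a2.1 (mt h.eq.1 (by decide +kernel))
      (h.mem_C.2 (by decide +kernel))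
    obtain ⟨y, hy, yz⟩ := exists_far h
    have := (far_cls h h1175 hy yz).2.trans (Set.ncard_le_ncard fun y hy => f2 y hy.1 (mem_C1.2 (by
      rw [← e1]
      exact congrArg Subtype.val (mem_center_iff.1 (e hc) ⟨y, subset_closure hy⟩))))
    omega) with ⟨n, ⟨e⟩⟩ | ⟨F', _, _, n, hF', ⟨e⟩⟩
  · have := h.two_part odd_one (Finset.prod_induction (fun i => 2 ^ (2 * (i + 1)) - 1) Odd
      (fun _ _ => Odd.mul) odd_one fun i _ =>
      Nat.Even.sub_odd (Nat.one_le_two_pow) (by simp [Nat.even_pow]) odd_one) (by rw [one_mul, Nat.card_congr e.toEquiv, Cfsg.Agent.S0245.result (ZMod.card 2) n])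
    rw [card_S0] at this
    have h3 : n ^ 2 = 10 := Nat.pow_right_injective le_rfl this.symm
    have h4 : n ≤ 3 := by nlinarith
    interval_cases n <;> omega
  by_cases hn : 2 ≤ n
  swap
  · have : Subsingleton (Fin n) := Fin.subsingleton_iff_le_one.2 (by omega)
    exact absurd (e.injective (Subsingleton.elim _ _)) (h.ne_one z1)
  have := h.two_part (c := Nat.gcd n (2 + 1) * (2 + 1))
    (Odd.mul (Odd.of_dvd_nat (by decide) (Nat.gcd_dvd_right _ _)) (by decide))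
    (Finset.prod_induction _ Odd (fun _ _ => Odd.mul) odd_one fun i _ => ?_)
    (by rw [mul_assoc, Nat.card_congr e.toEquiv, H7.card_psu hF' n hn])
  · rw [card_S0] at this
    have h3 : n * (n - 1) / 2 = 10 := Nat.pow_right_injective le_rfl this.symm
    have h4 : n ≤ 5 := by
      by_contra h4
      have : 6 * 5 ≤ n * (n - 1) := Nat.mul_le_mul (by omega) (by omega)
      omega
    obtain rfl : n = 5 := by interval_cases n <;> omega
    exact ⟨e.trans (H7.quotCenterCongr (H16.suCongr (FiniteField.ringEquivOfCardEq (hF'.trans hF.symm)) 5 2))⟩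
  · split_ifs
    · exact Even.add_one (by simp [Nat.even_pow])
    · exact Nat.Even.sub_odd (Nat.one_le_two_pow) (by simp [Nat.even_pow]) odd_one

end H25.U5
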